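import Mathlib
import Groth.Prelude.Def_Magnet4
import Groth.Agent.Lib.Helper5.AMonPts
import Groth.Agent.Lib.Helper18.MonPts
import Groth.Agent.Lib.Helper18.AffLine.Defs
import Groth.Agent.Lib.Helper18.AffLine.Diag
set_option autoImplicit false
universe u
open CategoryTheory CategoryTheory.Limits MonoidalCategory CartesianMonoidalCategory MonObj
  AlgebraicGeometry Opposite
open Magnet Groth.Agent.Lib.Helper18.AffLine

namespace Groth.Agent.Lib.Helper16.ALPFIX

theorem fixed_range_subset {S : Scheme.{u}} {X Y : Over S} (f : X ⟶ Y)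
    (a : MonAct (AMonS S ℕ) X) (b : MonAct (AMonS S ℕ) Y) (hf : MonAct.IsEquivariant a b f)
    (c : MonAct (AMonS S ℕ) (PO f)) (h1 : MonAct.IsEquivariant c a (pr1 f))
    (h2 : MonAct.IsEquivariant c a (pr2 f))
    (hinj : ∀ T : (Over S)ᵒᵖ, Function.Injective ((MonAct.fixedPsh.map f hf).app T))
    (T : Over S) (p : (MonAct.fixedPsh c).obj (op T)) :
    Set.range p.1.left ⊆ Set.range (pullback.diagonal f.left) := by
  have hx : p.1 ≫ pr1 f = p.1 ≫ pr2 f := by
    have := hinj (op T) (a₁ := (MonAct.fixedPsh.map (pr1 f) h1).app (op T) p)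
      (a₂ := (MonAct.fixedPsh.map (pr2 f) h2).app (op T) p)
      (Subtype.ext (by
        rw [MonAct.fixedPsh.map_app_coe, MonAct.fixedPsh.map_app_coe,
          MonAct.fixedPsh.map_app_coe, MonAct.fixedPsh.map_app_coe, Category.assoc,
          Category.assoc, pr_condition]))
    exact congrArg Subtype.val this
  have hp : p.1 = (p.1 ≫ pr1 f) ≫ diagO f := by
    apply PO_hom_ext
    · rw [Category.assoc, diagO_pr1, Category.comp_id]
    · rw [Category.assoc, diagO_pr2, Category.comp_id, hx]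
  have e : p.1.left = (p.1 ≫ pr1 f).left ≫ pullback.diagonal f.left := by
    conv_lhs => rw [hp]
    rfl
  rintro _ ⟨t, rfl⟩
  refine ⟨(p.1 ≫ pr1 f).left t, ?_⟩
  rw [e]
  rfl

end Groth.Agent.Lib.Helper16.ALPFIX
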