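import Mathlib
import Groth.Prelude.Def_Magnet4
import Groth.Agent.Lib.Helper5.AMonPts
import Groth.Agent.Lib.Helper18.MonPts
import Groth.Agent.Lib.Helper18.AffLine.Defs
import Groth.Agent.Lib.Helper18.AffLine.Diag
set_option autoImplicit false
universe u
open CategoryTheory CategoryTheory.Limits MonoidalCategory CartesianMonoidalCategory MonObj
  AlgebraicGeometry Opposite
open Magnet Groth.Agent.Lib.Helper18.AffLine

namespace Groth.Agent.Lib.Helper16.ALSURJ

theorem bc1 {S : Scheme.{u}} (T₀ : Over S) {X Y : Over S} (f : X ⟶ Y) :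
    IsPullback (T₀ ◁ f).left (snd T₀ X).left (snd T₀ Y).left f.left := by
  have hY : IsPullback (fst T₀ Y).left (snd T₀ Y).left T₀.hom Y.hom :=
    IsPullback.of_hasPullback T₀.hom Y.hom
  have hX : IsPullback (fst T₀ X).left (snd T₀ X).left T₀.hom X.hom :=
    IsPullback.of_hasPullback T₀.hom X.hom
  refine IsPullback.of_right ?_ ?_ hY
  · have e1 : (T₀ ◁ f).left ≫ (fst T₀ Y).left = (fst T₀ X).left := by
      rw [← Over.comp_left, whiskerLeft_fst]
    have e2 : f.left ≫ Y.hom = X.hom := Over.w f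
    rw [e1, e2]; exact hX
  · rw [← Over.comp_left, ← Over.comp_left, whiskerLeft_snd]

theorem exists_preimage_of_isPullback {P X Y Z : Scheme.{u}} {fst : P ⟶ X} {snd : P ⟶ Y}
    {f : X ⟶ Z} {g : Y ⟶ Z} (h : IsPullback fst snd f g) (x : X) (y : Y) (hxy : f x = g y) :
    ∃ z : P, fst z = x ∧ snd z = y := by
  obtain ⟨z, hz1, hz2⟩ := Scheme.Pullback.exists_preimage_pullback x y hxy
  refine ⟨h.isoPullback.inv z, ?_, ?_⟩
  · rw [← Scheme.Hom.comp_apply, h.isoPullback_inv_fst, hz1]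
  · rw [← Scheme.Hom.comp_apply, h.isoPullback_inv_snd, hz2]

theorem surjective_whiskerLeft {S : Scheme.{u}} {T₀ X Y : Over S} (a : MonAct (AMonS S ℕ) X)
    (b : MonAct (AMonS S ℕ) Y) (f : X ⟶ Y) (hf : MonAct.IsEquivariant a b f)
    (θ θ' : T₀ ⟶ AMonS S ℕ) (h : θ * θ' = 1) (h' : θ' * θ = 1) (W : Y.left.Opens)
    (hW : (W : Set Y.left) ⊆ Set.range f.left)
    (hcov : ∀ y : (T₀ ⊗ Y).left, ∃ n : ℕ, (rho b (θ ^ n)).left y ∈ W) :
    Surjective (T₀ ◁ f).left := by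
  constructor
  intro y
  obtain ⟨n, hn⟩ := hcov y
  obtain ⟨x₀, hx₀⟩ := hW hn
  have hrho : (rho b (θ ^ n)).left y = (snd T₀ Y).left ((tau b (θ ^ n)).left y) := by
    rw [← Scheme.Hom.comp_apply, ← Over.comp_left, tau_snd]
  obtain ⟨x', hx'1, hx'2⟩ := exists_preimage_of_isPullback (bc1 T₀ f).flip x₀
    ((tau b (θ ^ n)).left y) (by rw [← hrho, hx₀])
  refine ⟨(tau a (θ' ^ n)).left x', ?_⟩
  have h1 : (T₀ ◁ f).left ((tau a (θ' ^ n)).left x') =
      (tau b (θ' ^ n)).left ((T₀ ◁ f).left x') := by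
    rw [← Scheme.Hom.comp_apply, ← Scheme.Hom.comp_apply, ← Over.comp_left, ← Over.comp_left,
      tau_whiskerLeft a b f hf]
  rw [h1, hx'2, ← Scheme.Hom.comp_apply, ← Over.comp_left, tau_pow b θ' θ h' h n]
  rfl

end Groth.Agent.Lib.Helper16.ALSURJ
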