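import Mathlib

set_option autoImplicit false

universe u

namespace Groth.Agent.Lib.Helper16.ARHomE

section abstract

variable {B : Type u} [CommRing B] {M N : Type u} [AddCommGroup M] [Module B M]
  [AddCommGroup N] [Module B N]
  (Q : ℕ → Type u) [∀ n, AddCommGroup (Q n)] [∀ n, Module B (Q n)]
  (p : ∀ n, N →ₗ[B] Q n) (t : ∀ n, Q (n + 1) →ₗ[B] Q n) (b : ∀ n, M →ₗ[B] Q n)

theorem down (htp : ∀ n (y : N), t n (p (n + 1) y) = p n y)
    (htb : ∀ n (m : M), t n (b (n + 1) m) = b n m)
    (n d : ℕ) (y : N) (m : M) (h : p (n + d) y = b (n + d) m) : p n y = b n m := by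
  induction d with
  | zero => exact h
  | succ d ih =>
    apply ih
    have h' : p (n + d + 1) y = b (n + d + 1) m := h
    rw [← htp, ← htb, h']

theorem abs (htp : ∀ n (y : N), t n (p (n + 1) y) = p n y)
    (htb : ∀ n (m : M), t n (b (n + 1) m) = b n m)
    (T : Submodule B N) (n₀ : ℕ)
    (hinj : ∀ n, n₀ ≤ n → ∀ y ∈ T, p n y = 0 → y = 0)
    (hex : ∀ n (m : M), ∃ τ ∈ T, p n τ = b n m) :
    ∃ φ : M →ₗ[B] N, ∀ (n : ℕ) (m : M), p n (φ m) = b n m := by
  choose τ hτT hτ using hex n₀
  have huniq : ∀ (m : M) (y : N), y ∈ T → p n₀ y = b n₀ m → y = τ m := by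
    intro m y hy h
    have : y - τ m = 0 := hinj n₀ le_rfl (y - τ m) (T.sub_mem hy (hτT m))
      (by rw [map_sub, h, hτ, sub_self])
    exact sub_eq_zero.mp this
  have hup : ∀ n, n₀ ≤ n → ∀ m, p n (τ m) = b n m := by
    intro n hn
    induction n, hn using Nat.le_induction with
    | base => exact hτ
    | succ n hn ih =>
      intro m
      obtain ⟨σ, hσT, hσ⟩ := hex (n + 1) m
      have h1 : p n σ = b n m := down Q p t b htp htb n 1 σ m hσ
      have : σ - τ m = 0 := hinj n hn _ (T.sub_mem hσT (hτT m))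
        (by rw [map_sub, h1, ih m, sub_self])
      rw [← sub_eq_zero.mp this]; exact hσ
  let φ : M →ₗ[B] N :=
    { toFun := τ
      map_add' := fun m₁ m₂ => by
        symm
        apply huniq
        · exact T.add_mem (hτT _) (hτT _)
        · rw [map_add, map_add, hτ, hτ]
      map_smul' := fun a m => by
        symm
        apply huniq
        · exact T.smul_mem _ (hτT _)
        · simp only [RingHom.id_apply]
          rw [map_smul, map_smul, hτ] }
  refine ⟨φ, ?_⟩
  intro n m
  show p n (τ m) = b n m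
  rcases le_total n₀ n with h | h
  · exact hup n h m
  · obtain ⟨d, hd⟩ := Nat.exists_eq_add_of_le h
    have := hτ m
    rw [hd] at this
    exact down Q p t b htp htb n d (τ m) m this

end abstract

theorem exists_lift {B : Type u} [CommRing B] [IsNoetherianRing B] (J : Ideal B)
    {M N : Type u} [AddCommGroup M] [Module B M] [AddCommGroup N] [Module B N]
    [Module.Finite B N]
    (Q : ℕ → Type u) [∀ n, AddCommGroup (Q n)] [∀ n, Module B (Q n)]
    (p : ∀ n, N →ₗ[B] Q n) (hp : ∀ n, Function.Surjective (p n))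
    (hker : ∀ (n : ℕ) (y : N), p n y = 0 → y ∈ J ^ (n + 1) • (⊤ : Submodule B N))
    (hkill : ∀ (n : ℕ), ∀ a ∈ J ^ (n + 1), ∀ q : Q n, a • q = 0)
    (t : ∀ n, Q (n + 1) →ₗ[B] Q n)
    (htp : ∀ n (y : N), t n (p (n + 1) y) = p n y)
    (b : ∀ n, M →ₗ[B] Q n)
    (htb : ∀ n (m : M), t n (b (n + 1) m) = b n m)
    (c : ℕ)
    (hc : (∀ a ∈ J ^ c, ∀ m : M, a • m = 0) ∨ (∀ a ∈ J ^ c, ∀ y : N, a • y = 0)) :
    ∃ φ : M →ₗ[B] N, ∀ (n : ℕ) (m : M), p n (φ m) = b n m := by
  classical
  rcases hc with hM | hN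
  · -- case M killed by J^c
    let T : Submodule B N :=
      { carrier := {y | ∀ a ∈ J ^ c, a • y = 0}
        add_mem' := fun {x y} hx hy a ha => by rw [smul_add, hx a ha, hy a ha, add_zero]
        zero_mem' := fun a _ => smul_zero a
        smul_mem' := fun r y hy a ha => by rw [smul_comm, hy a ha, smul_zero] }
    have hTmem : ∀ y : N, y ∈ T ↔ ∀ a ∈ J ^ c, a • y = 0 := fun y => Iff.rfl
    obtain ⟨k, hk⟩ := Ideal.exists_pow_inf_eq_pow_smul J T
    -- J^c • T = 0
    have hJT : ∀ y ∈ J ^ c • T, y = 0 := by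
      intro y hy
      refine Submodule.smul_induction_on hy (fun a ha y' hy' => hy' a ha)
        (fun x y hx hy => by rw [hx, hy, add_zero])
    have hinj : ∀ n, k + c ≤ n → ∀ y ∈ T, p n y = 0 → y = 0 := by
      intro n hn y hyT hy
      have h1 : y ∈ J ^ (n + 1) • (⊤ : Submodule B N) ⊓ T := ⟨hker n y hy, hyT⟩
      rw [hk (n + 1) (by omega)] at h1
      apply hJT
      refine Submodule.smul_mono (Ideal.pow_le_pow_right (by omega)) inf_le_right h1
    -- generators of J^c
    obtain ⟨s, hs⟩ : (J ^ c).FG := IsNoetherian.noetherian _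
    let α : N →ₗ[B] (s → N) := LinearMap.pi (fun j => ((j : B) • LinearMap.id : N →ₗ[B] N))
    have hα : ∀ (y : N) (j : s), α y j = (j : B) • y := fun y j => rfl
    obtain ⟨k', hk'⟩ := Ideal.exists_pow_inf_eq_pow_smul J (LinearMap.range α)
    -- membership in J^m • ⊤ of pi
    have hpi : ∀ (m : ℕ) (f : s → N), (∀ j, f j ∈ J ^ m • (⊤ : Submodule B N)) →
        f ∈ J ^ m • (⊤ : Submodule B (s → N)) := by
      intro m f hf
      rw [← Finset.univ_sum_single f]
      refine Submodule.sum_mem _ (fun j _ => ?_)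
      have h1 : (LinearMap.single B (fun _ : s => N) j) (f j) ∈
          (J ^ m • (⊤ : Submodule B N)).map (LinearMap.single B (fun _ : s => N) j) :=
        Submodule.mem_map_of_mem (hf j)
      rw [Submodule.map_smul''] at h1
      exact Submodule.smul_mono le_rfl le_top h1
    have hfact2 : ∀ (n : ℕ) (y : N), (∀ a ∈ J ^ c, a • y ∈ J ^ (n + k') • (⊤ : Submodule B N)) →
        ∃ e ∈ J ^ n • (⊤ : Submodule B N), y - e ∈ T := by
      intro n y hy
      have h1 : α y ∈ J ^ (n + k') • (⊤ : Submodule B (s → N)) ⊓ LinearMap.range α := by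
        refine ⟨hpi _ _ (fun j => ?_), LinearMap.mem_range_self _ _⟩
        rw [hα]
        apply hy
        rw [← hs]
        exact Submodule.subset_span j.2
      rw [hk' (n + k') (by omega)] at h1
      have h2 : α y ∈ J ^ n • LinearMap.range α := by
        have : n + k' - k' = n := by omega
        rw [this] at h1
        exact Submodule.smul_mono le_rfl inf_le_right h1
      rw [LinearMap.range_eq_map, ← Submodule.map_smul''] at h2
      obtain ⟨e, he, hee⟩ := h2
      refine ⟨e, he, ?_⟩
      rw [hTmem]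
      intro a ha
      rw [← hs] at ha
      refine Submodule.span_induction (p := fun a _ => a • (y - e) = 0) ?_ ?_ ?_ ?_ ha
      · intro x hx
        have h3 : α (y - e) ⟨x, hx⟩ = 0 := by
          rw [map_sub, hee, sub_self]; rfl
        rw [hα] at h3
        exact h3
      · exact zero_smul _ _
      · intro x z _ _ hx hz
        rw [add_smul, hx, hz, add_zero]
      · intro r x _ hx
        rw [smul_eq_mul, mul_smul, hx, smul_zero]
    have hkillmem : ∀ (n : ℕ) (e : N), e ∈ J ^ (n + 1) • (⊤ : Submodule B N) → p n e = 0 := by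
      intro n e he
      refine Submodule.smul_induction_on he (fun a ha y' _ => ?_)
        (fun x y hx hy => by rw [map_add, hx, hy, add_zero])
      rw [map_smul]
      exact hkill n a ha _
    have hex : ∀ n (m : M), ∃ τ ∈ T, p n τ = b n m := by
      intro n m
      obtain ⟨y, hy⟩ := hp (n + (1 + k')) (b (n + (1 + k')) m)
      have h1 : ∀ a ∈ J ^ c, a • y ∈ J ^ ((n + 1) + k') • (⊤ : Submodule B N) := by
        intro a ha
        have h2 : p (n + (1 + k')) (a • y) = 0 := by
          rw [map_smul, hy, ← map_smul, hM a ha, map_zero]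
        have h3 := hker _ _ h2
        exact Submodule.smul_mono (Ideal.pow_le_pow_right (by omega)) le_rfl h3
      obtain ⟨e, he, hye⟩ := hfact2 (n + 1) y h1
      refine ⟨y - e, hye, ?_⟩
      rw [map_sub, hkillmem n e he, sub_zero]
      exact down Q p t b htp htb n (1 + k') y m hy
    exact abs Q p t b htp htb T (k + c) hinj hex
  · -- case N killed by J^c
    have hJN : ∀ y ∈ J ^ c • (⊤ : Submodule B N), y = 0 := by
      intro y hy
      refine Submodule.smul_induction_on hy (fun a ha y' _ => hN a ha y')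
        (fun x y hx hy => by rw [hx, hy, add_zero])
    have hinj : ∀ n, c ≤ n → ∀ y ∈ (⊤ : Submodule B N), p n y = 0 → y = 0 := by
      intro n hn y _ hy
      apply hJN
      exact Submodule.smul_mono (Ideal.pow_le_pow_right (by omega)) le_rfl (hker n y hy)
    have hex : ∀ n (m : M), ∃ τ ∈ (⊤ : Submodule B N), p n τ = b n m := by
      intro n m
      obtain ⟨y, hy⟩ := hp n (b n m)
      exact ⟨y, Submodule.mem_top, hy⟩
    exact abs Q p t b htp htb ⊤ c hinj hex

end Groth.Agent.Lib.Helper16.ARHomE
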