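import Groth.Agent.S15813
import Mathlib

/-!
# The Artin–Schreier substitution `t ↦ t·u`, `u^n (1 + t^n) = 1`, on `k⟦t⟧`

`sig u` is the `k`-algebra endomorphism `f ↦ f(t·u)` of `k⟦X⟧`.  Main facts (for `constantCoeff u = 1`,
`u ^ n * (1 + X ^ n) = 1`, `(n : k) ≠ 0`):

* `dvd_sig_sub` : `X ^ (n+1) ∣ sig u ε - ε`;
* `isXU_zpow_sub_one` : `u ^ e - 1 = X ^ n * unit` for `(e : k) ≠ 0`, `e : ℤ`;
* `twistedKL` : `u ^ e * sig u ε - ε = X ^ n * unit` for a unit `ε` and `(e : k) ≠ 0`;
* `exists_V` : a unit `V ≡ 1 mod X ^ n` with `u ^ p * sig u V = V` in characteristic `p`.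

Uses the `IsXU` toolkit of `Groth.Agent.S15813` (helper82).
-/

universe u

namespace Groth.Agent.Lib.Helper16.ASCov

open PowerSeries Groth.Agent.S15813

variable {k : Type u} [Field k] (u : PowerSeries k)

theorem hasSubst_Xu : HasSubst (X * u : PowerSeries k) := HasSubst.X'.mul_left

/-- The substitution endomorphism `f ↦ f(X·u)`. -/
noncomputable def sig : PowerSeries k →ₐ[k] PowerSeries k := substAlgHom (hasSubst_Xu u)

theorem sig_apply (f : PowerSeries k) : sig u f = subst (X * u) f := by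
  rw [sig, coe_substAlgHom]

theorem sig_X : sig u X = X * u := by rw [sig_apply, subst_X (hasSubst_Xu u)]

theorem sig_C (c : k) : sig u (C c) = C c := by
  rw [C_eq_algebraMap, AlgHom.commutes]

/-- Lemma A for the endomorphism `sig u`. -/
theorem lemmaA :
    ∀ (N : ℕ) (ε : PowerSeries k), ∃ g h : PowerSeries k,
      sig u ε - ε = (sig u X - X) * g + X ^ N * h := by
  intro N
  induction N with
  | zero => intro ε; exact ⟨0, sig u ε - ε, by simp⟩
  | succ N ih =>
    intro ε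
    obtain ⟨g', h', hgh⟩ := ih (mk fun p => coeff (p + 1) ε)
    refine ⟨sig u (mk fun p => coeff (p + 1) ε) + X * g', h', ?_⟩
    have hε := eq_X_mul_shift_add_const ε
    have hC : sig u (C (constantCoeff ε)) = C (constantCoeff ε) := sig_C u _
    have h1 : sig u ε - ε =
        sig u X * sig u (mk fun p => coeff (p + 1) ε) - X * (mk fun p => coeff (p + 1) ε) := by
      conv_lhs => rw [hε]
      rw [map_add, map_mul, hC]; ring
    rw [h1]
    have h2 : sig u X * sig u (mk fun p => coeff (p + 1) ε) - X * (mk fun p => coeff (p + 1) ε) =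
        (sig u X - X) * sig u (mk fun p => coeff (p + 1) ε) +
          X * (sig u (mk fun p => coeff (p + 1) ε) - (mk fun p => coeff (p + 1) ε)) := by ring
    rw [h2, hgh]; ring

theorem constantCoeff_sig (f : PowerSeries k) : constantCoeff (sig u f) = constantCoeff f := by
  obtain ⟨g, h, hgh⟩ := lemmaA u 1 f
  have h1 : sig u f = f + ((sig u X - X) * g + X ^ 1 * h) := by rw [← hgh]; ring
  rw [h1, sig_X]
  simp

theorem isUnit_sig {f : PowerSeries k} (hf : IsUnit f) : IsUnit (sig u f) := hf.map (sig u)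

section main

variable {u} (hu1 : constantCoeff u = 1) (n : ℕ) (hn0 : (n : k) ≠ 0)
  (hun : u ^ n * (1 + X ^ n) = 1)

include hu1 in
theorem isUnit_u : IsUnit u := by rw [isUnit_iff', hu1]; exact one_ne_zero

include hu1 in
theorem isUnit_geom {v : PowerSeries k} (hv : constantCoeff v = 1) (e : ℕ) (he : (e : k) ≠ 0) :
    IsUnit (∑ j ∈ Finset.range e, v ^ j) := by
  rw [isUnit_iff', map_sum]
  simpa [hv] using he

include hu1 hn0 hun in
theorem isXU_u_sub_one : IsXU (u - 1) n := by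
  have hg := isUnit_geom hu1 hu1 n hn0
  have h1 : (∑ j ∈ Finset.range n, u ^ j) * (u - 1) = u ^ n - 1 := geom_sum_mul u n
  have h2 : u ^ n - 1 = -(X ^ n * u ^ n) := by
    have : u ^ n + u ^ n * X ^ n = 1 := by rw [← hun]; ring
    linear_combination this
  obtain ⟨w, hw⟩ := hg.exists_left_inv
  have hwu : IsUnit w := IsUnit.of_mul_eq_one _ hw
  refine ⟨-(u ^ n * w), ((isUnit_u hu1).pow n |>.mul hwu).neg, ?_⟩
  calc u - 1 = w * ((∑ j ∈ Finset.range n, u ^ j) * (u - 1)) := by rw [← mul_assoc, hw, one_mul]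
    _ = _ := by rw [h1, h2]; ring

include hu1 hn0 hun in
theorem isXU_pow_sub_one (e : ℕ) (he : (e : k) ≠ 0) : IsXU (u ^ e - 1) n := by
  have hg := isUnit_geom hu1 hu1 e he
  have h1 : (∑ j ∈ Finset.range e, u ^ j) * (u - 1) = u ^ e - 1 := geom_sum_mul u e
  rw [← h1]
  exact ((isXU_unit hg).mul (isXU_u_sub_one hu1 n hn0 hun)).congr (by ring)

include hu1 hn0 hun in
theorem isXU_zpow_sub_one (hu : IsUnit u) (e : ℤ) (he : (e : k) ≠ 0) :
    IsXU (((hu.unit ^ e : (PowerSeries k)ˣ) : PowerSeries k) - 1) n := by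
  rcases Int.eq_nat_or_neg e with ⟨d, rfl | rfl⟩
  · rw [zpow_natCast, Units.val_pow_eq_pow_val, IsUnit.unit_spec]
    exact isXU_pow_sub_one hu1 n hn0 hun d (by simpa using he)
  · have hd : (d : k) ≠ 0 := by simpa using he
    have h1 := isXU_pow_sub_one hu1 n hn0 hun d hd
    have h2 : ((hu.unit ^ (-(d : ℤ)) : (PowerSeries k)ˣ) : PowerSeries k) - 1 =
        -(((hu.unit ^ (-(d : ℤ)) : (PowerSeries k)ˣ) : PowerSeries k) * (u ^ d - 1)) := by
      have h3 : ((hu.unit ^ (-(d : ℤ)) : (PowerSeries k)ˣ) : PowerSeries k) * u ^ d = 1 := by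
        have : u ^ d = ((hu.unit ^ (d : ℤ) : (PowerSeries k)ˣ) : PowerSeries k) := by
          rw [zpow_natCast, Units.val_pow_eq_pow_val, IsUnit.unit_spec]
        rw [this, ← Units.val_mul, ← zpow_add]
        simp
      linear_combination h3
    rw [h2]
    exact (((isXU_unit (Units.isUnit _)).mul h1).neg).congr (by ring)

include hu1 hn0 hun in
theorem dvd_sig_sub (ε : PowerSeries k) : X ^ (n + 1) ∣ sig u ε - ε := by
  obtain ⟨g, h, hgh⟩ := lemmaA u (n + 1) ε
  rw [hgh]
  refine dvd_add (Dvd.dvd.mul_right ?_ g) (Dvd.intro _ rfl)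
  obtain ⟨w, -, hw⟩ := isXU_u_sub_one hu1 n hn0 hun
  rw [sig_X]
  exact ⟨w, by rw [pow_succ]; linear_combination X * hw⟩

include hu1 hn0 hun in
/-- twisted key lemma -/
theorem twistedKL (hu : IsUnit u) (e : ℤ) (he : (e : k) ≠ 0) {ε : PowerSeries k}
    (hε : IsUnit ε) :
    IsXU (((hu.unit ^ e : (PowerSeries k)ˣ) : PowerSeries k) * sig u ε - ε) n := by
  set U := ((hu.unit ^ e : (PowerSeries k)ˣ) : PowerSeries k) with hU
  have e1 : U * sig u ε - ε = (U - 1) * ε + U * (sig u ε - ε) := by ring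
  rw [e1]
  have h1 : IsXU ((U - 1) * ε) n :=
    ((isXU_zpow_sub_one hu1 n hn0 hun hu e he).mul (isXU_unit hε)).congr (by ring)
  exact h1.add_dvd (Dvd.dvd.mul_left (dvd_sig_sub hu1 n hn0 hun ε) _)

end main

end Groth.Agent.Lib.Helper16.ASCov

namespace Groth.Agent.Lib.Helper16.ASCov

open PowerSeries Groth.Agent.S15813

variable {k : Type u} [Field k] {u : PowerSeries k}

theorem val_zpow_natCast (hu : IsUnit u) (j : ℕ) :
    ((hu.unit ^ (j : ℤ) : (PowerSeries k)ˣ) : PowerSeries k) = u ^ j := by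
  rw [zpow_natCast, Units.val_pow_eq_pow_val, IsUnit.unit_spec]

theorem val_zpow_mul_pow (hu : IsUnit u) (b : ℤ) (j : ℕ) :
    ((hu.unit ^ b : (PowerSeries k)ˣ) : PowerSeries k) * u ^ j =
      ((hu.unit ^ (b + j) : (PowerSeries k)ˣ) : PowerSeries k) := by
  rw [← val_zpow_natCast hu j, ← Units.val_mul, ← zpow_add]

theorem sig_X_pow_mul (d : ℕ) (ε : PowerSeries k) :
    sig u (X ^ d * ε) = X ^ d * (u ^ d * sig u ε) := by
  rw [map_mul, map_pow, sig_X, mul_pow]; ring

/-- A nonzero element of "twisted order" prime to `p` is not fixed by the twisted action. -/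
theorem twisted_ne (hu1 : constantCoeff u = 1) (n : ℕ) (hn0 : (n : k) ≠ 0)
    (hun : u ^ n * (1 + X ^ n) = 1) (hu : IsUnit u) (b : ℤ) (d : ℕ) {ε : PowerSeries k}
    (hε : IsUnit ε) (hbd : ((b + d : ℤ) : k) ≠ 0) :
    ((hu.unit ^ b : (PowerSeries k)ˣ) : PowerSeries k) * sig u (X ^ d * ε) - X ^ d * ε ≠ 0 := by
  have h1 : ((hu.unit ^ b : (PowerSeries k)ˣ) : PowerSeries k) * sig u (X ^ d * ε) - X ^ d * ε =
      X ^ d * (((hu.unit ^ (b + d) : (PowerSeries k)ˣ) : PowerSeries k) * sig u ε - ε) := by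
    rw [sig_X_pow_mul, ← val_zpow_mul_pow hu b d]; ring
  rw [h1]
  exact ((isXU_X_pow d).mul (twistedKL hu1 n hn0 hun hu (b + d) hbd hε)).ne_zero

end Groth.Agent.Lib.Helper16.ASCov

namespace Groth.Agent.Lib.Helper16.ASCov

open PowerSeries Groth.Agent.S15813

variable {k : Type u} [Field k]

/-- The iterates `u_j = σ^j(t)/t`. -/
noncomputable def uj (u : PowerSeries k) : ℕ → PowerSeries k
  | 0 => 1
  | (j + 1) => u * sig u (uj u j)

variable {u : PowerSeries k}

theorem constantCoeff_uj (hu1 : constantCoeff u = 1) (j : ℕ) : constantCoeff (uj u j) = 1 := by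
  induction j with
  | zero => simp [uj]
  | succ j ih => rw [uj, map_mul, hu1, constantCoeff_sig, ih, one_mul]

theorem uj_pow (n : ℕ) (hun : u ^ n * (1 + X ^ n) = 1) (j : ℕ) :
    (uj u j) ^ n * (1 + (j : PowerSeries k) * X ^ n) = 1 := by
  induction j with
  | zero => simp [uj]
  | succ j ih =>
    have hA : (sig u (uj u j)) ^ n * (1 + (j : PowerSeries k) * (X ^ n * u ^ n)) = 1 := by
      have := congrArg (sig u) ih
      simpa [map_mul, map_pow, map_add, map_natCast, sig_X, mul_pow] using this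
    rw [uj, mul_pow]
    push_cast
    linear_combination hA + (sig u (uj u j)) ^ n * hun

theorem eq_one_of_pow_eq_one {v : PowerSeries k} (hv : constantCoeff v = 1) (n : ℕ)
    (hn0 : (n : k) ≠ 0) (hvn : v ^ n = 1) : v = 1 := by
  have hg : IsUnit (∑ j ∈ Finset.range n, v ^ j) := by
    rw [isUnit_iff', map_sum]
    simpa [hv] using hn0
  have h1 : (∑ j ∈ Finset.range n, v ^ j) * (v - 1) = v ^ n - 1 := geom_sum_mul v n
  rw [hvn, sub_self] at h1
  have := (hg.mul_right_eq_zero).mp h1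
  exact sub_eq_zero.mp this

theorem uj_p (p : ℕ) [CharP k p] (hu1 : constantCoeff u = 1) (n : ℕ) (hn0 : (n : k) ≠ 0)
    (hun : u ^ n * (1 + X ^ n) = 1) : uj u p = 1 := by
  apply eq_one_of_pow_eq_one (constantCoeff_uj hu1 p) n hn0
  have h := uj_pow n hun p
  have hp0 : ((p : ℕ) : PowerSeries k) = 0 := by
    rw [← map_natCast (C (R := k)), CharP.cast_eq_zero, map_zero]
  rwa [hp0, zero_mul, add_zero, mul_one] at h

theorem dvd_uj_sub_one (hu1 : constantCoeff u = 1) (n : ℕ) (hn0 : (n : k) ≠ 0)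
    (hun : u ^ n * (1 + X ^ n) = 1) (j : ℕ) : X ^ n ∣ uj u j - 1 := by
  set v := uj u j with hv
  have hv1 : constantCoeff v = 1 := constantCoeff_uj hu1 j
  have hg : IsUnit (∑ l ∈ Finset.range n, v ^ l) := by
    rw [isUnit_iff', map_sum]
    simpa [hv1] using hn0
  have h1 : (∑ l ∈ Finset.range n, v ^ l) * (v - 1) = v ^ n - 1 := geom_sum_mul v n
  have h2 : v ^ n - 1 = X ^ n * (-(j : PowerSeries k) * v ^ n) := by
    have := uj_pow n hun j
    linear_combination this
  obtain ⟨w, hw⟩ := hg.exists_left_inv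
  refine ⟨w * (-(j : PowerSeries k) * v ^ n), ?_⟩
  calc v - 1 = w * ((∑ l ∈ Finset.range n, v ^ l) * (v - 1)) := by rw [← mul_assoc, hw, one_mul]
    _ = _ := by rw [h1, h2]; ring

theorem exists_V (p : ℕ) [CharP k p] (hu1 : constantCoeff u = 1) (n : ℕ) (hn0 : (n : k) ≠ 0)
    (hun : u ^ n * (1 + X ^ n) = 1) :
    ∃ V : PowerSeries k, IsUnit V ∧ X ^ n ∣ V - 1 ∧ u ^ p * sig u V = V := by
  refine ⟨∏ j ∈ Finset.range p, uj u j, ?_, ?_, ?_⟩
  · rw [isUnit_iff', map_prod]
    simp [constantCoeff_uj hu1]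
  · have : ∀ s : Finset ℕ, X ^ n ∣ ∏ j ∈ s, uj u j - 1 := by
      intro s
      induction s using Finset.induction_on with
      | empty => simp
      | insert a s ha ih =>
        rw [Finset.prod_insert ha]
        have e : uj u a * ∏ j ∈ s, uj u j - 1 =
            uj u a * (∏ j ∈ s, uj u j - 1) + (uj u a - 1) := by ring
        rw [e]
        exact dvd_add (Dvd.dvd.mul_left ih _) (dvd_uj_sub_one hu1 n hn0 hun a)
    exact this _
  · rw [map_prod]
    have h1 : u ^ p * ∏ j ∈ Finset.range p, sig u (uj u j) =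
        ∏ j ∈ Finset.range p, uj u (j + 1) := by
      rw [show u ^ p = ∏ _j ∈ Finset.range p, u by rw [Finset.prod_const, Finset.card_range],
        ← Finset.prod_mul_distrib]
      rfl
    rw [h1]
    have h2 := Finset.prod_range_succ' (fun j => uj u j) p
    have h3 := Finset.prod_range_succ (fun j => uj u j) p
    rw [h3, uj_p p hu1 n hn0 hun] at h2
    simp only [uj, mul_one] at h2
    exact h2.symm

end Groth.Agent.Lib.Helper16.ASCov
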