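import Mathlib
import Groth.Prelude.Def_DCoh2
import Groth.Prelude.Def_FlatMod2
set_option autoImplicit false
universe u
open CategoryTheory CategoryTheory.Limits AlgebraicGeometry
attribute [local instance] HasDerivedCategory.standard

namespace Groth.Agent.Lib.Helper16.AffKTC

noncomputable local instance (R : CommRingCat.{u}) : (moduleSpecΓFunctor (R := R)).Additive :=
  (tilde.adjunction (R := R)).right_adjoint_additive

theorem nonempty_tilde_Γ_iso (R : CommRingCat.{u}) (F : CochainComplex (Spec R).Modules ℤ)
    (hF : ∀ i : ℤ, Coh.IsQCoh (F.X i)) :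
    Nonempty (((tilde.functor R).mapHomologicalComplex (ComplexShape.up ℤ)).obj
      (((moduleSpecΓFunctor (R := R)).mapHomologicalComplex (ComplexShape.up ℤ)).obj F) ≅ F) := by
  have hiso : ∀ i, IsIso ((tilde.adjunction (R := R)).counit.app (F.X i)) := fun i =>
    @Scheme.Modules.isIso_fromTildeΓ_of_isQuasicoherent R (F.X i) (hF i)
  exact ⟨HomologicalComplex.Hom.isoOfComponents (fun i => @asIso _ _ _ _ _ (hiso i)) (by
    intro i j _
    simp only [Functor.mapHomologicalComplex_obj_d, asIso_hom]
    exact ((tilde.adjunction (R := R)).counit.naturality (F.d i j)).symm)⟩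

end Groth.Agent.Lib.Helper16.AffKTC
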