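import Mathlib
import Groth.Prelude.Def_HTop3
import Groth.Agent.S18732
import Groth.Agent.Lib.Helper41.SchImage

/-!
# Base change of almost blow up squares: the strict transform

The closed subscheme of `X' ×_X Y` cut out by the sections supported on the inverse image of the
centre is a blowing up of `Y` in the inverse image of the centre.
-/

set_option autoImplicit false
universe u
open CategoryTheory CategoryTheory.Limits AlgebraicGeometry TopologicalSpace

namespace Groth.Agent.Lib.Helper16.AlmostBlowUp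

open AlgebraicGeometry.Scheme.IdealSheafData Groth.Agent.Lib.Helper82

theorem dominant_of_comp {W X Y : Scheme.{u}} (τ : W ⟶ X) (ι : X ⟶ Y)
    [IsSchemeTheoreticallyDominant (τ ≫ ι)] : IsSchemeTheoreticallyDominant ι := by
  constructor
  have h1 : (τ ≫ ι).ker = ⊥ := Scheme.Hom.ker_eq_bot _
  rw [Scheme.Hom.ker_comp] at h1
  rw [← le_bot_iff, ← h1, ← Scheme.IdealSheafData.map_bot]
  exact Scheme.IdealSheafData.map_mono ι bot_le

theorem dominant_of_le {X : Scheme.{u}} {O' O : X.Opens} (h : O' ≤ O)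
    [IsSchemeTheoreticallyDominant O'.ι] : IsSchemeTheoreticallyDominant O.ι := by
  haveI : IsSchemeTheoreticallyDominant (X.homOfLE h ≫ O.ι) := by
    rw [Scheme.homOfLE_ι]; infer_instance
  exact dominant_of_comp (X.homOfLE h) O.ι

theorem mem_support_comap {X Y : Scheme.{u}} (I : Y.IdealSheafData) (f : X ⟶ Y) (x : X) :
    x ∈ (I.comap f).support ↔ f x ∈ I.support := by
  rw [support_comap]
  rfl

theorem isLocPrincipal_comap {X Y : Scheme.{u}} (L : Y.IdealSheafData)
    (hL : HTop.IsLocPrincipal L) (r : X ⟶ Y) : HTop.IsLocPrincipal (L.comap r) := by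
  intro x
  obtain ⟨U, hxU, a, ha⟩ := hL (r x)
  obtain ⟨V, hV, hxV, hVle⟩ := exists_isAffineOpen_mem_and_subset
    (U := r ⁻¹ᵁ U.1) (x := x) hxU
  refine ⟨⟨V, hV⟩, hxV, (r.appLE U.1 V hVle).hom a, ?_⟩
  rw [ideal_comap_of_le r L V hV U.1 U.2 hVle]
  change ((L.ideal U).map _) = _
  rw [ha, Ideal.map_span, Set.image_singleton]

theorem isAffineHom_ι_awayFrom {X : Scheme.{u}} (L : X.IdealSheafData)
    (hL : HTop.IsLocPrincipal L) : IsAffineHom (HTop.awayFrom L).ι := by
  change IsAffineHom (Scheme.Opens.ι (X := X) L.support.compl)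
  apply isAffineHom_of_forall_exists_isAffineOpen
  intro x
  obtain ⟨W, hxW, f, hfI⟩ := hL x
  refine ⟨W.1, hxW, W.2, ?_⟩
  rw [← Scheme.Hom.isAffineOpen_iff_of_isOpenImmersion
    (Scheme.Opens.ι (X := X) L.support.compl),
    Scheme.Hom.image_preimage_eq_opensRange_inf, Scheme.Opens.opensRange_ι,
    compl_support_inf_eq_basicOpen L W f hfI]
  exact W.2.basicOpen f

/-- The complement of the support is scheme-theoretically dense in the closed subscheme cut out
by the sections supported on the support. -/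
theorem dominant_preimage_awayFrom {X : Scheme.{u}} (L : X.IdealSheafData)
    (hL : HTop.IsLocPrincipal L) :
    IsSchemeTheoreticallyDominant
      ((HTop.supportedOn L).subschemeι ⁻¹ᵁ HTop.awayFrom L).ι := by
  haveI : IsAffineHom (HTop.awayFrom L).ι := isAffineHom_ι_awayFrom L hL
  haveI : QuasiCompact (HTop.awayFrom L).ι := inferInstance
  change IsSchemeTheoreticallyDominant
    ((HTop.awayFrom L).ι.imageι ⁻¹ᵁ HTop.awayFrom L).ι
  have hr : Set.range (HTop.awayFrom L).ι.toImage ⊆
      Set.range ((HTop.awayFrom L).ι.imageι ⁻¹ᵁ HTop.awayFrom L).ι := by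
    rintro _ ⟨u, rfl⟩
    rw [Scheme.Opens.range_ι]
    change (HTop.awayFrom L).ι.imageι ((HTop.awayFrom L).ι.toImage u) ∈ HTop.awayFrom L
    rw [← Scheme.Hom.comp_apply, (HTop.awayFrom L).ι.toImage_imageι]
    exact u.2
  haveI : IsSchemeTheoreticallyDominant (HTop.awayFrom L).ι.toImage :=
    Groth.Agent.Lib.Helper41.isSchemeTheoreticallyDominant_toImage _
  haveI : IsSchemeTheoreticallyDominant
      (IsOpenImmersion.lift ((HTop.awayFrom L).ι.imageι ⁻¹ᵁ HTop.awayFrom L).ι
        (HTop.awayFrom L).ι.toImage hr ≫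
        ((HTop.awayFrom L).ι.imageι ⁻¹ᵁ HTop.awayFrom L).ι) := by
    rw [IsOpenImmersion.lift_fac]; infer_instance
  exact dominant_of_comp (IsOpenImmersion.lift _ (HTop.awayFrom L).ι.toImage hr) _

/-- Sections supported on the support pull back to zero along a morphism for which the preimage
of the complement of the support is scheme-theoretically dense. -/
theorem supportedOn_le_ker {T X : Scheme.{u}} (L : X.IdealSheafData) (h₁ : T ⟶ X)
    [IsSchemeTheoreticallyDominant (h₁ ⁻¹ᵁ HTop.awayFrom L).ι] :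
    HTop.supportedOn L ≤ h₁.ker := by
  have e1 : (h₁ ∣_ HTop.awayFrom L) ≫ (HTop.awayFrom L).ι =
      (h₁ ⁻¹ᵁ HTop.awayFrom L).ι ≫ h₁ := morphismRestrict_ι _ _
  calc HTop.supportedOn L = (HTop.awayFrom L).ι.ker := rfl
    _ = (⊥ : (HTop.awayFrom L : Scheme.{u}).IdealSheafData).map (HTop.awayFrom L).ι :=
        (map_bot _).symm
    _ ≤ ((h₁ ∣_ HTop.awayFrom L).ker).map (HTop.awayFrom L).ι := map_mono _ bot_le
    _ = ((h₁ ∣_ HTop.awayFrom L) ≫ (HTop.awayFrom L).ι).ker := map_ker _ _
    _ = ((h₁ ⁻¹ᵁ HTop.awayFrom L).ι ≫ h₁).ker := by rw [e1]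
    _ = ((h₁ ⁻¹ᵁ HTop.awayFrom L).ι.ker).map h₁ := (map_ker _ _).symm
    _ = (⊥ : T.IdealSheafData).map h₁ := by rw [(h₁ ⁻¹ᵁ HTop.awayFrom L).ι.ker_eq_bot]
    _ = h₁.ker := map_bot _

theorem comap_supportedOn_le {X' X₁ : Scheme.{u}} (L' : X'.IdealSheafData) (gX : X₁ ⟶ X')
    (L : X₁.IdealSheafData) (hL : L = L'.comap gX) :
    (HTop.supportedOn L').comap gX ≤ HTop.supportedOn L := by
  subst hL
  have hle : HTop.awayFrom (L'.comap gX) ≤ gX ⁻¹ᵁ HTop.awayFrom L' := by
    intro x hx
    change x ∉ (L'.comap gX).support at hx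
    change gX x ∉ L'.support
    intro h
    exact hx ((mem_support_comap L' gX x).mpr h)
  have h0 : (HTop.supportedOn L').comap (HTop.awayFrom L').ι = ⊥ := by
    rw [← le_bot_iff]
    change ((HTop.awayFrom L').ι.ker).comap _ ≤ ⊥
    rw [← map_bot]
    exact comap_map_le _ _
  change _ ≤ (HTop.awayFrom (L'.comap gX)).ι.ker
  rw [← map_bot, le_map_iff_comap_le]
  refine le_of_eq ?_
  rw [← comap_comp, ← Scheme.Hom.resLE_comp_ι gX hle, comap_comp, h0, comap_bot]

/-- The strict transform is a blowing up. -/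
theorem isBlowUp_core {X X' Y X₁ : Scheme.{u}} (J : X.IdealSheafData) (b : X' ⟶ X) (g : Y ⟶ X)
    (gX : X₁ ⟶ X') (b₁ : X₁ ⟶ Y) (hX : IsPullback gX b₁ b g)
    (L' : X'.IdealSheafData) (hL' : L' = J.comap b)
    (L : X₁.IdealSheafData) (hLdef : L = (J.comap g).comap b₁)
    (hJ' : HTop.IsLocPrincipal L')
    (hβ : BlowUp.IsBlowUp ((HTop.supportedOn L').subschemeι ≫ b) J) :
    BlowUp.IsBlowUp ((HTop.supportedOn L).subschemeι ≫ b₁) (J.comap g) := by
  have hL : L = L'.comap gX := by
    rw [hLdef, hL', ← comap_comp, ← comap_comp, hX.w]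
  have hLp : HTop.IsLocPrincipal L := by
    rw [hL]; exact isLocPrincipal_comap L' hJ' gX
  have hC : (HTop.supportedOn L').comap gX ≤ HTop.supportedOn L :=
    comap_supportedOn_le L' gX L hL
  let m : (HTop.supportedOn L).subscheme ⟶ (HTop.supportedOn L').subscheme :=
    subschemeMap (HTop.supportedOn L) (HTop.supportedOn L') gX (le_map_iff_comap_le.mpr hC)
  have hm : m ≫ (HTop.supportedOn L').subschemeι = (HTop.supportedOn L).subschemeι ≫ gX :=
    subschemeMap_subschemeι _ _ _ _
  have hmβ : m ≫ (HTop.supportedOn L').subschemeι ≫ b =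
      ((HTop.supportedOn L).subschemeι ≫ b₁) ≫ g := by
    rw [← Category.assoc, hm, Category.assoc, Category.assoc, hX.w]
  unfold BlowUp.IsBlowUp at hβ ⊢
  refine ⟨?_, ?_⟩
  · -- effective Cartier
    have e1 : (J.comap g).comap ((HTop.supportedOn L).subschemeι ≫ b₁) =
        (J.comap ((HTop.supportedOn L').subschemeι ≫ b)).comap m := by
      rw [← comap_comp, ← comap_comp, hmβ]
    rw [e1]
    haveI hdomO : IsSchemeTheoreticallyDominant
        ((HTop.supportedOn L).subschemeι ⁻¹ᵁ HTop.awayFrom L).ι :=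
      dominant_preimage_awayFrom L hLp
    haveI : IsSchemeTheoreticallyDominant
        (m ⁻¹ᵁ ModPair.interior (J.comap ((HTop.supportedOn L').subschemeι ≫ b))).ι := by
      refine dominant_of_le (O' := (HTop.supportedOn L).subschemeι ⁻¹ᵁ HTop.awayFrom L) ?_
      intro x hx
      change (HTop.supportedOn L).subschemeι x ∉ L.support at hx
      change m x ∉ (J.comap ((HTop.supportedOn L').subschemeι ≫ b)).support
      intro h
      apply hx
      rw [mem_support_comap] at h
      have hsupp : L.support = ((J.comap g).comap b₁).support := congrArg _ hLdef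
      rw [hsupp, mem_support_comap, mem_support_comap]
      rw [← Scheme.Hom.comp_apply, hmβ] at h
      simpa only [Scheme.Hom.comp_apply] using h
    exact (Groth.Agent.S18732.result _ hβ.1 m).2
  · -- universal property
    intro T t ht
    have ht' : BlowUp.IsEffCartierIdeal (J.comap (t ≫ g)) := by
      rw [comap_comp]; exact ht
    obtain ⟨h, hh, huniq⟩ := hβ.2 T (t ≫ g) ht'
    have hh' : h ≫ (HTop.supportedOn L').subschemeι ≫ b = t ≫ g := hh
    let h₁ : T ⟶ X₁ := hX.lift (h ≫ (HTop.supportedOn L').subschemeι) t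
      (by rw [Category.assoc]; exact hh')
    have hh₁X : h₁ ≫ gX = h ≫ (HTop.supportedOn L').subschemeι := hX.lift_fst _ _ _
    have hh₁b : h₁ ≫ b₁ = t := hX.lift_snd _ _ _
    haveI : IsSchemeTheoreticallyDominant (h₁ ⁻¹ᵁ HTop.awayFrom L).ι := by
      haveI : IsSchemeTheoreticallyDominant
          (Scheme.Opens.ι (X := T) ((J.comap g).comap t).support.compl) :=
        isSchemeTheoreticallyDominant_ι_compl_support _ ht
      refine dominant_of_le (O' := ((J.comap g).comap t).support.compl) ?_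
      intro x hx
      change x ∉ ((J.comap g).comap t).support at hx
      change h₁ x ∉ L.support
      intro h2
      apply hx
      rw [← hh₁b, comap_comp, mem_support_comap, ← hLdef]
      exact h2
    have hKle : HTop.supportedOn L ≤ h₁.ker := supportedOn_le_ker L h₁
    let h₂ : T ⟶ (HTop.supportedOn L).subscheme :=
      IsClosedImmersion.lift (HTop.supportedOn L).subschemeι h₁
        (by rw [ker_subschemeι]; exact hKle)
    have hh₂ : h₂ ≫ (HTop.supportedOn L).subschemeι = h₁ := IsClosedImmersion.lift_fac _ _ _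
    refine ⟨h₂, ?_, ?_⟩
    · change h₂ ≫ (HTop.supportedOn L).subschemeι ≫ b₁ = t
      rw [← Category.assoc, hh₂, hh₁b]
    · intro h₂' hh₂'
      have hh₂'' : h₂' ≫ (HTop.supportedOn L).subschemeι ≫ b₁ = t := hh₂'
      have e2 : h₂' ≫ m = h := by
        apply huniq
        change (h₂' ≫ m) ≫ (HTop.supportedOn L').subschemeι ≫ b = t ≫ g
        rw [Category.assoc, hmβ, Category.assoc, ← Category.assoc, ← Category.assoc,
          Category.assoc h₂', hh₂'']
      rw [← cancel_mono (HTop.supportedOn L).subschemeι, hh₂]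
      apply hX.hom_ext
      · rw [Category.assoc, ← hm, ← Category.assoc, e2, hh₁X]
      · rw [Category.assoc, hh₁b]
        exact hh₂''

end Groth.Agent.Lib.Helper16.AlmostBlowUp
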