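import Mathlib
import Groth.Prelude.Def_HTop3
import Groth.Agent.Lib.Helper16.AlmostBlowUp
import Groth.Agent.Lib.Helper41.BlowUpAdm

/-!
# Closed subschemes of the top right corner of an almost blow up square
-/

set_option autoImplicit false
universe u
open CategoryTheory CategoryTheory.Limits AlgebraicGeometry TopologicalSpace

namespace Groth.Agent.Lib.Helper16.AlmostBlowUp

open AlgebraicGeometry.Scheme.IdealSheafData Groth.Agent.Lib.Helper82

/-- Two closed immersions with the same kernel: one gives a blow-up iff the other does. -/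
theorem isBlowUp_of_ker_eq {X X' B B' : Scheme.{u}} (𝓚 : X.IdealSheafData) (b : X' ⟶ X)
    (c : B ⟶ X') (c' : B' ⟶ X') [IsClosedImmersion c] [IsClosedImmersion c']
    (hker : c'.ker = c.ker) (hc : BlowUp.IsBlowUp (c ≫ b) 𝓚) :
    BlowUp.IsBlowUp (c' ≫ b) 𝓚 := by
  let φ : B' ⟶ B := IsClosedImmersion.lift c c' hker.ge
  let ψ : B ⟶ B' := IsClosedImmersion.lift c' c hker.le
  have hφ : φ ≫ c = c' := IsClosedImmersion.lift_fac _ _ _
  have hψ : ψ ≫ c' = c := IsClosedImmersion.lift_fac _ _ _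
  haveI : IsIso φ := ⟨ψ, by rw [← cancel_mono c', Category.assoc, hψ, hφ, Category.id_comp],
    by rw [← cancel_mono c, Category.assoc, hφ, hψ, Category.id_comp]⟩
  have h := Groth.Agent.Lib.Helper41.BlowUpAdm.isBlowUp_iso_comp 𝓚 (c ≫ b) hc φ
  rwa [← Category.assoc, hφ] at h

theorem awayFrom_comap {W X' : Scheme.{u}} (w : W ⟶ X') (L' : X'.IdealSheafData) :
    HTop.awayFrom (L'.comap w) = w ⁻¹ᵁ HTop.awayFrom L' := by
  apply TopologicalSpace.Opens.ext
  ext x
  change x ∉ (L'.comap w).support ↔ w x ∉ L'.support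
  rw [mem_support_comap]

/-- If the ideal of the closed subscheme `W` consists of sections supported on the support of
`L'`, the sections of `W` supported there push forward to the sections of `X'` supported
there. -/
theorem map_supportedOn_eq {W X' : Scheme.{u}} (w : W ⟶ X') [IsClosedImmersion w]
    (L' : X'.IdealSheafData) (L : W.IdealSheafData) (hL : L = L'.comap w)
    (hw : w.ker ≤ HTop.supportedOn L') :
    (HTop.supportedOn L).map w = HTop.supportedOn L' := by
  subst hL
  have key : ∀ (O : W.Opens), O = w ⁻¹ᵁ HTop.awayFrom L' →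
      (O.ι.ker).map w = HTop.supportedOn L' := by
    intro O hO
    subst hO
    have hker : w.ker ≤ (HTop.awayFrom L').ι.ker := hw
    let s : (HTop.awayFrom L' : Scheme.{u}) ⟶ W :=
      IsClosedImmersion.lift w (HTop.awayFrom L').ι hker
    have hs : s ≫ w = (HTop.awayFrom L').ι := IsClosedImmersion.lift_fac _ _ _
    have hr : Set.range s ⊆ Set.range (w ⁻¹ᵁ HTop.awayFrom L').ι := by
      rintro _ ⟨u, rfl⟩
      rw [Scheme.Opens.range_ι]
      change w (s u) ∈ HTop.awayFrom L'
      rw [← Scheme.Hom.comp_apply, hs]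
      exact u.2
    let s' : (HTop.awayFrom L' : Scheme.{u}) ⟶ (w ⁻¹ᵁ HTop.awayFrom L' : Scheme.{u}) :=
      IsOpenImmersion.lift (w ⁻¹ᵁ HTop.awayFrom L').ι s hr
    have hs' : s' ≫ (w ⁻¹ᵁ HTop.awayFrom L').ι = s := IsOpenImmersion.lift_fac _ _ _
    have hid : s' ≫ (w ∣_ HTop.awayFrom L') = 𝟙 _ := by
      rw [← cancel_mono (HTop.awayFrom L').ι, Category.assoc, morphismRestrict_ι,
        ← Category.assoc, hs', hs, Category.id_comp]
    have hbot : (w ∣_ HTop.awayFrom L').ker = ⊥ := by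
      rw [← le_bot_iff]
      calc (w ∣_ HTop.awayFrom L').ker ≤ (s' ≫ (w ∣_ HTop.awayFrom L')).ker :=
            Scheme.Hom.le_ker_comp _ _
        _ = Scheme.Hom.ker (𝟙 (HTop.awayFrom L' : Scheme.{u})) := by rw [hid]
        _ = ⊥ := Scheme.Hom.ker_eq_bot_of_isIso _
    calc ((w ⁻¹ᵁ HTop.awayFrom L').ι.ker).map w
        = ((w ⁻¹ᵁ HTop.awayFrom L').ι ≫ w).ker := map_ker _ _
      _ = ((w ∣_ HTop.awayFrom L') ≫ (HTop.awayFrom L').ι).ker := by rw [morphismRestrict_ι]
      _ = ((w ∣_ HTop.awayFrom L').ker).map (HTop.awayFrom L').ι := (map_ker _ _).symm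
      _ = (⊥ : (HTop.awayFrom L' : Scheme.{u}).IdealSheafData).map (HTop.awayFrom L').ι := by
          rw [hbot]
      _ = (HTop.awayFrom L').ι.ker := map_bot _
      _ = HTop.supportedOn L' := rfl
  exact key _ (awayFrom_comap w L')

/-- If the strict transform inside a closed subscheme `W ⟶ X'` is again a blow-up of `X`, then
the ideal of `W` consists of sections supported on the exceptional locus. -/
theorem ker_le_supportedOn_of_isBlowUp {X X' W : Scheme.{u}} (J : X.IdealSheafData) (b : X' ⟶ X)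
    (w : W ⟶ X')
    (hβ : BlowUp.IsBlowUp ((HTop.supportedOn (J.comap b)).subschemeι ≫ b) J)
    (hβW : BlowUp.IsBlowUp ((HTop.supportedOn (J.comap (w ≫ b))).subschemeι ≫ w ≫ b) J) :
    w.ker ≤ HTop.supportedOn (J.comap b) := by
  have hUO : HTop.awayFrom (J.comap b) ≤ b ⁻¹ᵁ J.support.compl := by
    intro x hx
    change x ∉ (J.comap b).support at hx
    change b x ∉ J.support
    intro h2
    exact hx ((mem_support_comap J b x).mpr h2)
  have hr : b.resLE J.support.compl (HTop.awayFrom (J.comap b)) hUO ≫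
      Scheme.Opens.ι (X := X) J.support.compl = (HTop.awayFrom (J.comap b)).ι ≫ b :=
    Scheme.Hom.resLE_comp_ι _ _
  obtain ⟨σ, hσ, -⟩ := hβW.2 _ (Scheme.Opens.ι (X := X) J.support.compl) (by
    rw [comap_ι_support_compl]
    exact isEffCartierIdeal_top _)
  have hσ' : σ ≫ (HTop.supportedOn (J.comap (w ≫ b))).subschemeι ≫ w ≫ b =
      Scheme.Opens.ι (X := X) J.support.compl := hσ
  let s : (HTop.awayFrom (J.comap b) : Scheme.{u}) ⟶ W :=
    b.resLE J.support.compl (HTop.awayFrom (J.comap b)) hUO ≫ σ ≫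
      (HTop.supportedOn (J.comap (w ≫ b))).subschemeι
  have hsb : (s ≫ w) ≫ b = (HTop.awayFrom (J.comap b)).ι ≫ b := by
    change ((b.resLE J.support.compl (HTop.awayFrom (J.comap b)) hUO ≫ σ ≫
      (HTop.supportedOn (J.comap (w ≫ b))).subschemeι) ≫ w) ≫ b = _
    simp only [Category.assoc]
    rw [hσ', hr]
  have hrange : Set.range (s ≫ w) ⊆ Set.range (HTop.awayFrom (J.comap b)).ι := by
    rintro _ ⟨u, rfl⟩
    rw [Scheme.Opens.range_ι]
    change (s ≫ w) u ∉ (J.comap b).support
    rw [mem_support_comap, ← Scheme.Hom.comp_apply, hsb, ← hr, Scheme.Hom.comp_apply]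
    exact (b.resLE J.support.compl (HTop.awayFrom (J.comap b)) hUO u).2
  let g' : (HTop.awayFrom (J.comap b) : Scheme.{u}) ⟶ (HTop.awayFrom (J.comap b) : Scheme.{u}) :=
    IsOpenImmersion.lift (HTop.awayFrom (J.comap b)).ι (s ≫ w) hrange
  have hg' : g' ≫ (HTop.awayFrom (J.comap b)).ι = s ≫ w := IsOpenImmersion.lift_fac _ _ _
  have hKle : (HTop.supportedOn (J.comap b)).subschemeι.ker ≤ (HTop.awayFrom (J.comap b)).ι.ker := by
    rw [ker_subschemeι]
    exact le_of_eq rfl
  let t : (HTop.awayFrom (J.comap b) : Scheme.{u}) ⟶ (HTop.supportedOn (J.comap b)).subscheme :=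
    IsClosedImmersion.lift (HTop.supportedOn (J.comap b)).subschemeι
      (HTop.awayFrom (J.comap b)).ι hKle
  have ht : t ≫ (HTop.supportedOn (J.comap b)).subschemeι = (HTop.awayFrom (J.comap b)).ι :=
    IsClosedImmersion.lift_fac _ _ _
  have hEff : BlowUp.IsEffCartierIdeal (J.comap ((HTop.awayFrom (J.comap b)).ι ≫ b)) := by
    rw [comap_comp]
    change BlowUp.IsEffCartierIdeal
      ((J.comap b).comap (Scheme.Opens.ι (X := X') (J.comap b).support.compl))
    rw [comap_ι_support_compl]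
    exact isEffCartierIdeal_top _
  obtain ⟨g₀, -, huniq⟩ := hβ.2 _ _ hEff
  have e1 : g' ≫ t = g₀ := by
    apply huniq
    change (g' ≫ t) ≫ (HTop.supportedOn (J.comap b)).subschemeι ≫ b = _
    rw [Category.assoc, ← Category.assoc t, ht, ← Category.assoc, hg', hsb]
  have e2 : t = g₀ := by
    apply huniq
    change t ≫ (HTop.supportedOn (J.comap b)).subschemeι ≫ b = _
    rw [← Category.assoc, ht]
  have hsw : s ≫ w = (HTop.awayFrom (J.comap b)).ι := by
    rw [← hg', ← ht, ← Category.assoc, e1, ← e2]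
  calc w.ker ≤ (s ≫ w).ker := Scheme.Hom.le_ker_comp _ _
    _ = (HTop.awayFrom (J.comap b)).ι.ker := by rw [hsw]
    _ = HTop.supportedOn (J.comap b) := rfl

end Groth.Agent.Lib.Helper16.AlmostBlowUp
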