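import Mathlib
import Groth.Prelude.Def_HTop
import Groth.Agent.S8980
import Groth.Agent.S7476

/-!
# Finite jointly surjective families of proper morphisms of finite presentation are h coverings,
and the sheaf condition of an h sheaf for a two-member family in `Over S`.
-/

set_option autoImplicit false
universe w u
open CategoryTheory CategoryTheory.Limits AlgebraicGeometry Opposite

namespace Groth.Agent.Lib.Helper16.HCoverProper

open HTop

/-- A finite coproduct of quasi-compact morphisms is quasi-compact. -/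
lemma quasiCompact_sigmaDesc {X : Scheme.{u}} {ι : Type u} [Finite ι] (Y : ι → Scheme.{u})
    (f : ∀ i, Y i ⟶ X) [∀ i, QuasiCompact (f i)] : QuasiCompact (Sigma.desc f) := by
  constructor
  intro U hU hUc
  have h1 : (Sigma.desc f) ⁻¹' U = ⋃ i, (Sigma.ι Y i) '' ((f i) ⁻¹' U) := by
    ext x
    simp only [Set.mem_preimage, Set.mem_iUnion, Set.mem_image]
    constructor
    · intro hx
      obtain ⟨i, y, rfl⟩ := (sigmaOpenCover Y).exists_eq x
      refine ⟨i, y, ?_, rfl⟩
      have : (Sigma.desc f) ((Sigma.ι Y i) y) = f i y := by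
        rw [← Scheme.Hom.comp_apply, Sigma.ι_desc]
      rw [← this]; exact hx
    · rintro ⟨i, y, hy, rfl⟩
      have : (Sigma.desc f) ((Sigma.ι Y i) y) = f i y := by
        rw [← Scheme.Hom.comp_apply, Sigma.ι_desc]
      rw [this]; exact hy
  rw [h1]
  exact isCompact_iUnion fun i =>
    (QuasiCompact.isCompact_preimage (f := f i) U hU hUc).image (Sigma.ι Y i).continuous

/-- A morphism from the spectrum of a valuation ring lifts, after an extension of valuation
rings, through a universally closed morphism whose image contains the image of the generic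
point. -/
theorem exists_valLift_of_universallyClosed {X Y : Scheme.{u}} (f : Y ⟶ X) [UniversallyClosed f]
    (V : CommRingCat.{u}) [IsDomain V] [ValuationRing V] (gV : Spec V ⟶ X)
    (hgen : gV (⟨⊥, Ideal.isPrime_bot⟩ : PrimeSpectrum V) ∈ Set.range f) :
    ∃ (W : CommRingCat.{u}) (_ : IsDomain W) (_ : ValuationRing W) (φ : V ⟶ W),
      IsExtVal V W φ ∧ ∃ g' : Spec W ⟶ Y, g' ≫ f = Spec.map φ ≫ gV := by
  let η : PrimeSpectrum V := ⟨⊥, Ideal.isPrime_bot⟩
  obtain ⟨y, hy⟩ := hgen
  obtain ⟨z', hz'η0, -⟩ :=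
    Scheme.Pullback.exists_preimage_pullback (f := gV) (g := f) η y hy.symm
  have hz'η : (pullback.fst gV f).base z' = η := hz'η0
  have hspec : SpecializingMap (pullback.fst gV f).base :=
    (pullback.fst gV f).isClosedMap.specializingMap
  have hη : (pullback.fst gV f).base z' ⤳ IsLocalRing.closedPoint V := by
    rw [hz'η]
    exact IsLocalRing.specializes_closedPoint η
  obtain ⟨z, hz'z, hz1⟩ := hspec hη
  obtain ⟨A, hA1, hA2, hA3, g, hgc, hgg⟩ :=
    Groth.Agent.Lib.Helper12.exists_valuationRing_of_specializes hz'z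
  obtain ⟨β, hβ⟩ := Spec.map_surjective (g ≫ pullback.fst gV f)
  have hc : (Spec.map β).base (IsLocalRing.closedPoint A) = IsLocalRing.closedPoint V := by
    rw [hβ]
    change (pullback.fst gV f).base (g.base (IsLocalRing.closedPoint A)) = _
    rw [hgc, hz1]
  have hg : (Spec.map β).base (⟨⊥, Ideal.isPrime_bot⟩ : PrimeSpectrum A) = η := by
    rw [hβ]
    change (pullback.fst gV f).base (g.base _) = _
    rw [hgg, hz'η]
  have hloc : IsLocalHom β.hom := (IsLocalRing.isLocalHom_iff_comap_closedPoint β.hom).mpr hc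
  have hinj : Function.Injective β.hom := by
    rw [RingHom.injective_iff_ker_eq_bot]
    have := congr_arg PrimeSpectrum.asIdeal hg
    exact this
  refine ⟨CommRingCat.of A, hA2, hA3, β, ⟨hinj, hloc⟩, g ≫ pullback.snd gV f, ?_⟩
  rw [Category.assoc, ← pullback.condition, ← Category.assoc, ← hβ]

/-- A finite jointly surjective family of proper morphisms locally of finite presentation is an
h covering. -/
theorem isHCover_of_isProper {T : Scheme.{u}} (E : PreZeroHypercover.{u} T) [Finite E.I₀]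
    (hp : ∀ j, IsProper (E.f j)) (hfp : ∀ j, LocallyOfFinitePresentation (E.f j))
    (hs : ∀ t : T, ∃ j, t ∈ Set.range (E.f j)) : HTop.IsHCover E := by
  rw [Groth.Agent.S8980.result E hfp]
  have hlfp : LocallyOfFinitePresentation (Sigma.desc E.f) :=
    IsZariskiLocalAtSource.sigmaDesc (P := @LocallyOfFinitePresentation) hfp
  haveI : ∀ j, QuasiCompact (E.f j) := fun j => by
    haveI := hp j
    infer_instance
  haveI : QuasiCompact (Sigma.desc E.f) := quasiCompact_sigmaDesc E.X E.f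
  refine ⟨fun _ => hlfp, ?_⟩
  refine (Groth.Agent.S7476.result.{u, 0, 0, 0} (Sigma.desc E.f)).1.2 ?_
  intro V _ _ gV
  obtain ⟨j, hj⟩ := hs (gV (⟨⊥, Ideal.isPrime_bot⟩ : PrimeSpectrum V))
  haveI := hp j
  obtain ⟨W, h1, h2, φ, hφ, g', hg'⟩ := exists_valLift_of_universallyClosed (E.f j) V gV hj
  refine ⟨W, h1, h2, φ, hφ, PUnit.unit, g' ≫ Sigma.ι E.X j, ?_⟩
  change (g' ≫ Sigma.ι E.X j) ≫ Sigma.desc E.f = _
  rw [Category.assoc, Sigma.ι_desc, hg']

/-- A sheaf for the h topology over `S` satisfies the sheaf condition for every family in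
`Over S` whose underlying family of schemes is an h covering. -/
theorem isSheafFor_ofArrows_over (S : Scheme.{u}) {F : (Over S)ᵒᵖ ⥤ Type w}
    (hF : Presieve.IsSheaf (HTop.Jh S) F) {T : Over S} {ι : Type u} (A : ι → Over S)
    (f : ∀ k, A k ⟶ T)
    (hE : HTop.IsHCover ({ I₀ := ι, X := fun k => (A k).left, f := fun k => (f k).left } :
      PreZeroHypercover.{u} T.left)) :
    Presieve.IsSheafFor F (Presieve.ofArrows A f) := by
  rw [Presieve.isSheafFor_iff_generate]
  apply hF
  rw [GrothendieckTopology.mem_over_iff]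
  have h2 := (HTop.presieve₀_mem_hPrecoverage_iff _).2 hE
  have h3 := Precoverage.generate_mem_toGrothendieck h2
  have h4 : Sieve.overEquiv T (Sieve.generate (Presieve.ofArrows A f)) =
      Sieve.ofArrows (fun k => (A k).left) (fun k => (f k).left) :=
    Sieve.overEquiv_ofArrows A f
  rw [h4]
  exact h3

section Pair

variable (S : Scheme.{u})

/-- The two objects of a two-member family. -/
def pairObj (A₁ A₂ : Over S) (k : ULift.{u} Bool) : Over S := cond k.down A₁ A₂

/-- The two morphisms of a two-member family. -/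
def pairHom {T A₁ A₂ : Over S} (u₁ : A₁ ⟶ T) (u₂ : A₂ ⟶ T) :
    ∀ k : ULift.{u} Bool, pairObj S A₁ A₂ k ⟶ T
  | ⟨true⟩ => u₁
  | ⟨false⟩ => u₂

/-- The underlying family of schemes of a two-member family. -/
def pairCover {T A₁ A₂ : Over S} (u₁ : A₁ ⟶ T) (u₂ : A₂ ⟶ T) : PreZeroHypercover.{u} T.left where
  I₀ := ULift.{u} Bool
  X k := (pairObj S A₁ A₂ k).left
  f k := (pairHom S u₁ u₂ k).left

theorem isHCover_pairCover {T A₁ A₂ : Over S} (u₁ : A₁ ⟶ T) (u₂ : A₂ ⟶ T)
    (hp₁ : IsProper u₁.left) (hf₁ : LocallyOfFinitePresentation u₁.left)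
    (hp₂ : IsProper u₂.left) (hf₂ : LocallyOfFinitePresentation u₂.left)
    (hs : ∀ t : T.left, t ∈ Set.range u₁.left ∨ t ∈ Set.range u₂.left) :
    HTop.IsHCover (pairCover S u₁ u₂) := by
  haveI : Finite (pairCover S u₁ u₂).I₀ := inferInstanceAs (Finite (ULift.{u} Bool))
  apply isHCover_of_isProper
  · intro j
    change ULift.{u} Bool at j
    obtain ⟨_ | _⟩ := j
    · exact hp₂
    · exact hp₁
  · intro j
    change ULift.{u} Bool at j
    obtain ⟨_ | _⟩ := j
    · exact hf₂
    · exact hf₁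
  · intro t
    rcases hs t with h | h
    · exact ⟨(⟨true⟩ : ULift.{u} Bool), h⟩
    · exact ⟨(⟨false⟩ : ULift.{u} Bool), h⟩

/-- Separatedness and gluing of an h sheaf for a two-member h covering family. -/
theorem pair_sheaf {F : (Over S)ᵒᵖ ⥤ Type w}
    (hF : Presieve.IsSheaf (HTop.Jh S) F) {T A₁ A₂ : Over S} (u₁ : A₁ ⟶ T) (u₂ : A₂ ⟶ T)
    (hcov : HTop.IsHCover (pairCover S u₁ u₂)) :
    (∀ x y : F.obj (op T), F.map u₁.op x = F.map u₁.op y → F.map u₂.op x = F.map u₂.op y →
      x = y) ∧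
    (∀ (a₁ : F.obj (op A₁)) (a₂ : F.obj (op A₂)),
      (∀ (Y : Over S) (g g' : Y ⟶ A₁), g ≫ u₁ = g' ≫ u₁ → F.map g.op a₁ = F.map g'.op a₁) →
      (∀ (Y : Over S) (g : Y ⟶ A₁) (g' : Y ⟶ A₂), g ≫ u₁ = g' ≫ u₂ →
        F.map g.op a₁ = F.map g'.op a₂) →
      (∀ (Y : Over S) (g g' : Y ⟶ A₂), g ≫ u₂ = g' ≫ u₂ → F.map g.op a₂ = F.map g'.op a₂) →
      ∃ s : F.obj (op T), F.map u₁.op s = a₁ ∧ F.map u₂.op s = a₂) := by
  have hS : Presieve.IsSheafFor F (Presieve.ofArrows (pairObj S A₁ A₂) (pairHom S u₁ u₂)) :=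
    isSheafFor_ofArrows_over S hF (pairObj S A₁ A₂) (pairHom S u₁ u₂) hcov
  constructor
  · intro x y h1 h2
    refine hS.isSeparatedFor.ext ?_
    rintro _ _ ⟨j⟩
    obtain ⟨k⟩ := j
    cases k
    · exact h2
    · exact h1
  · intro a₁ a₂ c11 c12 c22
    rw [Presieve.isSheafFor_arrows_iff] at hS
    let x : ∀ k : ULift.{u} Bool, F.obj (op (pairObj S A₁ A₂ k)) := fun k =>
      match k with
      | ⟨true⟩ => a₁
      | ⟨false⟩ => a₂
    have hx : Presieve.Arrows.Compatible F (pairHom S u₁ u₂) x := by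
      rintro ⟨k⟩ ⟨l⟩ Z gk gl hkl
      cases k <;> cases l
      · exact c22 Z gk gl hkl
      · exact (c12 Z gl gk hkl.symm).symm
      · exact c12 Z gk gl hkl
      · exact c11 Z gk gl hkl
    obtain ⟨s, hs, -⟩ := hS x hx
    exact ⟨s, hs ⟨true⟩, hs ⟨false⟩⟩

end Pair

end Groth.Agent.Lib.Helper16.HCoverProper
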