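import Mathlib
import Groth.Prelude.Def_HTop3
import Groth.Agent.Lib.Helper16.AlmostBlowUp2
import Groth.Agent.Lib.Helper16.HCoverProper
import Groth.Agent.Lib.Helper50.LimDesc10

/-!
# An h sheaf turns an almost blow up square into a cartesian square
-/

set_option autoImplicit false
universe w u
open CategoryTheory CategoryTheory.Limits AlgebraicGeometry TopologicalSpace Opposite

namespace Groth.Agent.Lib.Helper16.AlmostBlowUp

open AlgebraicGeometry.Scheme.IdealSheafData Groth.Agent.Lib.Helper82
open Groth.Agent.Lib.Helper16.HCoverProper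

/-- Off the centre, the top right corner of an almost blow up square maps monomorphically to the
base. -/
theorem eq_of_comp_eq_off_center {X X' T : Scheme.{u}} (J : X.IdealSheafData) (b : X' ⟶ X)
    (hβ : BlowUp.IsBlowUp ((HTop.supportedOn (J.comap b)).subschemeι ≫ b) J)
    (f₁ f₂ : T ⟶ X') (hf : f₁ ≫ b = f₂ ≫ b)
    (h₁ : ∀ z : T, f₁ z ∈ HTop.awayFrom (J.comap b))
    (h₂ : ∀ z : T, f₂ z ∈ HTop.awayFrom (J.comap b)) : f₁ = f₂ := by
  have hr : ∀ (f : T ⟶ X'), (∀ z : T, f z ∈ HTop.awayFrom (J.comap b)) →
      Set.range f ⊆ Set.range (HTop.awayFrom (J.comap b)).ι := by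
    intro f hf'
    rintro _ ⟨z, rfl⟩
    rw [Scheme.Opens.range_ι]
    exact hf' z
  let g₁ : T ⟶ (HTop.awayFrom (J.comap b) : Scheme.{u}) :=
    IsOpenImmersion.lift (HTop.awayFrom (J.comap b)).ι f₁ (hr f₁ h₁)
  let g₂ : T ⟶ (HTop.awayFrom (J.comap b) : Scheme.{u}) :=
    IsOpenImmersion.lift (HTop.awayFrom (J.comap b)).ι f₂ (hr f₂ h₂)
  have hg₁ : g₁ ≫ (HTop.awayFrom (J.comap b)).ι = f₁ := IsOpenImmersion.lift_fac _ _ _
  have hg₂ : g₂ ≫ (HTop.awayFrom (J.comap b)).ι = f₂ := IsOpenImmersion.lift_fac _ _ _
  have hKle : (HTop.supportedOn (J.comap b)).subschemeι.ker ≤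
      (HTop.awayFrom (J.comap b)).ι.ker := by
    rw [ker_subschemeι]
    exact le_of_eq rfl
  let t : (HTop.awayFrom (J.comap b) : Scheme.{u}) ⟶ (HTop.supportedOn (J.comap b)).subscheme :=
    IsClosedImmersion.lift (HTop.supportedOn (J.comap b)).subschemeι
      (HTop.awayFrom (J.comap b)).ι hKle
  have ht : t ≫ (HTop.supportedOn (J.comap b)).subschemeι = (HTop.awayFrom (J.comap b)).ι :=
    IsClosedImmersion.lift_fac _ _ _
  have hEff : BlowUp.IsEffCartierIdeal (J.comap (f₁ ≫ b)) := by
    rw [← hg₁, Category.assoc, comap_comp, comap_comp]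
    change BlowUp.IsEffCartierIdeal
      (((J.comap b).comap (Scheme.Opens.ι (X := X') (J.comap b).support.compl)).comap g₁)
    rw [comap_ι_support_compl, comap_top]
    exact isEffCartierIdeal_top _
  obtain ⟨g₀, -, huniq⟩ := hβ.2 _ _ hEff
  have e1 : g₁ ≫ t = g₀ := by
    apply huniq
    change (g₁ ≫ t) ≫ (HTop.supportedOn (J.comap b)).subschemeι ≫ b = f₁ ≫ b
    rw [Category.assoc, ← Category.assoc t, ht, ← Category.assoc, hg₁]
  have e2 : g₂ ≫ t = g₀ := by
    apply huniq
    change (g₂ ≫ t) ≫ (HTop.supportedOn (J.comap b)).subschemeι ≫ b = f₁ ≫ b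
    rw [Category.assoc, ← Category.assoc t, ht, ← Category.assoc, hg₂, hf]
  calc f₁ = g₁ ≫ (HTop.awayFrom (J.comap b)).ι := hg₁.symm
    _ = (g₁ ≫ t) ≫ (HTop.supportedOn (J.comap b)).subschemeι := by rw [Category.assoc, ht]
    _ = (g₂ ≫ t) ≫ (HTop.supportedOn (J.comap b)).subschemeι := by rw [e1, e2]
    _ = g₂ ≫ (HTop.awayFrom (J.comap b)).ι := by rw [Category.assoc, ht]
    _ = f₂ := hg₂

/-- Points off the centre are in the image of the top right corner. -/
theorem mem_range_of_not_mem_support {X X' : Scheme.{u}} (J : X.IdealSheafData) (b : X' ⟶ X)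
    (hβ : BlowUp.IsBlowUp ((HTop.supportedOn (J.comap b)).subschemeι ≫ b) J) (x : X)
    (hx : x ∉ J.support) : x ∈ Set.range b := by
  obtain ⟨σ, hσ, -⟩ := hβ.2 _ (Scheme.Opens.ι (X := X) J.support.compl) (by
    rw [comap_ι_support_compl]
    exact isEffCartierIdeal_top _)
  have hσ' : (σ ≫ (HTop.supportedOn (J.comap b)).subschemeι) ≫ b =
      Scheme.Opens.ι (X := X) J.support.compl := by
    rw [Category.assoc]
    exact hσ
  refine ⟨(σ ≫ (HTop.supportedOn (J.comap b)).subschemeι) ⟨x, hx⟩, ?_⟩
  rw [← Scheme.Hom.comp_apply, hσ']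
  rfl

/-- Off the centre, a point of `X' ×_X X'` lies on the diagonal. -/
theorem mem_range_diagonal {X X' : Scheme.{u}} (J : X.IdealSheafData) (b : X' ⟶ X)
    (hβ : BlowUp.IsBlowUp ((HTop.supportedOn (J.comap b)).subschemeι ≫ b) J)
    (x : ↑(pullback b b)) (hx : (pullback.fst b b ≫ b) x ∉ J.support) :
    x ∈ Set.range (pullback.diagonal b) := by
  let PO : (pullback b b).Opens := (pullback.fst b b ≫ b) ⁻¹ᵁ J.support.compl
  have hxPO : x ∈ PO := hx
  have hmem : ∀ z : (PO : Scheme.{u}), (pullback.fst b b ≫ b) (PO.ι z) ∉ J.support := fun z => z.2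
  have hf : PO.ι ≫ pullback.fst b b = PO.ι ≫ pullback.snd b b := by
    apply eq_of_comp_eq_off_center J b hβ
    · rw [Category.assoc, Category.assoc, pullback.condition]
    · intro z
      change (PO.ι ≫ pullback.fst b b) z ∉ (J.comap b).support
      rw [mem_support_comap, ← Scheme.Hom.comp_apply, Category.assoc, Scheme.Hom.comp_apply]
      exact hmem z
    · intro z
      change (PO.ι ≫ pullback.snd b b) z ∉ (J.comap b).support
      rw [mem_support_comap, ← Scheme.Hom.comp_apply, Category.assoc, ← pullback.condition,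
        Scheme.Hom.comp_apply]
      exact hmem z
  have hι : PO.ι = (PO.ι ≫ pullback.fst b b) ≫ pullback.diagonal b := by
    apply pullback.hom_ext
    · rw [Category.assoc, pullback.diagonal_fst, Category.comp_id]
    · rw [Category.assoc, pullback.diagonal_snd, Category.comp_id, hf]
  refine ⟨(PO.ι ≫ pullback.fst b b) ⟨x, hxPO⟩, ?_⟩
  rw [← Scheme.Hom.comp_apply, ← hι]
  rfl

lemma map_op_comp_apply {C : Type*} [Category C] (F : Cᵒᵖ ⥤ Type w) {A B D : C} (f : A ⟶ B)
    (g : B ⟶ D) (x : F.obj (op D)) : F.map (f ≫ g).op x = F.map f.op (F.map g.op x) := by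
  rw [op_comp, FunctorToTypes.map_comp_apply]

theorem range_eq_support_ker {Z X : Scheme.{u}} (i : Z ⟶ X) [IsClosedImmersion i] (x : X) :
    x ∈ i.ker.support ↔ x ∈ Set.range i := by
  have h1 : (i.ker.support : Set X) = closure (Set.range i) := Scheme.Hom.support_ker i
  rw [i.isClosedEmbedding.isClosed_range.closure_eq] at h1
  rw [← h1]
  rfl

/-- An h sheaf turns an almost blow up square into a cartesian square of sets. -/
theorem existsUnique_of_isAlmostBlowUpSquare (S : Scheme.{u}) (F : (Over S)ᵒᵖ ⥤ Type w)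
    (hF : Presieve.IsSheaf (HTop.Jh S) F) {E Z X' X : Over S} (e : E ⟶ X') (π : E ⟶ Z)
    (b : X' ⟶ X) (i : Z ⟶ X)
    (h : HTop.IsAlmostBlowUpSquare e.left π.left b.left i.left) (t : F.obj (op Z))
    (s' : F.obj (op X')) (hts : F.map π.op t = F.map e.op s') :
    ∃! s : F.obj (op X), F.map i.op s = t ∧ F.map b.op s = s' := by
  haveI hci : IsClosedImmersion i.left := h.isClosedImmersion
  haveI hfi : LocallyOfFinitePresentation i.left := h.finitePresentation_base
  haveI hpb : IsProper b.left := h.isProper
  haveI hfb : LocallyOfFinitePresentation b.left := h.finitePresentation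
  -- the family `{i, b}` is an h covering
  have hcov1 : HTop.IsHCover (pairCover S i b) := by
    refine isHCover_pairCover S i b inferInstance hfi hpb hfb ?_
    intro x
    by_cases hx : x ∈ i.left.ker.support
    · left
      exact (range_eq_support_ker i.left x).1 hx
    · right
      exact mem_range_of_not_mem_support i.left.ker b.left h.isBlowUp x hx
  obtain ⟨hsep, hglue⟩ := pair_sheaf S hF i b hcov1
  -- compatibility on `Z ×_X Z`
  have hZZ : ∀ (Y : Over S) (g g' : Y ⟶ Z), g ≫ i = g' ≫ i → F.map g.op t = F.map g'.op t := by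
    intro Y g g' hg
    haveI : Mono i := (Over.forget S).mono_of_mono_map (inferInstanceAs (Mono i.left))
    rw [(cancel_mono i).1 hg]
  -- compatibility on `Z ×_X X'`
  have hZX : ∀ (Y : Over S) (g : Y ⟶ Z) (g' : Y ⟶ X'), g ≫ i = g' ≫ b →
      F.map g.op t = F.map g'.op s' := by
    intro Y g g' hg
    have hgl : g'.left ≫ b.left = g.left ≫ i.left := by
      have := congrArg CommaMorphism.left hg
      exact this.symm
    obtain ⟨k, hke, hkπ⟩ : ∃ k : Y ⟶ E, k ≫ e = g' ∧ k ≫ π = g := by
      refine ⟨Over.homMk (h.isPullback.lift g'.left g.left hgl) ?_, ?_, ?_⟩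
      · rw [← Over.w e, ← Category.assoc, h.isPullback.lift_fst, Over.w g']
      · apply Over.OverMorphism.ext
        change h.isPullback.lift g'.left g.left hgl ≫ e.left = g'.left
        exact h.isPullback.lift_fst _ _ _
      · apply Over.OverMorphism.ext
        change h.isPullback.lift g'.left g.left hgl ≫ π.left = g.left
        exact h.isPullback.lift_snd _ _ _
    rw [← hkπ, ← hke, map_op_comp_apply, map_op_comp_apply, hts]
  -- compatibility on `X' ×_X X'`
  have hXX : ∀ (Y : Over S) (g g' : Y ⟶ X'), g ≫ b = g' ≫ b →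
      F.map g.op s' = F.map g'.op s' := by
    intro Y g g' hg
    have hgl : g.left ≫ b.left = g'.left ≫ b.left := congrArg CommaMorphism.left hg
    let P : Over S := Over.mk (pullback.fst b.left b.left ≫ X'.hom)
    let p₁ : P ⟶ X' := Over.homMk (pullback.fst b.left b.left) rfl
    have hp₂ : pullback.snd b.left b.left ≫ X'.hom = pullback.fst b.left b.left ≫ X'.hom := by
      rw [← Over.w b, ← Category.assoc, ← Category.assoc, pullback.condition]
    let p₂ : P ⟶ X' := Over.homMk (pullback.snd b.left b.left) hp₂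
    obtain ⟨m, hm₁, hm₂⟩ : ∃ m : Y ⟶ P, m ≫ p₁ = g ∧ m ≫ p₂ = g' := by
      refine ⟨Over.homMk (pullback.lift g.left g'.left hgl) ?_, ?_, ?_⟩
      · change pullback.lift g.left g'.left hgl ≫ pullback.fst b.left b.left ≫ X'.hom = Y.hom
        rw [← Category.assoc, pullback.lift_fst, Over.w g]
      · apply Over.OverMorphism.ext
        change pullback.lift g.left g'.left hgl ≫ pullback.fst b.left b.left = g.left
        exact pullback.lift_fst _ _ _
      · apply Over.OverMorphism.ext
        change pullback.lift g.left g'.left hgl ≫ pullback.snd b.left b.left = g'.left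
        exact pullback.lift_snd _ _ _
    suffices hP : F.map p₁.op s' = F.map p₂.op s' by
      rw [← hm₁, ← hm₂, map_op_comp_apply, map_op_comp_apply, hP]
    -- the covering of `X' ×_X X'` by the diagonal and the part over `Z`
    let Δ : X' ⟶ P := Over.homMk (pullback.diagonal b.left) (by
      change pullback.diagonal b.left ≫ pullback.fst b.left b.left ≫ X'.hom = X'.hom
      rw [← Category.assoc, pullback.diagonal_fst, Category.id_comp])
    let Q : Over S :=
      Over.mk (pullback.fst (pullback.fst b.left b.left ≫ b.left) i.left ≫ P.hom)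
    let ε : Q ⟶ P := Over.homMk (pullback.fst (pullback.fst b.left b.left ≫ b.left) i.left) rfl
    have hΔ₁ : Δ ≫ p₁ = 𝟙 X' := by
      apply Over.OverMorphism.ext
      change pullback.diagonal b.left ≫ pullback.fst b.left b.left = 𝟙 X'.left
      exact pullback.diagonal_fst _
    have hΔ₂ : Δ ≫ p₂ = 𝟙 X' := by
      apply Over.OverMorphism.ext
      change pullback.diagonal b.left ≫ pullback.snd b.left b.left = 𝟙 X'.left
      exact pullback.diagonal_snd _
    have hcov2 : HTop.IsHCover (pairCover S Δ ε) := by
      have hΔp : IsProper Δ.left := by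
        change IsProper (pullback.diagonal b.left)
        infer_instance
      have hΔf : LocallyOfFinitePresentation Δ.left := by
        change LocallyOfFinitePresentation (pullback.diagonal b.left)
        haveI : LocallyOfFinitePresentation
            (pullback.diagonal b.left ≫ pullback.fst b.left b.left) := by
          rw [pullback.diagonal_fst]
          infer_instance
        exact Groth.Agent.Lib.Helper50.locallyOfFinitePresentation_of_comp
          (pullback.diagonal b.left) (pullback.fst b.left b.left)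
      have hεp : IsProper ε.left := by
        change IsProper (pullback.fst (pullback.fst b.left b.left ≫ b.left) i.left)
        infer_instance
      have hεf : LocallyOfFinitePresentation ε.left := by
        change LocallyOfFinitePresentation
          (pullback.fst (pullback.fst b.left b.left ≫ b.left) i.left)
        infer_instance
      refine isHCover_pairCover S Δ ε hΔp hΔf hεp hεf ?_
      intro x
      change ↑(pullback b.left b.left) at x
      by_cases hx : (pullback.fst b.left b.left ≫ b.left) x ∈ i.left.ker.support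
      · right
        change x ∈ Set.range (pullback.fst (pullback.fst b.left b.left ≫ b.left) i.left)
        rw [Scheme.Pullback.range_fst]
        exact (range_eq_support_ker i.left _).1 hx
      · left
        change x ∈ Set.range (pullback.diagonal b.left)
        exact mem_range_diagonal i.left.ker b.left h.isBlowUp x hx
    obtain ⟨hsep2, -⟩ := pair_sheaf S hF Δ ε hcov2
    apply hsep2
    · rw [← map_op_comp_apply, ← map_op_comp_apply, hΔ₁, hΔ₂]
    · have hc₁ : (ε.left ≫ p₁.left) ≫ b.left =
          pullback.snd (pullback.fst b.left b.left ≫ b.left) i.left ≫ i.left := by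
        change (pullback.fst (pullback.fst b.left b.left ≫ b.left) i.left ≫
          pullback.fst b.left b.left) ≫ b.left = _
        rw [Category.assoc]
        exact pullback.condition
      have hc₂ : (ε.left ≫ p₂.left) ≫ b.left =
          pullback.snd (pullback.fst b.left b.left ≫ b.left) i.left ≫ i.left := by
        change (pullback.fst (pullback.fst b.left b.left ≫ b.left) i.left ≫
          pullback.snd b.left b.left) ≫ b.left = _
        rw [Category.assoc, ← pullback.condition (f := b.left) (g := b.left)]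
        exact pullback.condition
      obtain ⟨q₁, hq₁e, hq₁π⟩ : ∃ q : Q ⟶ E, q ≫ e = ε ≫ p₁ ∧
          q.left ≫ π.left = pullback.snd (pullback.fst b.left b.left ≫ b.left) i.left := by
        refine ⟨Over.homMk (h.isPullback.lift (ε.left ≫ p₁.left) _ hc₁) ?_, ?_, ?_⟩
        · rw [← Over.w e, ← Category.assoc, h.isPullback.lift_fst]
          rfl
        · apply Over.OverMorphism.ext
          change h.isPullback.lift (ε.left ≫ p₁.left) _ hc₁ ≫ e.left = ε.left ≫ p₁.left
          exact h.isPullback.lift_fst _ _ _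
        · change h.isPullback.lift (ε.left ≫ p₁.left) _ hc₁ ≫ π.left = _
          exact h.isPullback.lift_snd _ _ _
      obtain ⟨q₂, hq₂e, hq₂π⟩ : ∃ q : Q ⟶ E, q ≫ e = ε ≫ p₂ ∧
          q.left ≫ π.left = pullback.snd (pullback.fst b.left b.left ≫ b.left) i.left := by
        refine ⟨Over.homMk (h.isPullback.lift (ε.left ≫ p₂.left) _ hc₂) ?_, ?_, ?_⟩
        · rw [← Over.w e, ← Category.assoc, h.isPullback.lift_fst]
          change (pullback.fst (pullback.fst b.left b.left ≫ b.left) i.left ≫
            pullback.snd b.left b.left) ≫ X'.hom = pullback.fst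
              (pullback.fst b.left b.left ≫ b.left) i.left ≫ pullback.fst b.left b.left ≫ X'.hom
          rw [Category.assoc, hp₂]
        · apply Over.OverMorphism.ext
          change h.isPullback.lift (ε.left ≫ p₂.left) _ hc₂ ≫ e.left = ε.left ≫ p₂.left
          exact h.isPullback.lift_fst _ _ _
        · change h.isPullback.lift (ε.left ≫ p₂.left) _ hc₂ ≫ π.left = _
          exact h.isPullback.lift_snd _ _ _
      have hqπ : q₁ ≫ π = q₂ ≫ π := by
        apply Over.OverMorphism.ext
        change q₁.left ≫ π.left = q₂.left ≫ π.left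
        rw [hq₁π, hq₂π]
      calc F.map ε.op (F.map p₁.op s') = F.map (ε ≫ p₁).op s' := (map_op_comp_apply F _ _ _).symm
        _ = F.map (q₁ ≫ e).op s' := by rw [hq₁e]
        _ = F.map q₁.op (F.map e.op s') := map_op_comp_apply F _ _ _
        _ = F.map q₁.op (F.map π.op t) := by rw [hts]
        _ = F.map (q₁ ≫ π).op t := (map_op_comp_apply F _ _ _).symm
        _ = F.map (q₂ ≫ π).op t := by rw [hqπ]
        _ = F.map q₂.op (F.map π.op t) := map_op_comp_apply F _ _ _
        _ = F.map q₂.op (F.map e.op s') := by rw [hts]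
        _ = F.map (q₂ ≫ e).op s' := (map_op_comp_apply F _ _ _).symm
        _ = F.map (ε ≫ p₂).op s' := by rw [hq₂e]
        _ = F.map ε.op (F.map p₂.op s') := map_op_comp_apply F _ _ _
  obtain ⟨s, hs1, hs2⟩ := hglue t s' hZZ hZX hXX
  refine ⟨s, ⟨hs1, hs2⟩, ?_⟩
  rintro s₂ ⟨h1, h2⟩
  exact hsep _ _ (h1.trans hs1.symm) (h2.trans hs2.symm)

end Groth.Agent.Lib.Helper16.AlmostBlowUp
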