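import Mathlib

set_option autoImplicit false

namespace Groth.Agent.Lib.Helper16.BCAbs

open CategoryTheory Functor

variable {KT KS KY KX KZ KW DT DS DY DX DZ DW : Type*}
  [Category KT] [Category KS] [Category KY] [Category KX] [Category KZ] [Category KW]
  [Category DT] [Category DS] [Category DY] [Category DX] [Category DZ] [Category DW]
  {QT : KT ⥤ DT} {QS : KS ⥤ DS} {QY : KY ⥤ DY} {QX : KX ⥤ DX} {QZ : KZ ⥤ DZ} {QW : KW ⥤ DW}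
  {gk : KT ⥤ KS} {hk : KY ⥤ KX} {jk : KZ ⥤ KW} {fk : KX ⥤ KS} {ik : KW ⥤ KX} {ifk : KW ⥤ KS}
  {ek : KT ⥤ KY} {kk : KY ⥤ KZ} {kek : KT ⥤ KZ}
  {Rg : DT ⥤ DS} {Rh : DY ⥤ DX} {Rj : DZ ⥤ DW} {Rf : DX ⥤ DS} {Ri : DW ⥤ DX} {Rif : DW ⥤ DS}
  {Pe : DT ⥤ DY} {Pk : DY ⥤ DZ} {Pke : DT ⥤ DZ}
  (αg : gk ⋙ QS ⟶ QT ⋙ Rg) (αh : hk ⋙ QX ⟶ QY ⋙ Rh) (αj : jk ⋙ QW ⟶ QZ ⋙ Rj)
  (αf : fk ⋙ QS ⟶ QX ⋙ Rf) (αi : ik ⋙ QX ⟶ QW ⋙ Ri) (αif : ifk ⋙ QS ⟶ QW ⋙ Rif)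
  (face : QT ⋙ Pe ≅ ek ⋙ QY) (fack : QY ⋙ Pk ≅ kk ⋙ QZ) (facke : QT ⋙ Pke ≅ kek ⋙ QZ)
  (pp₁ : gk ⟶ ek ⋙ hk ⋙ fk) (pp₂ : hk ⟶ kk ⋙ jk ⋙ ik) (pp₃ : gk ⟶ kek ⋙ jk ⋙ ifk)
  (κ : ifk ⟶ ik ⋙ fk) (θk : kek ⟶ ek ⋙ kk) (θD : Pke ⟶ Pe ⋙ Pk)
  (bcA₁ : Rg ⟶ Pe ⋙ Rh ⋙ Rf) (bcA₂ : Rh ⟶ Pk ⋙ Rj ⋙ Ri) (bcA₃ : Rg ⟶ Pke ⋙ Rj ⋙ Rif)
  (c : Rif ⟶ Ri ⋙ Rf)

/-- the left side of the vertical composition identity, as a natural transformation. -/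
def lhsT : Rg ⟶ Pe ⋙ Pk ⋙ Rj ⋙ Ri ⋙ Rf :=
  bcA₃ ≫ whiskerLeft Pke (whiskerLeft Rj c) ≫
    (whiskerRight θD (Rj ⋙ Ri ⋙ Rf) : Pke ⋙ Rj ⋙ Ri ⋙ Rf ⟶ Pe ⋙ Pk ⋙ Rj ⋙ Ri ⋙ Rf)

/-- the right side of the vertical composition identity, as a natural transformation. -/
def rhsT : Rg ⟶ Pe ⋙ Pk ⋙ Rj ⋙ Ri ⋙ Rf :=
  bcA₁ ≫ (whiskerLeft Pe (whiskerRight bcA₂ Rf) : Pe ⋙ Rh ⋙ Rf ⟶ Pe ⋙ Pk ⋙ Rj ⋙ Ri ⋙ Rf)

lemma lhsT_app (K : DT) : (lhsT θD bcA₃ c).app K =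
    bcA₃.app K ≫ c.app (Rj.obj (Pke.obj K)) ≫ Rf.map (Ri.map (Rj.map (θD.app K))) := rfl

lemma rhsT_app (K : DT) : (rhsT bcA₁ bcA₂).app K =
    bcA₁.app K ≫ Rf.map (bcA₂.app (Pe.obj K)) := rfl

variable [Rg.IsLeftKanExtension αg]

include αg in
theorem vcomp
    (H1 : ∀ M : KT, αg.app M ≫ bcA₁.app (QT.obj M) =
      QS.map (pp₁.app M) ≫ αf.app (hk.obj (ek.obj M)) ≫ Rf.map (αh.app (ek.obj M)) ≫
        Rf.map (Rh.map (face.inv.app M)))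
    (H2 : ∀ M' : KY, αh.app M' ≫ bcA₂.app (QY.obj M') =
      QX.map (pp₂.app M') ≫ αi.app (jk.obj (kk.obj M')) ≫ Ri.map (αj.app (kk.obj M')) ≫
        Ri.map (Rj.map (fack.inv.app M')))
    (H3 : ∀ M : KT, αg.app M ≫ bcA₃.app (QT.obj M) =
      QS.map (pp₃.app M) ≫ αif.app (jk.obj (kek.obj M)) ≫ Rif.map (αj.app (kek.obj M)) ≫
        Rif.map (Rj.map (facke.inv.app M)))
    (Hc : ∀ N : KW, αif.app N ≫ c.app (QW.obj N) =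
      QS.map (κ.app N) ≫ αf.app (ik.obj N) ≫ Rf.map (αi.app N))
    (Hθ : ∀ M : KT, facke.inv.app M ≫ θD.app (QT.obj M) =
      QZ.map (θk.app M) ≫ fack.inv.app (ek.obj M) ≫ Pk.map (face.inv.app M))
    (HK : ∀ M : KT, pp₃.app M ≫ κ.app (jk.obj (kek.obj M)) ≫
        fk.map (ik.map (jk.map (θk.app M))) = pp₁.app M ≫ fk.map (pp₂.app (ek.obj M)))
    (K : DT) :
    bcA₃.app K ≫ c.app (Rj.obj (Pke.obj K)) ≫ Rf.map (Ri.map (Rj.map (θD.app K))) =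
      bcA₁.app K ≫ Rf.map (bcA₂.app (Pe.obj K)) := by
  suffices h : lhsT θD bcA₃ c = rhsT bcA₁ bcA₂ by
    have := NatTrans.congr_app h K
    rwa [lhsT_app, rhsT_app] at this
  apply Rg.hom_ext_of_isLeftKanExtension αg
  ext M
  rw [NatTrans.comp_app, NatTrans.comp_app, whiskerLeft_app, whiskerLeft_app, lhsT_app, rhsT_app]
  -- left side
  have hc1 := c.naturality (αj.app (kek.obj M))
  have hc2 := c.naturality (Rj.map (facke.inv.app M))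
  have hθ := congrArg (fun t => Rf.map (Ri.map (Rj.map t))) (Hθ M)
  have nj := αj.naturality (θk.app M)
  have ni := αi.naturality (jk.map (θk.app M))
  have nf := αf.naturality (ik.map (jk.map (θk.app M)))
  have hK := congrArg (fun t => QS.map t) (HK M)
  -- right side
  have n2 := bcA₂.naturality (face.inv.app M)
  have h2 := congrArg (fun t => Rf.map t) (H2 (ek.obj M))
  have nf' := αf.naturality (pp₂.app (ek.obj M))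
  dsimp at hc1 hc2 hθ nj ni nf hK n2 h2 nf'
  simp only [Functor.map_comp] at hθ hK h2
  have nj' := congrArg (fun t => Rf.map (Ri.map t)) nj
  have ni' := congrArg (fun t => Rf.map t) ni
  have n2' := congrArg (fun t => Rf.map t) n2
  simp only [Functor.map_comp] at nj' ni' n2'
  calc αg.app M ≫ bcA₃.app (QT.obj M) ≫ c.app (Rj.obj (Pke.obj (QT.obj M))) ≫
        Rf.map (Ri.map (Rj.map (θD.app (QT.obj M))))
      = QS.map (pp₁.app M) ≫ QS.map (fk.map (pp₂.app (ek.obj M))) ≫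
          αf.app (ik.obj (jk.obj (kk.obj (ek.obj M)))) ≫
          Rf.map (αi.app (jk.obj (kk.obj (ek.obj M)))) ≫
          Rf.map (Ri.map (αj.app (kk.obj (ek.obj M)))) ≫
          Rf.map (Ri.map (Rj.map (fack.inv.app (ek.obj M)))) ≫
          Rf.map (Ri.map (Rj.map (Pk.map (face.inv.app M)))) := by
        rw [reassoc_of% (H3 M), reassoc_of% hc2, reassoc_of% hc1, reassoc_of% (Hc _), hθ,
          ← reassoc_of% nj', ← reassoc_of% ni', ← reassoc_of% nf, reassoc_of% hK]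
    _ = αg.app M ≫ bcA₁.app (QT.obj M) ≫ Rf.map (bcA₂.app (Pe.obj (QT.obj M))) := by
        rw [reassoc_of% (H1 M), n2', reassoc_of% h2, ← reassoc_of% nf']

end Groth.Agent.Lib.Helper16.BCAbs
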