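import Mathlib
import Groth.Agent.Lib.Helper21.RelFPSch

/-!
# A basis of sections of a quasi-coherent module restricts to a basis over a basic open
(sub-lemma R4 for helper94, S15899)
-/

set_option autoImplicit false
universe u

open AlgebraicGeometry CategoryTheory Opposite TopologicalSpace

namespace Groth.Agent.Lib.Helper16.BasisBasicOpen

open Groth.Agent.Lib.Helper21.RelFPSch

theorem exists_basis_basicOpen {X : Scheme.{u}} (n : ℕ) (E : X.Modules) [E.IsQuasicoherent]
    (U : X.affineOpens) (b : Module.Basis (Fin n) Γ(X, U.1) Γ(E, U.1)) (g : Γ(X, U.1)) :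
    ∃ b' : Module.Basis (Fin n) Γ(X, X.basicOpen g) Γ(E, X.basicOpen g),
      ∀ k, b' k = E.val.map (homOfLE (X.basicOpen_le g)).op (b k) := by
  letI iM : Module Γ(X, U.1) Γ(E, X.basicOpen g) :=
    Module.compHom _ (resRing X (X.basicOpen_le g))
  haveI hloc : IsLocalizedModule (Submonoid.powers g) (resL E (X.basicOpen_le g)) :=
    isLocalizedModule_resL E U.2 g
  haveI hR : IsLocalization (Submonoid.powers g) Γ(X, X.basicOpen g) :=
    U.2.isLocalization_basicOpen g
  haveI hT : IsScalarTower Γ(X, U.1) Γ(X, X.basicOpen g) Γ(E, X.basicOpen g) :=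
    IsScalarTower.of_algebraMap_smul fun _ _ => rfl
  refine ⟨b.ofIsLocalizedModule Γ(X, X.basicOpen g) (Submonoid.powers g)
    (resL E (X.basicOpen_le g)), fun k => ?_⟩
  rw [Module.Basis.ofIsLocalizedModule_apply]
  rfl

end Groth.Agent.Lib.Helper16.BasisBasicOpen
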