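import Groth.Agent.Lib.Helper13.Beil.Defs
set_option autoImplicit false
universe w u u₁ v₁ u₂ v₂
open CategoryTheory CategoryTheory.Limits CategoryTheory.Pretriangulated Opposite
open Groth.Agent.Lib.Helper13.Beil Groth.Agent.Lib.Helper40.Cpt

namespace Groth.Agent.Lib.Helper16.BeilT0

section Plain

variable {D : Type u₁} [Category.{v₁} D] [Preadditive D] (K : D) {J : Type u} [DecidableEq J]
  (Y : J → D) [HasCoproduct Y]

/-- `FinSum` decompositions are given by the projections. -/
theorem exists_finset_of_finSum (m : K ⟶ ∐ Y) (h : FinSum K (Sigma.ι Y) m) :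
    ∃ F : Finset J, (∀ i, i ∉ F → m ≫ Sigma.π Y i = 0) ∧
      m = ∑ i ∈ F, (m ≫ Sigma.π Y i) ≫ Sigma.ι Y i := by
  obtain ⟨F, g, hg0, hg⟩ := h
  have key : ∀ i, m ≫ Sigma.π Y i = g i := by
    intro i
    rw [hg, Preadditive.sum_comp]
    simp only [Category.assoc]
    by_cases hi : i ∈ F
    · rw [Finset.sum_eq_single i]
      · rw [Sigma.ι_π_eq_id, Category.comp_id]
      · intro j _ hji
        rw [Sigma.ι_π_of_ne _ hji, comp_zero]
      · intro hni
        exact absurd hi hni
    · rw [hg0 i hi]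
      apply Finset.sum_eq_zero
      intro j hj
      have hji : j ≠ i := fun e => hi (e ▸ hj)
      rw [Sigma.ι_π_of_ne _ hji, comp_zero]
  refine ⟨F, fun i hi => by rw [key, hg0 i hi], ?_⟩
  simp only [key]
  exact hg

variable {A : Type*} [AddCommGroup A] (ψ : ∀ i, (K ⟶ Y i) →+ A)
  (hfin : ∀ m : K ⟶ ∐ Y, FinSum K (Sigma.ι Y) m)

include hfin in
theorem support_finite (m : K ⟶ ∐ Y) :
    (Function.support fun i => ψ i (m ≫ Sigma.π Y i)).Finite := by
  obtain ⟨F, hF, -⟩ := exists_finset_of_finSum K Y m (hfin m)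
  refine F.finite_toSet.subset ?_
  intro i hi
  by_contra hiF
  exact hi (by simp only [hF i hiF, map_zero])

/-- the induced map out of `Hom(K, ∐ Y)`. -/
noncomputable def descHom : (K ⟶ ∐ Y) →+ A where
  toFun m := ∑ᶠ i, ψ i (m ≫ Sigma.π Y i)
  map_zero' := by simp
  map_add' m m' := by
    simp only [Preadditive.add_comp, map_add]
    exact finsum_add_distrib (support_finite K Y ψ hfin m) (support_finite K Y ψ hfin m')

theorem descHom_ι (j : J) (x : K ⟶ Y j) :
    descHom K Y ψ hfin (x ≫ Sigma.ι Y j) = ψ j x := by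
  change ∑ᶠ i, ψ i ((x ≫ Sigma.ι Y j) ≫ Sigma.π Y i) = ψ j x
  rw [finsum_eq_single _ j]
  · rw [Category.assoc, Sigma.ι_π_eq_id, Category.comp_id]
  · intro i hi
    rw [Category.assoc, Sigma.ι_π_of_ne _ hi.symm, comp_zero, map_zero]

theorem descHom_unique (χ : (K ⟶ ∐ Y) →+ A)
    (hχ : ∀ (j : J) (x : K ⟶ Y j), χ (x ≫ Sigma.ι Y j) = ψ j x) :
    χ = descHom K Y ψ hfin := by
  ext m
  obtain ⟨F, hF, hm⟩ := exists_finset_of_finSum K Y m (hfin m)
  change χ m = ∑ᶠ i, ψ i (m ≫ Sigma.π Y i)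
  rw [finsum_eq_sum_of_support_subset (s := F)]
  · conv_lhs => rw [hm]
    rw [map_sum]
    exact Finset.sum_congr rfl (fun i _ => hχ i _)
  · intro i hi
    by_contra hiF
    exact hi (by simp only [hF i (by simpa using hiF), map_zero])

end Plain

theorem preserves_of_finSum {D : Type u₁} [Category.{v₁} D] [Preadditive D] (K : D) (J : Type u)
    [HasCoproductsOfShape J D] (h : ∀ (Y : J → D) (m : K ⟶ ∐ Y), FinSum K (Sigma.ι Y) m) :
    PreservesColimitsOfShape (Discrete J) (preadditiveCoyoneda.obj (op K)) := by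
  classical
  suffices hY : ∀ Y : J → D,
      PreservesColimit (Discrete.functor Y) (preadditiveCoyoneda.obj (op K)) from
    ⟨fun {G} => preservesColimit_of_iso_diagram _ (Discrete.natIsoFunctor (F := G)).symm⟩
  intro Y
  refine preservesColimit_of_preserves_colimit_cocone (colimit.isColimit (Discrete.functor Y)) ?_
  refine
    { desc := fun s => AddCommGrpCat.ofHom (descHom K Y
        (fun i => (show (K ⟶ Y i) →+ s.pt from (s.ι.app ⟨i⟩).hom)) (h Y))
      fac := ?_
      uniq := ?_ }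
  · rintro s ⟨j⟩
    ext x
    exact descHom_ι K Y _ (h Y) j x
  · intro s m' hm'
    ext1
    refine descHom_unique K Y _ (h Y) (show (K ⟶ ∐ Y) →+ s.pt from m'.hom) ?_
    intro j x
    have := hm' ⟨j⟩
    exact congrArg (fun q => q.hom x) this

end Groth.Agent.Lib.Helper16.BeilT0
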