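import Mathlib.Data.Nat.Choose.Vandermonde
import Mathlib.Algebra.BigOperators.Fin
import Mathlib.Algebra.Field.Basic

/-!
# Independence of truncated rows of binomial coefficients (helper16)

For `j 0 < j 1 < ⋯ < j N`, the rows `((j r).choose i)`, `0 ≤ i ≤ j N - j 0`, are linearly independent
over any field (of any characteristic).
-/

set_option autoImplicit false

namespace Groth.Agent.Lib.Helper16.BinomIndep

open Finset

variable {k : Type*} [Field k]

theorem binom_indep {N : ℕ} (j : Fin (N + 1) → ℕ) (hj : StrictMono j) (y : Fin (N + 1) → k)
    (h : ∀ i, i ≤ j (Fin.last N) - j 0 → ∑ r, y r * ((j r).choose i : k) = 0) : y = 0 := by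
  classical
  set d : Fin (N + 1) → ℕ := fun r => j r - j 0 with hd
  have hj0 : ∀ r, j 0 ≤ j r := fun r => hj.monotone (Fin.zero_le r)
  have hjd : ∀ r, j r = j 0 + d r := fun r => by simp only [d]; have := hj0 r; omega
  have hdmono : StrictMono d := by
    intro r r' hrr'
    have := hj hrr'
    have h1 := hj0 r
    have h2 := hj0 r'
    simp only [d]; omega
  set M := j (Fin.last N) - j 0 with hM
  have hdM : ∀ r, d r ≤ M := by
    intro r
    have := hj.monotone (Fin.le_last r)
    simp only [d, M]; omega
  -- Step A: reduce to the shifted exponents
  have hA : ∀ i, i ≤ M → ∑ r, y r * ((d r).choose i : k) = 0 := by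
    intro i
    induction i using Nat.strong_induction_on with
    | _ i ih =>
      intro hi
      have h1 := h i hi
      have h2 : ∑ r, y r * ((j r).choose i : k) =
          ∑ p ∈ antidiagonal i, ((j 0).choose p.1 : k) * ∑ r, y r * ((d r).choose p.2 : k) := by
        simp only [Finset.mul_sum]
        rw [Finset.sum_comm]
        refine Finset.sum_congr rfl fun r _ => ?_
        rw [hjd r, Nat.add_choose_eq]
        push_cast
        rw [Finset.mul_sum]
        refine Finset.sum_congr rfl fun p _ => ?_
        ring
      rw [h2] at h1
      rw [Finset.sum_eq_single (0, i)] at h1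
      · simpa using h1
      · intro p hp hne
        rw [mem_antidiagonal] at hp
        have hlt : p.2 < i := by
          rcases Nat.lt_or_ge p.2 i with h' | h'
          · exact h'
          · exfalso
            apply hne
            ext <;> simp <;> omega
        rw [ih p.2 hlt (by omega), mul_zero]
      · intro hnot
        exact absurd (mem_antidiagonal.mpr (by simp)) hnot
  -- Step B: triangular system
  have hB : ∀ s : ℕ, ∀ r : Fin (N + 1), N - r.val = s → y r = 0 := by
    intro s
    induction s using Nat.strong_induction_on with
    | _ s ih =>
      intro r hr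
      have h1 := hA (d r) (hdM r)
      rw [Finset.sum_eq_single r] at h1
      · simpa using h1
      · intro r' _ hne
        rcases lt_or_gt_of_ne hne with hlt | hgt
        · rw [Nat.choose_eq_zero_of_lt (hdmono hlt), Nat.cast_zero, mul_zero]
        · have hr' : r.val < r'.val := hgt
          have : r'.val ≤ N := Nat.lt_succ_iff.mp r'.2
          rw [ih (N - r'.val) (by omega) r' rfl, zero_mul]
      · intro hnot
        exact absurd (Finset.mem_univ r) hnot
  funext r
  exact hB _ r rfl

end Groth.Agent.Lib.Helper16.BinomIndep
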