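import Mathlib
import Groth.Prelude.Def_CAlgX

/-!
# A determinant with `t` rows taken from `Z` lies in the ideal of `t × t` minors of `Z` (helper16)
-/

namespace Groth.Agent.Lib.Helper16.MinorLaplace

open Matrix

variable {R : Type*} [CommRing R] {m' n' : Type} [Fintype m'] [Fintype n']

/-- Generalised Laplace expansion, ideal-theoretic form: if `t` distinct rows of the square
matrix `M` are rows of `Z` (read through a column map `γ`), then `det M` lies in the ideal of
`t × t` minors of `Z`. -/
theorem det_mem_minorIdeal (Z : Matrix m' n' R) (t : ℕ) :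
    ∀ (N : ℕ) (M : Matrix (Fin N) (Fin N) R) (ι : Fin t → Fin N) (_ : Function.Injective ι)
      (ρ : Fin t → m') (γ : Fin N → n') (_ : ∀ a j, M (ι a) j = Z (ρ a) (γ j)),
      M.det ∈ CAlgX.minorIdeal Z t := by
  intro N
  induction N with
  | zero =>
    intro M ι hι ρ γ h
    have hsurj : Function.Surjective ι := fun x => x.elim0
    let e : Fin t ≃ Fin 0 := Equiv.ofBijective ι ⟨hι, hsurj⟩
    rw [← det_submatrix_equiv_self e M]
    apply Ideal.subset_span
    refine ⟨(ρ, γ ∘ e), ?_⟩
    have hmat : Z.submatrix ρ (γ ∘ e) = M.submatrix e e := by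
      ext a b
      simp only [submatrix_apply, Function.comp_apply]
      exact (h a (e b)).symm
    exact congrArg det hmat
  | succ N ih =>
    intro M ι hι ρ γ h
    by_cases hsurj : Function.Surjective ι
    · let e : Fin t ≃ Fin (N + 1) := Equiv.ofBijective ι ⟨hι, hsurj⟩
      rw [← det_submatrix_equiv_self e M]
      apply Ideal.subset_span
      refine ⟨(ρ, γ ∘ e), ?_⟩
      have hmat : Z.submatrix ρ (γ ∘ e) = M.submatrix e e := by
        ext a b
        simp only [submatrix_apply, Function.comp_apply]
        exact (h a (e b)).symm
      exact congrArg det hmat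
    · rw [Function.Surjective] at hsurj
      push Not at hsurj
      obtain ⟨i₀, hi₀⟩ := hsurj
      rw [det_succ_row M i₀]
      apply Ideal.sum_mem
      intro j _
      apply Ideal.mul_mem_left
      have hex : ∀ a, ∃ z, i₀.succAbove z = ι a := fun a =>
        Fin.exists_succAbove_eq (hi₀ a)
      choose ι' hι' using hex
      apply ih (M.submatrix i₀.succAbove j.succAbove) ι' ?_ ρ (γ ∘ j.succAbove)
      · intro a b
        simp only [submatrix_apply, hι', Function.comp_apply]
        exact h a _
      · intro a b hab
        apply hι
        rw [← hι', ← hι', hab]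

end Groth.Agent.Lib.Helper16.MinorLaplace
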