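import Mathlib
import Groth.Prelude.Def_CAlgX
import Groth.Prelude.Def_W4bk4grassmannianPl
import Groth.Agent.Lib.Helper16.MinorLaplace

/-!
# Minors of `[I_d ; Z]` versus minors of `Z` (helper16)
-/

namespace Groth.Agent.Lib.Helper16.CellMinor

open Matrix W4bk4grassmannian

universe u
variable (K : Type u) [CommRing K] (d r t : ℕ)

/-- Direction `⊆`: a cell minor on rows `θ` with `θ_{d-t} ≥ d` is in the ideal of `t`-minors. -/
theorem cellMinor_mem (hd : 0 < d) (ht : 0 < t) (htd : t ≤ d) (θ : Idx d (d + r))
    (hθ : d ≤ (θ.1 ⟨d - t, Nat.sub_lt hd ht⟩).val) :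
    cellMinor K d r θ ∈ CAlgX.minorIdeal (genMatrix K r d) t := by
  unfold cellMinor
  have hge : ∀ a : Fin t, d ≤ (θ.1 ⟨d - t + a.val, by have := a.isLt; omega⟩).val := by
    intro a
    refine le_trans hθ ?_
    have : (⟨d - t, Nat.sub_lt hd ht⟩ : Fin d) ≤ ⟨d - t + a.val, by have := a.isLt; omega⟩ := by
      rw [Fin.le_def]
      simp
    exact θ.2.monotone this
  refine MinorLaplace.det_mem_minorIdeal (genMatrix K r d) t d _
    (fun a => ⟨d - t + a.val, by have := a.isLt; omega⟩) ?_
    (fun a => ⟨(θ.1 ⟨d - t + a.val, by have := a.isLt; omega⟩).val - d, by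
      have := (θ.1 ⟨d - t + a.val, by have := a.isLt; omega⟩).isLt
      have := hge a
      omega⟩) id ?_
  · intro a b hab
    simp only [Fin.mk.injEq] at hab
    exact Fin.ext (by omega)
  · intro a j
    simp only [submatrix_apply, id_eq, cellMatrix, of_apply, genMatrix]
    rw [dif_neg (by have := hge a; omega)]

theorem exists_sort {α : Type*} [LinearOrder α] {t : ℕ} (f : Fin t → α)
    (hf : Function.Injective f) :
    ∃ (f' : Fin t → α) (π : Equiv.Perm (Fin t)), StrictMono f' ∧ f = f' ∘ π := by
  classical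
  set S : Finset α := Finset.univ.image f with hSdef
  have hS : S.card = t := by
    rw [hSdef, Finset.card_image_of_injective _ hf]
    simp
  have hmem : ∀ a, f a ∈ Set.range (S.orderEmbOfFin hS) := by
    intro a
    rw [Finset.range_orderEmbOfFin]
    exact Finset.mem_coe.mpr (Finset.mem_image_of_mem f (Finset.mem_univ a))
  choose π hπ using hmem
  have hπinj : Function.Injective π := fun a b hab => hf (by rw [← hπ a, ← hπ b, hab])
  refine ⟨S.orderEmbOfFin hS, Equiv.ofBijective π (Finite.injective_iff_bijective.mp hπinj),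
    (S.orderEmbOfFin hS).strictMono, ?_⟩
  funext a
  exact (hπ a).symm

/-- Direction `⊇` for strictly increasing rows and injective columns. -/
theorem minor_eq_sign_mul_cellMinor (hd : 0 < d) (ht : 0 < t) (htd : t ≤ d)
    (f' : Fin t → Fin r) (hf' : StrictMono f') (g : Fin t → Fin d) (hg : Function.Injective g) :
    ∃ (θ : Idx d (d + r)) (ε : ℤˣ), d ≤ (θ.1 ⟨d - t, Nat.sub_lt hd ht⟩).val ∧
      ((genMatrix K r d).submatrix f' g).det = (ε : ℤ) * cellMinor K d r θ := by
  classical
  set Cset : Finset (Fin d) := Finset.univ \ Finset.univ.image g with hCdef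
  have hC : Cset.card = d - t := by
    rw [hCdef, Finset.card_sdiff_of_subset (Finset.subset_univ _),
      Finset.card_image_of_injective _ hg]
    simp
  let c := Cset.orderEmbOfFin hC
  have hc_mem : ∀ k, c k ∈ Cset := fun k => Finset.orderEmbOfFin_mem Cset hC k
  have hc_not : ∀ k a, c k ≠ g a := by
    intro k a h
    have := hc_mem k
    rw [hCdef, Finset.mem_sdiff] at this
    exact this.2 (h ▸ Finset.mem_image_of_mem g (Finset.mem_univ a))
  let ψ : Fin (d - t) ⊕ Fin t → Fin (d + r) :=
    Sum.elim (fun k => Fin.castAdd r (c k)) (fun a => Fin.natAdd d (f' a))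
  let colmap : Fin (d - t) ⊕ Fin t → Fin d := Sum.elim c g
  have hcol_inj : Function.Injective colmap := by
    rintro (k | a) (k' | a') h
    · exact congrArg Sum.inl (c.injective h)
    · exact absurd h (hc_not k a')
    · exact absurd h.symm (hc_not k' a)
    · exact congrArg Sum.inr (hg h)
  have hcol_bij : Function.Bijective colmap := by
    rw [Fintype.bijective_iff_injective_and_card]
    refine ⟨hcol_inj, ?_⟩
    simp [Nat.sub_add_cancel htd]
  let e_c : Fin (d - t) ⊕ Fin t ≃ Fin d := Equiv.ofBijective colmap hcol_bij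
  let e_r : Fin (d - t) ⊕ Fin t ≃ Fin d :=
    finSumFinEquiv.trans (finCongr (Nat.sub_add_cancel htd))
  have her_l : ∀ k : Fin (d - t), (e_r (Sum.inl k)).val = k.val := by
    intro k
    simp [e_r]
  have her_r : ∀ a : Fin t, (e_r (Sum.inr a)).val = d - t + a.val := by
    intro a
    simp [e_r]
  have hmono : StrictMono (ψ ∘ e_r.symm) := by
    intro i j hij
    obtain ⟨x, rfl⟩ := e_r.surjective i
    obtain ⟨y, rfl⟩ := e_r.surjective j
    simp only [Function.comp_apply, Equiv.symm_apply_apply]
    rw [Fin.lt_def] at hij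
    rcases x with k | a <;> rcases y with k' | a'
    · rw [her_l, her_l] at hij
      have : c k < c k' := c.strictMono (Fin.lt_def.mpr hij)
      simp only [ψ, Sum.elim_inl, Fin.lt_def, Fin.val_castAdd]
      exact Fin.lt_def.mp this
    · simp only [ψ, Sum.elim_inl, Sum.elim_inr, Fin.lt_def, Fin.val_castAdd, Fin.val_natAdd]
      have := (c k).isLt
      omega
    · rw [her_l, her_r] at hij
      have := k'.isLt
      omega
    · rw [her_r, her_r] at hij
      have : f' a < f' a' := hf' (Fin.lt_def.mpr (by omega))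
      simp only [ψ, Sum.elim_inr, Fin.lt_def, Fin.val_natAdd]
      have := Fin.lt_def.mp this
      omega
  let θ : Idx d (d + r) := ⟨ψ ∘ e_r.symm, hmono⟩
  have hcond : d ≤ (θ.1 ⟨d - t, Nat.sub_lt hd ht⟩).val := by
    have hx : (⟨d - t, Nat.sub_lt hd ht⟩ : Fin d) = e_r (Sum.inr ⟨0, ht⟩) := by
      apply Fin.ext
      rw [her_r]
      simp
    show d ≤ ((ψ ∘ e_r.symm) ⟨d - t, Nat.sub_lt hd ht⟩).val
    rw [hx, Function.comp_apply, Equiv.symm_apply_apply]
    simp [ψ]
  have key1 : (cellMatrix K d r).submatrix ψ e_c =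
      fromBlocks (1 : Matrix (Fin (d - t)) (Fin (d - t)) (CellRing K d r)) 0
        (Matrix.of fun a k => (MvPolynomial.X (f' a, c k) : CellRing K d r))
        ((genMatrix K r d).submatrix f' g) := by
    apply Matrix.ext
    rintro (k | a) (k' | a')
    · simp only [submatrix_apply, fromBlocks_apply₁₁, cellMatrix, of_apply]
      have h1 : (ψ (Sum.inl k)).val < d := by simp [ψ]
      rw [dif_pos h1]
      have h2 : e_c (Sum.inl k') = c k' := rfl
      rw [h2, Matrix.one_apply]
      by_cases hkk : k = k'
      · subst hkk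
        simp [ψ]
      · rw [if_neg hkk, if_neg]
        simp only [ψ, Sum.elim_inl, Fin.val_castAdd]
        intro h
        exact hkk (c.injective (Fin.ext h))
    · simp only [submatrix_apply, fromBlocks_apply₁₂, cellMatrix, of_apply, Matrix.zero_apply]
      have h1 : (ψ (Sum.inl k)).val < d := by simp [ψ]
      rw [dif_pos h1]
      have h2 : e_c (Sum.inr a') = g a' := rfl
      rw [h2, if_neg]
      simp only [ψ, Sum.elim_inl, Fin.val_castAdd]
      intro h
      exact hc_not k a' (Fin.ext h)
    · simp only [submatrix_apply, fromBlocks_apply₂₁, cellMatrix, of_apply]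
      have h1 : ¬ (ψ (Sum.inr a)).val < d := by simp [ψ]
      rw [dif_neg h1]
      have h2 : e_c (Sum.inl k') = c k' := rfl
      rw [h2]
      congr 2
      apply Fin.ext
      simp [ψ]
    · simp only [submatrix_apply, fromBlocks_apply₂₂, cellMatrix, of_apply, genMatrix]
      have h1 : ¬ (ψ (Sum.inr a)).val < d := by simp [ψ]
      rw [dif_neg h1]
      have h2 : e_c (Sum.inr a') = g a' := rfl
      rw [h2]
      congr 2
      apply Fin.ext
      simp [ψ]
  let σ : Equiv.Perm (Fin d) := e_r.symm.trans e_c
  have key2 : ((cellMatrix K d r).submatrix ψ e_c).det =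
      Equiv.Perm.sign σ * cellMinor K d r θ := by
    have h1 : (cellMatrix K d r).submatrix ψ e_c =
        ((((cellMatrix K d r).submatrix θ.1 id).submatrix id σ).submatrix e_r e_r) := by
      ext x y
      simp [θ, σ]
    rw [h1, det_submatrix_equiv_self, det_permute']
    rfl
  refine ⟨θ, Equiv.Perm.sign σ, hcond, ?_⟩
  rw [← key2, key1, det_fromBlocks_zero₁₂, det_one, one_mul]

end Groth.Agent.Lib.Helper16.CellMinor
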