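import Mathlib
import Groth.Agent.Lib.Helper32.ChevDVR.Defs

/-!
# Block diagonal sum of two multiplicative matrices, reindexed by `Fin d`
(sub-lemma CH7 for helper32, S16359)
-/

set_option autoImplicit false
universe u
open TensorProduct
open Groth.Agent.Lib.Helper32.ChevDVR

namespace Groth.Agent.Lib.Helper16.ChevDVR7

theorem exists_fin_matrix (V : Type u) [CommRing V] (A : Type u) [CommRing A] [Bialgebra V A]
    {ι : Type} [Fintype ι] [DecidableEq ι] (s₀ : ι) (c c' : Matrix ι ι A) (n : ℕ)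
    (a a' : Matrix (Fin n) (Fin n) A)
    (hc : ∀ S T, CoalgebraStruct.comul (R := V) (c S T) = ∑ U, c S U ⊗ₜ[V] c U T)
    (hcε : ∀ S T, CoalgebraStruct.counit (R := V) (c S T) = if S = T then 1 else 0)
    (hcc' : c' * c = 1)
    (ha : ∀ i j, CoalgebraStruct.comul (R := V) (a i j) = ∑ l, a i l ⊗ₜ[V] a l j)
    (haε : ∀ i j, CoalgebraStruct.counit (R := V) (a i j) = if i = j then 1 else 0)
    (haa' : a' * a = 1)
    (hgen : Algebra.adjoin V (Set.range (fun p : Fin n × Fin n => a p.1 p.2)) = ⊤)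
    (I : Ideal A) (hI : I = Ideal.span {x | ∃ S, S ≠ s₀ ∧ x = c S s₀}) :
    ∃ (d : ℕ) (hd : 0 < d) (m : Matrix (Fin d) (Fin d) A),
      (∀ i j, CoalgebraStruct.comul (R := V) (m i j) = ∑ l, m i l ⊗ₜ[V] m l j) ∧
      (∀ i j, CoalgebraStruct.counit (R := V) (m i j) = if i = j then 1 else 0) ∧
      (∃ u : A, u * m.det = 1 ∧
        Algebra.adjoin V (Set.range (fun p : Fin d × Fin d => m p.1 p.2) ∪ {u}) = ⊤) ∧
      I = Ideal.span (Set.range (fun i : {i : Fin d // i ≠ ⟨0, hd⟩} => m i.1 ⟨0, hd⟩)) := by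
  classical
  let d : ℕ := Fintype.card (ι ⊕ Fin n)
  have hd : 0 < d := Fintype.card_pos_iff.mpr ⟨Sum.inl s₀⟩
  let σ₀ : Fin d ≃ ι ⊕ Fin n := (Fintype.equivFin (ι ⊕ Fin n)).symm
  let σ : Fin d ≃ ι ⊕ Fin n := σ₀.trans (Equiv.swap (σ₀ ⟨0, hd⟩) (Sum.inl s₀))
  have hσ0 : σ ⟨0, hd⟩ = Sum.inl s₀ := by
    simp [σ]
  let bd : Matrix (ι ⊕ Fin n) (ι ⊕ Fin n) A := Matrix.fromBlocks c 0 0 a
  have hbdΔ : ∀ x y, CoalgebraStruct.comul (R := V) (bd x y) = ∑ z, bd x z ⊗ₜ[V] bd z y := by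
    intro x y
    rcases x with S | i <;> rcases y with T | j
    · simp [bd, Fintype.sum_sum_type, hc]
    · simp [bd, Fintype.sum_sum_type]
    · simp [bd, Fintype.sum_sum_type]
    · simp [bd, Fintype.sum_sum_type, ha]
  have hbdε : ∀ x y, CoalgebraStruct.counit (R := V) (bd x y) = if x = y then 1 else 0 := by
    intro x y
    rcases x with S | i <;> rcases y with T | j
    · simp [bd, hcε]
    · simp [bd]
    · simp [bd]
    · simp [bd, haε]
  let m : Matrix (Fin d) (Fin d) A := bd.submatrix σ σ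
  refine ⟨d, hd, m, ?_, ?_, ?_, ?_⟩
  · intro i j
    change CoalgebraStruct.comul (R := V) (bd (σ i) (σ j)) = ∑ l, bd (σ i) (σ l) ⊗ₜ[V] bd (σ l) (σ j)
    rw [hbdΔ]
    exact (Equiv.sum_comp σ (fun z => bd (σ i) z ⊗ₜ[V] bd z (σ j))).symm
  · intro i j
    change CoalgebraStruct.counit (R := V) (bd (σ i) (σ j)) = _
    rw [hbdε]
    by_cases hij : i = j
    · simp [hij]
    · have : σ i ≠ σ j := fun h => hij (σ.injective h)
      simp [hij, this]
  · refine ⟨c'.det * a'.det, ?_, ?_⟩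
    · have h1 : m.det = c.det * a.det := by
        change (bd.submatrix σ σ).det = _
        rw [Matrix.det_submatrix_equiv_self]
        exact Matrix.det_fromBlocks_zero₂₁ c 0 a
      have h2 : c'.det * c.det = 1 := by rw [← Matrix.det_mul, hcc', Matrix.det_one]
      have h3 : a'.det * a.det = 1 := by rw [← Matrix.det_mul, haa', Matrix.det_one]
      rw [h1]
      calc c'.det * a'.det * (c.det * a.det) = (c'.det * c.det) * (a'.det * a.det) := by ring
        _ = 1 := by rw [h2, h3, one_mul]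
    · rw [eq_top_iff, ← hgen]
      apply Algebra.adjoin_mono
      rintro _ ⟨p, rfl⟩
      left
      refine ⟨(σ.symm (Sum.inr p.1), σ.symm (Sum.inr p.2)), ?_⟩
      simp [m, bd]
  · rw [hI]
    apply le_antisymm
    · apply Ideal.span_le.mpr
      rintro _ ⟨S, hS, rfl⟩
      apply Ideal.subset_span
      have hne : σ.symm (Sum.inl S) ≠ ⟨0, hd⟩ := by
        intro h
        have h1 : σ (σ.symm (Sum.inl S)) = σ ⟨0, hd⟩ := congrArg σ h
        rw [Equiv.apply_symm_apply, hσ0] at h1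
        exact hS (Sum.inl.inj h1)
      refine ⟨⟨σ.symm (Sum.inl S), hne⟩, ?_⟩
      change bd (σ (σ.symm (Sum.inl S))) (σ ⟨0, hd⟩) = c S s₀
      rw [Equiv.apply_symm_apply, hσ0]
      rfl
    · apply Ideal.span_le.mpr
      rintro _ ⟨⟨i, hi⟩, rfl⟩
      change bd (σ i) (σ ⟨0, hd⟩) ∈ _
      rw [hσ0]
      rcases hσi : σ i with S | l
      · have hS : S ≠ s₀ := by
          intro h
          apply hi
          apply σ.injective
          rw [hσi, hσ0, h]
        exact Ideal.subset_span ⟨S, hS, rfl⟩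
      · have : bd (Sum.inr l) (Sum.inl s₀) = 0 := rfl
        rw [this]
        exact Ideal.zero_mem _

end Groth.Agent.Lib.Helper16.ChevDVR7
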