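import Mathlib
import Groth.Prelude.Def_W4stkflatp2Cpct

/-!
# The category of compactifications: calculus of fractions

Basic constructions in `Cpct.Pair S`: fibre products and equalizers of compactifications, used to
show that the morphisms whose open part is an isomorphism admit a right calculus of fractions.
-/

set_option autoImplicit false
universe u
open CategoryTheory CategoryTheory.Limits AlgebraicGeometry TopologicalSpace

namespace Groth.Agent.Lib.Helper16.CpctLoc

open Cpct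

/-- A criterion for the restriction of a morphism to opens to be an isomorphism: it has a section
whose composite the other way round is the inclusion. -/
theorem isIso_resLE_of_section {P X : Scheme.{u}} (p : P ⟶ X) (U : X.Opens) (U' : P.Opens)
    (hle : U' ≤ p ⁻¹ᵁ U) (ℓ : (U : Scheme.{u}) ⟶ P) (hℓ : ℓ ≫ p = U.ι)
    (hr : Set.range ℓ ⊆ Set.range U'.ι)
    (hsec : p.resLE U U' hle ≫ ℓ = U'.ι) :
    IsIso (p.resLE U U' hle) ∧ (IsCompact (U : Set X) → IsCompact (U' : Set P)) := by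
  set σ : (U : Scheme.{u}) ⟶ (U' : Scheme.{u}) := IsOpenImmersion.lift U'.ι ℓ hr with hσdef
  have hσ : σ ≫ U'.ι = ℓ := IsOpenImmersion.lift_fac _ _ _
  have h1 : σ ≫ p.resLE U U' hle = 𝟙 _ := by
    rw [← cancel_mono U.ι, Category.assoc, Scheme.Hom.resLE_comp_ι, ← Category.assoc, hσ, hℓ,
      Category.id_comp]
  have h2 : p.resLE U U' hle ≫ σ = 𝟙 _ := by
    rw [← cancel_mono U'.ι, Category.assoc, hσ, hsec, Category.id_comp]
  refine ⟨⟨⟨σ, h2, h1⟩⟩, fun hU => ?_⟩
  haveI : CompactSpace ↥(U : Scheme.{u}) := isCompact_iff_compactSpace.mp hU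
  have hrange : (U' : Set P) = Set.range ℓ := by
    apply subset_antisymm
    · intro x hx
      refine ⟨(p.resLE U U' hle) ⟨x, hx⟩, ?_⟩
      rw [← Scheme.Hom.comp_apply, hsec]
      rfl
    · intro x hx
      have := hr hx
      rwa [Scheme.Opens.range_ι] at this
  rw [hrange]
  exact isCompact_range ℓ.continuous

section

variable {S : Scheme.{u}}

theorem restr_comp_ι {A B : Pair S} (f : A ⟶ B) :
    restr f ≫ B.U.ι = A.U.ι ≫ (Pair.Hom.bar f).left := by
  unfold restr
  exact Scheme.Hom.resLE_comp_ι _ _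

theorem restr_id (A : Pair S) : restr (𝟙 A) = 𝟙 _ := by
  rw [← cancel_mono A.U.ι, restr_comp_ι]
  simp

theorem restr_comp {A B C : Pair S} (f : A ⟶ B) (g : B ⟶ C) :
    restr (f ≫ g) = restr f ≫ restr g := by
  rw [← cancel_mono C.U.ι, restr_comp_ι, Category.assoc, restr_comp_ι, ← Category.assoc,
    restr_comp_ι]
  simp

instance isMultiplicative_isoOpen : (isoOpen S).IsMultiplicative where
  id_mem A := by
    change IsIso (restr (𝟙 A))
    rw [restr_id]
    infer_instance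
  comp_mem f g hf hg := by
    change IsIso (restr (f ≫ g))
    rw [restr_comp]
    haveI : IsIso (restr f) := hf
    haveI : IsIso (restr g) := hg
    infer_instance

/-- Two morphisms of compactifications with the same open part are equalized by a morphism whose
open part is an isomorphism. -/
theorem exists_equalizing {A B : Pair S} (f₁ f₂ : A ⟶ B) (h : restr f₁ = restr f₂) :
    ∃ (A' : Pair S) (t : A' ⟶ A) (_ : isoOpen S t), t ≫ f₁ = t ≫ f₂ := by
  haveI : IsProper B.bar.hom := B.isProper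
  haveI : IsProper A.bar.hom := A.isProper
  let e := equalizer.ι (Pair.Hom.bar f₁) (Pair.Hom.bar f₂)
  haveI : IsClosedImmersion e.left := isClosedImmersion_equalizer_ι_left _ _
  have hprop : IsProper (equalizer (Pair.Hom.bar f₁) (Pair.Hom.bar f₂)).hom := by
    rw [← Over.w e]
    infer_instance
  -- the section over the open part
  let u : Over.mk (A.U.ι ≫ A.bar.hom) ⟶ A.bar := Over.homMk A.U.ι rfl
  have hu : u ≫ Pair.Hom.bar f₁ = u ≫ Pair.Hom.bar f₂ := by
    ext1
    change A.U.ι ≫ (Pair.Hom.bar f₁).left = A.U.ι ≫ (Pair.Hom.bar f₂).left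
    rw [← restr_comp_ι, ← restr_comp_ι, h]
  let ℓ : (A.U : Scheme.{u}) ⟶ (equalizer (Pair.Hom.bar f₁) (Pair.Hom.bar f₂)).left :=
    (equalizer.lift u hu).left
  have hℓ : ℓ ≫ e.left = A.U.ι := by
    change (equalizer.lift u hu).left ≫ (equalizer.ι (Pair.Hom.bar f₁) (Pair.Hom.bar f₂)).left = _
    rw [← Over.comp_left, equalizer.lift_ι]
    rfl
  have hr : Set.range ℓ ⊆ Set.range (e.left ⁻¹ᵁ A.U).ι := by
    rintro _ ⟨a, rfl⟩
    rw [Scheme.Opens.range_ι]
    change e.left (ℓ a) ∈ A.U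
    rw [← Scheme.Hom.comp_apply, hℓ]
    exact a.2
  have hsec : e.left.resLE A.U (e.left ⁻¹ᵁ A.U) le_rfl ≫ ℓ = (e.left ⁻¹ᵁ A.U).ι := by
    rw [← cancel_mono e.left, Category.assoc, hℓ, Scheme.Hom.resLE_comp_ι]
  obtain ⟨hiso, hcpt⟩ := isIso_resLE_of_section e.left A.U (e.left ⁻¹ᵁ A.U) le_rfl ℓ hℓ hr hsec
  refine ⟨⟨equalizer (Pair.Hom.bar f₁) (Pair.Hom.bar f₂), e.left ⁻¹ᵁ A.U, hprop,
    hcpt A.isCompact⟩, ⟨e, fun x hx => hx⟩, hiso, ?_⟩
  apply Pair.Hom.ext
  exact equalizer.condition _ _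

/-- The Ore condition for the morphisms whose open part is an isomorphism. -/
theorem exists_fraction {A B C : Pair S} (f : A ⟶ C) (s : B ⟶ C) (hs : isoOpen S s) :
    ∃ (A' : Pair S) (t : A' ⟶ A) (_ : isoOpen S t) (g : A' ⟶ B), t ≫ f = g ≫ s := by
  haveI : IsProper A.bar.hom := A.isProper
  haveI : IsProper B.bar.hom := B.isProper
  haveI : IsProper C.bar.hom := C.isProper
  haveI : IsIso (restr s) := hs
  haveI : IsProper (Pair.Hom.bar s).left := by
    haveI : IsProper ((Pair.Hom.bar s).left ≫ C.bar.hom) := by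
      rw [Over.w]
      infer_instance
    exact IsProper.of_comp (Pair.Hom.bar s).left C.bar.hom
  let pf := pullback.fst (Pair.Hom.bar f).left (Pair.Hom.bar s).left
  let ps := pullback.snd (Pair.Hom.bar f).left (Pair.Hom.bar s).left
  have hcond : pf ≫ (Pair.Hom.bar f).left = ps ≫ (Pair.Hom.bar s).left := pullback.condition
  have hps : ps ≫ B.bar.hom = pf ≫ A.bar.hom := by
    rw [← Over.w (Pair.Hom.bar s), ← Category.assoc, ← hcond, Category.assoc,
      Over.w (Pair.Hom.bar f)]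
  -- the section
  have hℓc : A.U.ι ≫ (Pair.Hom.bar f).left =
      (restr f ≫ inv (restr s) ≫ B.U.ι) ≫ (Pair.Hom.bar s).left := by
    rw [Category.assoc, Category.assoc, ← restr_comp_ι s, IsIso.inv_hom_id_assoc, restr_comp_ι]
  let ℓ : (A.U : Scheme.{u}) ⟶ pullback (Pair.Hom.bar f).left (Pair.Hom.bar s).left :=
    pullback.lift A.U.ι (restr f ≫ inv (restr s) ≫ B.U.ι) hℓc
  have hℓ1 : ℓ ≫ pf = A.U.ι := pullback.lift_fst _ _ _
  have hℓ2 : ℓ ≫ ps = restr f ≫ inv (restr s) ≫ B.U.ι := pullback.lift_snd _ _ _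
  let U' : (pullback (Pair.Hom.bar f).left (Pair.Hom.bar s).left).Opens :=
    pf ⁻¹ᵁ A.U ⊓ ps ⁻¹ᵁ B.U
  have hle : U' ≤ pf ⁻¹ᵁ A.U := inf_le_left
  have hle2 : U' ≤ ps ⁻¹ᵁ B.U := inf_le_right
  have hr : Set.range ℓ ⊆ Set.range U'.ι := by
    rintro _ ⟨a, rfl⟩
    rw [Scheme.Opens.range_ι]
    constructor
    · change pf (ℓ a) ∈ A.U
      rw [← Scheme.Hom.comp_apply, hℓ1]
      exact a.2
    · change ps (ℓ a) ∈ B.U
      rw [← Scheme.Hom.comp_apply, hℓ2, Scheme.Hom.comp_apply, Scheme.Hom.comp_apply]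
      exact ((inv (restr s)) ((restr f) a)).2
  have hkey : pf.resLE A.U U' hle ≫ restr f = ps.resLE B.U U' hle2 ≫ restr s := by
    rw [← cancel_mono C.U.ι, Category.assoc, Category.assoc, restr_comp_ι, restr_comp_ι,
      Scheme.Hom.resLE_comp_ι_assoc, Scheme.Hom.resLE_comp_ι_assoc, hcond]
  have hsec : pf.resLE A.U U' hle ≫ ℓ = U'.ι := by
    apply pullback.hom_ext
    · change (pf.resLE A.U U' hle ≫ ℓ) ≫ pf = U'.ι ≫ pf
      rw [Category.assoc, hℓ1, Scheme.Hom.resLE_comp_ι]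
    · change (pf.resLE A.U U' hle ≫ ℓ) ≫ ps = U'.ι ≫ ps
      rw [Category.assoc, hℓ2, ← Category.assoc, ← Category.assoc, hkey, Category.assoc,
        Category.assoc, IsIso.hom_inv_id_assoc, Scheme.Hom.resLE_comp_ι]
  obtain ⟨hiso, hcpt⟩ := isIso_resLE_of_section pf A.U U' hle ℓ hℓ1 hr hsec
  refine ⟨⟨Over.mk (pf ≫ A.bar.hom), U', by change IsProper (pf ≫ A.bar.hom); infer_instance,
    hcpt A.isCompact⟩, ⟨Over.homMk pf rfl, fun x hx => hx.1⟩, hiso,
    ⟨Over.homMk ps hps, fun x hx => hx.2⟩, ?_⟩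
  apply Pair.Hom.ext
  ext1
  exact hcond

end

end Groth.Agent.Lib.Helper16.CpctLoc
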