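import Mathlib
import Groth.Prelude.Def_W4stkflatp2Cpct
import Groth.Agent.Lib.Helper16.CpctLoc
import Groth.Agent.Lib.Helper41.SchImage

/-!
# The category of compactifications: closure of the graph

Every morphism between the open parts of two compactifications is, after replacing the source
compactification by the closure of the graph, induced by a morphism of compactifications.
-/

set_option autoImplicit false
universe u
open CategoryTheory CategoryTheory.Limits AlgebraicGeometry TopologicalSpace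

namespace Groth.Agent.Lib.Helper16.CpctGraph

open Cpct Groth.Agent.Lib.Helper16.CpctLoc

variable {S : Scheme.{u}}

theorem isIso_openFunctor_map {A B : Pair S} (f : A ⟶ B) (hf : isoOpen S f) :
    IsIso ((openFunctor S).map f) := by
  haveI : IsIso (restr f) := hf
  let i₀ : (A.U : Scheme.{u}) ≅ (B.U : Scheme.{u}) := asIso (restr f)
  have hw : i₀.hom ≫ (openOver.obj B).hom = (openOver.obj A).hom := by
    change restr f ≫ B.U.ι ≫ B.bar.hom = A.U.ι ≫ A.bar.hom
    rw [← Category.assoc, restr_comp_ι, Category.assoc, Over.w]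
  let i : openOver.obj A ≅ openOver.obj B :=
    Over.isoMk (f := openOver.obj A) (g := openOver.obj B) i₀ hw
  have h : ((openFunctor S).map f).hom = i.hom := by
    refine Over.OverMorphism.ext ?_
    rfl
  rw [← ObjectProperty.isIso_hom_iff, h]
  infer_instance

instance essSurj_openFunctor : (openFunctor S).EssSurj :=
  ⟨fun X => by
    obtain ⟨A, ⟨i⟩⟩ := X.property
    exact ⟨A, ⟨ObjectProperty.isoMk _ i⟩⟩⟩

/-- Closure of the graph. -/
theorem exists_graph [QuasiSeparatedSpace S] {A B : Pair S}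
    (ψ : (A.U : Scheme.{u}) ⟶ (B.U : Scheme.{u}))
    (hψ : ψ ≫ B.U.ι ≫ B.bar.hom = A.U.ι ≫ A.bar.hom) :
    ∃ (A' : Pair S) (t : A' ⟶ A) (_ : isoOpen S t) (g : A' ⟶ B), restr g = restr t ≫ ψ := by
  haveI : IsProper A.bar.hom := A.isProper
  haveI : IsProper B.bar.hom := B.isProper
  haveI : CompactSpace ↥(A.U : Scheme.{u}) := isCompact_iff_compactSpace.mp A.isCompact
  haveI : QuasiSeparatedSpace ↥(pullback A.bar.hom B.bar.hom) :=
    quasiSeparatedSpace_of_quasiSeparated (pullback.fst A.bar.hom B.bar.hom ≫ A.bar.hom)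
  set γ : (A.U : Scheme.{u}) ⟶ pullback A.bar.hom B.bar.hom :=
    pullback.lift A.U.ι (ψ ≫ B.U.ι) (by rw [Category.assoc]; exact hψ.symm) with hγ
  set p : γ.image ⟶ A.bar.left := γ.imageι ≫ pullback.fst A.bar.hom B.bar.hom with hp
  set q : γ.image ⟶ B.bar.left := γ.imageι ≫ pullback.snd A.bar.hom B.bar.hom with hq
  have htp : γ.toImage ≫ p = A.U.ι := by
    rw [hp, ← Category.assoc, γ.toImage_imageι, hγ, pullback.lift_fst]
  have htq : γ.toImage ≫ q = ψ ≫ B.U.ι := by
    rw [hq, ← Category.assoc, γ.toImage_imageι, hγ, pullback.lift_snd]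
  have hqb : q ≫ B.bar.hom = p ≫ A.bar.hom := by
    rw [hq, hp, Category.assoc, Category.assoc, pullback.condition]
  have hrange : Set.range γ.toImage ⊆ Set.range (p ⁻¹ᵁ A.U).ι := by
    rintro _ ⟨u, rfl⟩
    rw [Scheme.Opens.range_ι]
    change p (γ.toImage u) ∈ A.U
    rw [← Scheme.Hom.comp_apply, htp]
    exact u.2
  set t' : (A.U : Scheme.{u}) ⟶ ((p ⁻¹ᵁ A.U : γ.image.Opens) : Scheme.{u}) :=
    IsOpenImmersion.lift (p ⁻¹ᵁ A.U).ι γ.toImage hrange with ht'
  have ht'ι : t' ≫ (p ⁻¹ᵁ A.U).ι = γ.toImage := IsOpenImmersion.lift_fac _ _ _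
  have h1 : t' ≫ (p ∣_ A.U) = 𝟙 _ := by
    rw [← cancel_mono A.U.ι, Category.assoc, morphismRestrict_ι, reassoc_of% ht'ι, htp,
      Category.id_comp]
  haveI hpp : IsProper p := by rw [hp]; infer_instance
  haveI : IsClosedImmersion (t' ≫ (p ∣_ A.U)) := by rw [h1]; infer_instance
  haveI : IsClosedImmersion t' := IsClosedImmersion.of_comp t' (p ∣_ A.U)
  haveI : IsSchemeTheoreticallyDominant γ.toImage :=
    Groth.Agent.Lib.Helper41.isSchemeTheoreticallyDominant_toImage γ
  have hpb : IsPullback t' (𝟙 _) (p ⁻¹ᵁ A.U).ι γ.toImage := by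
    refine IsOpenImmersion.isPullback _ _ _ _ (by rw [Category.id_comp, ht'ι]) ?_
    rw [Scheme.Opens.opensRange_ι, Scheme.Hom.opensRange_of_isIso, eq_top_iff]
    rintro u -
    change p (γ.toImage u) ∈ A.U
    rw [← Scheme.Hom.comp_apply, htp]
    exact u.2
  haveI : IsSchemeTheoreticallyDominant t' :=
    IsSchemeTheoreticallyDominant.of_isPullback hpb.flip
  haveI : IsIso t' := IsClosedImmersion.isIso_iff_ker_eq_bot.2 t'.ker_eq_bot
  have h2 : p ∣_ A.U = inv t' := by
    rw [← cancel_epi t', h1, IsIso.hom_inv_id]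
  -- every point of the open part is in the image of the graph
  have hsurj : ∀ x : γ.image, x ∈ p ⁻¹ᵁ A.U → ∃ u : (A.U : Scheme.{u}), γ.toImage u = x := by
    intro x hx
    refine ⟨(inv t') ⟨x, hx⟩, ?_⟩
    rw [← ht'ι, Scheme.Hom.comp_apply, ← Scheme.Hom.comp_apply (inv t') t', IsIso.inv_hom_id]
    rfl
  have hcpt : IsCompact ((p ⁻¹ᵁ A.U : γ.image.Opens) : Set γ.image) := by
    have hrange' : ((p ⁻¹ᵁ A.U : γ.image.Opens) : Set γ.image) = Set.range γ.toImage := by
      apply subset_antisymm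
      · intro x hx
        obtain ⟨u, hu⟩ := hsurj x hx
        exact ⟨u, hu⟩
      · intro x hx
        have := hrange hx
        rwa [Scheme.Opens.range_ι] at this
    rw [hrange']
    exact isCompact_range γ.toImage.continuous
  let A' : Pair S := ⟨Over.mk (p ≫ A.bar.hom), p ⁻¹ᵁ A.U,
    by change IsProper (p ≫ A.bar.hom); infer_instance, hcpt⟩
  let t : A' ⟶ A := ⟨Over.homMk p rfl, fun x hx => hx⟩
  let g : A' ⟶ B := ⟨Over.homMk q hqb, fun x hx => by
    obtain ⟨u, rfl⟩ := hsurj x hx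
    change q (γ.toImage u) ∈ B.U
    rw [← Scheme.Hom.comp_apply, htq, Scheme.Hom.comp_apply]
    exact (ψ u).2⟩
  have hrt : restr t = p ∣_ A.U := by
    rw [← cancel_mono A.U.ι, restr_comp_ι, morphismRestrict_ι]
    rfl
  refine ⟨A', t, ?_, g, ?_⟩
  · change IsIso (restr t)
    rw [hrt, h2]
    infer_instance
  · rw [hrt, h2, ← cancel_epi t', IsIso.hom_inv_id_assoc, ← cancel_mono B.U.ι, Category.assoc,
      restr_comp_ι]
    change t' ≫ (p ⁻¹ᵁ A.U).ι ≫ q = ψ ≫ B.U.ι
    rw [reassoc_of% ht'ι, htq]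

end Groth.Agent.Lib.Helper16.CpctGraph
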