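import Groth.Agent.Lib.Helper16.DP0

set_option autoImplicit false

open MvPolynomial Nat

namespace Helper16.DP

section Fam

variable {Λ : Type*} [Fintype Λ] {A : Type*} [CommRing A]

/-- structure constants of the divided power monomials. -/
def mc (e e' : Λ →₀ ℕ) : ℕ := ∏ l, (e l + e' l).choose (e l)

/-- A family `y l n` satisfying the relations of `X_l^[n]`. -/
structure IsDPFam (y : Λ → ℕ → A) : Prop where
  zero : ∀ l, y l 0 = 1
  mul : ∀ l m n, y l m * y l n = ((m + n).choose m : A) * y l (m + n)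

/-- the monomial `∏ y l (e l)`. -/
def mon (y : Λ → ℕ → A) (e : Λ →₀ ℕ) : A := ∏ l, y l (e l)

variable {y : Λ → ℕ → A}

theorem mon_mul (hy : IsDPFam y) (e e' : Λ →₀ ℕ) :
    mon y e * mon y e' = (mc e e' : A) * mon y (e + e') := by
  unfold mon mc
  rw [← Finset.prod_mul_distrib, Nat.cast_prod, ← Finset.prod_mul_distrib]
  refine Finset.prod_congr rfl fun l _ => ?_
  rw [hy.mul, Finsupp.add_apply]

theorem mon_zero (hy : IsDPFam y) : mon y (0 : Λ →₀ ℕ) = 1 := by
  unfold mon
  exact Finset.prod_eq_one fun l _ => by rw [Finsupp.zero_apply, hy.zero]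

theorem mon_single [DecidableEq Λ] (hy : IsDPFam y) (l : Λ) (n : ℕ) :
    mon y (Finsupp.single l n) = y l n := by
  unfold mon
  rw [Finset.prod_eq_single l]
  · rw [Finsupp.single_eq_same]
  · intro l' _ hne
    rw [Finsupp.single_eq_of_ne hne, hy.zero]
  · intro h
    exact absurd (Finset.mem_univ l) h

theorem IsDPFam.map {B : Type*} [CommRing B] (f : A →+* B) (hy : IsDPFam y) :
    IsDPFam (fun l n => f (y l n)) where
  zero l := by rw [hy.zero, map_one]
  mul l m n := by rw [← map_mul, hy.mul, map_mul, map_natCast]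

theorem map_mon {B : Type*} [CommRing B] (f : A →+* B) (e : Λ →₀ ℕ) :
    f (mon y e) = mon (fun l n => f (y l n)) e := by
  unfold mon
  rw [map_prod]

theorem uniformBell_succ_aux (n m : ℕ) (hm : m ≠ 0) :
    n ! * uniformBell n m * (n * m + m).choose (n * m) = (n + 1)! * uniformBell (n + 1) m := by
  have e1 := uniformBell_mul_eq n hm
  have e2 := uniformBell_mul_eq (n + 1) hm
  have e3 := Nat.add_choose_mul_factorial_mul_factorial (n * m) m
  rw [← Nat.choose_symm_add] at e3
  have h1 : (n + 1) * m = n * m + m := by ring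
  rw [h1] at e2
  have hpos : 0 < m ! ^ (n + 1) := by positivity
  apply Nat.eq_of_mul_eq_mul_right hpos
  calc n ! * uniformBell n m * (n * m + m).choose (n * m) * m ! ^ (n + 1)
      = (uniformBell n m * m ! ^ n * n !) * (n * m + m).choose (n * m) * m ! := by ring
    _ = (n * m + m).choose (n * m) * (n * m)! * m ! := by rw [e1]; ring
    _ = (n * m + m)! := e3
    _ = uniformBell (n + 1) m * m ! ^ (n + 1) * (n + 1)! := e2.symm
    _ = (n + 1)! * uniformBell (n + 1) m * m ! ^ (n + 1) := by ring

theorem pow_eq_of_isDPFam (hy : IsDPFam y) (l : Λ) (m : ℕ) (hm : m ≠ 0) (n : ℕ) :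
    y l m ^ n = ((n ! * uniformBell n m : ℕ) : A) * y l (n * m) := by
  induction n with
  | zero => simp [hy.zero, uniformBell_zero_left]
  | succ n ih =>
    rw [pow_succ, ih, mul_assoc, hy.mul, ← mul_assoc, ← Nat.cast_mul,
      uniformBell_succ_aux n m hm]
    have h1 : n * m + m = (n + 1) * m := by ring
    rw [h1]

end Fam

end Helper16.DP
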