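import Groth.Agent.Lib.Helper16.DP1

set_option autoImplicit false

open MvPolynomial Nat

namespace Helper16.DP

section Model

variable (Λ : Type*) [Fintype Λ] [DecidableEq Λ]
variable (R₀ K : Type*) [CommRing R₀] [CommRing K] [Algebra ℚ K] [Algebra R₀ K]

/-- `X_l^n / n!` in the polynomial ring over a `ℚ`-algebra. -/
noncomputable def xq (l : Λ) (n : ℕ) : MvPolynomial Λ K :=
  C (algebraMap ℚ K ((n ! : ℚ)⁻¹)) * X l ^ n

theorem isDPFam_xq : IsDPFam (xq Λ K) where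
  zero l := by simp [xq]
  mul l m n := by
    unfold xq
    have h : ((m ! : ℚ)⁻¹) * ((n ! : ℚ)⁻¹) = ((m + n).choose m : ℚ) * (((m + n)! : ℚ)⁻¹) := by
      have e := Nat.add_choose_mul_factorial_mul_factorial m n
      rw [← Nat.choose_symm_add] at e
      have e' : (((m + n).choose m : ℕ) : ℚ) * (m ! : ℚ) * (n ! : ℚ) = ((m + n)! : ℚ) := by
        exact_mod_cast e
      have hm : (m ! : ℚ) ≠ 0 := by exact_mod_cast Nat.factorial_ne_zero m
      have hn : (n ! : ℚ) ≠ 0 := by exact_mod_cast Nat.factorial_ne_zero n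
      have hmn : ((m + n)! : ℚ) ≠ 0 := by exact_mod_cast Nat.factorial_ne_zero (m + n)
      field_simp
      linarith
    calc C (algebraMap ℚ K ((m ! : ℚ)⁻¹)) * X l ^ m * (C (algebraMap ℚ K ((n ! : ℚ)⁻¹)) * X l ^ n)
        = C (algebraMap ℚ K (((m ! : ℚ)⁻¹) * ((n ! : ℚ)⁻¹))) * X l ^ (m + n) := by
          rw [map_mul, map_mul, pow_add]; ring
      _ = ((m + n).choose m : MvPolynomial Λ K) *
            (C (algebraMap ℚ K (((m + n)! : ℚ)⁻¹)) * X l ^ (m + n)) := by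
          rw [h, map_mul, map_mul, map_natCast, map_natCast]; ring

/-- `∏ (e l)!`. -/
def fac (e : Λ →₀ ℕ) : ℕ := ∏ l, (e l)!

theorem fac_ne_zero (e : Λ →₀ ℕ) : fac Λ e ≠ 0 :=
  Finset.prod_ne_zero_iff.mpr fun l _ => Nat.factorial_ne_zero _

theorem mon_xq_eq (e : Λ →₀ ℕ) :
    mon (xq Λ K) e = monomial e (algebraMap ℚ K ((fac Λ e : ℚ)⁻¹)) := by
  unfold mon xq
  rw [Finset.prod_mul_distrib, ← map_prod, ← map_prod, monomial_eq, Finsupp.prod_fintype]
  · congr 2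
    unfold fac
    rw [Nat.cast_prod, ← Finset.prod_inv_distrib]
  · intro l
    rw [pow_zero]

variable {Λ K}

theorem coeff_mon_xq (e e' : Λ →₀ ℕ) :
    coeff e' (mon (xq Λ K) e) = if e = e' then algebraMap ℚ K ((fac Λ e : ℚ)⁻¹) else 0 := by
  rw [mon_xq_eq, coeff_monomial]

variable (Λ K)

theorem linearIndependent_mon_xq (hinj : Function.Injective (algebraMap R₀ K)) :
    LinearIndependent R₀ (mon (xq Λ K)) := by
  rw [linearIndependent_iff]
  intro c hc
  ext e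
  have h1 := congrArg (coeff e) hc
  rw [Finsupp.linearCombination_apply, Finsupp.sum, coeff_sum, coeff_zero] at h1
  have h2 : ∀ e' ∈ c.support, coeff e (c e' • mon (xq Λ K) e') =
      if e' = e then c e • algebraMap ℚ K ((fac Λ e : ℚ)⁻¹) else 0 := by
    intro e' _
    rw [coeff_smul, coeff_mon_xq]
    split_ifs with h
    · rw [h]
    · rw [smul_zero]
  rw [Finset.sum_congr rfl h2, Finset.sum_ite_eq'] at h1
  by_cases hmem : e ∈ c.support
  · rw [if_pos hmem] at h1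
    have h3 : c e • (algebraMap ℚ K ((fac Λ e : ℚ)⁻¹) * algebraMap ℚ K (fac Λ e : ℚ)) = 0 := by
      rw [← smul_mul_assoc, h1, zero_mul]
    rw [← map_mul, inv_mul_cancel₀ (by exact_mod_cast fac_ne_zero Λ e), map_one,
      Algebra.smul_def, mul_one] at h3
    rw [Finsupp.zero_apply]
    exact hinj (by rw [h3, map_zero])
  · rw [Finsupp.zero_apply]
    exact Finsupp.notMem_support_iff.mp hmem

/-- the `R₀`-span of the divided monomials. -/
noncomputable def P0sub : Submodule R₀ (MvPolynomial Λ K) :=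
  Submodule.span R₀ (Set.range (mon (xq Λ K)))

theorem one_mem_P0sub : (1 : MvPolynomial Λ K) ∈ P0sub Λ R₀ K := by
  rw [← mon_zero (isDPFam_xq Λ K)]
  exact Submodule.subset_span ⟨0, rfl⟩

theorem mul_mem_P0sub (x y : MvPolynomial Λ K) (hx : x ∈ P0sub Λ R₀ K) (hy : y ∈ P0sub Λ R₀ K) :
    x * y ∈ P0sub Λ R₀ K := by
  have h : P0sub Λ R₀ K * P0sub Λ R₀ K ≤ P0sub Λ R₀ K := by
    unfold P0sub
    rw [Submodule.span_mul_span, Submodule.span_le]
    rintro _ ⟨_, ⟨e, rfl⟩, _, ⟨e', rfl⟩, rfl⟩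
    show mon (xq Λ K) e * mon (xq Λ K) e' ∈ _
    rw [mon_mul (isDPFam_xq Λ K), ← nsmul_eq_mul]
    exact Submodule.smul_of_tower_mem _ _ (Submodule.subset_span ⟨_, rfl⟩)
  exact h (Submodule.mul_mem_mul hx hy)

/-- The divided power polynomial algebra over `R₀`, as a subalgebra of `K[X]`. -/
noncomputable def P0 : Subalgebra R₀ (MvPolynomial Λ K) :=
  (P0sub Λ R₀ K).toSubalgebra (one_mem_P0sub Λ R₀ K) (mul_mem_P0sub Λ R₀ K)

theorem mem_P0_iff (z : MvPolynomial Λ K) : z ∈ P0 Λ R₀ K ↔ z ∈ P0sub Λ R₀ K := Iff.rfl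

theorem mon_xq_mem (e : Λ →₀ ℕ) : mon (xq Λ K) e ∈ P0 Λ R₀ K :=
  Submodule.subset_span ⟨e, rfl⟩

theorem xq_mem (l : Λ) (n : ℕ) : xq Λ K l n ∈ P0 Λ R₀ K := by
  rw [← mon_single (isDPFam_xq Λ K) l n]
  exact mon_xq_mem Λ R₀ K _

/-- the generators `X_l^[n]` of the model. -/
noncomputable def x0 (l : Λ) (n : ℕ) : P0 Λ R₀ K := ⟨xq Λ K l n, xq_mem Λ R₀ K l n⟩

theorem isDPFam_x0 : IsDPFam (x0 Λ R₀ K) where
  zero l := Subtype.ext (by
    show xq Λ K l 0 = 1
    exact (isDPFam_xq Λ K).zero l)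
  mul l m n := Subtype.ext (by
    show xq Λ K l m * xq Λ K l n = _
    rw [(isDPFam_xq Λ K).mul]
    simp [x0])

theorem coe_mon_x0 (e : Λ →₀ ℕ) :
    ((mon (x0 Λ R₀ K) e : P0 Λ R₀ K) : MvPolynomial Λ K) = mon (xq Λ K) e := by
  unfold mon
  show (P0 Λ R₀ K).val (∏ l, x0 Λ R₀ K l (e l)) = _
  rw [map_prod]
  rfl

/-- the linear equivalence between the span and the subalgebra. -/
noncomputable def subEquiv : P0sub Λ R₀ K ≃ₗ[R₀] P0 Λ R₀ K where
  toFun z := ⟨z.1, z.2⟩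
  invFun z := ⟨z.1, z.2⟩
  map_add' _ _ := rfl
  map_smul' _ _ := rfl
  left_inv _ := rfl
  right_inv _ := rfl

/-- The basis of divided monomials. -/
noncomputable def b0 (hinj : Function.Injective (algebraMap R₀ K)) :
    Module.Basis (Λ →₀ ℕ) R₀ (P0 Λ R₀ K) :=
  (Module.Basis.span (linearIndependent_mon_xq Λ R₀ K hinj)).map (subEquiv Λ R₀ K)

theorem b0_apply (hinj : Function.Injective (algebraMap R₀ K)) (e : Λ →₀ ℕ) :
    b0 Λ R₀ K hinj e = mon (x0 Λ R₀ K) e := by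
  apply Subtype.ext
  rw [coe_mon_x0, b0, Module.Basis.map_apply]
  show ((Module.Basis.span (linearIndependent_mon_xq Λ R₀ K hinj) e : P0sub Λ R₀ K) :
    MvPolynomial Λ K) = _
  rw [Module.Basis.span_apply]

instance : IsAddTorsionFree (P0 Λ R₀ K) where
  nsmul_right_injective n hn a b h := by
    apply Subtype.ext
    have h1 : (n : ℚ) • (a : MvPolynomial Λ K) = (n : ℚ) • (b : MvPolynomial Λ K) := by
      have := congrArg (P0 Λ R₀ K).val h
      simp only [map_nsmul] at this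
      rw [Nat.cast_smul_eq_nsmul, Nat.cast_smul_eq_nsmul]
      exact this
    have hn' : (n : ℚ) ≠ 0 := by exact_mod_cast hn
    have := congrArg (fun z => (n : ℚ)⁻¹ • z) h1
    simpa [smul_smul, inv_mul_cancel₀ hn'] using this

end Model

end Helper16.DP
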