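import Groth.Agent.Lib.Helper16.DP2

set_option autoImplicit false

open MvPolynomial Nat

namespace Helper16.DP

section Model

variable (Λ : Type*) [Fintype Λ] [DecidableEq Λ]
variable (R₀ K : Type*) [CommRing R₀] [CommRing K] [Algebra ℚ K] [Algebra R₀ K]

/-- generators of the augmentation ideal -/
def gens : Set (P0 Λ R₀ K) := {z | ∃ (l : Λ) (n : ℕ), 1 ≤ n ∧ z = x0 Λ R₀ K l n}

/-- the augmentation ideal of the model -/
noncomputable def Pplus : Ideal (P0 Λ R₀ K) := Ideal.span (gens Λ R₀ K)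

theorem x0_mem_Pplus (l : Λ) (n : ℕ) (hn : 1 ≤ n) : x0 Λ R₀ K l n ∈ Pplus Λ R₀ K :=
  Ideal.subset_span ⟨l, n, hn, rfl⟩

theorem good : DPTF.Good (Pplus Λ R₀ K) := by
  apply DPTF.good_of_span (S := gens Λ R₀ K) rfl
  rintro _ ⟨l, m, hm, rfl⟩ n hn
  rw [pow_eq_of_isDPFam (isDPFam_x0 Λ R₀ K) l m (by omega) n, Nat.cast_mul, mul_assoc]
  apply Ideal.mul_mem_mul (Ideal.mem_span_singleton_self _)
  apply Ideal.mul_mem_left
  apply x0_mem_Pplus
  exact Nat.mul_pos (by omega) (by omega)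

/-- the divided power structure of the model -/
noncomputable def eps : DividedPowers (Pplus Λ R₀ K) := DPTF.dp (good Λ R₀ K)

theorem eps_x0 (l : Λ) (m : ℕ) (hm : 1 ≤ m) (n : ℕ) :
    (eps Λ R₀ K).dpow n (x0 Λ R₀ K l m) =
      (uniformBell n m : P0 Λ R₀ K) * x0 Λ R₀ K l (n * m) := by
  apply DPTF.cancel_fact (n := n)
  rw [(eps Λ R₀ K).factorial_mul_dpow_eq_pow (x0_mem_Pplus Λ R₀ K l m hm),
    pow_eq_of_isDPFam (isDPFam_x0 Λ R₀ K) l m (by omega) n, Nat.cast_mul, mul_assoc]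

theorem eps_x0_one (l : Λ) (n : ℕ) :
    (eps Λ R₀ K).dpow n (x0 Λ R₀ K l 1) = x0 Λ R₀ K l n := by
  rw [eps_x0 Λ R₀ K l 1 le_rfl n, uniformBell_one_right, Nat.cast_one, one_mul, mul_one]

end Model

section MapOut

variable (Λ : Type*) [Fintype Λ] [DecidableEq Λ]
variable (R₀ K : Type*) [CommRing R₀] [CommRing K] [Algebra ℚ K] [Algebra R₀ K]
variable (hinj : Function.Injective (algebraMap R₀ K))
variable {A : Type*} [CommRing A] [Algebra R₀ A] (y : Λ → ℕ → A)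

/-- linear map out of the model determined by a family. -/
noncomputable def mapOutLin : P0 Λ R₀ K →ₗ[R₀] A :=
  (b0 Λ R₀ K hinj).constr ℕ (mon y)

theorem mapOutLin_b0 (e : Λ →₀ ℕ) : mapOutLin Λ R₀ K hinj y (b0 Λ R₀ K hinj e) = mon y e :=
  Module.Basis.constr_basis _ _ _ _

theorem mapOutLin_mon (e : Λ →₀ ℕ) :
    mapOutLin Λ R₀ K hinj y (mon (x0 Λ R₀ K) e) = mon y e := by
  rw [← b0_apply Λ R₀ K hinj, mapOutLin_b0]

variable {y}

theorem mapOutLin_one (hy : IsDPFam y) : mapOutLin Λ R₀ K hinj y 1 = 1 := by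
  rw [← mon_zero (isDPFam_x0 Λ R₀ K), mapOutLin_mon, mon_zero hy]

theorem mapOutLin_mul (hy : IsDPFam y) (z w : P0 Λ R₀ K) :
    mapOutLin Λ R₀ K hinj y (z * w) = mapOutLin Λ R₀ K hinj y z * mapOutLin Λ R₀ K hinj y w := by
  have h : (LinearMap.mul R₀ (P0 Λ R₀ K)).compr₂ (mapOutLin Λ R₀ K hinj y) =
      (LinearMap.mul R₀ A).compl₁₂ (mapOutLin Λ R₀ K hinj y) (mapOutLin Λ R₀ K hinj y) := by
    refine (b0 Λ R₀ K hinj).ext fun e => (b0 Λ R₀ K hinj).ext fun e' => ?_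
    rw [LinearMap.compr₂_apply, LinearMap.compl₁₂_apply, LinearMap.mul_apply', LinearMap.mul_apply',
      mapOutLin_b0, mapOutLin_b0, b0_apply, b0_apply, mon_mul (isDPFam_x0 Λ R₀ K), mon_mul hy,
      ← nsmul_eq_mul, map_nsmul, mapOutLin_mon, nsmul_eq_mul]
  have := LinearMap.congr_fun (LinearMap.congr_fun h z) w
  rwa [LinearMap.compr₂_apply, LinearMap.compl₁₂_apply, LinearMap.mul_apply',
    LinearMap.mul_apply'] at this

/-- The universal algebra map out of the model. -/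
noncomputable def mapOut (hy : IsDPFam y) : P0 Λ R₀ K →ₐ[R₀] A :=
  AlgHom.ofLinearMap (mapOutLin Λ R₀ K hinj y) (mapOutLin_one Λ R₀ K hinj hy)
    (mapOutLin_mul Λ R₀ K hinj hy)

theorem mapOut_mon (hy : IsDPFam y) (e : Λ →₀ ℕ) :
    mapOut Λ R₀ K hinj hy (mon (x0 Λ R₀ K) e) = mon y e :=
  mapOutLin_mon Λ R₀ K hinj y e

theorem mapOut_b0 (hy : IsDPFam y) (e : Λ →₀ ℕ) :
    mapOut Λ R₀ K hinj hy (b0 Λ R₀ K hinj e) = mon y e :=
  mapOutLin_b0 Λ R₀ K hinj y e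

theorem mapOut_x0 (hy : IsDPFam y) (l : Λ) (n : ℕ) :
    mapOut Λ R₀ K hinj hy (x0 Λ R₀ K l n) = y l n := by
  rw [← mon_single (isDPFam_x0 Λ R₀ K) l n, mapOut_mon, mon_single hy]

end MapOut

section Aug

variable (Λ : Type*) [Fintype Λ] [DecidableEq Λ]
variable (R₀ K : Type*) [CommRing R₀] [CommRing K] [Algebra ℚ K] [Algebra R₀ K]
variable (hinj : Function.Injective (algebraMap R₀ K))

/-- the augmentation family -/
def augFam : Λ → ℕ → R₀ := fun _ n => if n = 0 then 1 else 0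

theorem isDPFam_augFam : IsDPFam (augFam Λ R₀) where
  zero l := by simp [augFam]
  mul l m n := by
    unfold augFam
    by_cases hm : m = 0
    · subst hm
      simp
    · have : m + n ≠ 0 := by omega
      rw [if_neg hm, if_neg this, zero_mul, mul_zero]

/-- the augmentation. -/
noncomputable def aug : P0 Λ R₀ K →ₐ[R₀] R₀ := mapOut Λ R₀ K hinj (isDPFam_augFam Λ R₀)

theorem mon_augFam (e : Λ →₀ ℕ) : mon (augFam Λ R₀) e = if e = 0 then 1 else 0 := by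
  unfold mon augFam
  split_ifs with h
  · subst h
    simp
  · obtain ⟨l, hl⟩ : ∃ l, e l ≠ 0 := by
      by_contra hcon
      push_neg at hcon
      exact h (Finsupp.ext hcon)
    exact Finset.prod_eq_zero (Finset.mem_univ l) (by rw [if_neg hl])

theorem aug_b0 (e : Λ →₀ ℕ) : aug Λ R₀ K hinj (b0 Λ R₀ K hinj e) = if e = 0 then 1 else 0 := by
  rw [aug, mapOut_b0, mon_augFam]

theorem aug_eq_repr (z : P0 Λ R₀ K) : aug Λ R₀ K hinj z = (b0 Λ R₀ K hinj).repr z 0 := by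
  conv_lhs => rw [← (b0 Λ R₀ K hinj).linearCombination_repr z]
  rw [Finsupp.linearCombination_apply, Finsupp.sum, map_sum]
  simp_rw [map_smul, aug_b0, smul_eq_mul, mul_ite, mul_one, mul_zero]
  rw [Finset.sum_ite_eq']
  split_ifs with h
  · rfl
  · exact (Finsupp.notMem_support_iff.mp h).symm

theorem aug_Pplus (z : P0 Λ R₀ K) (hz : z ∈ Pplus Λ R₀ K) : aug Λ R₀ K hinj z = 0 := by
  have : Pplus Λ R₀ K ≤ RingHom.ker (aug Λ R₀ K hinj).toRingHom := by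
    unfold Pplus
    rw [Ideal.span_le]
    rintro _ ⟨l, n, hn, rfl⟩
    show (aug Λ R₀ K hinj) (x0 Λ R₀ K l n) = 0
    rw [aug, mapOut_x0, augFam, if_neg (by omega)]
  exact this hz

theorem repr_zero_of_mem_Pplus (z : P0 Λ R₀ K) (hz : z ∈ Pplus Λ R₀ K) :
    (b0 Λ R₀ K hinj).repr z 0 = 0 := by
  rw [← aug_eq_repr, aug_Pplus Λ R₀ K hinj z hz]

theorem mon_x0_mem_Pplus (e : Λ →₀ ℕ) (he : e ≠ 0) : mon (x0 Λ R₀ K) e ∈ Pplus Λ R₀ K := by
  obtain ⟨l, hl⟩ : ∃ l, e l ≠ 0 := by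
    by_contra hcon
    push_neg at hcon
    exact he (Finsupp.ext hcon)
  unfold mon
  rw [← Finset.mul_prod_erase _ _ (Finset.mem_univ l)]
  exact Ideal.mul_mem_right _ _ (x0_mem_Pplus Λ R₀ K l (e l) (by omega))

theorem b0_mem_Pplus (e : Λ →₀ ℕ) (he : e ≠ 0) : b0 Λ R₀ K hinj e ∈ Pplus Λ R₀ K := by
  rw [b0_apply]
  exact mon_x0_mem_Pplus Λ R₀ K e he

end Aug

end Helper16.DP
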