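import Groth.Agent.Lib.Helper16.DP3

set_option autoImplicit false

open MvPolynomial Nat

namespace Helper16.DP

section Univ

variable (A : Type*) [CommRing A]

/-- evaluation `ℤ[A] → A`. -/
noncomputable def phi : MvPolynomial A ℤ →+* A := eval₂Hom (Int.castRingHom A) id

theorem phi_X (a : A) : phi A (X a) = a := by
  simp [phi]

theorem phi_surjective : Function.Surjective (phi A) := fun a => ⟨X a, phi_X A a⟩

/-- `A` as an algebra over `ℤ[A]`. -/
noncomputable def algR0 : Algebra (MvPolynomial A ℤ) A := (phi A).toAlgebra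

/-- `ℚ[A]` as an algebra over `ℤ[A]`. -/
noncomputable def algR0K : Algebra (MvPolynomial A ℤ) (MvPolynomial A ℚ) :=
  (MvPolynomial.map (Int.castRingHom ℚ)).toAlgebra

theorem hinj0 : Function.Injective (@algebraMap (MvPolynomial A ℤ) (MvPolynomial A ℚ) _ _
    (algR0K A)) :=
  MvPolynomial.map_injective (Int.castRingHom ℚ) Int.cast_injective

end Univ

section Gen

variable (Λ : Type*) [Fintype Λ] [DecidableEq Λ]
variable (R₀ K : Type*) [CommRing R₀] [CommRing K] [Algebra ℚ K] [Algebra R₀ K]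
variable (hinj : Function.Injective (algebraMap R₀ K))
variable {A : Type*} [CommRing A] [Algebra R₀ A] (I : Ideal A) (d : ℕ → A → A)
variable (s : Λ → A)

/-- the family `d n (s l)`. -/
def famD : Λ → ℕ → A := fun l n => d n (s l)

/-- hypotheses of the "divided powers from generators" lemma. -/
structure GenHyp : Prop where
  h_zero : ∀ x ∈ I, d 0 x = 1
  h_mem : ∀ (n : ℕ) (x : A), n ≠ 0 → x ∈ I → d n x ∈ I
  h_add : ∀ (n : ℕ) (x y : A), x ∈ I → y ∈ I →
    d n (x + y) = (Finset.antidiagonal n).sum fun k => d k.1 x * d k.2 y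
  h_mul : ∀ (n : ℕ) (a x : A), x ∈ I → d n (a * x) = a ^ n * d n x
  hs : ∀ l, s l ∈ I
  hs_mul : ∀ l m n, d m (s l) * d n (s l) = ((m + n).choose m : A) * d (m + n) (s l)
  hs_comp : ∀ l m n, n ≠ 0 → d m (d n (s l)) = (uniformBell m n : A) * d (m * n) (s l)

variable {I d s}

theorem isDPFam_famD (H : GenHyp Λ I d s) : IsDPFam (famD Λ d s) where
  zero l := H.h_zero _ (H.hs l)
  mul l m n := H.hs_mul l m n

/-- the comparison map from the model. -/
noncomputable def piD (H : GenHyp Λ I d s) : P0 Λ R₀ K →ₐ[R₀] A :=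
  mapOut Λ R₀ K hinj (isDPFam_famD Λ H)

theorem piD_x0 (H : GenHyp Λ I d s) (l : Λ) (n : ℕ) :
    piD Λ R₀ K hinj H (x0 Λ R₀ K l n) = d n (s l) :=
  mapOut_x0 Λ R₀ K hinj _ l n

theorem piD_mem (H : GenHyp Λ I d s) (g : P0 Λ R₀ K) (hg : g ∈ Pplus Λ R₀ K) :
    piD Λ R₀ K hinj H g ∈ I := by
  have : Pplus Λ R₀ K ≤ Ideal.comap (piD Λ R₀ K hinj H).toRingHom I := by
    unfold Pplus
    rw [Ideal.span_le]
    rintro _ ⟨l, n, hn, rfl⟩
    show (piD Λ R₀ K hinj H) (x0 Λ R₀ K l n) ∈ I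
    rw [piD_x0]
    exact H.h_mem n _ (by omega) (H.hs l)
  exact this hg

theorem d_zero_of_ne (H : GenHyp Λ I d s) (n : ℕ) (hn : n ≠ 0) : d n 0 = 0 := by
  have := H.h_mul n 0 0 I.zero_mem
  rw [zero_mul, zero_pow hn, zero_mul] at this
  exact this

theorem piD_eps (H : GenHyp Λ I d s) (g : P0 Λ R₀ K) (hg : g ∈ Pplus Λ R₀ K) :
    ∀ n, piD Λ R₀ K hinj H ((eps Λ R₀ K).dpow n g) = d n (piD Λ R₀ K hinj H g) := by
  unfold Pplus at hg
  induction hg using Submodule.span_induction with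
  | mem g hg =>
    obtain ⟨l, m, hm, rfl⟩ := hg
    intro n
    rw [eps_x0 Λ R₀ K l m hm n, map_mul, map_natCast, piD_x0, piD_x0, H.hs_comp l n m (by omega)]
  | zero =>
    intro n
    rcases Nat.eq_zero_or_pos n with rfl | hn
    · rw [(eps Λ R₀ K).dpow_zero (Ideal.zero_mem _), map_one, map_zero, H.h_zero 0 I.zero_mem]
    · rw [(eps Λ R₀ K).dpow_eval_zero (by omega), map_zero, d_zero_of_ne Λ H n (by omega)]
  | add g g' hg hg' ih ih' =>
    intro n
    have hg1 : g ∈ Pplus Λ R₀ K := hg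
    have hg2 : g' ∈ Pplus Λ R₀ K := hg'
    rw [(eps Λ R₀ K).dpow_add hg1 hg2, map_sum, map_add,
      H.h_add n _ _ (piD_mem Λ R₀ K hinj H g hg1) (piD_mem Λ R₀ K hinj H g' hg2)]
    refine Finset.sum_congr rfl fun k _ => ?_
    rw [map_mul, ih, ih']
  | smul c g hg ih =>
    intro n
    have hg1 : g ∈ Pplus Λ R₀ K := hg
    rw [smul_eq_mul, (eps Λ R₀ K).dpow_mul hg1, map_mul, map_pow, ih, map_mul,
      H.h_mul n _ _ (piD_mem Λ R₀ K hinj H g hg1)]

/-- consequence: the product rule for any element in the image of `Pplus`. -/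
theorem mul_dpow_of_image (H : GenHyp Λ I d s) (g : P0 Λ R₀ K) (hg : g ∈ Pplus Λ R₀ K)
    (m n : ℕ) :
    d m (piD Λ R₀ K hinj H g) * d n (piD Λ R₀ K hinj H g) =
      ((m + n).choose m : A) * d (m + n) (piD Λ R₀ K hinj H g) := by
  rw [← piD_eps Λ R₀ K hinj H g hg, ← piD_eps Λ R₀ K hinj H g hg, ← piD_eps Λ R₀ K hinj H g hg,
    ← map_mul, (eps Λ R₀ K).mul_dpow hg, map_mul, map_natCast]

/-- consequence: the composition rule for any element in the image of `Pplus`. -/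
theorem dpow_comp_of_image (H : GenHyp Λ I d s) (g : P0 Λ R₀ K) (hg : g ∈ Pplus Λ R₀ K)
    (m n : ℕ) (hn : n ≠ 0) :
    d m (d n (piD Λ R₀ K hinj H g)) =
      (uniformBell m n : A) * d (m * n) (piD Λ R₀ K hinj H g) := by
  rw [← piD_eps Λ R₀ K hinj H g hg, ← piD_eps Λ R₀ K hinj H _ ((eps Λ R₀ K).dpow_mem hn hg),
    ← piD_eps Λ R₀ K hinj H g hg, (eps Λ R₀ K).dpow_comp hn hg, map_mul, map_natCast]

end Gen

end Helper16.DP
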