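import Groth.Agent.Lib.Helper16.DP4

set_option autoImplicit false

open Nat

namespace Helper16.DP

universe u

/-- Divided powers from generators (Stacks 07GS). -/
theorem exists_dp_of_gens {A : Type u} [CommRing A] (I : Ideal A) (S : Set A)
    (hS : Ideal.span S = I) (d : ℕ → A → A) (h_null : ∀ (n : ℕ) (x : A), x ∉ I → d n x = 0)
    (h_zero : ∀ x ∈ I, d 0 x = 1) (h_one : ∀ x ∈ I, d 1 x = x)
    (h_mem : ∀ (n : ℕ) (x : A), n ≠ 0 → x ∈ I → d n x ∈ I)
    (h_add : ∀ (n : ℕ) (x y : A), x ∈ I → y ∈ I →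
      d n (x + y) = (Finset.antidiagonal n).sum fun k => d k.1 x * d k.2 y)
    (h_mul : ∀ (n : ℕ) (a x : A), x ∈ I → d n (a * x) = a ^ n * d n x)
    (h_mul_dpow : ∀ (m n : ℕ) (x : A), x ∈ S → d m x * d n x = (m + n).choose m * d (m + n) x)
    (h_comp : ∀ (m n : ℕ) (x : A), n ≠ 0 → x ∈ S →
      d m (d n x) = Nat.uniformBell m n * d (m * n) x) :
    ∃ γ : DividedPowers I, γ.dpow = d := by
  classical
  have key : ∀ x ∈ I, (∀ m n : ℕ, d m x * d n x = ((m + n).choose m : A) * d (m + n) x) ∧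
      (∀ m n : ℕ, n ≠ 0 → d m (d n x) = (Nat.uniformBell m n : A) * d (m * n) x) := by
    intro x hx
    rw [← hS] at hx
    obtain ⟨f, t, hts, -, hsum⟩ := Submodule.mem_span_iff_exists_finset_subset.mp hx
    letI := Helper16.DP.algR0 A
    letI := Helper16.DP.algR0K A
    have H : Helper16.DP.GenHyp (↥t) I d (fun l => (l : A)) :=
      { h_zero := h_zero
        h_mem := h_mem
        h_add := h_add
        h_mul := h_mul
        hs := fun l => hS ▸ Ideal.subset_span (hts l.2)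
        hs_mul := fun l m n => h_mul_dpow m n _ (hts l.2)
        hs_comp := fun l m n hn => h_comp m n _ hn (hts l.2) }
    have hinj := Helper16.DP.hinj0 A
    let g : Helper16.DP.P0 (↥t) (MvPolynomial A ℤ) (MvPolynomial A ℚ) :=
      ∑ l : ↥t, (MvPolynomial.X (f l) : MvPolynomial A ℤ) •
        Helper16.DP.x0 (↥t) (MvPolynomial A ℤ) (MvPolynomial A ℚ) l 1
    have hg : g ∈ Helper16.DP.Pplus (↥t) (MvPolynomial A ℤ) (MvPolynomial A ℚ) := by
      refine Ideal.sum_mem _ fun l _ => ?_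
      rw [Algebra.smul_def]
      exact Ideal.mul_mem_left _ _ (Helper16.DP.x0_mem_Pplus _ _ _ l 1 le_rfl)
    have hπ : Helper16.DP.piD (↥t) (MvPolynomial A ℤ) (MvPolynomial A ℚ) hinj H g = x := by
      rw [map_sum, ← hsum, ← Finset.sum_coe_sort t (fun a => f a • a)]
      refine Finset.sum_congr rfl fun l _ => ?_
      rw [map_smul, Helper16.DP.piD_x0, h_one _ (hS ▸ Ideal.subset_span (hts l.2)),
        Algebra.smul_def]
      show Helper16.DP.phi A (MvPolynomial.X (f l)) * (l : A) = _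
      rw [Helper16.DP.phi_X, smul_eq_mul]
    rw [← hπ]
    exact ⟨Helper16.DP.mul_dpow_of_image _ _ _ hinj H g hg,
      fun m n hn => Helper16.DP.dpow_comp_of_image _ _ _ hinj H g hg m n hn⟩
  exact ⟨{ dpow := d
           dpow_null := fun {n x} hx => h_null n x hx
           dpow_zero := fun {x} hx => h_zero x hx
           dpow_one := fun {x} hx => h_one x hx
           dpow_mem := fun {n x} hn hx => h_mem n x hn hx
           dpow_add := fun {n x y} hx hy => h_add n x y hx hy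
           dpow_mul := fun {n a x} hx => h_mul n a x hx
           mul_dpow := fun {m n x} hx => (key x hx).1 m n
           dpow_comp := fun {m n x} hn hx => (key x hx).2 m n hn }, rfl⟩

section Exp

variable {A : Type u} [CommRing A] {I : Ideal A} (γ : DividedPowers I)

theorem coeff_exp (n : ℕ) (a : A) : PowerSeries.coeff n (γ.exp a) = γ.dpow n a := by
  rw [DividedPowers.exp, PowerSeries.coeff_mk]

theorem exp_zero_eq : γ.exp 0 = 1 := by
  ext n
  rw [coeff_exp, PowerSeries.coeff_one]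
  split_ifs with hn
  · subst hn
    exact γ.dpow_zero I.zero_mem
  · exact γ.dpow_eval_zero hn

theorem exp_mul_eq (a x : A) (hx : x ∈ I) :
    γ.exp (a * x) = PowerSeries.rescale a (γ.exp x) := by
  ext n
  rw [coeff_exp, PowerSeries.coeff_rescale, coeff_exp, γ.dpow_mul hx]

end Exp

section IdealAdd

variable {A : Type u} [CommRing A] {I J : Ideal A} (γ : DividedPowers I) (δ : DividedPowers J)

/-- the product exponential -/
noncomputable def Eser (x y : A) : PowerSeries A := γ.exp x * δ.exp y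

variable (h : ∀ (n : ℕ) (x : A), x ∈ I ⊓ J → γ.dpow n x = δ.dpow n x)

include h in
theorem Eser_welldef {x x' y y' : A} (hx : x ∈ I) (hx' : x' ∈ I) (hy : y ∈ J) (hy' : y' ∈ J)
    (he : x + y = x' + y') : Eser γ δ x y = Eser γ δ x' y' := by
  have htI : x - x' ∈ I := I.sub_mem hx hx'
  have htJ : x - x' ∈ J := by
    have : x - x' = y' - y := by linear_combination he
    rw [this]
    exact J.sub_mem hy' hy
  have e1 : γ.exp x = γ.exp x' * γ.exp (x - x') := by
    rw [← γ.exp_add hx' htI]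
    congr 1
    ring
  have e2 : δ.exp y' = δ.exp y * δ.exp (x - x') := by
    rw [← δ.exp_add hy htJ]
    congr 1
    linear_combination -he
  have e3 : γ.exp (x - x') = δ.exp (x - x') := by
    ext n
    rw [coeff_exp, coeff_exp, h n _ ⟨htI, htJ⟩]
  unfold Eser
  rw [e1, e2, e3]
  ring

open Classical in
/-- the exponential series of the sum structure -/
noncomputable def Dser (z : A) : PowerSeries A :=
  if hz : z ∈ I ⊔ J then
    Eser γ δ (Classical.choose (Submodule.mem_sup.mp hz))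
      (Classical.choose (Classical.choose_spec (Submodule.mem_sup.mp hz)).2)
  else 0

include h in
theorem Dser_eq {x y : A} (hx : x ∈ I) (hy : y ∈ J) : Dser γ δ (x + y) = Eser γ δ x y := by
  have hz : x + y ∈ I ⊔ J := Submodule.add_mem_sup hx hy
  unfold Dser
  rw [dif_pos hz]
  have h1 := Classical.choose_spec (Submodule.mem_sup.mp hz)
  have h2 := Classical.choose_spec h1.2
  exact Eser_welldef γ δ h h1.1 hx h2.1 hy h2.2

theorem Dser_null {z : A} (hz : z ∉ I ⊔ J) : Dser γ δ z = 0 := by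
  unfold Dser
  rw [dif_neg hz]

/-- the divided powers on the sum -/
noncomputable def dAdd (n : ℕ) (z : A) : A := PowerSeries.coeff n (Dser γ δ z)

include h in
theorem dAdd_eq {x y : A} (hx : x ∈ I) (hy : y ∈ J) (n : ℕ) :
    dAdd γ δ n (x + y) = (Finset.antidiagonal n).sum fun k => γ.dpow k.1 x * δ.dpow k.2 y := by
  unfold dAdd
  rw [Dser_eq γ δ h hx hy, Eser, PowerSeries.coeff_mul]
  refine Finset.sum_congr rfl fun k _ => ?_
  rw [coeff_exp, coeff_exp]

include h in
theorem dAdd_left {x : A} (hx : x ∈ I) (n : ℕ) : dAdd γ δ n x = γ.dpow n x := by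
  have := Dser_eq γ δ h hx J.zero_mem
  unfold dAdd
  rw [add_zero] at this
  rw [this, Eser, exp_zero_eq, mul_one, coeff_exp]

include h in
theorem dAdd_right {y : A} (hy : y ∈ J) (n : ℕ) : dAdd γ δ n y = δ.dpow n y := by
  have := Dser_eq γ δ h I.zero_mem hy
  unfold dAdd
  rw [zero_add] at this
  rw [this, Eser, exp_zero_eq, one_mul, coeff_exp]

include h in
theorem Dser_add {z z' : A} (hz : z ∈ I ⊔ J) (hz' : z' ∈ I ⊔ J) :
    Dser γ δ (z + z') = Dser γ δ z * Dser γ δ z' := by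
  obtain ⟨x, hx, y, hy, rfl⟩ := Submodule.mem_sup.mp hz
  obtain ⟨x', hx', y', hy', rfl⟩ := Submodule.mem_sup.mp hz'
  have e : x + y + (x' + y') = (x + x') + (y + y') := by ring
  rw [e, Dser_eq γ δ h (I.add_mem hx hx') (J.add_mem hy hy'), Dser_eq γ δ h hx hy,
    Dser_eq γ δ h hx' hy', Eser, Eser, Eser, γ.exp_add hx hx', δ.exp_add hy hy']
  ring

include h in
theorem Dser_mul (a : A) {z : A} (hz : z ∈ I ⊔ J) :
    Dser γ δ (a * z) = PowerSeries.rescale a (Dser γ δ z) := by
  obtain ⟨x, hx, y, hy, rfl⟩ := Submodule.mem_sup.mp hz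
  rw [mul_add, Dser_eq γ δ h (I.mul_mem_left a hx) (J.mul_mem_left a hy), Dser_eq γ δ h hx hy,
    Eser, Eser, map_mul, exp_mul_eq γ a x hx, exp_mul_eq δ a y hy]

include h in
/-- Stacks 07H1 (2)-type statement: the sum structure exists. -/
theorem exists_dp_sup : ∃ ε : DividedPowers (I ⊔ J), ε.dpow = dAdd γ δ := by
  refine exists_dp_of_gens (I ⊔ J) ((I : Set A) ∪ (J : Set A)) ?_ (dAdd γ δ) ?_ ?_ ?_ ?_ ?_ ?_ ?_ ?_
  · rw [Ideal.span_union, Ideal.span_eq, Ideal.span_eq]
  · intro n x hx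
    unfold dAdd
    rw [Dser_null γ δ hx, map_zero]
  · intro z hz
    obtain ⟨x, hx, y, hy, rfl⟩ := Submodule.mem_sup.mp hz
    rw [dAdd_eq γ δ h hx hy, Finset.Nat.antidiagonal_zero, Finset.sum_singleton, γ.dpow_zero hx,
      δ.dpow_zero hy, mul_one]
  · intro z hz
    obtain ⟨x, hx, y, hy, rfl⟩ := Submodule.mem_sup.mp hz
    rw [dAdd_eq γ δ h hx hy, show Finset.antidiagonal 1 = {((0 : ℕ), (1 : ℕ)), (1, 0)} by decide,
      Finset.sum_pair (by decide), γ.dpow_zero hx, δ.dpow_zero hy, γ.dpow_one hx, δ.dpow_one hy]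
    ring
  · intro n z hn hz
    obtain ⟨x, hx, y, hy, rfl⟩ := Submodule.mem_sup.mp hz
    rw [dAdd_eq γ δ h hx hy]
    refine Ideal.sum_mem _ fun k hk => ?_
    rw [Finset.mem_antidiagonal] at hk
    by_cases hk1 : k.1 = 0
    · have hk2 : k.2 ≠ 0 := by omega
      exact Ideal.mul_mem_left _ _ (Ideal.mem_sup_right (δ.dpow_mem hk2 hy))
    · exact Ideal.mul_mem_right _ _ (Ideal.mem_sup_left (γ.dpow_mem hk1 hx))
  · intro n z z' hz hz'
    unfold dAdd
    rw [Dser_add γ δ h hz hz', PowerSeries.coeff_mul]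
  · intro n a z hz
    unfold dAdd
    rw [Dser_mul γ δ h a hz, PowerSeries.coeff_rescale]
  · rintro m n x (hx | hx)
    · rw [dAdd_left γ δ h hx, dAdd_left γ δ h hx, dAdd_left γ δ h hx, γ.mul_dpow hx]
    · rw [dAdd_right γ δ h hx, dAdd_right γ δ h hx, dAdd_right γ δ h hx, δ.mul_dpow hx]
  · rintro m n x hn (hx | hx)
    · rw [dAdd_left γ δ h hx, dAdd_left γ δ h (γ.dpow_mem hn hx), dAdd_left γ δ h hx,
        γ.dpow_comp hn hx]
    · rw [dAdd_right γ δ h hx, dAdd_right γ δ h (δ.dpow_mem hn hx), dAdd_right γ δ h hx,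
        δ.dpow_comp hn hx]

include h in
/-- Stacks 07H1 (2): existence and uniqueness of the sum structure. -/
theorem existsUnique_dp_sup : ∃! ε : DividedPowers (I ⊔ J),
    (∀ (n : ℕ) (x : A), x ∈ I → ε.dpow n x = γ.dpow n x) ∧
      (∀ (n : ℕ) (x : A), x ∈ J → ε.dpow n x = δ.dpow n x) := by
  obtain ⟨ε, hε⟩ := exists_dp_sup γ δ h
  refine ⟨ε, ⟨fun n x hx => ?_, fun n x hx => ?_⟩, ?_⟩
  · rw [hε, dAdd_left γ δ h hx]
  · rw [hε, dAdd_right γ δ h hx]
  · rintro ε' ⟨h1, h2⟩
    refine DividedPowers.dpow_eq_from_gens ε ε' (S := (I : Set A) ∪ (J : Set A)) ?_ ?_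
    · rw [Ideal.span_union, Ideal.span_eq, Ideal.span_eq]
    · rintro n a (ha | ha)
      · rw [hε, dAdd_left γ δ h ha, h1 n a ha]
      · rw [hε, dAdd_right γ δ h ha, h2 n a ha]

end IdealAdd

end Helper16.DP
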