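import Groth.Agent.Lib.Helper16.DP5

set_option autoImplicit false

open Nat

namespace Helper16.DP

universe u v w

section Q

variable (R : Type u) [CommRing R] (Λ : Type w) [Fintype Λ] [DecidableEq Λ]
variable (P : Type v) [CommRing P] [Algebra R P] (x : Λ → ℕ → P)

/-- generators of the augmentation ideal of a dp polynomial algebra -/
def gensP : Set P := {y : P | ∃ (l : Λ) (n : ℕ), 1 ≤ n ∧ y = x l n}

/-- `P` as an algebra over `ℤ[R]`. -/
noncomputable def algR0P : Algebra (MvPolynomial R ℤ) P :=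
  ((algebraMap R P).comp (phi R)).toAlgebra

attribute [local instance] algR0K algR0P

theorem algebraMap_R0P (c : MvPolynomial R ℤ) :
    algebraMap (MvPolynomial R ℤ) P c = algebraMap R P (phi R c) := rfl

theorem smul_R0P (c : MvPolynomial R ℤ) (p : P) : c • p = (phi R c) • p := by
  rw [Algebra.smul_def, Algebra.smul_def, algebraMap_R0P]

variable {x}
variable (hx : IsDPFam x) (b : Module.Basis (Λ →₀ ℕ) R P) (hb : ∀ e, b e = mon x e)

/-- the projection from the model -/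
noncomputable def piQ : P0 Λ (MvPolynomial R ℤ) (MvPolynomial R ℚ) →ₐ[MvPolynomial R ℤ] P :=
  mapOut Λ (MvPolynomial R ℤ) (MvPolynomial R ℚ) (hinj0 R) hx

theorem piQ_x0 (l : Λ) (n : ℕ) :
    piQ R Λ P hx (x0 Λ (MvPolynomial R ℤ) (MvPolynomial R ℚ) l n) = x l n :=
  mapOut_x0 _ _ _ _ hx l n

include hb in
theorem piQ_b0 (e : Λ →₀ ℕ) :
    piQ R Λ P hx (b0 Λ (MvPolynomial R ℤ) (MvPolynomial R ℚ) (hinj0 R) e) = b e := by
  rw [hb]
  exact mapOut_b0 _ _ _ _ hx e

include hb in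
theorem piQ_eq_linearCombination (z : P0 Λ (MvPolynomial R ℤ) (MvPolynomial R ℚ)) :
    piQ R Λ P hx z = Finsupp.linearCombination R b
      (((b0 Λ (MvPolynomial R ℤ) (MvPolynomial R ℚ) (hinj0 R)).repr z).mapRange (phi R)
        (map_zero _)) := by
  conv_lhs => rw [← (b0 Λ (MvPolynomial R ℤ) (MvPolynomial R ℚ) (hinj0 R)).linearCombination_repr z]
  rw [Finsupp.linearCombination_apply, Finsupp.linearCombination_apply,
    Finsupp.sum_mapRange_index (fun e => zero_smul R (b e)), map_finsuppSum]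
  refine Finsupp.sum_congr fun e _ => ?_
  rw [map_smul, piQ_b0 R Λ P hx b hb, smul_R0P]

include hb in
theorem phi_repr_eq (z : P0 Λ (MvPolynomial R ℤ) (MvPolynomial R ℚ)) (e : Λ →₀ ℕ) :
    phi R ((b0 Λ (MvPolynomial R ℤ) (MvPolynomial R ℚ) (hinj0 R)).repr z e) =
      b.repr (piQ R Λ P hx z) e := by
  rw [piQ_eq_linearCombination R Λ P hx b hb, Module.Basis.repr_linearCombination,
    Finsupp.mapRange_apply]

include hb in
theorem piQ_surjective : Function.Surjective (piQ R Λ P hx) := by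
  intro p
  refine ⟨∑ e ∈ (b.repr p).support, (MvPolynomial.X (b.repr p e) : MvPolynomial R ℤ) •
    b0 Λ (MvPolynomial R ℤ) (MvPolynomial R ℚ) (hinj0 R) e, ?_⟩
  rw [map_sum]
  conv_rhs => rw [← b.linearCombination_repr p, Finsupp.linearCombination_apply, Finsupp.sum]
  refine Finset.sum_congr rfl fun e _ => ?_
  rw [map_smul, piQ_b0 R Λ P hx b hb, smul_R0P, phi_X]

/-- the ideal generated by the kernel of `ℤ[R] → R`. -/
noncomputable def Jphi : Ideal (P0 Λ (MvPolynomial R ℤ) (MvPolynomial R ℚ)) :=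
  Ideal.map (algebraMap (MvPolynomial R ℤ) (P0 Λ (MvPolynomial R ℤ) (MvPolynomial R ℚ)))
    (RingHom.ker (phi R))

theorem Jphi_le_ker : Jphi R Λ ≤ RingHom.ker (piQ R Λ P hx).toRingHom := by
  unfold Jphi
  rw [Ideal.map_le_iff_le_comap]
  intro c hc
  rw [RingHom.mem_ker] at hc
  rw [Ideal.mem_comap, RingHom.mem_ker]
  show (piQ R Λ P hx) (algebraMap _ _ c) = 0
  rw [AlgHom.commutes, algebraMap_R0P, hc, map_zero]

include hb in
theorem ker_inf_Pplus_eq :
    RingHom.ker (piQ R Λ P hx).toRingHom ⊓ Pplus Λ (MvPolynomial R ℤ) (MvPolynomial R ℚ) =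
      Pplus Λ (MvPolynomial R ℤ) (MvPolynomial R ℚ) • Jphi R Λ := by
  apply le_antisymm
  · rintro z ⟨hz1, hz2⟩
    have hz1' : piQ R Λ P hx z = 0 := hz1
    have hz2 : z ∈ Pplus Λ (MvPolynomial R ℤ) (MvPolynomial R ℚ) := hz2
    rw [← (b0 Λ (MvPolynomial R ℤ) (MvPolynomial R ℚ) (hinj0 R)).linearCombination_repr z,
      Finsupp.linearCombination_apply, Finsupp.sum]
    refine Ideal.sum_mem _ fun e _ => ?_
    have hc : (b0 Λ (MvPolynomial R ℤ) (MvPolynomial R ℚ) (hinj0 R)).repr z e ∈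
        RingHom.ker (phi R) := by
      rw [RingHom.mem_ker, phi_repr_eq R Λ P hx b hb, hz1', map_zero, Finsupp.zero_apply]
    by_cases he : e = 0
    · subst he
      rw [repr_zero_of_mem_Pplus Λ _ _ (hinj0 R) z hz2, zero_smul]
      exact Ideal.zero_mem _
    · rw [Algebra.smul_def, mul_comm]
      exact Submodule.smul_mem_smul (b0_mem_Pplus Λ _ _ (hinj0 R) e he)
        (Ideal.mem_map_of_mem _ hc)
  · rw [smul_eq_mul]
    exact le_inf (Ideal.mul_le_right.trans (Jphi_le_ker R Λ P hx)) Ideal.mul_le_left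

include hb in
theorem isSubDPIdeal_ker :
    (eps Λ (MvPolynomial R ℤ) (MvPolynomial R ℚ)).IsSubDPIdeal
      (RingHom.ker (piQ R Λ P hx).toRingHom ⊓ Pplus Λ (MvPolynomial R ℤ) (MvPolynomial R ℚ)) := by
  rw [ker_inf_Pplus_eq R Λ P hx b hb]
  exact (DividedPowers.SubDPIdeal.prod (hI := eps Λ (MvPolynomial R ℤ) (MvPolynomial R ℚ))
    (Jphi R Λ)).toIsSubDPIdeal

theorem span_gensP_eq :
    Ideal.span (gensP Λ P x) =
      (Pplus Λ (MvPolynomial R ℤ) (MvPolynomial R ℚ)).map (piQ R Λ P hx).toRingHom := by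
  unfold Pplus
  rw [Ideal.map_span]
  congr 1
  ext y
  constructor
  · rintro ⟨l, n, hn, rfl⟩
    exact ⟨_, ⟨l, n, hn, rfl⟩, piQ_x0 R Λ P hx l n⟩
  · rintro ⟨_, ⟨l, n, hn, rfl⟩, rfl⟩
    exact ⟨l, n, hn, piQ_x0 R Λ P hx l n⟩

include hx hb in
/-- Theorem Q: the divided power structure on the augmentation ideal of a dp polynomial
algebra over an arbitrary base ring. -/
theorem exists_dp_of_basis :
    ∃ γ : DividedPowers (Ideal.span (gensP Λ P x)), ∀ (l : Λ) (m n : ℕ), 1 ≤ m →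
      γ.dpow n (x l m) = (uniformBell n m : P) * x l (n * m) := by
  have hsurj : Function.Surjective (piQ R Λ P hx).toRingHom := piQ_surjective R Λ P hx b hb
  refine ⟨DividedPowers.Quotient.OfSurjective.dividedPowers
    (eps Λ (MvPolynomial R ℤ) (MvPolynomial R ℚ)) hsurj (span_gensP_eq R Λ P hx)
    (isSubDPIdeal_ker R Λ P hx b hb), fun l m n hm => ?_⟩
  have h1 := DividedPowers.Quotient.OfSurjective.dpow_apply
    (eps Λ (MvPolynomial R ℤ) (MvPolynomial R ℚ)) hsurj (span_gensP_eq R Λ P hx)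
    (isSubDPIdeal_ker R Λ P hx b hb) (n := n) (x0_mem_Pplus Λ _ _ l m hm)
  have h2 : (piQ R Λ P hx).toRingHom (x0 Λ (MvPolynomial R ℤ) (MvPolynomial R ℚ) l m) = x l m :=
    piQ_x0 R Λ P hx l m
  rw [h2] at h1
  rw [h1, eps_x0 Λ _ _ l m hm n, map_mul, map_natCast]
  congr 1
  exact piQ_x0 R Λ P hx l (n * m)

end Q

section Uniq

variable {Λ : Type w} {P : Type v} [CommRing P] {x : Λ → ℕ → P}

/-- a dp structure on the augmentation ideal with `γ_n(x l 1) = x l n` is determined on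
generators. -/
theorem dpow_gen_of_one (γ : DividedPowers (Ideal.span (gensP Λ P x)))
    (hγ : ∀ (l : Λ) (n : ℕ), γ.dpow n (x l 1) = x l n) (l : Λ) (m n : ℕ) (hm : 1 ≤ m) :
    γ.dpow n (x l m) = (uniformBell n m : P) * x l (n * m) := by
  have h1 : x l 1 ∈ Ideal.span (gensP Λ P x) := Ideal.subset_span ⟨l, 1, le_rfl, rfl⟩
  rw [← hγ l m, γ.dpow_comp (by omega) h1, hγ]

theorem dp_unique_of_one (γ γ' : DividedPowers (Ideal.span (gensP Λ P x)))
    (hγ : ∀ (l : Λ) (n : ℕ), γ.dpow n (x l 1) = x l n)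
    (hγ' : ∀ (l : Λ) (n : ℕ), γ'.dpow n (x l 1) = x l n) : γ' = γ := by
  refine DividedPowers.dpow_eq_from_gens γ γ' (S := gensP Λ P x) rfl ?_
  rintro n _ ⟨l, m, hm, rfl⟩
  rw [dpow_gen_of_one γ hγ l m n hm, dpow_gen_of_one γ' hγ' l m n hm]

end Uniq

end Helper16.DP
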