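import Groth.Agent.Lib.Helper16.DP6
import Mathlib.RingTheory.Flat.Tensor

set_option autoImplicit false

open Nat TensorProduct

namespace Helper16.DP

universe u v

example (n : ℕ) : Finset (ℕ × ℕ) := Finset.antidiagonal n

section FlatExt

variable {A : Type u} {B : Type v} [CommRing A] [CommRing B] [Algebra A B]
variable {I : Ideal A} (γ : DividedPowers I)

/-- the series `Σ γ_n(x) b^n T^n`. -/
noncomputable def ser (x : A) (b : B) : PowerSeries B :=
  PowerSeries.mk fun n => algebraMap A B (γ.dpow n x) * b ^ n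

theorem coeff_ser (x : A) (b : B) (n : ℕ) :
    PowerSeries.coeff n (ser γ x b) = algebraMap A B (γ.dpow n x) * b ^ n := by
  rw [ser, PowerSeries.coeff_mk]

theorem ser_zero_right {x : A} (hx : x ∈ I) : ser γ x (0 : B) = 1 := by
  ext n
  rw [coeff_ser, PowerSeries.coeff_one]
  split_ifs with hn
  · subst hn
    rw [γ.dpow_zero hx, map_one, pow_zero, mul_one]
  · rw [zero_pow hn, mul_zero]

theorem ser_zero_left (b : B) : ser γ 0 b = 1 := by
  ext n
  rw [coeff_ser, PowerSeries.coeff_one]
  split_ifs with hn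
  · subst hn
    rw [γ.dpow_zero I.zero_mem, map_one, pow_zero, mul_one]
  · rw [γ.dpow_eval_zero hn, map_zero, zero_mul]

theorem ser_add_left {x x' : A} (hx : x ∈ I) (hx' : x' ∈ I) (b : B) :
    ser γ (x + x') b = ser γ x b * ser γ x' b := by
  ext n
  rw [coeff_ser, PowerSeries.coeff_mul, γ.dpow_add hx hx', map_sum, Finset.sum_mul]
  refine Finset.sum_congr rfl fun k hk => ?_
  rw [Finset.mem_antidiagonal] at hk
  rw [coeff_ser, coeff_ser, map_mul, ← hk, pow_add]
  ring

theorem ser_add_right {x : A} (hx : x ∈ I) (b b' : B) :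
    ser γ x (b + b') = ser γ x b * ser γ x b' := by
  ext n
  rw [coeff_ser, PowerSeries.coeff_mul, (Commute.all b b').add_pow', Finset.mul_sum]
  refine Finset.sum_congr rfl fun k hk => ?_
  rw [Finset.mem_antidiagonal] at hk
  rw [coeff_ser, coeff_ser]
  have h1 : algebraMap A B (γ.dpow k.1 x) * algebraMap A B (γ.dpow k.2 x) =
      ((k.1 + k.2).choose k.1 : B) * algebraMap A B (γ.dpow (k.1 + k.2) x) := by
    rw [← map_mul, γ.mul_dpow hx, map_mul, map_natCast]
  calc algebraMap A B (γ.dpow n x) * (n.choose k.1 • (b ^ k.1 * b' ^ k.2))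
      = (((k.1 + k.2).choose k.1 : B) * algebraMap A B (γ.dpow (k.1 + k.2) x)) *
          (b ^ k.1 * b' ^ k.2) := by
        rw [hk, nsmul_eq_mul]; ring
    _ = algebraMap A B (γ.dpow k.1 x) * b ^ k.1 * (algebraMap A B (γ.dpow k.2 x) * b' ^ k.2) := by
        rw [← h1]; ring

theorem ser_smul (a : A) {x : A} (hx : x ∈ I) (b : B) :
    ser γ (a * x) b = ser γ x (algebraMap A B a * b) := by
  ext n
  rw [coeff_ser, coeff_ser, γ.dpow_mul hx, map_mul, map_pow, mul_pow]
  ring

theorem ser_mul_right (c b : B) (x : A) :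
    ser γ x (c * b) = PowerSeries.rescale c (ser γ x b) := by
  ext n
  rw [coeff_ser, PowerSeries.coeff_rescale, coeff_ser, mul_pow]
  ring

/-- the bi-additive map to the multiplicative monoid of power series -/
noncomputable def serHom : I →+ B →+ Additive (PowerSeries B) where
  toFun x :=
    { toFun := fun b => Additive.ofMul (ser γ x b)
      map_zero' := by
        show Additive.ofMul (ser γ (x : A) (0 : B)) = 0
        rw [ser_zero_right γ x.2]
        rfl
      map_add' := fun b b' => by
        show Additive.ofMul (ser γ (x : A) (b + b')) = _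
        rw [ser_add_right γ x.2]
        rfl }
  map_zero' := by
    refine AddMonoidHom.ext fun b => ?_
    show Additive.ofMul (ser γ ((0 : I) : A) b) = 0
    rw [Submodule.coe_zero, ser_zero_left]
    rfl
  map_add' x x' := by
    refine AddMonoidHom.ext fun b => ?_
    show Additive.ofMul (ser γ ((x + x' : I) : A) b) = _
    rw [Submodule.coe_add, ser_add_left γ x.2 x'.2]
    rfl

theorem serHom_apply (x : I) (b : B) : serHom γ x b = Additive.ofMul (ser γ (x : A) b) := rfl

/-- the additive map on the tensor product -/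
noncomputable def Eadd : I ⊗[A] B →+ Additive (PowerSeries B) :=
  TensorProduct.liftAddHom (serHom γ) (fun a x b => by
    rw [serHom_apply, serHom_apply, Submodule.coe_smul, smul_eq_mul, ser_smul γ a x.2,
      Algebra.smul_def])

/-- the exponential on the tensor product -/
noncomputable def Et (t : I ⊗[A] B) : PowerSeries B := Additive.toMul (Eadd γ t)

theorem Et_tmul (x : I) (b : B) : Et γ (x ⊗ₜ[A] b) = ser γ (x : A) b := rfl

theorem Et_zero : Et γ (0 : I ⊗[A] B) = (1 : PowerSeries B) := by
  unfold Et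
  rw [map_zero]
  rfl

theorem Et_add (t t' : I ⊗[A] B) : Et γ (t + t') = Et γ t * Et γ t' := by
  unfold Et
  rw [map_add]
  rfl

/-- the multiplication map `I ⊗ B → B`. -/
noncomputable def muT : I ⊗[A] B →ₗ[A] B :=
  TensorProduct.lift ((LinearMap.lsmul A B).comp I.subtype)

theorem muT_tmul (x : I) (b : B) : muT (x ⊗ₜ[A] b) = algebraMap A B (x : A) * b := by
  rw [muT, TensorProduct.lift.tmul]
  simp [Algebra.smul_def]

theorem muT_injective [Module.Flat A B] : Function.Injective (muT (I := I) (B := B)) := by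
  have h := (Module.Flat.iff_rTensor_injective' (R := A) (M := B)).mp inferInstance I
  have : (muT (I := I) (B := B)) = (TensorProduct.lid A B).toLinearMap.comp
      (LinearMap.rTensor B I.subtype) := by
    rw [muT, ← LinearMap.lid_comp_rTensor]
  rw [this]
  exact (TensorProduct.lid A B).injective.comp h

/-- the action of `B` on the right factor -/
noncomputable def cmul (c : B) : I ⊗[A] B →ₗ[A] I ⊗[A] B :=
  LinearMap.lTensor I (LinearMap.mulLeft A c)

theorem cmul_tmul (c : B) (x : I) (b : B) : cmul c (x ⊗ₜ[A] b) = x ⊗ₜ[A] (c * b) := by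
  rw [cmul, LinearMap.lTensor_tmul, LinearMap.mulLeft_apply]

theorem muT_cmul (c : B) (t : I ⊗[A] B) : muT (cmul c t) = c * muT t := by
  induction t using TensorProduct.induction_on with
  | zero => simp
  | tmul x b => rw [cmul_tmul, muT_tmul, muT_tmul]; ring
  | add t t' ih ih' => rw [map_add, map_add, ih, ih', map_add, mul_add]

theorem Et_cmul (c : B) (t : I ⊗[A] B) : Et γ (cmul c t) = PowerSeries.rescale c (Et γ t) := by
  induction t using TensorProduct.induction_on with
  | zero => rw [map_zero, Et_zero, map_one]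
  | tmul x b => rw [cmul_tmul, Et_tmul, Et_tmul, ser_mul_right]
  | add t t' ih ih' => rw [map_add, Et_add, Et_add, ih, ih', map_mul]

theorem coeff_zero_Et (t : I ⊗[A] B) : PowerSeries.coeff 0 (Et γ t) = 1 := by
  induction t using TensorProduct.induction_on with
  | zero => rw [Et_zero, PowerSeries.coeff_one, if_pos rfl]
  | tmul x b => rw [Et_tmul, coeff_ser, γ.dpow_zero x.2, map_one, pow_zero, mul_one]
  | add t t' ih ih' =>
    rw [Et_add, PowerSeries.coeff_mul, Finset.Nat.antidiagonal_zero, Finset.sum_singleton, ih, ih',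
      mul_one]

theorem coeff_one_Et (t : I ⊗[A] B) : PowerSeries.coeff 1 (Et γ t) = muT t := by
  induction t using TensorProduct.induction_on with
  | zero => rw [Et_zero, PowerSeries.coeff_one, if_neg one_ne_zero, map_zero]
  | tmul x b => rw [Et_tmul, coeff_ser, γ.dpow_one x.2, pow_one, muT_tmul]
  | add t t' ih ih' =>
    rw [Et_add, PowerSeries.coeff_mul,
      show Finset.antidiagonal 1 = {((0 : ℕ), (1 : ℕ)), (1, 0)} by decide,
      Finset.sum_pair (by decide), ih, ih', coeff_zero_Et, coeff_zero_Et, map_add]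
    ring

theorem coeff_Et_mem (t : I ⊗[A] B) (n : ℕ) (hn : n ≠ 0) :
    PowerSeries.coeff n (Et γ t) ∈ I.map (algebraMap A B) := by
  induction t using TensorProduct.induction_on generalizing n with
  | zero => rw [Et_zero, PowerSeries.coeff_one, if_neg hn]; exact Ideal.zero_mem _
  | tmul x b =>
    rw [Et_tmul, coeff_ser]
    exact Ideal.mul_mem_right _ _ (Ideal.mem_map_of_mem _ (γ.dpow_mem hn x.2))
  | add t t' ih ih' =>
    rw [Et_add, PowerSeries.coeff_mul]
    refine Ideal.sum_mem _ fun k hk => ?_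
    rw [Finset.mem_antidiagonal] at hk
    by_cases hk1 : k.1 = 0
    · exact Ideal.mul_mem_left _ _ (ih' k.2 (by omega))
    · exact Ideal.mul_mem_right _ _ (ih k.1 hk1)

theorem exists_muT_eq (z : B) (hz : z ∈ I.map (algebraMap A B)) :
    ∃ t : I ⊗[A] B, muT t = z := by
  unfold Ideal.map at hz
  induction hz using Submodule.span_induction with
  | mem z hz =>
    obtain ⟨x, hx, rfl⟩ := hz
    exact ⟨(⟨x, hx⟩ : I) ⊗ₜ[A] (1 : B), by rw [muT_tmul, mul_one]⟩
  | zero => exact ⟨0, map_zero _⟩
  | add z z' _ _ ih ih' =>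
    obtain ⟨t, rfl⟩ := ih
    obtain ⟨t', rfl⟩ := ih'
    exact ⟨t + t', map_add _ _ _⟩
  | smul c z _ ih =>
    obtain ⟨t, rfl⟩ := ih
    exact ⟨cmul c t, by rw [muT_cmul, smul_eq_mul]⟩

variable [Module.Flat A B]

open Classical in
/-- the preimage in the tensor product -/
noncomputable def tOf (z : B) : I ⊗[A] B :=
  if hz : z ∈ I.map (algebraMap A B) then Classical.choose (exists_muT_eq z hz) else 0

theorem muT_tOf {z : B} (hz : z ∈ I.map (algebraMap A B)) : muT (tOf (I := I) z) = z := by
  unfold tOf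
  rw [dif_pos hz]
  exact Classical.choose_spec (exists_muT_eq z hz)

theorem tOf_muT (t : I ⊗[A] B) : tOf (I := I) (muT t) = t := by
  apply muT_injective
  apply muT_tOf
  obtain ⟨t, rfl⟩ : ∃ t', t' = t := ⟨t, rfl⟩
  induction t using TensorProduct.induction_on with
  | zero => rw [map_zero]; exact Ideal.zero_mem _
  | tmul x b =>
    rw [muT_tmul]
    exact Ideal.mul_mem_right _ _ (Ideal.mem_map_of_mem _ x.2)
  | add t t' ih ih' => rw [map_add]; exact Ideal.add_mem _ ih ih'

theorem muT_mem (t : I ⊗[A] B) : muT t ∈ I.map (algebraMap A B) := by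
  induction t using TensorProduct.induction_on with
  | zero => rw [map_zero]; exact Ideal.zero_mem _
  | tmul x b =>
    rw [muT_tmul]
    exact Ideal.mul_mem_right _ _ (Ideal.mem_map_of_mem _ x.2)
  | add t t' ih ih' => rw [map_add]; exact Ideal.add_mem _ ih ih'

open Classical in
/-- the extended divided powers -/
noncomputable def dExt (n : ℕ) (z : B) : B :=
  if z ∈ I.map (algebraMap A B) then PowerSeries.coeff n (Et γ (tOf z)) else 0

theorem dExt_muT (n : ℕ) (t : I ⊗[A] B) : dExt γ n (muT t) = PowerSeries.coeff n (Et γ t) := by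
  unfold dExt
  rw [if_pos (muT_mem t), tOf_muT]

theorem dExt_algebraMap (n : ℕ) {x : A} (hx : x ∈ I) :
    dExt γ n (algebraMap A B x) = algebraMap A B (γ.dpow n x) := by
  have : algebraMap A B x = muT ((⟨x, hx⟩ : I) ⊗ₜ[A] (1 : B)) := by rw [muT_tmul, mul_one]
  rw [this, dExt_muT, Et_tmul, coeff_ser, one_pow, mul_one]

/-- Stacks 07H1 (3): extension of divided powers along a flat map. -/
theorem exists_dp_flat :
    ∃ δ : DividedPowers (I.map (algebraMap A B)), γ.IsDPMorphism δ (algebraMap A B) := by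
  suffices hex : ∃ δ : DividedPowers (I.map (algebraMap A B)), δ.dpow = dExt γ by
    obtain ⟨δ, hδ⟩ := hex
    refine ⟨δ, le_rfl, fun {n} a ha => ?_⟩
    rw [hδ, dExt_algebraMap γ n ha]
  refine exists_dp_of_gens (I.map (algebraMap A B)) ((algebraMap A B) '' (I : Set A)) rfl
    (dExt γ) ?_ ?_ ?_ ?_ ?_ ?_ ?_ ?_
  · intro n z hz
    unfold dExt
    rw [if_neg hz]
  · intro z hz
    obtain ⟨t, rfl⟩ := exists_muT_eq z hz
    rw [dExt_muT, coeff_zero_Et]
  · intro z hz
    obtain ⟨t, rfl⟩ := exists_muT_eq z hz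
    rw [dExt_muT, coeff_one_Et]
  · intro n z hn hz
    obtain ⟨t, rfl⟩ := exists_muT_eq z hz
    rw [dExt_muT]
    exact coeff_Et_mem γ t n hn
  · intro n z z' hz hz'
    obtain ⟨t, rfl⟩ := exists_muT_eq z hz
    obtain ⟨t', rfl⟩ := exists_muT_eq z' hz'
    rw [← map_add, dExt_muT, Et_add, PowerSeries.coeff_mul]
    refine Finset.sum_congr rfl fun k _ => ?_
    rw [dExt_muT, dExt_muT]
  · intro n c z hz
    obtain ⟨t, rfl⟩ := exists_muT_eq z hz
    rw [← muT_cmul, dExt_muT, dExt_muT, Et_cmul, PowerSeries.coeff_rescale]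
  · rintro m n _ ⟨x, hx, rfl⟩
    rw [dExt_algebraMap γ m hx, dExt_algebraMap γ n hx, dExt_algebraMap γ (m + n) hx, ← map_mul,
      γ.mul_dpow hx, map_mul, map_natCast]
  · rintro m n _ hn ⟨x, hx, rfl⟩
    rw [dExt_algebraMap γ n hx, dExt_algebraMap γ m (γ.dpow_mem hn hx),
      dExt_algebraMap γ (m * n) hx, γ.dpow_comp hn hx, map_mul, map_natCast]

end FlatExt

section Uniq

variable {A : Type u} {B : Type v} [CommRing A] [CommRing B] [Algebra A B]
variable {I : Ideal A} (γ : DividedPowers I)

theorem dp_ext_unique (δ δ' : DividedPowers (I.map (algebraMap A B)))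
    (h : γ.IsDPMorphism δ (algebraMap A B)) (h' : γ.IsDPMorphism δ' (algebraMap A B)) :
    δ = δ' := by
  refine DividedPowers.dpow_eq_from_gens δ' δ (S := (algebraMap A B) '' (I : Set A)) rfl ?_
  rintro n _ ⟨x, hx, rfl⟩
  rw [h.dpow_comp x hx, h'.dpow_comp x hx]

end Uniq

end Helper16.DP
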