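import Groth.Agent.Lib.Helper16.DP7

set_option autoImplicit false

open Nat

namespace Helper16.DP

universe u v w

section AugGen

variable (R : Type u) [CommRing R] (Λ : Type w)
variable (P : Type v) [CommRing P] [Algebra R P] (x : Λ → ℕ → P)
variable (hx0 : ∀ l, x l 0 = 1)
variable (hxmul : ∀ l n m, x l n * x l m = ((n + m).choose n : P) * x l (n + m))
variable (b : Module.Basis (Λ →₀ ℕ) R P) (hb : ∀ e : Λ →₀ ℕ, b e = e.prod (fun l k => x l k))

include hx0 hb in
theorem b_single (l : Λ) (n : ℕ) : b (Finsupp.single l n) = x l n := by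
  rw [hb, Finsupp.prod_single_index (hx0 l)]

include hx0 hxmul hb in
theorem b_mul_x (e : Λ →₀ ℕ) (l : Λ) (n : ℕ) :
    b e * x l n = ((e l + n).choose (e l) : P) * b (e + Finsupp.single l n) := by
  classical
  rw [hb, hb, ← Finsupp.mul_prod_erase' e l _ hx0,
    ← Finsupp.mul_prod_erase' (e + Finsupp.single l n) l _ hx0]
  have h1 : Finsupp.erase l (e + Finsupp.single l n) = Finsupp.erase l e := by
    rw [Finsupp.erase_add, Finsupp.erase_single, add_zero]
  rw [h1, Finsupp.add_apply, Finsupp.single_eq_same]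
  calc x l (e l) * (Finsupp.erase l e).prod (fun l k => x l k) * x l n
      = (x l (e l) * x l n) * (Finsupp.erase l e).prod (fun l k => x l k) := by ring
    _ = _ := by rw [hxmul]; ring

include hx0 hb in
theorem b_mem_aug (e : Λ →₀ ℕ) (he : e ≠ 0) : b e ∈ Ideal.span (gensP Λ P x) := by
  classical
  obtain ⟨l, hl⟩ : ∃ l, e l ≠ 0 := by
    by_contra hcon
    push_neg at hcon
    exact he (Finsupp.ext hcon)
  rw [hb, ← Finsupp.mul_prod_erase' e l _ hx0]
  exact Ideal.mul_mem_right _ _ (Ideal.subset_span ⟨l, e l, by omega, rfl⟩)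

include hx0 hxmul hb in
theorem coord_zero_mul_x (p : P) (l : Λ) (n : ℕ) (hn : 1 ≤ n) : b.repr (p * x l n) 0 = 0 := by
  classical
  have h : (b.coord 0).comp (LinearMap.mulRight R (x l n)) = 0 := by
    refine b.ext fun e => ?_
    rw [LinearMap.comp_apply, LinearMap.mulRight_apply, b_mul_x R Λ P x hx0 hxmul b hb,
      LinearMap.zero_apply, Module.Basis.coord_apply, ← nsmul_eq_mul, map_nsmul,
      Module.Basis.repr_self, Finsupp.smul_apply, Finsupp.single_apply, if_neg, smul_zero]
    intro h0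
    have := congrArg (fun f => f l) h0
    simp only [Finsupp.add_apply, Finsupp.single_eq_same, Finsupp.zero_apply] at this
    omega
  have := LinearMap.congr_fun h p
  rwa [LinearMap.comp_apply, LinearMap.mulRight_apply, LinearMap.zero_apply,
    Module.Basis.coord_apply] at this

include hx0 hxmul hb in
theorem repr_zero_of_mem_aug (z : P) (hz : z ∈ Ideal.span (gensP Λ P x)) : b.repr z 0 = 0 := by
  have key : ∀ p : P, b.repr (p * z) 0 = 0 := by
    induction hz using Submodule.span_induction with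
    | mem z hz =>
      obtain ⟨l, n, hn, rfl⟩ := hz
      intro p
      exact coord_zero_mul_x R Λ P x hx0 hxmul b hb p l n hn
    | zero => intro p; simp
    | add z z' _ _ ih ih' =>
      intro p
      rw [mul_add, map_add, Finsupp.add_apply, ih, ih', add_zero]
    | smul q z _ ih =>
      intro p
      rw [smul_eq_mul, ← mul_assoc]
      exact ih (p * q)
  have := key 1
  rwa [one_mul] at this

theorem repr_mem_of_mem_map (I : Ideal R) (z : P) (hz : z ∈ I.map (algebraMap R P))
    (e : Λ →₀ ℕ) : b.repr z e ∈ I := by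
  have hz' : z ∈ (I • (⊤ : Submodule R P)) := by
    rw [Ideal.smul_top_eq_map]
    exact hz
  revert e
  refine Submodule.smul_induction_on (p := fun z => ∀ e, b.repr z e ∈ I) hz' ?_ ?_
  · intro r hr n _ e
    rw [map_smul, Finsupp.smul_apply, smul_eq_mul]
    exact Ideal.mul_mem_right _ _ hr
  · intro y y' ih ih' e
    rw [map_add, Finsupp.add_apply]
    exact Ideal.add_mem _ (ih e) (ih' e)

end AugGen

section Compat

variable (R : Type u) [CommRing R] {I : Ideal R} (γ : DividedPowers I) (Λ : Type w)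
variable (P : Type v) [CommRing P] [Algebra R P] (x : Λ → ℕ → P)
variable (hx0 : ∀ l, x l 0 = 1)
variable (hxmul : ∀ l n m, x l n * x l m = ((n + m).choose n : P) * x l (n + m))
variable (b : Module.Basis (Λ →₀ ℕ) R P) (hb : ∀ e : Λ →₀ ℕ, b e = e.prod (fun l k => x l k))
variable (γ' : DividedPowers (I.map (algebraMap R P))) (hγ' : γ.IsDPMorphism γ' (algebraMap R P))
variable (δp : DividedPowers (Ideal.span (gensP Λ P x)))

include hγ' in
theorem agree_term (a : R) (ha : a ∈ I) (f : P) (hf : f ∈ Ideal.span (gensP Λ P x)) (n : ℕ) :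
    γ'.dpow n (algebraMap R P a * f) = δp.dpow n (algebraMap R P a * f) := by
  rw [γ'.dpow_mul_right (Ideal.mem_map_of_mem _ ha), δp.dpow_mul hf, hγ'.dpow_comp a ha,
    ← δp.factorial_mul_dpow_eq_pow hf, ← mul_assoc, ← map_natCast (algebraMap R P), ← map_mul,
    mul_comm _ (n ! : R), γ.factorial_mul_dpow_eq_pow ha, map_pow]

include hx0 hxmul hb hγ' in
theorem agree_inf (z : P) (hz1 : z ∈ I.map (algebraMap R P))
    (hz2 : z ∈ Ideal.span (gensP Λ P x)) (n : ℕ) : γ'.dpow n z = δp.dpow n z := by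
  have key : ∀ s : Finset (Λ →₀ ℕ),
      (∑ e ∈ s, b.repr z e • b e) ∈ I.map (algebraMap R P) ∧
      (∑ e ∈ s, b.repr z e • b e) ∈ Ideal.span (gensP Λ P x) ∧
      ∀ n, γ'.dpow n (∑ e ∈ s, b.repr z e • b e) = δp.dpow n (∑ e ∈ s, b.repr z e • b e) := by
    intro s
    refine Finset.sum_induction _ (fun w => w ∈ I.map (algebraMap R P) ∧
      w ∈ Ideal.span (gensP Λ P x) ∧ ∀ n, γ'.dpow n w = δp.dpow n w) ?_ ?_ ?_
    · rintro w w' ⟨h1, h2, h3⟩ ⟨h1', h2', h3'⟩
      refine ⟨Ideal.add_mem _ h1 h1', Ideal.add_mem _ h2 h2', fun n => ?_⟩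
      rw [γ'.dpow_add h1 h1', δp.dpow_add h2 h2']
      refine Finset.sum_congr rfl fun k _ => ?_
      rw [h3, h3']
    · refine ⟨Ideal.zero_mem _, Ideal.zero_mem _, fun n => ?_⟩
      rcases Nat.eq_zero_or_pos n with rfl | hn
      · rw [γ'.dpow_zero (Ideal.zero_mem _), δp.dpow_zero (Ideal.zero_mem _)]
      · rw [γ'.dpow_eval_zero (by omega), δp.dpow_eval_zero (by omega)]
    · intro e _
      have hc : b.repr z e ∈ I := repr_mem_of_mem_map R Λ P b I z hz1 e
      by_cases he : e = 0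
      · subst he
        rw [repr_zero_of_mem_aug R Λ P x hx0 hxmul b hb z hz2, zero_smul]
        refine ⟨Ideal.zero_mem _, Ideal.zero_mem _, fun n => ?_⟩
        rcases Nat.eq_zero_or_pos n with rfl | hn
        · rw [γ'.dpow_zero (Ideal.zero_mem _), δp.dpow_zero (Ideal.zero_mem _)]
        · rw [γ'.dpow_eval_zero (by omega), δp.dpow_eval_zero (by omega)]
      · have hbe := b_mem_aug R Λ P x hx0 b hb e he
        rw [Algebra.smul_def]
        exact ⟨Ideal.mul_mem_right _ _ (Ideal.mem_map_of_mem _ hc), Ideal.mul_mem_left _ _ hbe,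
          fun n => agree_term R γ Λ P x γ' hγ' δp _ hc _ hbe n⟩
  have hz : z = ∑ e ∈ (b.repr z).support, b.repr z e • b e := by
    conv_lhs => rw [← b.linearCombination_repr z, Finsupp.linearCombination_apply, Finsupp.sum]
  rw [hz]
  exact (key _).2.2 n

end Compat

section Main

variable (R : Type u) [CommRing R] {I : Ideal R} (γ : DividedPowers I) (Λ : Type w)
variable (P : Type v) [CommRing P] [Algebra R P] (x : Λ → ℕ → P)
variable (hx0 : ∀ l, x l 0 = 1)
variable (hxmul : ∀ l n m, x l n * x l m = ((n + m).choose n : P) * x l (n + m))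
variable (b : Module.Basis (Λ →₀ ℕ) R P) (hb : ∀ e : Λ →₀ ℕ, b e = e.prod (fun l k => x l k))
variable (δp : DividedPowers (Ideal.span (gensP Λ P x)))

include hx0 hxmul hb in
/-- Stacks 07H4 (first part): the dp structure on `IP + P₊`. -/
theorem existsUnique_dp_total :
    ∃! δ : DividedPowers (I.map (algebraMap R P) ⊔ Ideal.span (gensP Λ P x)),
      γ.IsDPMorphism δ (algebraMap R P) ∧
        ∀ (n : ℕ) (y : P), y ∈ Ideal.span (gensP Λ P x) → δ.dpow n y = δp.dpow n y := by
  have : Module.Free R P := Module.Free.of_basis b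
  have : Module.Flat R P := inferInstance
  obtain ⟨γ', hγ'⟩ := exists_dp_flat (B := P) γ
  have hagree : ∀ (n : ℕ) (z : P), z ∈ I.map (algebraMap R P) ⊓ Ideal.span (gensP Λ P x) →
      γ'.dpow n z = δp.dpow n z := fun n z hz =>
    agree_inf R γ Λ P x hx0 hxmul b hb γ' hγ' δp z hz.1 hz.2 n
  obtain ⟨ε, ⟨hε1, hε2⟩, -⟩ := existsUnique_dp_sup γ' δp hagree
  have hspan : I.map (algebraMap R P) ⊔ Ideal.span (gensP Λ P x) =
      Ideal.span ((algebraMap R P) '' (I : Set R) ∪ (Ideal.span (gensP Λ P x) : Set P)) := by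
    rw [Ideal.span_union, Ideal.span_eq]
    rfl
  refine ⟨ε, ⟨⟨le_sup_left, fun {n} a ha => ?_⟩, hε2⟩, ?_⟩
  · rw [hε1 n _ (Ideal.mem_map_of_mem _ ha), hγ'.dpow_comp a ha]
  · rintro δ ⟨hδ1, hδ2⟩
    refine DividedPowers.dpow_eq_from_gens ε δ hspan ?_
    rintro n _ (⟨a, ha, rfl⟩ | hy)
    · rw [hε1 n _ (Ideal.mem_map_of_mem _ ha), hγ'.dpow_comp a ha, hδ1.dpow_comp a ha]
    · rw [hε2 n _ hy, hδ2 n _ hy]

end Main

end Helper16.DP
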