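import Groth.Agent.Lib.Helper16.DP8
import Mathlib.RingTheory.TensorProduct.Free

set_option autoImplicit false

open Nat TensorProduct

namespace Helper16.DP

universe u v w

section MapOutG

variable {R : Type u} [CommRing R] {Λ : Type w} [Fintype Λ] [DecidableEq Λ]
variable {P : Type v} [CommRing P] [Algebra R P] {x : Λ → ℕ → P}
variable (hx : IsDPFam x) (b : Module.Basis (Λ →₀ ℕ) R P) (hb : ∀ e, b e = mon x e)
variable {C : Type*} [CommRing C] [Algebra R C] {y : Λ → ℕ → C} (hy : IsDPFam y)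

/-- linear map out of a dp polynomial algebra determined by a family. -/
noncomputable def mapOutGLin (y : Λ → ℕ → C) : P →ₗ[R] C := b.constr ℕ (mon y)

theorem mapOutGLin_b (e : Λ →₀ ℕ) : mapOutGLin b y (b e) = mon y e :=
  Module.Basis.constr_basis _ _ _ _

include hb in
theorem mapOutGLin_mon (e : Λ →₀ ℕ) : mapOutGLin b y (mon x e) = mon y e := by
  rw [← hb, mapOutGLin_b]

include hx hb hy in
theorem mapOutGLin_one : mapOutGLin b y 1 = 1 := by
  rw [← mon_zero hx, mapOutGLin_mon b hb, mon_zero hy]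

include hx hb hy in
theorem mapOutGLin_mul (z w : P) :
    mapOutGLin b y (z * w) = mapOutGLin b y z * mapOutGLin b y w := by
  have h : (LinearMap.mul R P).compr₂ (mapOutGLin b y) =
      (LinearMap.mul R C).compl₁₂ (mapOutGLin b y) (mapOutGLin b y) := by
    refine b.ext fun e => b.ext fun e' => ?_
    rw [LinearMap.compr₂_apply, LinearMap.compl₁₂_apply, LinearMap.mul_apply', LinearMap.mul_apply',
      mapOutGLin_b, mapOutGLin_b, hb, hb, mon_mul hx, mon_mul hy,
      ← nsmul_eq_mul, map_nsmul, mapOutGLin_mon b hb, nsmul_eq_mul]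
  have := LinearMap.congr_fun (LinearMap.congr_fun h z) w
  rwa [LinearMap.compr₂_apply, LinearMap.compl₁₂_apply, LinearMap.mul_apply',
    LinearMap.mul_apply'] at this

/-- The universal algebra map out of a dp polynomial algebra. -/
noncomputable def mapOutG : P →ₐ[R] C :=
  AlgHom.ofLinearMap (mapOutGLin b y) (mapOutGLin_one hx b hb hy) (mapOutGLin_mul hx b hb hy)

theorem mapOutG_mon (e : Λ →₀ ℕ) : mapOutG hx b hb hy (mon x e) = mon y e :=
  mapOutGLin_mon b hb e

theorem mapOutG_x (l : Λ) (n : ℕ) : mapOutG hx b hb hy (x l n) = y l n := by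
  rw [← mon_single hx l n, mapOutG_mon, mon_single hy]

include hx hb in
theorem algHom_ext_of_x {f g : P →ₐ[R] C} (h : ∀ l n, f (x l n) = g (x l n)) : f = g := by
  apply AlgHom.toLinearMap_injective
  refine b.ext fun e => ?_
  show f (b e) = g (b e)
  rw [hb]
  unfold mon
  rw [map_prod, map_prod]
  exact Finset.prod_congr rfl fun l _ => h l _

end MapOutG

section Univ

variable {A : Type u} [CommRing A] {I : Ideal A} (γ : DividedPowers I) (t : ℕ)
variable (D : Type v) [CommRing D] [Algebra A D] (xD : Fin t → ℕ → D) (hx : IsDPFam xD)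
variable (b : Module.Basis (Fin t →₀ ℕ) A D) (hb : ∀ e, b e = mon xD e)

include hx hb in
/-- the universal property of the dp polynomial algebra -/
theorem dpPoly_universal :
    ∃ (J : Ideal D) (δ : DividedPowers J), (∀ i, xD i 1 ∈ J) ∧
      γ.IsDPMorphism δ (algebraMap A D) ∧
      ∀ (C : Type w) [CommRing C] [Algebra A C] (K : Ideal C) (ε : DividedPowers K),
        γ.IsDPMorphism ε (algebraMap A C) → ∀ k : Fin t → C, (∀ i, k i ∈ K) →
          ∃! f : D →ₐ[A] C, (∀ i, f (xD i 1) = k i) ∧ δ.IsDPMorphism ε f.toRingHom := by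
  have hx0 : ∀ l, xD l 0 = 1 := hx.zero
  have hxmul : ∀ l n m, xD l n * xD l m = ((n + m).choose n : D) * xD l (n + m) := hx.mul
  have hb' : ∀ e : Fin t →₀ ℕ, b e = e.prod (fun l k => xD l k) := fun e => by
    rw [hb, Finsupp.prod_fintype _ _ (fun i => hx0 i)]
    rfl
  obtain ⟨δp, hδp⟩ := exists_dp_of_basis A (Fin t) D hx b hb
  obtain ⟨δ, ⟨hδ1, hδ2⟩, -⟩ := existsUnique_dp_total A γ (Fin t) D xD hx0 hxmul b hb' δp
  have hgen : ∀ (l : Fin t) (m : ℕ), 1 ≤ m → xD l m ∈ Ideal.span (gensP (Fin t) D xD) :=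
    fun l m hm => Ideal.subset_span ⟨l, m, hm, rfl⟩
  have hδgen : ∀ (l : Fin t) (m n : ℕ), 1 ≤ m →
      δ.dpow n (xD l m) = (uniformBell n m : D) * xD l (n * m) := fun l m n hm => by
    rw [hδ2 n _ (hgen l m hm), hδp l m n hm]
  refine ⟨_, δ, fun i => Ideal.mem_sup_right (hgen i 1 le_rfl), hδ1, ?_⟩
  intro C _ _ K ε hAC k hk
  have hy : IsDPFam (fun (i : Fin t) (n : ℕ) => ε.dpow n (k i)) :=
    ⟨fun i => ε.dpow_zero (hk i), fun i m n => ε.mul_dpow (hk i)⟩
  have hspan : I.map (algebraMap A D) ⊔ Ideal.span (gensP (Fin t) D xD) =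
      Ideal.span ((algebraMap A D) '' (I : Set A) ∪ gensP (Fin t) D xD) := by
    rw [Ideal.span_union]
    rfl
  refine ⟨mapOutG hx b hb hy, ⟨fun i => ?_, ?_⟩, ?_⟩
  · rw [mapOutG_x, ε.dpow_one (hk i)]
  · refine DividedPowers.IsDPMorphism.on_span δ ε hspan ?_ ?_
    · rintro _ (⟨a, ha, rfl⟩ | ⟨l, m, hm, rfl⟩)
      · show (mapOutG hx b hb hy) (algebraMap A D a) ∈ K
        rw [AlgHom.commutes]
        exact hAC.ideal_comp (Ideal.mem_map_of_mem _ ha)
      · show (mapOutG hx b hb hy) (xD l m) ∈ K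
        rw [mapOutG_x]
        exact ε.dpow_mem (by omega) (hk l)
    · rintro n _ (⟨a, ha, rfl⟩ | ⟨l, m, hm, rfl⟩)
      · show (mapOutG hx b hb hy) (δ.dpow n (algebraMap A D a)) =
          ε.dpow n ((mapOutG hx b hb hy) (algebraMap A D a))
        rw [hδ1.dpow_comp a ha, AlgHom.commutes, AlgHom.commutes, hAC.dpow_comp a ha]
      · show (mapOutG hx b hb hy) (δ.dpow n (xD l m)) =
          ε.dpow n ((mapOutG hx b hb hy) (xD l m))
        rw [hδgen l m n hm, map_mul, map_natCast, mapOutG_x, mapOutG_x,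
          ε.dpow_comp (by omega) (hk l)]
  · rintro g' ⟨hg1, hg2⟩
    refine algHom_ext_of_x hx b hb fun l n => ?_
    rw [mapOutG_x]
    have h1 : xD l n = δ.dpow n (xD l 1) := by
      rw [hδgen l 1 n le_rfl, uniformBell_one_right, Nat.cast_one, one_mul, mul_one]
    rw [h1]
    have := hg2.dpow_comp (n := n) (xD l 1) (Ideal.mem_sup_right (hgen l 1 le_rfl))
    rw [← hg1 l]
    exact this.symm

end Univ

section Exist

variable (A : Type u) [CommRing A] (t : ℕ)

attribute [local instance] algR0 algR0K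

/-- the dp polynomial algebra over `A` in `t` variables -/
abbrev DPoly : Type u :=
  A ⊗[MvPolynomial A ℤ] (P0 (Fin t) (MvPolynomial A ℤ) (MvPolynomial A ℚ))

/-- its generators -/
noncomputable def xDP (l : Fin t) (n : ℕ) : DPoly A t :=
  (1 : A) ⊗ₜ[MvPolynomial A ℤ] x0 (Fin t) (MvPolynomial A ℤ) (MvPolynomial A ℚ) l n

theorem xDP_eq (l : Fin t) (n : ℕ) :
    xDP A t l n = (Algebra.TensorProduct.includeRight :
      P0 (Fin t) (MvPolynomial A ℤ) (MvPolynomial A ℚ) →ₐ[MvPolynomial A ℤ] DPoly A t)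
        (x0 (Fin t) (MvPolynomial A ℤ) (MvPolynomial A ℚ) l n) := rfl

theorem isDPFam_xDP : IsDPFam (xDP A t) :=
  (isDPFam_x0 (Fin t) (MvPolynomial A ℤ) (MvPolynomial A ℚ)).map
    ((Algebra.TensorProduct.includeRight :
      P0 (Fin t) (MvPolynomial A ℤ) (MvPolynomial A ℚ) →ₐ[MvPolynomial A ℤ] DPoly A t) :
        P0 (Fin t) (MvPolynomial A ℤ) (MvPolynomial A ℚ) →+* DPoly A t)

/-- its basis -/
noncomputable def bDP : Module.Basis (Fin t →₀ ℕ) A (DPoly A t) :=
  Algebra.TensorProduct.basis A (b0 (Fin t) (MvPolynomial A ℤ) (MvPolynomial A ℚ) (hinj0 A))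

theorem bDP_apply (e : Fin t →₀ ℕ) : bDP A t e = mon (xDP A t) e := by
  rw [bDP, Algebra.TensorProduct.basis_apply, b0_apply]
  have := map_mon (y := x0 (Fin t) (MvPolynomial A ℤ) (MvPolynomial A ℚ))
    ((Algebra.TensorProduct.includeRight :
      P0 (Fin t) (MvPolynomial A ℤ) (MvPolynomial A ℚ) →ₐ[MvPolynomial A ℤ] DPoly A t) :
        P0 (Fin t) (MvPolynomial A ℤ) (MvPolynomial A ℚ) →+* DPoly A t) e
  exact this

/-- Stacks 07H4/07H5: the divided power polynomial algebra with its universal property. -/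
theorem exists_dpPoly_universal {I : Ideal A} (γ : DividedPowers I) :
    ∃ (D : Type u) (_ : CommRing D) (_ : Algebra A D) (J : Ideal D) (δ : DividedPowers J)
      (x : Fin t → D), (∀ i, x i ∈ J) ∧ γ.IsDPMorphism δ (algebraMap A D) ∧
      ∀ (C : Type u) [CommRing C] [Algebra A C] (K : Ideal C) (ε : DividedPowers K),
        γ.IsDPMorphism ε (algebraMap A C) → ∀ k : Fin t → C, (∀ i, k i ∈ K) →
          ∃! f : D →ₐ[A] C, (∀ i, f (x i) = k i) ∧ δ.IsDPMorphism ε f.toRingHom := by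
  obtain ⟨J, δ, h1, h2, h3⟩ := dpPoly_universal.{u, u, u} γ t (DPoly A t) (xDP A t)
    (isDPFam_xDP A t) (bDP A t) (bDP_apply A t)
  exact ⟨DPoly A t, inferInstance, inferInstance, J, δ, fun i => xDP A t i 1, h1, h2, h3⟩

end Exist

end Helper16.DP
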