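import Groth.Agent.Lib.Helper16.DP9

set_option autoImplicit false

open MvPolynomial Nat

namespace Helper16.DPI

open Helper16.DP (IsDPFam)

section Fam

variable {Λ : Type*} {A : Type*} [CommRing A]

/-- structure constants of the divided power monomials (arbitrary index type). -/
noncomputable def mcI (e e' : Λ →₀ ℕ) : ℕ := ∏ l ∈ (e + e').support, (e l + e' l).choose (e l)

/-- the monomial `∏ y l (e l)` (arbitrary index type). -/
noncomputable def monI (y : Λ → ℕ → A) (e : Λ →₀ ℕ) : A := e.prod fun l k => y l k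

variable {y : Λ → ℕ → A}

theorem monI_mul (hy : IsDPFam y) (e e' : Λ →₀ ℕ) :
    monI y e * monI y e' = (mcI e e' : A) * monI y (e + e') := by
  classical
  have hs1 : e.support ⊆ e.support ∪ e'.support := Finset.subset_union_left
  have hs2 : e'.support ⊆ e.support ∪ e'.support := Finset.subset_union_right
  have hs3 : (e + e').support ⊆ e.support ∪ e'.support := Finsupp.support_add
  unfold monI mcI
  rw [Finsupp.prod_of_support_subset e hs1 _ (fun l _ => hy.zero l),
    Finsupp.prod_of_support_subset e' hs2 _ (fun l _ => hy.zero l),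
    Finsupp.prod_of_support_subset (e + e') hs3 _ (fun l _ => hy.zero l),
    Finset.prod_subset hs3 (f := fun l => (e l + e' l).choose (e l)) (by
      intro l _ hl
      rw [Finsupp.notMem_support_iff, Finsupp.add_apply] at hl
      have h1 : e l = 0 := by omega
      have h2 : e' l = 0 := by omega
      simp only [h1, h2, Nat.choose_self]),
    ← Finset.prod_mul_distrib, Nat.cast_prod, ← Finset.prod_mul_distrib]
  refine Finset.prod_congr rfl fun l _ => ?_
  rw [hy.mul, Finsupp.add_apply]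

theorem monI_zero : monI y (0 : Λ →₀ ℕ) = 1 := Finsupp.prod_zero_index

theorem monI_single (hy : IsDPFam y) (l : Λ) (n : ℕ) :
    monI y (Finsupp.single l n) = y l n := by
  unfold monI
  rw [Finsupp.prod_single_index (hy.zero l)]

theorem map_monI {B : Type*} [CommRing B] (f : A →+* B) (e : Λ →₀ ℕ) :
    f (monI y e) = monI (fun l n => f (y l n)) e := by
  unfold monI
  rw [Finsupp.prod, map_prod]
  rfl

theorem pow_eq_of_isDPFam' (hy : IsDPFam y) (l : Λ) (m : ℕ) (hm : m ≠ 0) (n : ℕ) :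
    y l m ^ n = ((n ! * uniformBell n m : ℕ) : A) * y l (n * m) := by
  have h : IsDPFam (fun (_ : Unit) k => y l k) := ⟨fun _ => hy.zero l, fun _ a b => hy.mul l a b⟩
  exact Helper16.DP.pow_eq_of_isDPFam h () m hm n

end Fam

section Model

variable (Λ : Type*)
variable (R₀ K : Type*) [CommRing R₀] [CommRing K] [Algebra ℚ K] [Algebra R₀ K]

theorem isDPFam_xq' : IsDPFam (Helper16.DP.xq Λ K) where
  zero l := by simp [Helper16.DP.xq]
  mul l m n := by
    unfold Helper16.DP.xq
    have h : ((m ! : ℚ)⁻¹) * ((n ! : ℚ)⁻¹) = ((m + n).choose m : ℚ) * (((m + n)! : ℚ)⁻¹) := by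
      have e := Nat.add_choose_mul_factorial_mul_factorial m n
      rw [← Nat.choose_symm_add] at e
      have e' : (((m + n).choose m : ℕ) : ℚ) * (m ! : ℚ) * (n ! : ℚ) = ((m + n)! : ℚ) := by
        exact_mod_cast e
      have hm : (m ! : ℚ) ≠ 0 := by exact_mod_cast Nat.factorial_ne_zero m
      have hn : (n ! : ℚ) ≠ 0 := by exact_mod_cast Nat.factorial_ne_zero n
      have hmn : ((m + n)! : ℚ) ≠ 0 := by exact_mod_cast Nat.factorial_ne_zero (m + n)
      field_simp
      linarith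
    calc C (algebraMap ℚ K ((m ! : ℚ)⁻¹)) * X l ^ m * (C (algebraMap ℚ K ((n ! : ℚ)⁻¹)) * X l ^ n)
        = C (algebraMap ℚ K (((m ! : ℚ)⁻¹) * ((n ! : ℚ)⁻¹))) * X l ^ (m + n) := by
          rw [map_mul, map_mul, pow_add]; ring
      _ = ((m + n).choose m : MvPolynomial Λ K) *
            (C (algebraMap ℚ K (((m + n)! : ℚ)⁻¹)) * X l ^ (m + n)) := by
          rw [h, map_mul, map_mul, map_natCast, map_natCast]; ring

/-- `∏ (e l)!`. -/
noncomputable def facI (e : Λ →₀ ℕ) : ℕ := e.prod fun _ k => k !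

theorem facI_ne_zero (e : Λ →₀ ℕ) : facI Λ e ≠ 0 :=
  Finset.prod_ne_zero_iff.mpr fun l _ => Nat.factorial_ne_zero _

theorem monI_xq_eq (e : Λ →₀ ℕ) :
    monI (Helper16.DP.xq Λ K) e = monomial e (algebraMap ℚ K ((facI Λ e : ℚ)⁻¹)) := by
  unfold monI Helper16.DP.xq
  rw [Finsupp.prod_mul, monomial_eq]
  congr 1
  unfold facI
  simp only [Finsupp.prod]
  rw [← map_prod, ← map_prod, Nat.cast_prod, ← Finset.prod_inv_distrib]

variable {Λ K}

theorem coeff_monI_xq [DecidableEq Λ] (e e' : Λ →₀ ℕ) :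
    coeff e' (monI (Helper16.DP.xq Λ K) e) =
      if e = e' then algebraMap ℚ K ((facI Λ e : ℚ)⁻¹) else 0 := by
  rw [monI_xq_eq, coeff_monomial]

variable (Λ K)

theorem linearIndependent_monI_xq (hinj : Function.Injective (algebraMap R₀ K)) :
    LinearIndependent R₀ (monI (Helper16.DP.xq Λ K)) := by
  classical
  rw [linearIndependent_iff]
  intro c hc
  ext e
  have h1 := congrArg (coeff e) hc
  rw [Finsupp.linearCombination_apply, Finsupp.sum, coeff_sum, coeff_zero] at h1
  have h2 : ∀ e' ∈ c.support, coeff e (c e' • monI (Helper16.DP.xq Λ K) e') =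
      if e' = e then c e • algebraMap ℚ K ((facI Λ e : ℚ)⁻¹) else 0 := by
    intro e' _
    rw [coeff_smul, coeff_monI_xq]
    split_ifs with h
    · rw [h]
    · rw [smul_zero]
  rw [Finset.sum_congr rfl h2, Finset.sum_ite_eq'] at h1
  by_cases hmem : e ∈ c.support
  · rw [if_pos hmem] at h1
    have h3 : c e • (algebraMap ℚ K ((facI Λ e : ℚ)⁻¹) * algebraMap ℚ K (facI Λ e : ℚ)) = 0 := by
      rw [← smul_mul_assoc, h1, zero_mul]
    rw [← map_mul, inv_mul_cancel₀ (by exact_mod_cast facI_ne_zero Λ e), map_one,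
      Algebra.smul_def, mul_one] at h3
    rw [Finsupp.zero_apply]
    exact hinj (by rw [h3, map_zero])
  · rw [Finsupp.zero_apply]
    exact Finsupp.notMem_support_iff.mp hmem

/-- the `R₀`-span of the divided monomials. -/
noncomputable def P0subI : Submodule R₀ (MvPolynomial Λ K) :=
  Submodule.span R₀ (Set.range (monI (Helper16.DP.xq Λ K)))

theorem one_mem_P0subI : (1 : MvPolynomial Λ K) ∈ P0subI Λ R₀ K := by
  rw [← monI_zero (y := Helper16.DP.xq Λ K)]
  exact Submodule.subset_span ⟨0, rfl⟩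

theorem mul_mem_P0subI (x y : MvPolynomial Λ K) (hx : x ∈ P0subI Λ R₀ K)
    (hy : y ∈ P0subI Λ R₀ K) : x * y ∈ P0subI Λ R₀ K := by
  have h : P0subI Λ R₀ K * P0subI Λ R₀ K ≤ P0subI Λ R₀ K := by
    unfold P0subI
    rw [Submodule.span_mul_span, Submodule.span_le]
    rintro _ ⟨_, ⟨e, rfl⟩, _, ⟨e', rfl⟩, rfl⟩
    show monI (Helper16.DP.xq Λ K) e * monI (Helper16.DP.xq Λ K) e' ∈ _
    rw [monI_mul (isDPFam_xq' Λ K), ← nsmul_eq_mul]
    exact Submodule.smul_of_tower_mem _ _ (Submodule.subset_span ⟨_, rfl⟩)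
  exact h (Submodule.mul_mem_mul hx hy)

/-- The divided power polynomial algebra over `R₀`, as a subalgebra of `K[X]`. -/
noncomputable def P0I : Subalgebra R₀ (MvPolynomial Λ K) :=
  (P0subI Λ R₀ K).toSubalgebra (one_mem_P0subI Λ R₀ K) (mul_mem_P0subI Λ R₀ K)

theorem monI_xq_mem (e : Λ →₀ ℕ) : monI (Helper16.DP.xq Λ K) e ∈ P0I Λ R₀ K :=
  Submodule.subset_span ⟨e, rfl⟩

theorem xq_memI (l : Λ) (n : ℕ) : Helper16.DP.xq Λ K l n ∈ P0I Λ R₀ K := by
  rw [← monI_single (isDPFam_xq' Λ K) l n]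
  exact monI_xq_mem Λ R₀ K _

/-- the generators `X_l^[n]` of the model. -/
noncomputable def x0I (l : Λ) (n : ℕ) : P0I Λ R₀ K := ⟨Helper16.DP.xq Λ K l n, xq_memI Λ R₀ K l n⟩

theorem isDPFam_x0I : IsDPFam (x0I Λ R₀ K) where
  zero l := Subtype.ext (by
    show Helper16.DP.xq Λ K l 0 = 1
    exact (isDPFam_xq' Λ K).zero l)
  mul l m n := Subtype.ext (by
    show Helper16.DP.xq Λ K l m * Helper16.DP.xq Λ K l n = _
    rw [(isDPFam_xq' Λ K).mul]
    simp [x0I])

theorem coe_monI_x0I (e : Λ →₀ ℕ) :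
    ((monI (x0I Λ R₀ K) e : P0I Λ R₀ K) : MvPolynomial Λ K) = monI (Helper16.DP.xq Λ K) e := by
  have := map_monI (y := x0I Λ R₀ K) ((P0I Λ R₀ K).val : P0I Λ R₀ K →+* MvPolynomial Λ K) e
  exact this

/-- the linear equivalence between the span and the subalgebra. -/
noncomputable def subEquivI : P0subI Λ R₀ K ≃ₗ[R₀] P0I Λ R₀ K where
  toFun z := ⟨z.1, z.2⟩
  invFun z := ⟨z.1, z.2⟩
  map_add' _ _ := rfl
  map_smul' _ _ := rfl
  left_inv _ := rfl
  right_inv _ := rfl

/-- The basis of divided monomials. -/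
noncomputable def b0I (hinj : Function.Injective (algebraMap R₀ K)) :
    Module.Basis (Λ →₀ ℕ) R₀ (P0I Λ R₀ K) :=
  (Module.Basis.span (linearIndependent_monI_xq Λ R₀ K hinj)).map (subEquivI Λ R₀ K)

theorem b0I_apply (hinj : Function.Injective (algebraMap R₀ K)) (e : Λ →₀ ℕ) :
    b0I Λ R₀ K hinj e = monI (x0I Λ R₀ K) e := by
  apply Subtype.ext
  rw [coe_monI_x0I, b0I, Module.Basis.map_apply]
  show ((Module.Basis.span (linearIndependent_monI_xq Λ R₀ K hinj) e : P0subI Λ R₀ K) :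
    MvPolynomial Λ K) = _
  rw [Module.Basis.span_apply]

instance : IsAddTorsionFree (P0I Λ R₀ K) where
  nsmul_right_injective n hn a b h := by
    apply Subtype.ext
    have h1 : (n : ℚ) • (a : MvPolynomial Λ K) = (n : ℚ) • (b : MvPolynomial Λ K) := by
      have := congrArg (P0I Λ R₀ K).val h
      simp only [map_nsmul] at this
      rw [Nat.cast_smul_eq_nsmul, Nat.cast_smul_eq_nsmul]
      exact this
    have hn' : (n : ℚ) ≠ 0 := by exact_mod_cast hn
    have := congrArg (fun z => (n : ℚ)⁻¹ • z) h1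
    simpa [smul_smul, inv_mul_cancel₀ hn'] using this

end Model

end Helper16.DPI
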