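import Groth.Agent.Lib.Helper16.DPI1

set_option autoImplicit false

open MvPolynomial Nat

namespace Helper16.DPI

open Helper16.DP (IsDPFam)

section Model

variable (Λ : Type*)
variable (R₀ K : Type*) [CommRing R₀] [CommRing K] [Algebra ℚ K] [Algebra R₀ K]

/-- generators of the augmentation ideal -/
def gensI : Set (P0I Λ R₀ K) := {z | ∃ (l : Λ) (n : ℕ), 1 ≤ n ∧ z = x0I Λ R₀ K l n}

/-- the augmentation ideal of the model -/
noncomputable def PplusI : Ideal (P0I Λ R₀ K) := Ideal.span (gensI Λ R₀ K)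

theorem x0I_mem_PplusI (l : Λ) (n : ℕ) (hn : 1 ≤ n) : x0I Λ R₀ K l n ∈ PplusI Λ R₀ K :=
  Ideal.subset_span ⟨l, n, hn, rfl⟩

theorem goodI : Helper16.DPTF.Good (PplusI Λ R₀ K) := by
  apply Helper16.DPTF.good_of_span (S := gensI Λ R₀ K) rfl
  rintro _ ⟨l, m, hm, rfl⟩ n hn
  rw [pow_eq_of_isDPFam' (isDPFam_x0I Λ R₀ K) l m (by omega) n, Nat.cast_mul, mul_assoc]
  apply Ideal.mul_mem_mul (Ideal.mem_span_singleton_self _)
  apply Ideal.mul_mem_left
  apply x0I_mem_PplusI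
  exact Nat.mul_pos (by omega) (by omega)

/-- the divided power structure of the model -/
noncomputable def epsI : DividedPowers (PplusI Λ R₀ K) := Helper16.DPTF.dp (goodI Λ R₀ K)

theorem epsI_x0I (l : Λ) (m : ℕ) (hm : 1 ≤ m) (n : ℕ) :
    (epsI Λ R₀ K).dpow n (x0I Λ R₀ K l m) =
      (uniformBell n m : P0I Λ R₀ K) * x0I Λ R₀ K l (n * m) := by
  apply Helper16.DPTF.cancel_fact (n := n)
  rw [(epsI Λ R₀ K).factorial_mul_dpow_eq_pow (x0I_mem_PplusI Λ R₀ K l m hm),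
    pow_eq_of_isDPFam' (isDPFam_x0I Λ R₀ K) l m (by omega) n, Nat.cast_mul, mul_assoc]

theorem epsI_x0I_one (l : Λ) (n : ℕ) :
    (epsI Λ R₀ K).dpow n (x0I Λ R₀ K l 1) = x0I Λ R₀ K l n := by
  rw [epsI_x0I Λ R₀ K l 1 le_rfl n, uniformBell_one_right, Nat.cast_one, one_mul, mul_one]

end Model

section MapOut

variable (Λ : Type*)
variable (R₀ K : Type*) [CommRing R₀] [CommRing K] [Algebra ℚ K] [Algebra R₀ K]
variable (hinj : Function.Injective (algebraMap R₀ K))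
variable {A : Type*} [CommRing A] [Algebra R₀ A] (y : Λ → ℕ → A)

/-- linear map out of the model determined by a family. -/
noncomputable def mapOutLinI : P0I Λ R₀ K →ₗ[R₀] A :=
  (b0I Λ R₀ K hinj).constr ℕ (monI y)

theorem mapOutLinI_b0 (e : Λ →₀ ℕ) : mapOutLinI Λ R₀ K hinj y (b0I Λ R₀ K hinj e) = monI y e :=
  Module.Basis.constr_basis _ _ _ _

theorem mapOutLinI_mon (e : Λ →₀ ℕ) :
    mapOutLinI Λ R₀ K hinj y (monI (x0I Λ R₀ K) e) = monI y e := by
  rw [← b0I_apply Λ R₀ K hinj, mapOutLinI_b0]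

variable {y}

theorem mapOutLinI_one : mapOutLinI Λ R₀ K hinj y 1 = 1 := by
  rw [← monI_zero (y := x0I Λ R₀ K), mapOutLinI_mon, monI_zero]

theorem mapOutLinI_mul (hy : IsDPFam y) (z w : P0I Λ R₀ K) :
    mapOutLinI Λ R₀ K hinj y (z * w) =
      mapOutLinI Λ R₀ K hinj y z * mapOutLinI Λ R₀ K hinj y w := by
  have h : (LinearMap.mul R₀ (P0I Λ R₀ K)).compr₂ (mapOutLinI Λ R₀ K hinj y) =
      (LinearMap.mul R₀ A).compl₁₂ (mapOutLinI Λ R₀ K hinj y) (mapOutLinI Λ R₀ K hinj y) := by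
    refine (b0I Λ R₀ K hinj).ext fun e => (b0I Λ R₀ K hinj).ext fun e' => ?_
    rw [LinearMap.compr₂_apply, LinearMap.compl₁₂_apply, LinearMap.mul_apply', LinearMap.mul_apply',
      mapOutLinI_b0, mapOutLinI_b0, b0I_apply, b0I_apply, monI_mul (isDPFam_x0I Λ R₀ K),
      monI_mul hy, ← nsmul_eq_mul, map_nsmul, mapOutLinI_mon, nsmul_eq_mul]
  have := LinearMap.congr_fun (LinearMap.congr_fun h z) w
  rwa [LinearMap.compr₂_apply, LinearMap.compl₁₂_apply, LinearMap.mul_apply',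
    LinearMap.mul_apply'] at this

/-- The universal algebra map out of the model. -/
noncomputable def mapOutI (hy : IsDPFam y) : P0I Λ R₀ K →ₐ[R₀] A :=
  AlgHom.ofLinearMap (mapOutLinI Λ R₀ K hinj y) (mapOutLinI_one Λ R₀ K hinj)
    (mapOutLinI_mul Λ R₀ K hinj hy)

theorem mapOutI_mon (hy : IsDPFam y) (e : Λ →₀ ℕ) :
    mapOutI Λ R₀ K hinj hy (monI (x0I Λ R₀ K) e) = monI y e :=
  mapOutLinI_mon Λ R₀ K hinj y e

theorem mapOutI_b0 (hy : IsDPFam y) (e : Λ →₀ ℕ) :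
    mapOutI Λ R₀ K hinj hy (b0I Λ R₀ K hinj e) = monI y e :=
  mapOutLinI_b0 Λ R₀ K hinj y e

theorem mapOutI_x0 (hy : IsDPFam y) (l : Λ) (n : ℕ) :
    mapOutI Λ R₀ K hinj hy (x0I Λ R₀ K l n) = y l n := by
  rw [← monI_single (isDPFam_x0I Λ R₀ K) l n, mapOutI_mon, monI_single hy]

end MapOut

section Aug

variable (Λ : Type*)
variable (R₀ K : Type*) [CommRing R₀] [CommRing K] [Algebra ℚ K] [Algebra R₀ K]
variable (hinj : Function.Injective (algebraMap R₀ K))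

theorem isDPFam_augFam' : IsDPFam (Helper16.DP.augFam Λ R₀) where
  zero l := by simp [Helper16.DP.augFam]
  mul l m n := by
    unfold Helper16.DP.augFam
    by_cases hm : m = 0
    · subst hm
      simp
    · have : m + n ≠ 0 := by omega
      rw [if_neg hm, if_neg this, zero_mul, mul_zero]

/-- the augmentation. -/
noncomputable def augI : P0I Λ R₀ K →ₐ[R₀] R₀ :=
  mapOutI Λ R₀ K hinj (isDPFam_augFam' Λ R₀)

theorem monI_augFam (e : Λ →₀ ℕ) [Decidable (e = 0)] :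
    monI (Helper16.DP.augFam Λ R₀) e = if e = 0 then 1 else 0 := by
  unfold monI Helper16.DP.augFam
  split_ifs with h
  · subst h
    exact Finsupp.prod_zero_index
  · obtain ⟨l, hl⟩ : ∃ l, e l ≠ 0 := by
      by_contra hcon
      push_neg at hcon
      exact h (Finsupp.ext hcon)
    exact Finset.prod_eq_zero (Finsupp.mem_support_iff.mpr hl) (by simp [hl])

theorem augI_b0 (e : Λ →₀ ℕ) [Decidable (e = 0)] :
    augI Λ R₀ K hinj (b0I Λ R₀ K hinj e) = if e = 0 then 1 else 0 := by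
  rw [augI, mapOutI_b0, monI_augFam]

theorem augI_eq_repr (z : P0I Λ R₀ K) : augI Λ R₀ K hinj z = (b0I Λ R₀ K hinj).repr z 0 := by
  classical
  conv_lhs => rw [← (b0I Λ R₀ K hinj).linearCombination_repr z]
  rw [Finsupp.linearCombination_apply, Finsupp.sum, map_sum]
  simp_rw [map_smul, augI_b0, smul_eq_mul, mul_ite, mul_one, mul_zero]
  rw [Finset.sum_ite_eq']
  split_ifs with h
  · rfl
  · exact (Finsupp.notMem_support_iff.mp h).symm

theorem augI_PplusI (z : P0I Λ R₀ K) (hz : z ∈ PplusI Λ R₀ K) : augI Λ R₀ K hinj z = 0 := by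
  have : PplusI Λ R₀ K ≤ RingHom.ker (augI Λ R₀ K hinj).toRingHom := by
    unfold PplusI
    rw [Ideal.span_le]
    rintro _ ⟨l, n, hn, rfl⟩
    show (augI Λ R₀ K hinj) (x0I Λ R₀ K l n) = 0
    rw [augI, mapOutI_x0, Helper16.DP.augFam, if_neg (by omega)]
  exact this hz

theorem repr_zero_of_mem_PplusI (z : P0I Λ R₀ K) (hz : z ∈ PplusI Λ R₀ K) :
    (b0I Λ R₀ K hinj).repr z 0 = 0 := by
  rw [← augI_eq_repr, augI_PplusI Λ R₀ K hinj z hz]

theorem monI_x0I_mem_PplusI (e : Λ →₀ ℕ) (he : e ≠ 0) :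
    monI (x0I Λ R₀ K) e ∈ PplusI Λ R₀ K := by
  classical
  obtain ⟨l, hl⟩ : ∃ l, e l ≠ 0 := by
    by_contra hcon
    push_neg at hcon
    exact he (Finsupp.ext hcon)
  unfold monI
  rw [← Finsupp.mul_prod_erase' e l _ (isDPFam_x0I Λ R₀ K).zero]
  exact Ideal.mul_mem_right _ _ (x0I_mem_PplusI Λ R₀ K l (e l) (by omega))

theorem b0I_mem_PplusI (e : Λ →₀ ℕ) (he : e ≠ 0) : b0I Λ R₀ K hinj e ∈ PplusI Λ R₀ K := by
  rw [b0I_apply]
  exact monI_x0I_mem_PplusI Λ R₀ K e he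

end Aug

end Helper16.DPI
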