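import Groth.Agent.Lib.Helper16.DPI2

set_option autoImplicit false

open Nat TensorProduct

namespace Helper16.DPI

open Helper16.DP (IsDPFam phi phi_X algR0 algR0K algR0P hinj0 gensP algebraMap_R0P smul_R0P)

universe u v w

section Q

variable (R : Type u) [CommRing R] (Λ : Type w)
variable (P : Type v) [CommRing P] [Algebra R P] {x : Λ → ℕ → P}

attribute [local instance] algR0K algR0P

variable (hx : IsDPFam x) (b : Module.Basis (Λ →₀ ℕ) R P) (hb : ∀ e, b e = monI x e)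

/-- the projection from the model -/
noncomputable def piQI : P0I Λ (MvPolynomial R ℤ) (MvPolynomial R ℚ) →ₐ[MvPolynomial R ℤ] P :=
  mapOutI Λ (MvPolynomial R ℤ) (MvPolynomial R ℚ) (hinj0 R) hx

theorem piQI_x0 (l : Λ) (n : ℕ) :
    piQI R Λ P hx (x0I Λ (MvPolynomial R ℤ) (MvPolynomial R ℚ) l n) = x l n :=
  mapOutI_x0 _ _ _ _ hx l n

include hb in
theorem piQI_b0 (e : Λ →₀ ℕ) :
    piQI R Λ P hx (b0I Λ (MvPolynomial R ℤ) (MvPolynomial R ℚ) (hinj0 R) e) = b e := by
  rw [hb]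
  exact mapOutI_b0 _ _ _ _ hx e

include hb in
theorem piQI_eq_linearCombination (z : P0I Λ (MvPolynomial R ℤ) (MvPolynomial R ℚ)) :
    piQI R Λ P hx z = Finsupp.linearCombination R b
      (((b0I Λ (MvPolynomial R ℤ) (MvPolynomial R ℚ) (hinj0 R)).repr z).mapRange (phi R)
        (map_zero _)) := by
  conv_lhs => rw [← (b0I Λ (MvPolynomial R ℤ) (MvPolynomial R ℚ) (hinj0 R)).linearCombination_repr z]
  rw [Finsupp.linearCombination_apply, Finsupp.linearCombination_apply,
    Finsupp.sum_mapRange_index (fun e => zero_smul R (b e)), map_finsuppSum]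
  refine Finsupp.sum_congr fun e _ => ?_
  rw [map_smul, piQI_b0 R Λ P hx b hb, smul_R0P]

include hb in
theorem phi_repr_eqI (z : P0I Λ (MvPolynomial R ℤ) (MvPolynomial R ℚ)) (e : Λ →₀ ℕ) :
    phi R ((b0I Λ (MvPolynomial R ℤ) (MvPolynomial R ℚ) (hinj0 R)).repr z e) =
      b.repr (piQI R Λ P hx z) e := by
  rw [piQI_eq_linearCombination R Λ P hx b hb, Module.Basis.repr_linearCombination,
    Finsupp.mapRange_apply]

include hb in
theorem piQI_surjective : Function.Surjective (piQI R Λ P hx) := by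
  intro p
  refine ⟨∑ e ∈ (b.repr p).support, (MvPolynomial.X (b.repr p e) : MvPolynomial R ℤ) •
    b0I Λ (MvPolynomial R ℤ) (MvPolynomial R ℚ) (hinj0 R) e, ?_⟩
  rw [map_sum]
  conv_rhs => rw [← b.linearCombination_repr p, Finsupp.linearCombination_apply, Finsupp.sum]
  refine Finset.sum_congr rfl fun e _ => ?_
  rw [map_smul, piQI_b0 R Λ P hx b hb, smul_R0P, phi_X]

/-- the ideal generated by the kernel of `ℤ[R] → R`. -/
noncomputable def JphiI : Ideal (P0I Λ (MvPolynomial R ℤ) (MvPolynomial R ℚ)) :=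
  Ideal.map (algebraMap (MvPolynomial R ℤ) (P0I Λ (MvPolynomial R ℤ) (MvPolynomial R ℚ)))
    (RingHom.ker (phi R))

theorem JphiI_le_ker : JphiI R Λ ≤ RingHom.ker (piQI R Λ P hx).toRingHom := by
  unfold JphiI
  rw [Ideal.map_le_iff_le_comap]
  intro c hc
  rw [RingHom.mem_ker] at hc
  rw [Ideal.mem_comap, RingHom.mem_ker]
  show (piQI R Λ P hx) (algebraMap _ _ c) = 0
  rw [AlgHom.commutes, algebraMap_R0P, hc, map_zero]

include hb in
theorem ker_inf_PplusI_eq :
    RingHom.ker (piQI R Λ P hx).toRingHom ⊓ PplusI Λ (MvPolynomial R ℤ) (MvPolynomial R ℚ) =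
      PplusI Λ (MvPolynomial R ℤ) (MvPolynomial R ℚ) • JphiI R Λ := by
  classical
  apply le_antisymm
  · rintro z ⟨hz1, hz2⟩
    have hz1' : piQI R Λ P hx z = 0 := hz1
    have hz2 : z ∈ PplusI Λ (MvPolynomial R ℤ) (MvPolynomial R ℚ) := hz2
    rw [← (b0I Λ (MvPolynomial R ℤ) (MvPolynomial R ℚ) (hinj0 R)).linearCombination_repr z,
      Finsupp.linearCombination_apply, Finsupp.sum]
    refine Ideal.sum_mem _ fun e _ => ?_
    have hc : (b0I Λ (MvPolynomial R ℤ) (MvPolynomial R ℚ) (hinj0 R)).repr z e ∈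
        RingHom.ker (phi R) := by
      rw [RingHom.mem_ker, phi_repr_eqI R Λ P hx b hb, hz1', map_zero, Finsupp.zero_apply]
    by_cases he : e = 0
    · subst he
      rw [repr_zero_of_mem_PplusI Λ _ _ (hinj0 R) z hz2, zero_smul]
      exact Ideal.zero_mem _
    · rw [Algebra.smul_def, mul_comm]
      exact Submodule.smul_mem_smul (b0I_mem_PplusI Λ _ _ (hinj0 R) e he)
        (Ideal.mem_map_of_mem _ hc)
  · rw [smul_eq_mul]
    exact le_inf (Ideal.mul_le_right.trans (JphiI_le_ker R Λ P hx)) Ideal.mul_le_left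

include hb in
theorem isSubDPIdeal_kerI :
    (epsI Λ (MvPolynomial R ℤ) (MvPolynomial R ℚ)).IsSubDPIdeal
      (RingHom.ker (piQI R Λ P hx).toRingHom ⊓
        PplusI Λ (MvPolynomial R ℤ) (MvPolynomial R ℚ)) := by
  rw [ker_inf_PplusI_eq R Λ P hx b hb]
  exact (DividedPowers.SubDPIdeal.prod (hI := epsI Λ (MvPolynomial R ℤ) (MvPolynomial R ℚ))
    (JphiI R Λ)).toIsSubDPIdeal

theorem span_gensP_eqI :
    Ideal.span (gensP Λ P x) =
      (PplusI Λ (MvPolynomial R ℤ) (MvPolynomial R ℚ)).map (piQI R Λ P hx).toRingHom := by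
  unfold PplusI
  rw [Ideal.map_span]
  congr 1
  ext y
  constructor
  · rintro ⟨l, n, hn, rfl⟩
    exact ⟨_, ⟨l, n, hn, rfl⟩, piQI_x0 R Λ P hx l n⟩
  · rintro ⟨_, ⟨l, n, hn, rfl⟩, rfl⟩
    exact ⟨l, n, hn, piQI_x0 R Λ P hx l n⟩

include hx hb in
/-- Theorem Q for an arbitrary index type. -/
theorem exists_dp_of_basisI :
    ∃ γ : DividedPowers (Ideal.span (gensP Λ P x)), ∀ (l : Λ) (m n : ℕ), 1 ≤ m →
      γ.dpow n (x l m) = (uniformBell n m : P) * x l (n * m) := by
  have hsurj : Function.Surjective (piQI R Λ P hx).toRingHom := piQI_surjective R Λ P hx b hb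
  refine ⟨DividedPowers.Quotient.OfSurjective.dividedPowers
    (epsI Λ (MvPolynomial R ℤ) (MvPolynomial R ℚ)) hsurj (span_gensP_eqI R Λ P hx)
    (isSubDPIdeal_kerI R Λ P hx b hb), fun l m n hm => ?_⟩
  have h1 := DividedPowers.Quotient.OfSurjective.dpow_apply
    (epsI Λ (MvPolynomial R ℤ) (MvPolynomial R ℚ)) hsurj (span_gensP_eqI R Λ P hx)
    (isSubDPIdeal_kerI R Λ P hx b hb) (n := n) (x0I_mem_PplusI Λ _ _ l m hm)
  have h2 : (piQI R Λ P hx).toRingHom (x0I Λ (MvPolynomial R ℤ) (MvPolynomial R ℚ) l m) = x l m :=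
    piQI_x0 R Λ P hx l m
  rw [h2] at h1
  rw [h1, epsI_x0I Λ _ _ l m hm n, map_mul, map_natCast]
  congr 1
  exact piQI_x0 R Λ P hx l (n * m)

end Q

section MapOutG

variable {R : Type u} [CommRing R] {Λ : Type w}
variable {P : Type v} [CommRing P] [Algebra R P] {x : Λ → ℕ → P}
variable (hx : IsDPFam x) (b : Module.Basis (Λ →₀ ℕ) R P) (hb : ∀ e, b e = monI x e)
variable {C : Type*} [CommRing C] [Algebra R C] {y : Λ → ℕ → C} (hy : IsDPFam y)

/-- linear map out of a dp polynomial algebra determined by a family. -/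
noncomputable def mapOutGLinI (y : Λ → ℕ → C) : P →ₗ[R] C := b.constr ℕ (monI y)

theorem mapOutGLinI_b (e : Λ →₀ ℕ) : mapOutGLinI b y (b e) = monI y e :=
  Module.Basis.constr_basis _ _ _ _

include hb in
theorem mapOutGLinI_mon (e : Λ →₀ ℕ) : mapOutGLinI b y (monI x e) = monI y e := by
  rw [← hb, mapOutGLinI_b]

include hb in
theorem mapOutGLinI_one : mapOutGLinI b y 1 = 1 := by
  rw [← monI_zero (y := x), mapOutGLinI_mon b hb, monI_zero]

include hx hb hy in
theorem mapOutGLinI_mul (z w : P) :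
    mapOutGLinI b y (z * w) = mapOutGLinI b y z * mapOutGLinI b y w := by
  have h : (LinearMap.mul R P).compr₂ (mapOutGLinI b y) =
      (LinearMap.mul R C).compl₁₂ (mapOutGLinI b y) (mapOutGLinI b y) := by
    refine b.ext fun e => b.ext fun e' => ?_
    rw [LinearMap.compr₂_apply, LinearMap.compl₁₂_apply, LinearMap.mul_apply', LinearMap.mul_apply',
      mapOutGLinI_b, mapOutGLinI_b, hb, hb, monI_mul hx, monI_mul hy,
      ← nsmul_eq_mul, map_nsmul, mapOutGLinI_mon b hb, nsmul_eq_mul]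
  have := LinearMap.congr_fun (LinearMap.congr_fun h z) w
  rwa [LinearMap.compr₂_apply, LinearMap.compl₁₂_apply, LinearMap.mul_apply',
    LinearMap.mul_apply'] at this

/-- The universal algebra map out of a dp polynomial algebra. -/
noncomputable def mapOutGI : P →ₐ[R] C :=
  AlgHom.ofLinearMap (mapOutGLinI b y) (mapOutGLinI_one b hb) (mapOutGLinI_mul hx b hb hy)

theorem mapOutGI_mon (e : Λ →₀ ℕ) : mapOutGI hx b hb hy (monI x e) = monI y e :=
  mapOutGLinI_mon b hb e

theorem mapOutGI_x (l : Λ) (n : ℕ) : mapOutGI hx b hb hy (x l n) = y l n := by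
  rw [← monI_single hx l n, mapOutGI_mon, monI_single hy]

include hb in
theorem algHom_ext_of_xI {f g : P →ₐ[R] C} (h : ∀ l n, f (x l n) = g (x l n)) : f = g := by
  apply AlgHom.toLinearMap_injective
  refine b.ext fun e => ?_
  show f (b e) = g (b e)
  rw [hb]
  unfold monI
  rw [Finsupp.prod, map_prod, map_prod]
  exact Finset.prod_congr rfl fun l _ => h l _

end MapOutG

theorem isDPFam_map' {Λ : Type*} {A B : Type*} [CommRing A] [CommRing B] (f : A →+* B)
    {y : Λ → ℕ → A} (hy : IsDPFam y) : IsDPFam (fun l n => f (y l n)) where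
  zero l := by rw [hy.zero, map_one]
  mul l m n := by rw [← map_mul, hy.mul, map_mul, map_natCast]

section Exist

variable (A : Type u) [CommRing A] (Λ : Type u)

attribute [local instance] algR0 algR0K

/-- the dp polynomial algebra over `A` on an arbitrary set of variables -/
abbrev DPolyI : Type u :=
  A ⊗[MvPolynomial A ℤ] (P0I Λ (MvPolynomial A ℤ) (MvPolynomial A ℚ))

/-- its generators -/
noncomputable def xDPI (l : Λ) (n : ℕ) : DPolyI A Λ :=
  (1 : A) ⊗ₜ[MvPolynomial A ℤ] x0I Λ (MvPolynomial A ℤ) (MvPolynomial A ℚ) l n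

theorem isDPFam_xDPI : IsDPFam (xDPI A Λ) :=
  isDPFam_map'
    ((Algebra.TensorProduct.includeRight :
      P0I Λ (MvPolynomial A ℤ) (MvPolynomial A ℚ) →ₐ[MvPolynomial A ℤ] DPolyI A Λ) :
        P0I Λ (MvPolynomial A ℤ) (MvPolynomial A ℚ) →+* DPolyI A Λ)
    (isDPFam_x0I Λ (MvPolynomial A ℤ) (MvPolynomial A ℚ))

/-- its basis -/
noncomputable def bDPI : Module.Basis (Λ →₀ ℕ) A (DPolyI A Λ) :=
  Algebra.TensorProduct.basis A (b0I Λ (MvPolynomial A ℤ) (MvPolynomial A ℚ) (hinj0 A))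

theorem bDPI_apply (e : Λ →₀ ℕ) : bDPI A Λ e = monI (xDPI A Λ) e := by
  rw [bDPI, Algebra.TensorProduct.basis_apply, b0I_apply]
  have := map_monI (y := x0I Λ (MvPolynomial A ℤ) (MvPolynomial A ℚ))
    ((Algebra.TensorProduct.includeRight :
      P0I Λ (MvPolynomial A ℤ) (MvPolynomial A ℚ) →ₐ[MvPolynomial A ℤ] DPolyI A Λ) :
        P0I Λ (MvPolynomial A ℤ) (MvPolynomial A ℚ) →+* DPolyI A Λ) e
  exact this

end Exist

end Helper16.DPI
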