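import Groth.Agent.Lib.Helper16.DPI3

set_option autoImplicit false

open Nat TensorProduct

namespace Helper16.DPI

open Helper16.DP (IsDPFam gensP)

universe u

theorem isSubDPIdeal_sInf_inf {A : Type*} [CommRing A] {I : Ideal A} (hI : DividedPowers I)
    (S : Set (Ideal A)) (h : ∀ b ∈ S, hI.IsSubDPIdeal (b ⊓ I)) :
    hI.IsSubDPIdeal (sInf S ⊓ I) := by
  rw [hI.isSubDPIdeal_inf_iff]
  intro n a b ha hb hab
  rw [Submodule.mem_sInf] at hab ⊢
  intro c hc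
  exact (hI.isSubDPIdeal_inf_iff.mp (h c hc)) ha hb (hab c hc)

section Envelope

variable {A B : Type u} [CommRing A] [CommRing B] [Algebra A B] {I : Ideal A}
variable (γ : DividedPowers I) (J : Ideal B) (hIJ : I.map (algebraMap A B) ≤ J)

/-- the dp polynomial algebra on the elements of `J`. -/
abbrev EJ : Type u := DPolyI B (↥J)

/-- the augmentation ideal of `EJ`. -/
noncomputable def EJplus : Ideal (EJ J) := Ideal.span (gensP (↥J) (EJ J) (xDPI B (↥J)))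

theorem exists_deltaPlus :
    ∃ δ : DividedPowers (EJplus J), ∀ (l : ↥J) (m n : ℕ), 1 ≤ m →
      δ.dpow n (xDPI B (↥J) l m) = (uniformBell n m : EJ J) * xDPI B (↥J) l (n * m) :=
  exists_dp_of_basisI B (↥J) (EJ J) (isDPFam_xDPI B (↥J)) (bDPI B (↥J)) (bDPI_apply B (↥J))

/-- the dp structure on the augmentation ideal. -/
noncomputable def deltaPlus : DividedPowers (EJplus J) := Classical.choose (exists_deltaPlus J)

theorem deltaPlus_x (l : ↥J) (m n : ℕ) (hm : 1 ≤ m) :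
    (deltaPlus J).dpow n (xDPI B (↥J) l m) =
      (uniformBell n m : EJ J) * xDPI B (↥J) l (n * m) :=
  Classical.choose_spec (exists_deltaPlus J) l m n hm

theorem deltaPlus_x_one (l : ↥J) (n : ℕ) :
    (deltaPlus J).dpow n (xDPI B (↥J) l 1) = xDPI B (↥J) l n := by
  rw [deltaPlus_x J l 1 n le_rfl, uniformBell_one_right, Nat.cast_one, one_mul, mul_one]

theorem x_mem_EJplus (l : ↥J) (n : ℕ) (hn : 1 ≤ n) : xDPI B (↥J) l n ∈ EJplus J :=
  Ideal.subset_span ⟨l, n, hn, rfl⟩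

/-- the relations -/
def relSet : Set (EJ J) :=
  {z | (∃ j : ↥J, z = xDPI B (↥J) j 1 - algebraMap B (EJ J) (j : B)) ∨
    (∃ (a : A) (ha : a ∈ I) (n : ℕ), 1 ≤ n ∧
      z = xDPI B (↥J) ⟨algebraMap A B a, hIJ (Ideal.mem_map_of_mem _ ha)⟩ n -
        algebraMap B (EJ J) (algebraMap A B (γ.dpow n a)))}

/-- admissible ideals -/
def admSet : Set (Ideal (EJ J)) :=
  {b | relSet γ J hIJ ⊆ b ∧ (deltaPlus J).IsSubDPIdeal (b ⊓ EJplus J)}

/-- the smallest admissible ideal -/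
noncomputable def aJ : Ideal (EJ J) := sInf (admSet γ J hIJ)

theorem rel_le_aJ : relSet γ J hIJ ⊆ aJ γ J hIJ := by
  intro z hz
  show z ∈ sInf (admSet γ J hIJ)
  rw [Submodule.mem_sInf]
  intro b hb
  exact hb.1 hz

theorem isSubDPIdeal_aJ : (deltaPlus J).IsSubDPIdeal (aJ γ J hIJ ⊓ EJplus J) :=
  isSubDPIdeal_sInf_inf (deltaPlus J) _ fun _ hb => hb.2

theorem aJ_le {b : Ideal (EJ J)} (hb : b ∈ admSet γ J hIJ) : aJ γ J hIJ ≤ b := sInf_le hb

/-- the dp envelope -/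
def DJ : Type u := EJ J ⧸ aJ γ J hIJ

noncomputable instance instCommRingDJ : CommRing (DJ γ J hIJ) :=
  Ideal.Quotient.commRing (aJ γ J hIJ)

noncomputable instance instAlgebraDJ : Algebra B (DJ γ J hIJ) :=
  Ideal.Quotient.algebra B (A := EJ J) (I := aJ γ J hIJ)

/-- the quotient map -/
noncomputable def mkD : EJ J →+* DJ γ J hIJ := Ideal.Quotient.mk (aJ γ J hIJ)

theorem mkD_surjective : Function.Surjective (mkD γ J hIJ) := Ideal.Quotient.mk_surjective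

theorem mkD_eq_zero_iff (a : EJ J) : mkD γ J hIJ a = 0 ↔ a ∈ aJ γ J hIJ :=
  Ideal.Quotient.eq_zero_iff_mem

/-- its dp ideal -/
noncomputable def JD : Ideal (DJ γ J hIJ) := (EJplus J).map (mkD γ J hIJ)

/-- its dp structure -/
noncomputable def gammaD : DividedPowers (JD γ J hIJ) :=
  DividedPowers.Quotient.dividedPowers (deltaPlus J) (isSubDPIdeal_aJ γ J hIJ)

theorem gammaD_mk (n : ℕ) {a : EJ J} (ha : a ∈ EJplus J) :
    (gammaD γ J hIJ).dpow n (mkD γ J hIJ a) = mkD γ J hIJ ((deltaPlus J).dpow n a) :=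
  DividedPowers.Quotient.dpow_apply (deltaPlus J) (isSubDPIdeal_aJ γ J hIJ) ha

theorem algebraMap_DJ (b : B) :
    algebraMap B (DJ γ J hIJ) b = mkD γ J hIJ (algebraMap B (EJ J) b) := rfl

theorem mk_x_one (j : ↥J) :
    mkD γ J hIJ (xDPI B (↥J) j 1) = algebraMap B (DJ γ J hIJ) (j : B) := by
  rw [algebraMap_DJ, ← sub_eq_zero, ← map_sub, mkD_eq_zero_iff]
  exact rel_le_aJ γ J hIJ (Or.inl ⟨j, rfl⟩)

theorem mk_x_gamma (a : A) (ha : a ∈ I) (n : ℕ) (hn : 1 ≤ n) :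
    mkD γ J hIJ
      (xDPI B (↥J) ⟨algebraMap A B a, hIJ (Ideal.mem_map_of_mem _ ha)⟩ n) =
      algebraMap B (DJ γ J hIJ) (algebraMap A B (γ.dpow n a)) := by
  rw [algebraMap_DJ, ← sub_eq_zero, ← map_sub, mkD_eq_zero_iff]
  exact rel_le_aJ γ J hIJ (Or.inr ⟨a, ha, n, hn, rfl⟩)

theorem map_le_JD : J.map (algebraMap B (DJ γ J hIJ)) ≤ JD γ J hIJ := by
  rw [Ideal.map_le_iff_le_comap]
  intro j hj
  rw [Ideal.mem_comap]
  have := mk_x_one γ J hIJ ⟨j, hj⟩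
  rw [← this]
  exact Ideal.mem_map_of_mem _ (x_mem_EJplus J _ 1 le_rfl)

theorem isDPMorphism_gammaD :
    γ.IsDPMorphism (gammaD γ J hIJ) ((algebraMap B (DJ γ J hIJ)).comp (algebraMap A B)) := by
  rw [DividedPowers.isDPMorphism_iff]
  constructor
  · rw [← Ideal.map_map]
    exact (Ideal.map_mono hIJ).trans (map_le_JD γ J hIJ)
  · intro n hn a ha
    have hn1 : 1 ≤ n := Nat.one_le_iff_ne_zero.mpr hn
    rw [RingHom.comp_apply, RingHom.comp_apply,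
      ← mk_x_one γ J hIJ ⟨algebraMap A B a, hIJ (Ideal.mem_map_of_mem _ ha)⟩,
      gammaD_mk γ J hIJ n (x_mem_EJplus J _ 1 le_rfl), deltaPlus_x_one,
      mk_x_gamma γ J hIJ a ha n hn1]

section UP

variable {C : Type u} [CommRing C] [Algebra A C] {K : Ideal C} (δ : DividedPowers K)
variable (hAC : γ.IsDPMorphism δ (algebraMap A C)) (ψ : B →ₐ[A] C) (hψ : J.map ψ ≤ K)

include hψ in
theorem psi_mem (j : ↥J) : ψ (j : B) ∈ K := hψ (Ideal.mem_map_of_mem _ j.2)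

include hψ in
theorem isDPFam_famC : IsDPFam (fun (j : ↥J) (n : ℕ) => δ.dpow n (ψ (j : B))) :=
  ⟨fun j => δ.dpow_zero (psi_mem J ψ hψ j), fun j _ _ => δ.mul_dpow (psi_mem J ψ hψ j)⟩

/-- the map from the dp polynomial algebra -/
noncomputable def PhiC :
    letI : Algebra B C := ψ.toRingHom.toAlgebra
    EJ J →ₐ[B] C :=
  letI : Algebra B C := ψ.toRingHom.toAlgebra
  mapOutGI (isDPFam_xDPI B (↥J)) (bDPI B (↥J)) (bDPI_apply B (↥J)) (isDPFam_famC J δ ψ hψ)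

theorem PhiC_x (j : ↥J) (n : ℕ) :
    PhiC J δ ψ hψ (xDPI B (↥J) j n) = δ.dpow n (ψ (j : B)) := by
  letI : Algebra B C := ψ.toRingHom.toAlgebra
  exact mapOutGI_x _ _ _ _ j n

theorem PhiC_algebraMap (b : B) : PhiC J δ ψ hψ (algebraMap B (EJ J) b) = ψ b := by
  letI : Algebra B C := ψ.toRingHom.toAlgebra
  exact (PhiC J δ ψ hψ).commutes b

/-- `PhiC` as a ring hom -/
noncomputable def PhiR : EJ J →+* C :=
  letI : Algebra B C := ψ.toRingHom.toAlgebra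
  (PhiC J δ ψ hψ).toRingHom

theorem PhiR_x (j : ↥J) (n : ℕ) :
    PhiR J δ ψ hψ (xDPI B (↥J) j n) = δ.dpow n (ψ (j : B)) := PhiC_x J δ ψ hψ j n

theorem PhiR_algebraMap (b : B) : PhiR J δ ψ hψ (algebraMap B (EJ J) b) = ψ b :=
  PhiC_algebraMap J δ ψ hψ b

theorem isDPMorphism_PhiR : (deltaPlus J).IsDPMorphism δ (PhiR J δ ψ hψ) := by
  refine DividedPowers.IsDPMorphism.on_span (deltaPlus J) δ (S := gensP (↥J) (EJ J) (xDPI B (↥J)))
    rfl ?_ ?_
  · rintro _ ⟨l, m, hm, rfl⟩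
    rw [PhiR_x]
    exact δ.dpow_mem (by omega) (psi_mem J ψ hψ l)
  · rintro n _ ⟨l, m, hm, rfl⟩
    rw [deltaPlus_x J l m n hm, map_mul, map_natCast, PhiR_x, PhiR_x,
      δ.dpow_comp (by omega) (psi_mem J ψ hψ l)]

include hAC in
theorem ker_PhiR_mem : RingHom.ker (PhiR J δ ψ hψ) ∈ admSet γ J hIJ := by
  refine ⟨?_, DividedPowers.isSubDPIdeal_ker (deltaPlus J) δ (isDPMorphism_PhiR J δ ψ hψ)⟩
  rintro z (⟨j, rfl⟩ | ⟨a, ha, n, hn, rfl⟩)
  · show PhiR J δ ψ hψ _ = 0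
    rw [map_sub, PhiR_x, PhiR_algebraMap, δ.dpow_one (psi_mem J ψ hψ j), sub_self]
  · show PhiR J δ ψ hψ _ = 0
    rw [map_sub, PhiR_x, PhiR_algebraMap]
    show δ.dpow n (ψ (algebraMap A B a)) - ψ (algebraMap A B (γ.dpow n a)) = 0
    rw [ψ.commutes, ψ.commutes, hAC.dpow_comp a ha, sub_self]

/-- the induced map on the envelope -/
noncomputable def chiC : DJ γ J hIJ →+* C :=
  Ideal.Quotient.lift (aJ γ J hIJ) (PhiR J δ ψ hψ) (fun _ ha =>
    aJ_le γ J hIJ (ker_PhiR_mem γ J hIJ δ hAC ψ hψ) ha)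

theorem chiC_mk (a : EJ J) :
    chiC γ J hIJ δ hAC ψ hψ (mkD γ J hIJ a) = PhiR J δ ψ hψ a :=
  Ideal.Quotient.lift_mk _ _ _

theorem chiC_comp : (chiC γ J hIJ δ hAC ψ hψ).comp (algebraMap B (DJ γ J hIJ)) = ψ := by
  ext b
  rw [RingHom.comp_apply, algebraMap_DJ, chiC_mk, PhiR_algebraMap]
  rfl

theorem isDPMorphism_chiC : (gammaD γ J hIJ).IsDPMorphism δ (chiC γ J hIJ δ hAC ψ hψ) := by
  have hΦ := isDPMorphism_PhiR J δ ψ hψ
  constructor
  · unfold JD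
    rw [Ideal.map_map]
    have : (chiC γ J hIJ δ hAC ψ hψ).comp (mkD γ J hIJ) = PhiR J δ ψ hψ := by
      ext a
      rw [RingHom.comp_apply, chiC_mk]
    rw [this]
    exact hΦ.ideal_comp
  · intro n z hz
    obtain ⟨a, ha, rfl⟩ := (Ideal.mem_map_iff_of_surjective _ (mkD_surjective γ J hIJ)).mp hz
    rw [gammaD_mk γ J hIJ n ha, chiC_mk, chiC_mk, hΦ.dpow_comp a ha]

theorem chiC_unique (χ' : DJ γ J hIJ →+* C) (h1 : χ'.comp (algebraMap B (DJ γ J hIJ)) = ψ)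
    (h2 : (gammaD γ J hIJ).IsDPMorphism δ χ') : χ' = chiC γ J hIJ δ hAC ψ hψ := by
  letI : Algebra B C := ψ.toRingHom.toAlgebra
  have hb : ∀ b : B, χ' (mkD γ J hIJ (algebraMap B (EJ J) b)) = ψ b := by
    intro b
    have := congrArg (fun f => f b) h1
    exact this
  let Φ' : EJ J →ₐ[B] C :=
    { (χ'.comp (mkD γ J hIJ)) with
      commutes' := fun b => hb b }
  have hΦ' : Φ' = PhiC J δ ψ hψ := by
    refine algHom_ext_of_xI (bDPI B (↥J)) (bDPI_apply B (↥J)) fun l n => ?_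
    rw [PhiC_x]
    show χ' (mkD γ J hIJ (xDPI B (↥J) l n)) = _
    rw [← deltaPlus_x_one J l n, ← gammaD_mk γ J hIJ n (x_mem_EJplus J l 1 le_rfl),
      ← h2.dpow_comp _ (Ideal.mem_map_of_mem _ (x_mem_EJplus J l 1 le_rfl)), mk_x_one]
    congr 1
    have := congrArg (fun f => f (l : B)) h1
    exact this
  ext z
  obtain ⟨a, rfl⟩ := mkD_surjective γ J hIJ z
  rw [chiC_mk]
  have := congrArg (fun f : EJ J →ₐ[B] C => f a) hΦ'
  exact this

end UP

include hIJ in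
/-- Stacks 07H8: the divided power envelope. -/
theorem exists_dp_envelope :
    ∃ (D : Type u) (_ : CommRing D) (_ : Algebra B D) (JD : Ideal D) (γD : DividedPowers JD),
      J.map (algebraMap B D) ≤ JD ∧
      γ.IsDPMorphism γD ((algebraMap B D).comp (algebraMap A B)) ∧
      ∀ (C : Type u) [CommRing C] [Algebra A C] (K : Ideal C) (δ : DividedPowers K),
        γ.IsDPMorphism δ (algebraMap A C) →
        ∀ ψ : B →ₐ[A] C, J.map ψ ≤ K →
          ∃! χ : D →+* C, χ.comp (algebraMap B D) = ψ ∧ γD.IsDPMorphism δ χ := by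
  refine ⟨DJ γ J hIJ, inferInstance, inferInstance, JD γ J hIJ, gammaD γ J hIJ,
    map_le_JD γ J hIJ, isDPMorphism_gammaD γ J hIJ, ?_⟩
  intro C _ _ K δ hAC ψ hψ
  exact ⟨chiC γ J hIJ δ hAC ψ hψ,
    ⟨chiC_comp γ J hIJ δ hAC ψ hψ, isDPMorphism_chiC γ J hIJ δ hAC ψ hψ⟩,
    fun χ' ⟨h1, h2⟩ => chiC_unique γ J hIJ δ hAC ψ hψ χ' h1 h2⟩

end Envelope

end Helper16.DPI
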