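import Groth.Agent.Lib.Helper16.DP4
import Groth.Agent.S2211

set_option autoImplicit false

open Nat

namespace Helper16.DPQ

example (n : ℕ) : Finset (ℕ × ℕ) := Finset.antidiagonal n

/-- `(p!)^(n/p) * (n/p)!` -/
def Fn (p n : ℕ) : ℕ := (p !) ^ (n / p) * (n / p)!

/-- the `p`-adic unit `n! / ((p!)^(n/p) (n/p)!)`. -/
def Nn (p n : ℕ) : ℕ := uniformBell (n / p) p * n.choose (n / p * p) * (n % p)!

theorem Nn_mul_Fn {p : ℕ} (hp : p.Prime) (n : ℕ) : Nn p n * Fn p n = n ! := by
  unfold Nn Fn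
  have e1 := uniformBell_mul_eq (n / p) hp.ne_zero
  have e2 := Nat.choose_mul_factorial_mul_factorial (Nat.div_mul_le_self n p)
  have e3 : n - n / p * p = n % p := by
    have := Nat.div_add_mod' n p
    omega
  rw [e3] at e2
  calc uniformBell (n / p) p * n.choose (n / p * p) * (n % p)! * (p ! ^ (n / p) * (n / p)!)
      = n.choose (n / p * p) * (uniformBell (n / p) p * p ! ^ (n / p) * (n / p)!) * (n % p)! := by
        ring
    _ = n ! := by rw [e1, e2]

theorem Nn_not_dvd {p : ℕ} (hp : p.Prime) (n : ℕ) : ¬ p ∣ Nn p n := by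
  unfold Nn
  have h1 : ¬ p ∣ uniformBell (n / p) p :=
    Groth.Agent.S2211.not_dvd_of_modEq_one hp (Groth.Agent.S2211.uniformBell_modEq_one hp _)
  have h2 : ¬ p ∣ n.choose (n / p * p) := by
    have h := Groth.Agent.S2211.choose_modEq_one_a hp (n / p) (n % p) (Nat.mod_lt _ hp.pos)
    rw [Nat.div_add_mod'] at h
    exact Groth.Agent.S2211.not_dvd_of_modEq_one hp h
  have h3 : ¬ p ∣ (n % p)! := by
    rw [hp.dvd_factorial]
    exact not_le.mpr (Nat.mod_lt _ hp.pos)
  intro h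
  rcases (hp.dvd_mul).mp h with h | h
  · rcases (hp.dvd_mul).mp h with h | h
    · exact h1 h
    · exact h2 h
  · exact h3 h

theorem div_eq' {p : ℕ} (hp : 0 < p) (q r : ℕ) (hr : r < p) : (q * p + r) / p = q := by
  rw [Nat.add_comm, Nat.add_mul_div_right _ _ hp, Nat.div_eq_of_lt hr, Nat.zero_add]

theorem mod_eq' {p : ℕ} (q r : ℕ) (hr : r < p) : (q * p + r) % p = r := by
  rw [Nat.add_comm, Nat.add_mul_mod_self_right, Nat.mod_eq_of_lt hr]

theorem Nn_cast {p : ℕ} (hp : p.Prime) (q r : ℕ) (hr : r < p) :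
    (Nn p (q * p + r) : ℚ) = ((q * p + r)! : ℚ) / ((p ! : ℚ) ^ q * (q ! : ℚ)) := by
  have h := Nn_mul_Fn hp (q * p + r)
  unfold Fn at h
  rw [div_eq' hp.pos q r hr] at h
  have hne : ((p ! : ℚ) ^ q * (q ! : ℚ)) ≠ 0 := by positivity
  rw [eq_div_iff hne]
  exact_mod_cast h

theorem uB_cast (m n : ℕ) (hn : n ≠ 0) :
    (uniformBell m n : ℚ) = ((m * n)! : ℚ) / ((n ! : ℚ) ^ m * (m ! : ℚ)) := by
  have h := uniformBell_mul_eq m hn
  have hne : ((n ! : ℚ) ^ m * (m ! : ℚ)) ≠ 0 := by positivity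
  rw [eq_div_iff hne]
  exact_mod_cast (by rw [← h]; ring : uniformBell m n * (n ! ^ m * m !) = (m * n)!)

theorem choose_cast (a b : ℕ) :
    ((a + b).choose a : ℚ) = ((a + b)! : ℚ) / ((a ! : ℚ) * (b ! : ℚ)) := by
  have h := Nat.add_choose_mul_factorial_mul_factorial a b
  rw [← Nat.choose_symm_add] at h
  have hne : ((a ! : ℚ) * (b ! : ℚ)) ≠ 0 := by positivity
  rw [eq_div_iff hne]
  exact_mod_cast (by rw [← h]; ring : (a + b).choose a * (a ! * b !) = (a + b)!)

/-- Identity 1 (no carry). -/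
theorem id1 {p : ℕ} (hp : p.Prime) (q r q' r' : ℕ) (hrr : r + r' < p) :
    Nn p ((q * p + r) + (q' * p + r')) * (q + q').choose q =
      ((q * p + r) + (q' * p + r')).choose (q * p + r) * Nn p (q * p + r) * Nn p (q' * p + r') := by
  have hr : r < p := by omega
  have hr' : r' < p := by omega
  have e : (q * p + r) + (q' * p + r') = (q + q') * p + (r + r') := by ring
  have key : ((Nn p ((q * p + r) + (q' * p + r')) * (q + q').choose q : ℕ) : ℚ) =
      ((((q * p + r) + (q' * p + r')).choose (q * p + r) * Nn p (q * p + r) *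
        Nn p (q' * p + r') : ℕ) : ℚ) := by
    push_cast
    rw [choose_cast (q * p + r) (q' * p + r'), choose_cast q q', Nn_cast hp q r hr,
      Nn_cast hp q' r' hr']
    rw [show ((Nn p ((q * p + r) + (q' * p + r')) : ℕ) : ℚ) =
      (Nn p ((q + q') * p + (r + r')) : ℚ) by rw [e], Nn_cast hp (q + q') (r + r') hrr]
    rw [show (((q + q') * p + (r + r'))! : ℚ) = (((q * p + r) + (q' * p + r'))! : ℚ) by rw [e]]
    field_simp
    ring
  exact_mod_cast key

/-- Identity 2 (carry). -/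
theorem id2 {p : ℕ} (hp : p.Prime) (q r q' r' : ℕ) (hr : r < p) (hr' : r' < p)
    (hrr : p ≤ r + r') :
    Nn p ((q * p + r) + (q' * p + r')) * p ! * (q + q').choose q * (q + q' + 1) =
      ((q * p + r) + (q' * p + r')).choose (q * p + r) * Nn p (q * p + r) * Nn p (q' * p + r') := by
  have hs : r + r' - p < p := by omega
  have e : (q * p + r) + (q' * p + r') = (q + q' + 1) * p + (r + r' - p) := by
    have : r + r' = p + (r + r' - p) := by omega
    calc (q * p + r) + (q' * p + r') = (q + q') * p + (r + r') := by ring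
      _ = (q + q') * p + (p + (r + r' - p)) := by rw [← this]
      _ = _ := by ring
  have key : ((Nn p ((q * p + r) + (q' * p + r')) * p ! * (q + q').choose q * (q + q' + 1) : ℕ) :
      ℚ) = ((((q * p + r) + (q' * p + r')).choose (q * p + r) * Nn p (q * p + r) *
        Nn p (q' * p + r') : ℕ) : ℚ) := by
    push_cast
    rw [choose_cast (q * p + r) (q' * p + r'), choose_cast q q', Nn_cast hp q r hr,
      Nn_cast hp q' r' hr']
    rw [show ((Nn p ((q * p + r) + (q' * p + r')) : ℕ) : ℚ) =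
      (Nn p ((q + q' + 1) * p + (r + r' - p)) : ℚ) by rw [e],
      Nn_cast hp (q + q' + 1) (r + r' - p) hs]
    rw [show (((q + q' + 1) * p + (r + r' - p))! : ℚ) =
      (((q * p + r) + (q' * p + r'))! : ℚ) by rw [e]]
    rw [Nat.factorial_succ (q + q')]
    push_cast
    field_simp
    ring
  exact_mod_cast key

/-- Identity 3a (`n < p`). -/
theorem id3a {p : ℕ} (hp : p.Prime) (n : ℕ) (hn : 1 ≤ n) (hnp : n < p) :
    Nn p (p * n) * p ! ^ (n - 1) * n ! = uniformBell p n * Nn p n ^ p := by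
  have e1 : p * n = n * p + 0 := by ring
  have e2 : n = 0 * p + n := by ring
  obtain ⟨k, rfl⟩ : ∃ k, n = k + 1 := ⟨n - 1, by omega⟩
  have key : ((Nn p (p * (k + 1)) * p ! ^ (k + 1 - 1) * (k + 1)! : ℕ) : ℚ) =
      ((uniformBell p (k + 1) * Nn p (k + 1) ^ p : ℕ) : ℚ) := by
    push_cast
    rw [show ((Nn p (p * (k + 1)) : ℕ) : ℚ) = (Nn p ((k + 1) * p + 0) : ℚ) by rw [← e1],
      Nn_cast hp (k + 1) 0 hp.pos, uB_cast p (k + 1) (by omega)]
    rw [show ((Nn p (k + 1) : ℕ) : ℚ) = (Nn p (0 * p + (k + 1)) : ℚ) by rw [← e2],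
      Nn_cast hp 0 (k + 1) hnp]
    rw [show (((k + 1) * p + 0)! : ℚ) = ((p * (k + 1))! : ℚ) by rw [← e1],
      show ((0 * p + (k + 1))! : ℚ) = ((k + 1)! : ℚ) by rw [← e2]]
    rw [div_pow, mul_pow, ← pow_mul, pow_succ]
    field_simp
    simp
  exact_mod_cast key

/-- Identity 3b (`q ≥ 1`). -/
theorem id3b {p : ℕ} (hp : p.Prime) (q r : ℕ) (hq : 1 ≤ q) (hr : r < p) :
    Nn p (p * (q * p + r)) * p ! ^ r * r ! * uniformBell p q * (q * p + r).choose r =
      uniformBell p (q * p + r) * Nn p (q * p + r) ^ p := by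
  have e1 : p * (q * p + r) = (q * p + r) * p + 0 := by ring
  have hn0 : q * p + r ≠ 0 := by
    have := Nat.mul_pos hq hp.pos
    omega
  have key : ((Nn p (p * (q * p + r)) * p ! ^ r * r ! * uniformBell p q *
      (q * p + r).choose r : ℕ) : ℚ) =
      ((uniformBell p (q * p + r) * Nn p (q * p + r) ^ p : ℕ) : ℚ) := by
    push_cast
    rw [show ((Nn p (p * (q * p + r)) : ℕ) : ℚ) = (Nn p ((q * p + r) * p + 0) : ℚ) by rw [← e1],
      Nn_cast hp (q * p + r) 0 hp.pos, uB_cast p (q * p + r) hn0, uB_cast p q (by omega),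
      Nn_cast hp q r hr]
    rw [show ((q * p + r).choose r : ℚ) = ((r + q * p).choose r : ℚ) by rw [Nat.add_comm],
      choose_cast r (q * p)]
    rw [show (((q * p + r) * p + 0)! : ℚ) = ((p * (q * p + r))! : ℚ) by rw [← e1],
      show ((r + q * p)! : ℚ) = ((q * p + r)! : ℚ) by rw [Nat.add_comm],
      show ((p * q)! : ℚ) = ((q * p)! : ℚ) by rw [Nat.mul_comm]]
    rw [div_pow, mul_pow, ← pow_mul, pow_add]
    field_simp
  exact_mod_cast key

end Helper16.DPQ
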