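import Groth.Agent.Lib.Helper16.DPQ1

set_option autoImplicit false

open Nat

namespace Helper16.DPQ

universe u

section General

variable {A : Type u} [CommRing A] {I : Ideal A}

/-- for any dp structure: `N_n γ_n(f) = f^r γ_q(γ_p f)`. -/
theorem dp_Nn (hI : DividedPowers I) {p : ℕ} (hp : p.Prime) {f : A} (hf : f ∈ I) (n : ℕ) :
    (Nn p n : A) * hI.dpow n f = f ^ (n % p) * hI.dpow (n / p) (hI.dpow p f) := by
  have hn : n / p * p + n % p = n := Nat.div_add_mod' n p
  rw [hI.dpow_comp hp.ne_zero hf, ← hI.factorial_mul_dpow_eq_pow hf (n := n % p)]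
  have h1 : hI.dpow (n % p) f * hI.dpow (n / p * p) f =
      ((n % p + n / p * p).choose (n % p) : A) * hI.dpow (n % p + n / p * p) f := hI.mul_dpow hf
  have h2 : (n % p + n / p * p).choose (n % p) = n.choose (n / p * p) := by
    rw [Nat.add_comm, ← Nat.choose_symm_add, hn]
  have h3 : n % p + n / p * p = n := by omega
  rw [h2, h3] at h1
  calc (Nn p n : A) * hI.dpow n f
      = ((n % p)! : A) * (uniformBell (n / p) p : A) *
          ((n.choose (n / p * p) : A) * hI.dpow n f) := by
        unfold Nn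
        push_cast
        ring
    _ = _ := by rw [← h1]; ring

end General

section Def

variable {A : Type u} [CommRing A]

/-- the candidate divided powers built from the `p`-th one. -/
noncomputable def gfun (p : ℕ) (d : A → A) (n : ℕ) (x : A) : A :=
  if h : 2 ≤ p ∧ 0 < n then
    Ring.inverse ((Nn p n : ℕ) : A) * x ^ (n % p) * gfun p d (n / p) (d x)
  else 1
termination_by n
decreasing_by exact Nat.div_lt_self h.2 h.1

theorem gfun_zero (p : ℕ) (d : A → A) (x : A) : gfun p d 0 x = 1 := by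
  rw [gfun, dif_neg]
  omega

theorem gfun_pos {p : ℕ} (hp : 2 ≤ p) (d : A → A) {n : ℕ} (hn : 0 < n) (x : A) :
    gfun p d n x = Ring.inverse ((Nn p n : ℕ) : A) * x ^ (n % p) * gfun p d (n / p) (d x) := by
  rw [gfun, dif_pos ⟨hp, hn⟩]

end Def

section Props

variable {A : Type u} [CommRing A] {p : ℕ} (hp : p.Prime)
variable (hA : ∀ n : ℕ, ¬ p ∣ n → IsUnit (n : A)) {I : Ideal A} (d : A → A)
variable (hdI : ∀ x ∈ I, d x ∈ I) (h1 : ∀ x ∈ I, (p.factorial : A) * d x = x ^ p)
variable (h2 : ∀ (a x : A), x ∈ I → d (a * x) = a ^ p * d x)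

include hp hA in
theorem isUnit_Nn (n : ℕ) : IsUnit ((Nn p n : ℕ) : A) := hA _ (Nn_not_dvd hp n)

include hp hA in
/-- the defining relation, multiplied out. -/
theorem Nn_mul_gfun (n : ℕ) (x : A) :
    ((Nn p n : ℕ) : A) * gfun p d n x = x ^ (n % p) * gfun p d (n / p) (d x) := by
  rcases Nat.eq_zero_or_pos n with rfl | hn
  · rw [gfun_zero, Nat.zero_mod, Nat.zero_div, gfun_zero, pow_zero]
    simp [Nn, uniformBell_zero_left]
  · rw [gfun_pos hp.two_le d hn, ← mul_assoc, ← mul_assoc,
      Ring.mul_inverse_cancel _ (isUnit_Nn hp hA n), one_mul]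

theorem Nn_one (hp2 : 2 ≤ p) : Nn p 1 = 1 := by
  unfold Nn
  rw [Nat.div_eq_of_lt (by omega), Nat.mod_eq_of_lt (by omega)]
  simp [uniformBell_zero_left]

theorem Nn_self (hp0 : 0 < p) : Nn p p = 1 := by
  unfold Nn
  rw [Nat.div_self hp0, Nat.mod_self]
  simp [uniformBell_one_left]

include hp in
theorem gfun_one (x : A) : gfun p d 1 x = x := by
  rw [gfun_pos hp.two_le d Nat.one_pos, Nn_one hp.two_le, Nat.div_eq_of_lt hp.one_lt,
    Nat.mod_eq_of_lt hp.one_lt, gfun_zero]
  simp

include hp in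
theorem gfun_p (x : A) : gfun p d p x = d x := by
  rw [gfun_pos hp.two_le d hp.pos, Nn_self hp.pos, Nat.div_self hp.pos, Nat.mod_self,
    gfun_one hp]
  simp

include hp hdI in
theorem gfun_mem (n : ℕ) (hn : n ≠ 0) : ∀ x ∈ I, gfun p d n x ∈ I := by
  induction n using Nat.strong_induction_on with
  | _ n ih =>
    intro x hx
    rw [gfun_pos hp.two_le d (Nat.pos_of_ne_zero hn)]
    by_cases hr : n % p = 0
    · have hq : n / p ≠ 0 := by
        intro h0
        have := Nat.div_add_mod' n p
        rw [h0, hr] at this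
        omega
      exact Ideal.mul_mem_left _ _
        (ih (n / p) (Nat.div_lt_self (Nat.pos_of_ne_zero hn) hp.one_lt) hq _ (hdI x hx))
    · exact Ideal.mul_mem_right _ _ (Ideal.mul_mem_left _ _ (Ideal.pow_mem_of_mem _ hx _
        (Nat.pos_of_ne_zero hr)))

include hp hdI h2 in
theorem gfun_smul (n : ℕ) : ∀ (a x : A), x ∈ I → gfun p d n (a * x) = a ^ n * gfun p d n x := by
  induction n using Nat.strong_induction_on with
  | _ n ih =>
    intro a x hx
    rcases Nat.eq_zero_or_pos n with rfl | hn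
    · rw [gfun_zero, gfun_zero, pow_zero, one_mul]
    · rw [gfun_pos hp.two_le d hn, gfun_pos hp.two_le d hn, h2 a x hx,
        ih (n / p) (Nat.div_lt_self hn hp.one_lt) _ _ (hdI x hx), mul_pow]
      have e : a ^ n = a ^ (n % p) * (a ^ p) ^ (n / p) := by
        rw [← pow_mul, ← pow_add]
        congr 1
        have := Nat.div_add_mod n p
        omega
      rw [e]
      ring

end Props

end Helper16.DPQ
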