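import Groth.Agent.Lib.Helper16.DPQ2

set_option autoImplicit false

open Nat

namespace Helper16.DPQ

universe u

section Props

variable {A : Type u} [CommRing A] {p : ℕ} (hp : p.Prime)
variable (hA : ∀ n : ℕ, ¬ p ∣ n → IsUnit (n : A)) {I : Ideal A} (d : A → A)
variable (hdI : ∀ x ∈ I, d x ∈ I) (h1 : ∀ x ∈ I, (p.factorial : A) * d x = x ^ p)
variable (h2 : ∀ (a x : A), x ∈ I → d (a * x) = a ^ p * d x)

include hp hA hdI h1 in
/-- the product rule for `gfun`. -/
theorem gfun_mul (s : ℕ) : ∀ m n, m + n = s → ∀ x ∈ I,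
    gfun p d m x * gfun p d n x = ((m + n).choose m : A) * gfun p d (m + n) x := by
  induction s using Nat.strong_induction_on with
  | _ s ih =>
    intro m n hmn x hx
    rcases Nat.eq_zero_or_pos m with rfl | hm
    · simp [gfun_zero]
    rcases Nat.eq_zero_or_pos n with rfl | hn
    · simp [gfun_zero]
    obtain ⟨q, r, hr, rfl⟩ : ∃ q r, r < p ∧ m = q * p + r :=
      ⟨m / p, m % p, Nat.mod_lt _ hp.pos, (Nat.div_add_mod' m p).symm⟩
    obtain ⟨q', r', hr', rfl⟩ : ∃ q r, r < p ∧ n = q * p + r :=
      ⟨n / p, n % p, Nat.mod_lt _ hp.pos, (Nat.div_add_mod' n p).symm⟩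
    have hy : d x ∈ I := hdI x hx
    have hp2 := hp.two_le
    have hu := (isUnit_Nn hp hA (q * p + r)).mul (isUnit_Nn hp hA (q' * p + r'))
    apply hu.mul_left_cancel
    have e1 := Nn_mul_gfun hp hA d (q * p + r) x
    rw [mod_eq' q r hr, div_eq' hp.pos q r hr] at e1
    have e2 := Nn_mul_gfun hp hA d (q' * p + r') x
    rw [mod_eq' q' r' hr', div_eq' hp.pos q' r' hr'] at e2
    have hqp : q * 2 ≤ q * p := Nat.mul_le_mul_left _ hp2
    have hqp' : q' * 2 ≤ q' * p := Nat.mul_le_mul_left _ hp2
    have hqq : q + q' < s := by omega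
    have ih1 := ih (q + q') hqq q q' rfl (d x) hy
    by_cases hrr : r + r' < p
    · have e : (q * p + r) + (q' * p + r') = (q + q') * p + (r + r') := by ring
      have e3 := Nn_mul_gfun hp hA d ((q * p + r) + (q' * p + r')) x
      rw [show ((q * p + r) + (q' * p + r')) % p = r + r' by rw [e, mod_eq' _ _ hrr],
        show ((q * p + r) + (q' * p + r')) / p = q + q' by rw [e, div_eq' hp.pos _ _ hrr]] at e3
      have hid := congrArg (Nat.cast : ℕ → A) (id1 hp q r q' r' hrr)
      push_cast at hid
      linear_combination (↑(Nn p (q' * p + r')) * gfun p d (q' * p + r') x) * e1 +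
        (x ^ r * gfun p d q (d x)) * e2 + (x ^ r * x ^ r') * ih1 -
        ((q + q').choose q : A) * e3 +
        gfun p d ((q * p + r) + (q' * p + r')) x * hid
    · rw [not_lt] at hrr
      have hs : r + r' - p < p := by omega
      have e : (q * p + r) + (q' * p + r') = (q + q' + 1) * p + (r + r' - p) := by
        have : r + r' = p + (r + r' - p) := by omega
        calc (q * p + r) + (q' * p + r') = (q + q') * p + (r + r') := by ring
          _ = (q + q') * p + (p + (r + r' - p)) := by rw [← this]
          _ = _ := by ring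
      have e3 := Nn_mul_gfun hp hA d ((q * p + r) + (q' * p + r')) x
      rw [show ((q * p + r) + (q' * p + r')) % p = r + r' - p by rw [e, mod_eq' _ _ hs],
        show ((q * p + r) + (q' * p + r')) / p = q + q' + 1 by rw [e, div_eq' hp.pos _ _ hs]] at e3
      have hid := congrArg (Nat.cast : ℕ → A) (id2 hp q r q' r' hr hr' hrr)
      push_cast at hid
      have hq1 : 1 + (q + q') < s := by
        have : (q + q' + 1) * 2 ≤ (q + q' + 1) * p := Nat.mul_le_mul_left _ hp2
        omega
      have ih2 := ih (1 + (q + q')) hq1 1 (q + q') rfl (d x) hy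
      rw [gfun_one hp, Nat.choose_one_right, show 1 + (q + q') = q + q' + 1 by ring] at ih2
      push_cast at ih2
      have hsplit : x ^ r * x ^ r' = x ^ (r + r' - p) * x ^ p := by
        rw [← pow_add, ← pow_add]
        congr 1
        omega
      have hxp := h1 x hx
      linear_combination (↑(Nn p (q' * p + r')) * gfun p d (q' * p + r') x) * e1 +
        (x ^ r * gfun p d q (d x)) * e2 + (x ^ r * x ^ r') * ih1 +
        (((q + q').choose q : A) * gfun p d (q + q') (d x)) * hsplit -
        (((q + q').choose q : A) * gfun p d (q + q') (d x) * x ^ (r + r' - p)) * hxp +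
        (((q + q').choose q : A) * x ^ (r + r' - p) * (p ! : A)) * ih2 -
        (((q + q').choose q : A) * (p ! : A) * ((q : A) + (q' : A) + 1)) * e3 +
        gfun p d ((q * p + r) + (q' * p + r')) x * hid

include hp hA hdI h1 in
theorem isDPFam_gfun (x : A) (hx : x ∈ I) :
    Helper16.DP.IsDPFam (fun (_ : Unit) (k : ℕ) => gfun p d k x) :=
  ⟨fun _ => gfun_zero p d x, fun _ m k => gfun_mul hp hA d hdI h1 (m + k) m k rfl x hx⟩

include hp hA hdI h1 in
theorem factorial_mul_gfun (n : ℕ) (x : A) (hx : x ∈ I) : (n ! : A) * gfun p d n x = x ^ n := by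
  have h := Helper16.DP.pow_eq_of_isDPFam (isDPFam_gfun hp hA d hdI h1 x hx) () 1 one_ne_zero n
  simp only [gfun_one hp, uniformBell_one_right, mul_one] at h
  rw [h]

include hp hA hdI h1 h2 in
/-- composition with the `p`-th power. -/
theorem d_gfun (n : ℕ) (hn : 1 ≤ n) : ∀ x ∈ I,
    d (gfun p d n x) = (uniformBell p n : A) * gfun p d (p * n) x := by
  induction n using Nat.strong_induction_on with
  | _ n ih =>
    intro x hx
    have hy : d x ∈ I := hdI x hx
    have hp2 := hp.two_le
    obtain ⟨q, r, hr, rfl⟩ : ∃ q r, r < p ∧ n = q * p + r :=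
      ⟨n / p, n % p, Nat.mod_lt _ hp.pos, (Nat.div_add_mod' n p).symm⟩
    have hfam := isDPFam_gfun hp hA d hdI h1 (d x) hy
    -- `N_{pn} g_{pn}(x) = g_n(y)`
    have e0 := Nn_mul_gfun hp hA d (p * (q * p + r)) x
    rw [Nat.mul_mod_right, Nat.mul_div_cancel_left _ hp.pos, pow_zero, one_mul] at e0
    have hN := isUnit_Nn (A := A) hp hA (q * p + r)
    have hu := (isUnit_Nn (A := A) hp hA (p * (q * p + r))).mul (hN.pow p)
    apply hu.mul_left_cancel
    have hg : gfun p d (q * p + r) x =
        Ring.inverse ((Nn p (q * p + r) : ℕ) : A) * x ^ r * gfun p d q (d x) := by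
      rw [gfun_pos hp2 d (by omega), mod_eq' q r hr, div_eq' hp.pos q r hr]
    have hinv : ((Nn p (q * p + r) : ℕ) : A) ^ p * Ring.inverse ((Nn p (q * p + r) : ℕ) : A) ^ p
        = 1 := by
      rw [← mul_pow, Ring.mul_inverse_cancel _ hN, one_pow]
    have hyr : (r ! : A) * gfun p d r (d x) = d x ^ r :=
      factorial_mul_gfun hp hA d hdI h1 r (d x) hy
    have hxp := h1 x hx
    rcases Nat.eq_zero_or_pos q with rfl | hq
    · -- `n = r < p`
      simp only [zero_mul, zero_add] at *
      obtain ⟨k, rfl⟩ : ∃ k, r = k + 1 := ⟨r - 1, by omega⟩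
      have hg' : gfun p d (k + 1) x =
          (Ring.inverse ((Nn p (k + 1) : ℕ) : A) * x ^ k) * x := by
        rw [hg, gfun_zero, pow_succ]; ring
      have hd : d (gfun p d (k + 1) x) =
          (Ring.inverse ((Nn p (k + 1) : ℕ) : A) * x ^ k) ^ p * d x := by
        rw [hg', h2 _ x hx]
      have hid := congrArg (Nat.cast : ℕ → A) (id3a hp (k + 1) (by omega) hr)
      push_cast at hid
      rw [hd]
      have hpow : (x ^ k) ^ p = ((p ! : A) * d x) ^ k := by
        rw [hxp, ← pow_mul, ← pow_mul, Nat.mul_comm]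
      rw [mul_pow, hpow, mul_pow]
      have hyk : d x ^ k * d x = ((k + 1)! : A) * gfun p d (k + 1) (d x) := by
        rw [hyr, pow_succ]
      linear_combination (↑(Nn p (p * (k + 1))) * (p ! : A) ^ k * d x ^ k * d x) * hinv +
        (↑(Nn p (p * (k + 1))) * (p ! : A) ^ k) * hyk + gfun p d (k + 1) (d x) * hid -
        ((uniformBell p (k + 1) : A) * ↑(Nn p (k + 1)) ^ p) * e0
    · -- `q ≥ 1`
      have hGq : gfun p d q (d x) ∈ I := gfun_mem hp d hdI q (by omega) _ hy
      have hid := congrArg (Nat.cast : ℕ → A) (id3b hp q r hq hr)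
      push_cast at hid
      have hpowG := Helper16.DP.pow_eq_of_isDPFam hfam () q (by omega) p
      push_cast at hpowG
      have hmulG := gfun_mul hp hA d hdI h1 (r + p * q) r (p * q) rfl (d x) hy
      rw [show r + p * q = q * p + r by ring] at hmulG
      -- key claim
      have key : ((Nn p (q * p + r) : ℕ) : A) ^ p * d (gfun p d (q * p + r) x) =
          ((p ! : A) ^ r * (r ! : A) * (uniformBell p q : A) * ((q * p + r).choose r : A)) *
            gfun p d (q * p + r) (d x) := by
        rcases Nat.eq_zero_or_pos r with rfl | hr0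
        · have hg' : gfun p d (q * p + 0) x =
              Ring.inverse ((Nn p (q * p + 0) : ℕ) : A) * gfun p d q (d x) := by
            rw [hg, pow_zero, mul_one]
          have hq' : q < q * p + 0 := by
            have : q * 2 ≤ q * p := Nat.mul_le_mul_left _ hp2
            omega
          have ihq := ih q hq' hq (d x) hy
          rw [hg', h2 _ _ hGq, ihq]
          simp only [pow_zero, Nat.factorial_zero, Nat.cast_one, Nat.choose_zero_right, mul_one,
            one_mul]
          rw [show q * p + 0 = p * q by ring]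
          rw [show q * p + 0 = p * q by ring] at hinv
          linear_combination ((uniformBell p q : A) * gfun p d (p * q) (d x)) * hinv
        · obtain ⟨k, rfl⟩ : ∃ k, r = k + 1 := ⟨r - 1, by omega⟩
          have hg' : gfun p d (q * p + (k + 1)) x =
              (Ring.inverse ((Nn p (q * p + (k + 1)) : ℕ) : A) * x ^ k * gfun p d q (d x)) * x := by
            rw [hg, pow_succ]; ring
          have hpow : (x ^ k) ^ p = ((p ! : A) * d x) ^ k := by
            rw [hxp, ← pow_mul, ← pow_mul, Nat.mul_comm]
          rw [hg', h2 _ x hx, mul_pow, mul_pow, hpow, mul_pow, hpowG]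
          have hyk : d x ^ k * d x = ((k + 1)! : A) * gfun p d (k + 1) (d x) := by
            rw [hyr, pow_succ]
          linear_combination ((p ! : A) ^ k * d x ^ k * ((p ! : A) * (uniformBell p q : A) *
              gfun p d (p * q) (d x)) * d x) * hinv +
            ((p ! : A) ^ k * ((p ! : A) * (uniformBell p q : A) * gfun p d (p * q) (d x))) * hyk +
            ((p ! : A) ^ k * (p ! : A) * (uniformBell p q : A) * ((k + 1)! : A)) * hmulG
      linear_combination (↑(Nn p (p * (q * p + r)))) * key +
        gfun p d (q * p + r) (d x) * hid -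
        ((uniformBell p (q * p + r) : A) * ↑(Nn p (q * p + r)) ^ p) * e0

end Props

end Helper16.DPQ
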