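import Groth.Agent.Lib.Helper16.DPQ3

set_option autoImplicit false

open Nat

namespace Helper16.DPQ

universe u

open Helper16.DP

section Claim

variable {A : Type u} [CommRing A] {p : ℕ} (hp : p.Prime)
variable (hA : ∀ n : ℕ, ¬ p ∣ n → IsUnit (n : A)) {I : Ideal A} (d : A → A)
variable (hdI : ∀ x ∈ I, d x ∈ I) (h1 : ∀ x ∈ I, (p.factorial : A) * d x = x ^ p)
variable (h2 : ∀ (a x : A), x ∈ I → d (a * x) = a ^ p * d x)
variable (h3 : ∀ x ∈ I, ∀ y ∈ I, d (x + y) = d x + d y +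
      ((Finset.antidiagonal p).filter fun k => 0 < k.1 ∧ 0 < k.2).sum
        fun k => Ring.inverse ((k.1.factorial * k.2.factorial : ℕ) : A) * x ^ k.1 * y ^ k.2)
variable {Λ : Type} [Fintype Λ] [DecidableEq Λ] (s : Λ → A) (hs : ∀ l, s l ∈ I)

attribute [local instance] algR0 algR0K

include hp hA hdI h1 hs in
theorem isDPFam_famG : IsDPFam (fun (l : Λ) (n : ℕ) => gfun p d n (s l)) :=
  ⟨fun l => gfun_zero p d (s l), fun l m k => gfun_mul hp hA d hdI h1 (m + k) m k rfl (s l) (hs l)⟩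

/-- the comparison map from the torsion-free model. -/
noncomputable def phiG : P0 Λ (MvPolynomial A ℤ) (MvPolynomial A ℚ) →ₐ[MvPolynomial A ℤ] A :=
  mapOut Λ (MvPolynomial A ℤ) (MvPolynomial A ℚ) (hinj0 A) (isDPFam_famG hp hA d hdI h1 s hs)

theorem phiG_x0 (l : Λ) (n : ℕ) :
    phiG hp hA d hdI h1 s hs (x0 Λ (MvPolynomial A ℤ) (MvPolynomial A ℚ) l n) =
      gfun p d n (s l) :=
  mapOut_x0 _ _ _ _ _ l n

theorem phiG_mem (f : P0 Λ (MvPolynomial A ℤ) (MvPolynomial A ℚ))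
    (hf : f ∈ Pplus Λ (MvPolynomial A ℤ) (MvPolynomial A ℚ)) :
    phiG hp hA d hdI h1 s hs f ∈ I := by
  have : Pplus Λ (MvPolynomial A ℤ) (MvPolynomial A ℚ) ≤
      Ideal.comap (phiG hp hA d hdI h1 s hs).toRingHom I := by
    unfold Pplus
    rw [Ideal.span_le]
    rintro _ ⟨l, n, hn, rfl⟩
    show (phiG hp hA d hdI h1 s hs) (x0 Λ _ _ l n) ∈ I
    rw [phiG_x0]
    exact gfun_mem hp d hdI n (by omega) _ (hs l)
  exact this hf

include hp h2 in
theorem d_zero' : d 0 = 0 := by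
  have := h2 0 0 I.zero_mem
  rwa [zero_mul, zero_pow hp.ne_zero, zero_mul] at this

include hp hA in
theorem isUnit_factorial {i : ℕ} (hi : i < p) : IsUnit ((i ! : ℕ) : A) :=
  hA _ (by rw [hp.dvd_factorial]; omega)

theorem filter_not_eq (hp0 : p ≠ 0) :
    (Finset.antidiagonal p).filter (fun k => ¬ (0 < k.1 ∧ 0 < k.2)) = {((0 : ℕ), p), (p, 0)} := by
  ext ⟨a, b⟩
  simp only [Finset.mem_filter, Finset.mem_antidiagonal, Finset.mem_insert, Finset.mem_singleton,
    Prod.mk.injEq]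
  omega

include h2 h3 in
/-- Step C1: compatibility with the `p`-th divided power. -/
theorem phiG_eps_p (f : P0 Λ (MvPolynomial A ℤ) (MvPolynomial A ℚ))
    (hf : f ∈ Pplus Λ (MvPolynomial A ℤ) (MvPolynomial A ℚ)) :
    phiG hp hA d hdI h1 s hs ((eps Λ (MvPolynomial A ℤ) (MvPolynomial A ℚ)).dpow p f) =
      d (phiG hp hA d hdI h1 s hs f) := by
  unfold Pplus at hf
  induction hf using Submodule.span_induction with
  | mem f hf =>
    obtain ⟨l, m, hm, rfl⟩ := hf
    rw [eps_x0 Λ _ _ l m hm p, map_mul, map_natCast, phiG_x0, phiG_x0,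
      d_gfun hp hA d hdI h1 h2 m hm _ (hs l)]
  | zero =>
    rw [(eps Λ _ _).dpow_eval_zero hp.ne_zero, map_zero, d_zero' hp d h2 (I := I)]
  | add f f' hf hf' ih ih' =>
    have hf1 : f ∈ Pplus Λ (MvPolynomial A ℤ) (MvPolynomial A ℚ) := hf
    have hf2 : f' ∈ Pplus Λ (MvPolynomial A ℤ) (MvPolynomial A ℚ) := hf'
    have hm1 := phiG_mem hp hA d hdI h1 s hs f hf1
    have hm2 := phiG_mem hp hA d hdI h1 s hs f' hf2
    rw [(eps Λ _ _).dpow_add hf1 hf2, map_sum, map_add, h3 _ hm1 _ hm2,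
      ← Finset.sum_filter_add_sum_filter_not (Finset.antidiagonal p)
        (fun k => 0 < k.1 ∧ 0 < k.2), filter_not_eq hp.ne_zero,
      Finset.sum_pair (by
        intro h
        have := (Prod.mk.injEq _ _ _ _ ▸ h : (0 : ℕ) = p ∧ p = 0)
        exact hp.ne_zero this.2)]
    simp only [map_mul]
    rw [(eps Λ _ _).dpow_zero hf1, (eps Λ _ _).dpow_zero hf2, map_one, one_mul, mul_one, ih, ih']
    have hterm : ∀ k ∈ (Finset.antidiagonal p).filter (fun k => 0 < k.1 ∧ 0 < k.2),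
        phiG hp hA d hdI h1 s hs ((eps Λ _ _).dpow k.1 f) *
          phiG hp hA d hdI h1 s hs ((eps Λ _ _).dpow k.2 f') =
        Ring.inverse ((k.1.factorial * k.2.factorial : ℕ) : A) *
          phiG hp hA d hdI h1 s hs f ^ k.1 * phiG hp hA d hdI h1 s hs f' ^ k.2 := by
      intro k hk
      rw [Finset.mem_filter, Finset.mem_antidiagonal] at hk
      have hk1 : k.1 < p := by omega
      have hk2 : k.2 < p := by omega
      have hu1 := isUnit_factorial (A := A) hp hA hk1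
      have hu2 := isUnit_factorial (A := A) hp hA hk2
      have e1 : ((k.1 ! : ℕ) : A) * phiG hp hA d hdI h1 s hs ((eps Λ _ _).dpow k.1 f) =
          phiG hp hA d hdI h1 s hs f ^ k.1 := by
        rw [← map_natCast (phiG hp hA d hdI h1 s hs), ← map_mul,
          (eps Λ _ _).factorial_mul_dpow_eq_pow hf1, map_pow]
      have e2 : ((k.2 ! : ℕ) : A) * phiG hp hA d hdI h1 s hs ((eps Λ _ _).dpow k.2 f') =
          phiG hp hA d hdI h1 s hs f' ^ k.2 := by
        rw [← map_natCast (phiG hp hA d hdI h1 s hs), ← map_mul,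
          (eps Λ _ _).factorial_mul_dpow_eq_pow hf2, map_pow]
      rw [← e1, ← e2, Nat.cast_mul, Ring.mul_inverse_rev]
      have i1 := Ring.inverse_mul_cancel _ hu1
      have i2 := Ring.inverse_mul_cancel _ hu2
      linear_combination (-(phiG hp hA d hdI h1 s hs ((eps Λ _ _).dpow k.1 f) *
        phiG hp hA d hdI h1 s hs ((eps Λ _ _).dpow k.2 f') *
        (Ring.inverse ((k.2 ! : ℕ) : A) * ((k.2 ! : ℕ) : A)))) * i1 -
        (phiG hp hA d hdI h1 s hs ((eps Λ _ _).dpow k.1 f) *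
        phiG hp hA d hdI h1 s hs ((eps Λ _ _).dpow k.2 f')) * i2
    rw [Finset.sum_congr rfl hterm]
    ring
  | smul c f hf ih =>
    have hf1 : f ∈ Pplus Λ (MvPolynomial A ℤ) (MvPolynomial A ℚ) := hf
    rw [smul_eq_mul, (eps Λ _ _).dpow_mul hf1, map_mul, map_pow, ih, map_mul,
      h2 _ _ (phiG_mem hp hA d hdI h1 s hs f hf1)]

include h2 h3 in
/-- Step C2: compatibility with all divided powers. -/
theorem phiG_eps (n : ℕ) : ∀ f ∈ Pplus Λ (MvPolynomial A ℤ) (MvPolynomial A ℚ),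
    phiG hp hA d hdI h1 s hs ((eps Λ (MvPolynomial A ℤ) (MvPolynomial A ℚ)).dpow n f) =
      gfun p d n (phiG hp hA d hdI h1 s hs f) := by
  induction n using Nat.strong_induction_on with
  | _ n ih =>
    intro f hf
    rcases Nat.eq_zero_or_pos n with rfl | hn
    · rw [(eps Λ _ _).dpow_zero hf, map_one, gfun_zero]
    · have hu := isUnit_Nn (A := A) hp hA n
      apply hu.mul_left_cancel
      have e := congrArg (phiG hp hA d hdI h1 s hs) (dp_Nn (eps Λ _ _) hp hf n)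
      rw [map_mul, map_natCast, map_mul, map_pow,
        ih (n / p) (Nat.div_lt_self hn hp.one_lt) _ ((eps Λ _ _).dpow_mem hp.ne_zero hf),
        phiG_eps_p hp hA d hdI h1 h2 h3 s hs f hf] at e
      rw [e, Nn_mul_gfun hp hA d n]

end Claim

end Helper16.DPQ
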