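import Groth.Agent.Lib.Helper16.DPQ4

set_option autoImplicit false

open Nat

namespace Helper16.DPQ

universe u

open Helper16.DP

section Final

variable {A : Type u} [CommRing A] {p : ℕ} (hp : p.Prime)
variable (hA : ∀ n : ℕ, ¬ p ∣ n → IsUnit (n : A)) {I : Ideal A} (d : A → A)
variable (hdI : ∀ x ∈ I, d x ∈ I) (h1 : ∀ x ∈ I, (p.factorial : A) * d x = x ^ p)
variable (h2 : ∀ (a x : A), x ∈ I → d (a * x) = a ^ p * d x)
variable (h3 : ∀ x ∈ I, ∀ y ∈ I, d (x + y) = d x + d y +
      ((Finset.antidiagonal p).filter fun k => 0 < k.1 ∧ 0 < k.2).sum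
        fun k => Ring.inverse ((k.1.factorial * k.2.factorial : ℕ) : A) * x ^ k.1 * y ^ k.2)

attribute [local instance] algR0 algR0K

include hp hA hdI h1 h2 h3 in
theorem gfun_add (n : ℕ) (x y : A) (hx : x ∈ I) (hy : y ∈ I) :
    gfun p d n (x + y) =
      (Finset.antidiagonal n).sum fun k => gfun p d k.1 x * gfun p d k.2 y := by
  have hs : ∀ l : Fin 2, (![x, y] : Fin 2 → A) l ∈ I := by
    intro l
    fin_cases l
    · exact hx
    · exact hy
  have hf0 := x0_mem_Pplus (Fin 2) (MvPolynomial A ℤ) (MvPolynomial A ℚ) 0 1 le_rfl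
  have hf1 := x0_mem_Pplus (Fin 2) (MvPolynomial A ℤ) (MvPolynomial A ℚ) 1 1 le_rfl
  have key := phiG_eps hp hA d hdI h1 h2 h3 ![x, y] hs n _ (Ideal.add_mem _ hf0 hf1)
  rw [map_add, phiG_x0, phiG_x0, gfun_one hp, gfun_one hp] at key
  simp only [Matrix.cons_val_zero, Matrix.cons_val_one] at key
  rw [← key, (eps _ _ _).dpow_add hf0 hf1, map_sum]
  refine Finset.sum_congr rfl fun k _ => ?_
  rw [map_mul, eps_x0_one, eps_x0_one, phiG_x0, phiG_x0]
  simp only [Matrix.cons_val_zero, Matrix.cons_val_one]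

include hp hA hdI h1 h2 h3 in
theorem gfun_comp (m n : ℕ) (hn : n ≠ 0) (x : A) (hx : x ∈ I) :
    gfun p d m (gfun p d n x) = (uniformBell m n : A) * gfun p d (m * n) x := by
  have hs : ∀ _ : Fin 1, (fun _ : Fin 1 => x) 0 ∈ I := fun _ => hx
  have hf0 := x0_mem_Pplus (Fin 1) (MvPolynomial A ℤ) (MvPolynomial A ℚ) 0 n (by omega)
  have key := phiG_eps hp hA d hdI h1 h2 h3 (fun _ : Fin 1 => x) hs m _ hf0
  rw [phiG_x0, eps_x0 _ _ _ 0 n (by omega) m, map_mul, map_natCast, phiG_x0] at key
  exact key.symm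

include hp hA hdI h1 h2 h3 in
/-- Stacks 07GT, second part: existence. -/
theorem exists_dp_of_pth : ∃ γ : DividedPowers I, ∀ (n : ℕ) (x : A), x ∈ I →
    γ.dpow n x = gfun p d n x := by
  classical
  refine ⟨{ dpow := fun n x => if x ∈ I then gfun p d n x else 0
            dpow_null := fun {n x} hx => if_neg hx
            dpow_zero := fun {x} hx => by rw [if_pos hx, gfun_zero]
            dpow_one := fun {x} hx => by rw [if_pos hx, gfun_one hp]
            dpow_mem := fun {n x} hn hx => by
              rw [if_pos hx]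
              exact gfun_mem hp d hdI n hn x hx
            dpow_add := fun {n x y} hx hy => by
              rw [if_pos (I.add_mem hx hy), gfun_add hp hA d hdI h1 h2 h3 n x y hx hy]
              refine Finset.sum_congr rfl fun k _ => ?_
              rw [if_pos hx, if_pos hy]
            dpow_mul := fun {n a x} hx => by
              rw [if_pos (I.mul_mem_left a hx), if_pos hx, gfun_smul hp d hdI h2 n a x hx]
            mul_dpow := fun {m n x} hx => by
              simp only [if_pos hx]
              exact gfun_mul hp hA d hdI h1 (m + n) m n rfl x hx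
            dpow_comp := fun {m n x} hn hx => by
              simp only [if_pos hx]
              rw [if_pos (gfun_mem hp d hdI n hn x hx),
                gfun_comp hp hA d hdI h1 h2 h3 m n hn x hx] }, fun n x hx => ?_⟩
  exact if_pos hx

include hp hA hdI h1 h2 h3 in
/-- Stacks 07GT, second part. -/
theorem existsUnique_dp_of_pth : ∃! γ : DividedPowers I, ∀ x ∈ I, γ.dpow p x = d x := by
  obtain ⟨γ, hγ⟩ := exists_dp_of_pth hp hA d hdI h1 h2 h3
  refine ⟨γ, fun x hx => by rw [hγ p x hx, gfun_p hp], fun γ' hγ' => ?_⟩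
  rw [Groth.Agent.S2211.result p hp hA γ' γ]
  intro x hx
  rw [hγ' x hx, hγ p x hx, gfun_p hp]

end Final

end Helper16.DPQ
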