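import Mathlib
import Groth.Prelude.Def_W4c3severiratdpLat
import Groth.Agent.Lib.Helper90.Conic

/-!
# Weyl group elements of the lattice `DP δ` and a verified simple-root descent on lists

* `refl r hr`: the reflection `v ↦ v + (v·r) r` in a root `r` (`r·r = -2`), a Weyl element when `K·r = 0`.
* `normL gens n l`: greedy descent on lists (apply the first generator `r` with `l·r < 0`).
* `normL_spec`: the result of the descent is the image of the input under a Weyl element fixing
  every vector orthogonal to all the generators used.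
-/

namespace Groth.Agent.Lib.Helper16.DPW

open W4c3severiratdp

variable {δ : ℕ}

lemma form_add_left (u v w : DP δ) : form (u + v) w = form u w + form v w := by
  unfold form
  simp only [Pi.add_apply, add_mul, Finset.sum_add_distrib]
  ring

lemma form_add_right (u v w : DP δ) : form u (v + w) = form u v + form u w := by
  unfold form
  simp only [Pi.add_apply, mul_add, Finset.sum_add_distrib]
  ring

lemma form_smul_left (c : ℤ) (v w : DP δ) : form (c • v) w = c * form v w := by
  unfold form
  simp only [Pi.smul_apply, smul_eq_mul, mul_assoc, ← Finset.mul_sum]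
  ring

lemma form_smul_right (c : ℤ) (v w : DP δ) : form v (c • w) = c * form v w := by
  unfold form
  simp only [Pi.smul_apply, smul_eq_mul, mul_left_comm _ c, ← Finset.mul_sum]
  ring

lemma form_comm (v w : DP δ) : form v w = form w v := by
  unfold form
  simp only [mul_comm]

lemma form_neg_left (v w : DP δ) : form (-v) w = - form v w := by
  have := form_smul_left (-1) v w
  simpa using this

lemma form_neg_right (v w : DP δ) : form v (-w) = - form v w := by
  rw [form_comm, form_neg_left, form_comm]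

lemma form_sub_left (u v w : DP δ) : form (u - v) w = form u w - form v w := by
  rw [sub_eq_add_neg, form_add_left, form_neg_left]; ring

lemma form_sub_right (u v w : DP δ) : form u (v - w) = form u v - form u w := by
  rw [sub_eq_add_neg, form_add_right, form_neg_right]; ring

/-- the reflection in `r`, as a linear map -/
def reflLin (r : DP δ) : DP δ →ₗ[ℤ] DP δ where
  toFun v := v + form v r • r
  map_add' u v := by
    rw [form_add_left, add_smul]; abel
  map_smul' c v := by
    simp only [RingHom.id_apply, form_smul_left, smul_add, mul_smul]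

lemma reflLin_apply (r v : DP δ) : reflLin r v = v + form v r • r := rfl

lemma reflLin_invol (r : DP δ) (hr : form r r = -2) : Function.Involutive (reflLin r) := by
  intro v
  rw [reflLin_apply, reflLin_apply, form_add_left, form_smul_left, hr, add_smul, mul_smul]
  have : form v r • r + (form v r • r + form v r • (-2 : ℤ) • r) = 0 := by
    rw [smul_comm (form v r) (-2 : ℤ) r]
    simp only [neg_smul, two_smul]
    abel
  rw [add_assoc, this, add_zero]

/-- the reflection in a root `r` -/
noncomputable def refl (r : DP δ) (hr : form r r = -2) : DP δ ≃ₗ[ℤ] DP δ :=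
  LinearEquiv.ofInvolutive (reflLin r) (reflLin_invol r hr)

lemma refl_apply (r : DP δ) (hr : form r r = -2) (v : DP δ) :
    refl r hr v = v + form v r • r := rfl

lemma form_refl (r : DP δ) (hr : form r r = -2) (v w : DP δ) :
    form (refl r hr v) (refl r hr w) = form v w := by
  rw [refl_apply, refl_apply]
  simp only [form_add_left, form_add_right, form_smul_left, form_smul_right, hr,
    form_comm r w]
  ring

lemma refl_fix (r : DP δ) (hr : form r r = -2) (f : DP δ) (hf : form f r = 0) :
    refl r hr f = f := by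
  rw [refl_apply, hf, zero_smul, add_zero]

lemma isWeyl_refl (r : DP δ) (hr : form r r = -2) (hK : form (canon δ) r = 0) :
    IsWeyl (refl r hr) :=
  ⟨form_refl r hr, refl_fix r hr _ hK⟩

lemma isWeyl_one : IsWeyl (LinearEquiv.refl ℤ (DP δ)) :=
  ⟨fun _ _ => rfl, rfl⟩

lemma isWeyl_trans {g h : DP δ ≃ₗ[ℤ] DP δ} (hg : IsWeyl g) (hh : IsWeyl h) :
    IsWeyl (g.trans h) := by
  refine ⟨fun v w => ?_, ?_⟩
  · simp only [LinearEquiv.trans_apply]
    rw [hh.1, hg.1]
  · simp only [LinearEquiv.trans_apply]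
    rw [hg.2, hh.2]

lemma isWeyl_symm {g : DP δ ≃ₗ[ℤ] DP δ} (hg : IsWeyl g) : IsWeyl g.symm := by
  refine ⟨fun v w => ?_, ?_⟩
  · have := hg.1 (g.symm v) (g.symm w)
    simpa using this.symm
  · have := hg.2
    rw [LinearEquiv.symm_apply_eq]
    exact this.symm

lemma isWeyl_isConic {g : DP δ ≃ₗ[ℤ] DP δ} (hg : IsWeyl g) {v : DP δ} (hv : IsConic v) :
    IsConic (g v) := by
  refine ⟨by rw [hg.1]; exact hv.1, ?_⟩
  have := hg.1 (canon δ) v
  rw [hg.2] at this
  rw [this]; exact hv.2

lemma isWeyl_isExc {g : DP δ ≃ₗ[ℤ] DP δ} (hg : IsWeyl g) {v : DP δ} (hv : IsExc v) :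
    IsExc (g v) := by
  refine ⟨by rw [hg.1]; exact hv.1, ?_⟩
  have := hg.1 (canon δ) v
  rw [hg.2] at this
  rw [this]; exact hv.2

/-! ## list level -/

def dotL : List ℤ → List ℤ → ℤ
  | x :: xs, y :: ys => x * y + dotL xs ys
  | _, _ => 0

def formL : List ℤ → List ℤ → ℤ
  | a :: v, a' :: w => a * a' - dotL v w
  | _, _ => 0

def reflL (r v : List ℤ) : List ℤ :=
  let c := formL v r
  List.zipWith (fun x y => x + c * y) v r

def normL (gens : List (List ℤ)) : ℕ → List ℤ → List ℤ
  | 0, v => v
  | n + 1, v =>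
    match gens.find? (fun r => decide (formL v r < 0)) with
    | some r => normL gens n (reflL r v)
    | none => v

/-- the canonical class as a list -/
def canonL (δ : ℕ) : List ℤ := -3 :: List.replicate δ (-1)

lemma dotL_ofFn {n : ℕ} (f g : Fin n → ℤ) :
    dotL (List.ofFn f) (List.ofFn g) = ∑ i, f i * g i := by
  induction n with
  | zero => simp [dotL]
  | succ n ih =>
    rw [List.ofFn_succ, List.ofFn_succ, dotL, ih, Fin.sum_univ_succ]

lemma formL_ofFn (v w : DP δ) : formL (List.ofFn v) (List.ofFn w) = form v w := by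
  rw [List.ofFn_succ, List.ofFn_succ, formL, dotL_ofFn]
  rfl

lemma ofFn_canon (δ : ℕ) : List.ofFn (canon δ) = canonL δ := by
  rw [List.ofFn_succ]
  unfold canonL canon
  simp only [Fin.cases_zero, Fin.cases_succ, List.ofFn_const]

lemma reflL_ofFn (r : DP δ) (hr : form r r = -2) (v : DP δ) :
    reflL (List.ofFn r) (List.ofFn v) = List.ofFn (refl r hr v) := by
  unfold reflL
  rw [formL_ofFn]
  apply List.ext_getElem
  · simp
  · intro i h1 h2
    rw [List.getElem_zipWith, List.getElem_ofFn, List.getElem_ofFn, List.getElem_ofFn]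
    rfl

/-- a list as a vector -/
def ofL (l : List ℤ) : DP δ := fun i => l.getD i 0

lemma ofFn_ofL (l : List ℤ) (h : l.length = δ + 1) : List.ofFn (ofL (δ := δ) l) = l := by
  apply List.ext_getElem
  · simp [h]
  · intro i h1 h2
    rw [List.getElem_ofFn]
    simp only [ofL]
    exact List.getD_eq_getElem _ _ h2

lemma ofL_ofFn (v : DP δ) : ofL (List.ofFn v) = v := by
  funext i
  simp only [ofL]
  rw [List.getD_eq_getElem _ _ (by simp only [List.length_ofFn]; exact i.2), List.getElem_ofFn]

lemma eq_ofL_of_ofFn_eq {v : DP δ} {l : List ℤ} (h : List.ofFn v = l) : v = ofL l := by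
  rw [← h, ofL_ofFn]

lemma form_ofL (l m : List ℤ) (hl : l.length = δ + 1) (hm : m.length = δ + 1) :
    form (ofL (δ := δ) l) (ofL m) = formL l m := by
  rw [← formL_ofFn, ofFn_ofL l hl, ofFn_ofL m hm]

/-- checkable validity of a list of generators: roots orthogonal to `K` and to the lists in `FL` -/
def ValidGens (δ : ℕ) (FL gens : List (List ℤ)) : Prop :=
  ∀ r ∈ gens, r.length = δ + 1 ∧ formL r r = -2 ∧ formL (canonL δ) r = 0 ∧ ∀ f ∈ FL, formL f r = 0

instance (δ : ℕ) (FL gens : List (List ℤ)) : Decidable (ValidGens δ FL gens) := by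
  unfold ValidGens; infer_instance

theorem normL_spec (FL gens : List (List ℤ)) (hg : ValidGens δ FL gens) :
    ∀ (n : ℕ) (v : DP δ), ∃ g : DP δ ≃ₗ[ℤ] DP δ, IsWeyl g ∧
      (∀ f : DP δ, List.ofFn f ∈ FL → g f = f) ∧
      List.ofFn (g v) = normL gens n (List.ofFn v) := by
  intro n
  induction n with
  | zero =>
    intro v
    exact ⟨LinearEquiv.refl ℤ _, isWeyl_one, fun _ _ => rfl, rfl⟩
  | succ n ih =>
    intro v
    cases hfind : gens.find? (fun r => decide (formL (List.ofFn v) r < 0)) with
    | none =>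
      refine ⟨LinearEquiv.refl ℤ _, isWeyl_one, fun _ _ => rfl, ?_⟩
      simp only [normL, hfind]
      rfl
    | some r =>
      obtain ⟨hlen, hr2, hrK, hrF⟩ := hg r (List.mem_of_find?_eq_some hfind)
      obtain ⟨r', rfl⟩ := Groth.Agent.Lib.Helper90.Conic.exists_ofFn_eq r hlen
      rw [formL_ofFn] at hr2
      rw [← ofFn_canon, formL_ofFn] at hrK
      obtain ⟨g, hgW, hgF, hgv⟩ := ih (refl r' hr2 v)
      refine ⟨(refl r' hr2).trans g, isWeyl_trans (isWeyl_refl r' hr2 hrK) hgW, ?_, ?_⟩
      · intro f hf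
        have h0 : form f r' = 0 := by
          rw [← formL_ofFn]; exact hrF _ hf
        rw [LinearEquiv.trans_apply, refl_fix r' hr2 f h0, hgF f hf]
      · simp only [normL, hfind]
        rw [reflL_ofFn r' hr2 v, ← hgv]
        rfl

/-- **pair normal form** -/
theorem pair_nf (P : DP δ → Prop) (E : List (List ℤ)) (hE : ∀ v, P v → List.ofFn v ∈ E)
    (hP : ∀ g : DP δ ≃ₗ[ℤ] DP δ, IsWeyl g → ∀ v, P v → P (g v))
    (gensA gensB : List (List ℤ)) (Q0L : List ℤ) (tbl : ℤ → List (List ℤ)) (N : ℕ)
    (hQ0 : Q0L.length = δ + 1)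
    (hA : ValidGens δ [] gensA) (hB : ValidGens δ [Q0L] gensB)
    (hdec : ∀ l ∈ E, normL gensA N l = Q0L ∧ normL gensB N l ∈ tbl (formL Q0L l))
    (v₁ v₂ : DP δ) (h₁ : P v₁) (h₂ : P v₂) :
    ∃ g : DP δ ≃ₗ[ℤ] DP δ, IsWeyl g ∧ List.ofFn (g v₁) = Q0L ∧
      List.ofFn (g v₂) ∈ tbl (form v₁ v₂) := by
  obtain ⟨gA, hgA, -, hgA1⟩ := normL_spec (δ := δ) [] gensA hA N v₁
  rw [(hdec _ (hE v₁ h₁)).1] at hgA1
  obtain ⟨gB, hgB, hgBF, hgB2⟩ := normL_spec (δ := δ) [Q0L] gensB hB N (gA v₂)
  have hmem := (hdec _ (hE (gA v₂) (hP gA hgA v₂ h₂))).2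
  rw [← hgB2, ← hgA1, formL_ofFn, hgA.1] at hmem
  refine ⟨gA.trans gB, isWeyl_trans hgA hgB, ?_, hmem⟩
  rw [LinearEquiv.trans_apply, hgBF (gA v₁) (by rw [hgA1]; exact List.mem_singleton_self _), hgA1]

/-- pairs with the same intersection number are conjugate when the table has at most one entry -/
theorem pair_transitive (P : DP δ → Prop) (E : List (List ℤ)) (hE : ∀ v, P v → List.ofFn v ∈ E)
    (hP : ∀ g : DP δ ≃ₗ[ℤ] DP δ, IsWeyl g → ∀ v, P v → P (g v))
    (gensA gensB : List (List ℤ)) (Q0L : List ℤ) (tbl : ℤ → List (List ℤ)) (N : ℕ)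
    (hQ0 : Q0L.length = δ + 1)
    (hA : ValidGens δ [] gensA) (hB : ValidGens δ [Q0L] gensB)
    (hdec : ∀ l ∈ E, normL gensA N l = Q0L ∧ normL gensB N l ∈ tbl (formL Q0L l))
    (v₁ v₂ w₁ w₂ : DP δ) (hv₁ : P v₁) (hv₂ : P v₂) (hw₁ : P w₁) (hw₂ : P w₂)
    (heq : form v₁ v₂ = form w₁ w₂) (hlen : (tbl (form v₁ v₂)).length ≤ 1) :
    ∃ g : DP δ ≃ₗ[ℤ] DP δ, IsWeyl g ∧ g v₁ = w₁ ∧ g v₂ = w₂ := by
  obtain ⟨g₁, hg₁, h11, h12⟩ := pair_nf P E hE hP gensA gensB Q0L tbl N hQ0 hA hB hdec v₁ v₂ hv₁ hv₂
  obtain ⟨g₂, hg₂, h21, h22⟩ := pair_nf P E hE hP gensA gensB Q0L tbl N hQ0 hA hB hdec w₁ w₂ hw₁ hw₂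
  rw [← heq] at h22
  have hsame : List.ofFn (g₁ v₂) = List.ofFn (g₂ w₂) := by
    match htbl : tbl (form v₁ v₂), hlen with
    | [], _ => rw [htbl] at h12; simp at h12
    | [x], _ =>
      rw [htbl] at h12 h22
      rw [List.mem_singleton.mp h12, List.mem_singleton.mp h22]
    | _ :: _ :: _, h => simp at h
  refine ⟨g₁.trans g₂.symm, isWeyl_trans hg₁ (isWeyl_symm hg₂), ?_, ?_⟩
  · rw [LinearEquiv.trans_apply, LinearEquiv.symm_apply_eq]
    exact List.ofFn_injective (h11.trans h21.symm)
  · rw [LinearEquiv.trans_apply, LinearEquiv.symm_apply_eq]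
    exact List.ofFn_injective hsame

/-! ## strict evaluation (for kernel computation) -/

def forceNat {α : Type} (n : ℕ) (k : ℕ → α) : α :=
  match n with
  | 0 => k 0
  | m + 1 => k (m + 1)

def forceInt {α : Type} (x : ℤ) (k : ℤ → α) : α :=
  match x with
  | Int.ofNat n => forceNat n (fun n' => k (Int.ofNat n'))
  | Int.negSucc n => forceNat n (fun n' => k (Int.negSucc n'))

def forceList {α : Type} : List ℤ → (List ℤ → α) → α
  | [], k => k []
  | x :: xs, k => forceInt x (fun x' => forceList xs (fun xs' => k (x' :: xs')))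

lemma forceNat_eq {α : Type} (n : ℕ) (k : ℕ → α) : forceNat n k = k n := by
  cases n <;> rfl

lemma forceInt_eq {α : Type} (x : ℤ) (k : ℤ → α) : forceInt x k = k x := by
  cases x <;> simp [forceInt, forceNat_eq]

lemma forceList_eq {α : Type} (l : List ℤ) (k : List ℤ → α) : forceList l k = k l := by
  induction l generalizing k with
  | nil => rfl
  | cons x xs ih => simp [forceList, forceInt_eq, ih]

/-- the descent with strict evaluation of the intermediate vectors -/
def normLF (gens : List (List ℤ)) : ℕ → List ℤ → List ℤ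
  | 0, v => v
  | n + 1, v =>
    match gens.find? (fun r => decide (formL v r < 0)) with
    | some r => forceList (reflL r v) (fun v' => normLF gens n v')
    | none => v

lemma normLF_eq (gens : List (List ℤ)) (n : ℕ) (v : List ℤ) : normLF gens n v = normL gens n v := by
  induction n generalizing v with
  | zero => rfl
  | succ n ih =>
    simp only [normLF, normL]
    cases gens.find? (fun r => decide (formL v r < 0)) with
    | none => rfl
    | some r => simp only [forceList_eq, ih]

/-- the boolean check for one vector of the enumeration -/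
def pairCheckB (gA gB : List (List ℤ)) (q0 : List ℤ) (tbl : ℤ → List (List ℤ)) (N : ℕ)
    (l : List ℤ) : Bool :=
  forceList l (fun l' => decide (normLF gA N l' = q0 ∧ normLF gB N l' ∈ tbl (formL q0 l')))

lemma pairCheckB_iff (gA gB : List (List ℤ)) (q0 : List ℤ) (tbl : ℤ → List (List ℤ)) (N : ℕ)
    (l : List ℤ) : pairCheckB gA gB q0 tbl N l = true ↔
      (normL gA N l = q0 ∧ normL gB N l ∈ tbl (formL q0 l)) := by
  unfold pairCheckB
  rw [forceList_eq, decide_eq_true_iff, normLF_eq, normLF_eq]

end Groth.Agent.Lib.Helper16.DPW
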