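import Groth.Agent.Lib.Helper16.DPW1

/-!
# Data for the descent: simple roots, tables of normal forms, enumeration of exceptional classes
-/

namespace Groth.Agent.Lib.Helper16.DPW

open W4c3severiratdp Groth.Agent.Lib.Helper90.Conic

/-- the root `ℓ - e₁ - e₂ - e₃` -/
def cremonaL (δ : ℕ) : List ℤ := 1 :: 1 :: 1 :: 1 :: List.replicate (δ - 3) 0

/-- the root `e_i - e_{i+1}` -/
def swapL (δ i : ℕ) : List ℤ := List.replicate i 0 ++ (-1 :: 1 :: List.replicate (δ - 1 - i) 0)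

/-- the Cremona root (if `3 ≤ δ`) and the roots `e_i - e_{i+1}` for `lo ≤ i < hi` -/
def gensL (δ lo hi : ℕ) : List (List ℤ) :=
  (if 3 ≤ δ then [cremonaL δ] else []) ++ (List.range (hi - lo)).map (fun i => swapL δ (lo + i))

/-- the conic `ℓ - e₁` -/
def conicQ0 (δ : ℕ) : List ℤ := 1 :: 1 :: List.replicate (δ - 1) 0

/-- normal forms of conics `Q` under the stabilizer of `ℓ - e₁`, by `n = Q·(ℓ - e₁)` -/
def tblConic (δ : ℕ) (n : ℤ) : List (List ℤ) :=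
  if n = 0 then [1 :: 1 :: List.replicate (δ - 1) 0]
  else if n = 1 then [1 :: 0 :: 1 :: List.replicate (δ - 2) 0]
  else if n = 2 then (if 5 ≤ δ then [2 :: 0 :: 1 :: 1 :: 1 :: 1 :: List.replicate (δ - 5) 0] else [])
  else if n = 3 then
    (if 7 ≤ δ then [3 :: 0 :: 2 :: 1 :: 1 :: 1 :: 1 :: 1 :: List.replicate (δ - 7) 0] else [])
  else if n = 4 then
    (if δ = 7 then [[5, 1, 2, 2, 2, 2, 2, 2]]
     else if δ = 8 then [[5, 1, 2, 2, 2, 2, 2, 2, 0], [4, 0, 2, 2, 2, 1, 1, 1, 1]] else [])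
  else if δ = 8 then
    (if n = 5 then [[5, 0, 2, 2, 2, 2, 2, 2, 1]]
     else if n = 6 then [[7, 1, 3, 3, 3, 3, 2, 2, 2]]
     else if n = 7 then [[8, 1, 3, 3, 3, 3, 3, 3, 3]]
     else if n = 8 then [[11, 3, 4, 4, 4, 4, 4, 4, 4]] else [])
  else []

lemma length_tblConic_le (δ : ℕ) (n : ℤ) (h : ¬ (δ = 8 ∧ n = 4)) :
    (tblConic δ n).length ≤ 1 := by
  unfold tblConic
  split_ifs <;> simp_all

/-- the property to be checked by kernel computation for conics -/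
def ConicCheck (δ : ℕ) : Prop :=
  ValidGens δ [] (gensL δ 1 δ) ∧ ValidGens δ [conicQ0 δ] (gensL δ 2 δ) ∧
  ∀ l ∈ allSols δ,
    pairCheckB (gensL δ 1 δ) (gensL δ 2 δ) (conicQ0 δ) (tblConic δ) 200 l = true

instance (δ : ℕ) : Decidable (ConicCheck δ) := by
  unfold ConicCheck; infer_instance

/-- the conics with first coordinate `a` -/
def conicChunk (δ a : ℕ) : List (List ℤ) :=
  (sols a δ (3 * (a : ℤ) - 2) ((a : ℤ) * a)).map (fun l => (a : ℤ) :: l)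

def gens8A : List (List ℤ) :=
  [[1, 1, 1, 1, 0, 0, 0, 0, 0],
   [0, -1, 1, 0, 0, 0, 0, 0, 0],
   [0, 0, -1, 1, 0, 0, 0, 0, 0],
   [0, 0, 0, -1, 1, 0, 0, 0, 0],
   [0, 0, 0, 0, -1, 1, 0, 0, 0],
   [0, 0, 0, 0, 0, -1, 1, 0, 0],
   [0, 0, 0, 0, 0, 0, -1, 1, 0],
   [0, 0, 0, 0, 0, 0, 0, -1, 1]]

def gens8B : List (List ℤ) :=
  [[1, 1, 1, 1, 0, 0, 0, 0, 0],
   [0, 0, -1, 1, 0, 0, 0, 0, 0],
   [0, 0, 0, -1, 1, 0, 0, 0, 0],
   [0, 0, 0, 0, -1, 1, 0, 0, 0],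
   [0, 0, 0, 0, 0, -1, 1, 0, 0],
   [0, 0, 0, 0, 0, 0, -1, 1, 0],
   [0, 0, 0, 0, 0, 0, 0, -1, 1]]

def q08 : List ℤ := [1, 1, 0, 0, 0, 0, 0, 0, 0]

/-- the check for the conics of `DP 8` with first coordinate `a` -/
def ConicChunkCheck8 (a : ℕ) : Prop :=
  ∀ l ∈ conicChunk 8 a, pairCheckB gens8A gens8B q08 (tblConic 8) 200 l = true

instance (a : ℕ) : Decidable (ConicChunkCheck8 a) := by
  unfold ConicChunkCheck8; infer_instance

/-! ## exceptional classes -/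

lemma isExc_iff {δ : ℕ} (v : DP δ) :
    IsExc v ↔ (v 0 * v 0 + 1 = ∑ i : Fin δ, v i.succ * v i.succ) ∧
      (∑ i : Fin δ, v i.succ = 3 * v 0 - 1) := by
  unfold IsExc form canon
  simp only [Fin.cases_zero, Fin.cases_succ, neg_mul, one_mul, Finset.sum_neg_distrib]
  constructor
  · rintro ⟨h1, h2⟩
    constructor <;> linarith
  · rintro ⟨h1, h2⟩
    constructor <;> linarith

/-- all exceptional classes of `DP δ`, as lists `a :: b`. -/
def excSols (δ : ℕ) : List (List ℤ) :=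
  (List.range 9).flatMap fun a' =>
    (sols (a' + 2) δ (3 * ((a' : ℤ) - 1) - 1) (((a' : ℤ) - 1) * ((a' : ℤ) - 1) + 1)).map
      (fun l => ((a' : ℤ) - 1) :: l)

lemma mem_excSols_of_isExc {δ : ℕ} (hδ : δ ≤ 8) (v : DP δ) (hv : IsExc v) :
    List.ofFn v ∈ excSols δ := by
  rw [isExc_iff] at hv
  obtain ⟨h1, h2⟩ := hv
  have hofn : List.ofFn v = v 0 :: List.ofFn (fun i : Fin δ => v i.succ) := List.ofFn_succ
  have hcs := cs (List.ofFn (fun i : Fin δ => v i.succ))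
  rw [sum_ofFn', sq_ofFn, List.length_ofFn, h2, ← h1] at hcs
  have hδ' : (δ : ℤ) ≤ 8 := by exact_mod_cast hδ
  have hsq : 0 ≤ v 0 * v 0 := mul_self_nonneg _
  have ha1 : -1 ≤ v 0 := by nlinarith
  have ha2 : v 0 ≤ 7 := by nlinarith
  obtain ⟨a', ha⟩ : ∃ a' : ℕ, v 0 = (a' : ℤ) - 1 := ⟨(v 0 + 1).toNat, by omega⟩
  unfold excSols
  rw [List.mem_flatMap]
  refine ⟨a', List.mem_range.mpr (by omega), ?_⟩
  rw [List.mem_map]
  refine ⟨List.ofFn (fun i : Fin δ => v i.succ), ?_, by rw [hofn, ha]⟩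
  rw [mem_sols]
  refine ⟨List.length_ofFn, ?_, by rw [sum_ofFn', h2, ha], by rw [sq_ofFn, ← h1, ha]⟩
  intro x hx
  rw [List.mem_ofFn] at hx
  obtain ⟨i, rfl⟩ := hx
  have hle : v i.succ * v i.succ ≤ v 0 * v 0 + 1 := by
    rw [h1]
    exact Finset.single_le_sum (f := fun j : Fin δ => v j.succ * v j.succ)
      (fun j _ => mul_self_nonneg _) (Finset.mem_univ i)
  have hcast : ((a' + 2 : ℕ) : ℤ) = v 0 + 3 := by push_cast; omega
  rw [hcast]
  constructor <;> nlinarith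

def e8L : List ℤ := [0, 0, 0, 0, 0, 0, 0, 0, -1]
def e7L : List ℤ := [0, 0, 0, 0, 0, 0, 0, -1, 0]

/-- normal forms of exceptional classes `λ` under the stabilizer of `e₈`, by `n = λ·e₈` -/
def tblExc (n : ℤ) : List (List ℤ) :=
  if n = -1 then [e8L]
  else if n = 0 then [e7L]
  else if n = 1 then [[1, 1, 0, 0, 0, 0, 0, 0, 1]]
  else if n = 2 then [[3, 1, 1, 1, 1, 1, 1, 0, 2]]
  else if n = 3 then [[6, 2, 2, 2, 2, 2, 2, 2, 3]]
  else []

lemma length_tblExc_le (n : ℤ) : (tblExc n).length ≤ 1 := by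
  unfold tblExc
  split_ifs <;> simp

/-- the normal form of an exceptional class `μ` with `μ·e₈ = 0`, `μ·e₇ = 1` under the stabilizer of
`e₇` and `e₈` -/
def excC : List ℤ := [1, 1, 0, 0, 0, 0, 0, 1, 0]

/-- simple roots of `E₈`, `E₇` (orthogonal to `e₈`), `E₆` (orthogonal to `e₇`, `e₈`) -/
def gens8C : List (List ℤ) :=
  [[1, 1, 1, 1, 0, 0, 0, 0, 0],
   [0, -1, 1, 0, 0, 0, 0, 0, 0],
   [0, 0, -1, 1, 0, 0, 0, 0, 0],
   [0, 0, 0, -1, 1, 0, 0, 0, 0],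
   [0, 0, 0, 0, -1, 1, 0, 0, 0],
   [0, 0, 0, 0, 0, -1, 1, 0, 0],
   [0, 0, 0, 0, 0, 0, -1, 1, 0]]

def gens8D : List (List ℤ) :=
  [[1, 1, 1, 1, 0, 0, 0, 0, 0],
   [0, -1, 1, 0, 0, 0, 0, 0, 0],
   [0, 0, -1, 1, 0, 0, 0, 0, 0],
   [0, 0, 0, -1, 1, 0, 0, 0, 0],
   [0, 0, 0, 0, -1, 1, 0, 0, 0],
   [0, 0, 0, 0, 0, -1, 1, 0, 0]]

/-- the boolean check of the third stage for one exceptional class -/
def excCheckB (l : List ℤ) : Bool :=
  forceList l (fun l' => decide (formL e8L l' = 0 → formL e7L l' = 1 → normLF gens8D 200 l' = excC))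

lemma excCheckB_iff (l : List ℤ) : excCheckB l = true ↔
    (formL e8L l = 0 → formL e7L l = 1 → normL gens8D 200 l = excC) := by
  unfold excCheckB
  rw [forceList_eq, decide_eq_true_iff, normLF_eq]

/-- the property to be checked by kernel computation for exceptional classes, `δ = 8` -/
def ExcCheck : Prop :=
  ValidGens 8 [] gens8A ∧ ValidGens 8 [e8L] gens8C ∧
  ValidGens 8 [e8L, e7L] gens8D ∧
  ∀ l ∈ excSols 8, pairCheckB gens8A gens8C e8L tblExc 200 l = true ∧ excCheckB l = true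

instance : Decidable ExcCheck := by
  unfold ExcCheck; infer_instance

end Groth.Agent.Lib.Helper16.DPW
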