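import Groth.Agent.Lib.Helper16.DPW2

/-!
# Kernel-checked descents: conics for `δ ≤ 7`, exceptional classes for `δ = 8`
-/

namespace Groth.Agent.Lib.Helper16.DPW

set_option maxRecDepth 1000000 in
theorem conicCheck2 : ConicCheck 2 := by decide +kernel

set_option maxRecDepth 1000000 in
theorem conicCheck3 : ConicCheck 3 := by decide +kernel

set_option maxRecDepth 1000000 in
theorem conicCheck4 : ConicCheck 4 := by decide +kernel

set_option maxRecDepth 1000000 in
theorem conicCheck5 : ConicCheck 5 := by decide +kernel

set_option maxRecDepth 1000000 in
theorem conicCheck6 : ConicCheck 6 := by decide +kernel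

set_option maxRecDepth 1000000 in
theorem conicCheck7 : ConicCheck 7 := by decide +kernel

set_option maxRecDepth 1000000 in
theorem excCheck : ExcCheck := by decide +kernel

end Groth.Agent.Lib.Helper16.DPW
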