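import Groth.Agent.Lib.Helper16.DPW2

/-!
# Kernel-checked descent: conics for `δ = 8` (in chunks by the first coordinate)
-/

namespace Groth.Agent.Lib.Helper16.DPW

open Groth.Agent.Lib.Helper90.Conic

set_option maxRecDepth 1000000 in
theorem conicChunk8_0 : ConicChunkCheck8 0 := by decide +kernel
set_option maxRecDepth 1000000 in
theorem conicChunk8_1 : ConicChunkCheck8 1 := by decide +kernel
set_option maxRecDepth 1000000 in
theorem conicChunk8_2 : ConicChunkCheck8 2 := by decide +kernel
set_option maxRecDepth 1000000 in
theorem conicChunk8_3 : ConicChunkCheck8 3 := by decide +kernel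
set_option maxRecDepth 1000000 in
theorem conicChunk8_4 : ConicChunkCheck8 4 := by decide +kernel
set_option maxRecDepth 1000000 in
theorem conicChunk8_5 : ConicChunkCheck8 5 := by decide +kernel
set_option maxRecDepth 1000000 in
theorem conicChunk8_6 : ConicChunkCheck8 6 := by decide +kernel
set_option maxRecDepth 1000000 in
theorem conicChunk8_7 : ConicChunkCheck8 7 := by decide +kernel
set_option maxRecDepth 1000000 in
theorem conicChunk8_8 : ConicChunkCheck8 8 := by decide +kernel
set_option maxRecDepth 1000000 in
theorem conicChunk8_9 : ConicChunkCheck8 9 := by decide +kernel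
set_option maxRecDepth 1000000 in
theorem conicChunk8_10 : ConicChunkCheck8 10 := by decide +kernel
set_option maxRecDepth 1000000 in
theorem conicChunk8_11 : ConicChunkCheck8 11 := by decide +kernel

theorem conicCheck8 : ConicCheck 8 := by
  have hA : gensL 8 1 8 = gens8A := by decide
  have hB : gensL 8 2 8 = gens8B := by decide
  have hq : conicQ0 8 = q08 := by decide
  unfold ConicCheck
  rw [hA, hB, hq]
  refine ⟨by decide +kernel, by decide +kernel, ?_⟩
  intro l hl
  unfold allSols at hl
  rw [List.mem_flatMap] at hl
  obtain ⟨a, ha, hl⟩ := hl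
  rw [List.mem_range] at ha
  interval_cases a
  · exact conicChunk8_0 l hl
  · exact conicChunk8_1 l hl
  · exact conicChunk8_2 l hl
  · exact conicChunk8_3 l hl
  · exact conicChunk8_4 l hl
  · exact conicChunk8_5 l hl
  · exact conicChunk8_6 l hl
  · exact conicChunk8_7 l hl
  · exact conicChunk8_8 l hl
  · exact conicChunk8_9 l hl
  · exact conicChunk8_10 l hl
  · exact conicChunk8_11 l hl

end Groth.Agent.Lib.Helper16.DPW
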