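import Groth.Agent.Lib.Helper16.DPW3
import Groth.Agent.Lib.Helper16.DPW4

/-!
# Normal forms of pairs of conic classes and of exceptional classes under the Weyl group
-/

namespace Groth.Agent.Lib.Helper16.DPW

open W4c3severiratdp Groth.Agent.Lib.Helper90.Conic

theorem conicCheck_all (δ : ℕ) (h2 : 2 ≤ δ) (h8 : δ ≤ 8) : ConicCheck δ := by
  interval_cases δ
  · exact conicCheck2
  · exact conicCheck3
  · exact conicCheck4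
  · exact conicCheck5
  · exact conicCheck6
  · exact conicCheck7
  · exact conicCheck8

lemma length_conicQ0 (δ : ℕ) (h : 1 ≤ δ) : (conicQ0 δ).length = δ + 1 := by
  unfold conicQ0
  simp only [List.length_cons, List.length_replicate]
  omega

theorem conic_pair_nf (δ : ℕ) (h2 : 2 ≤ δ) (h8 : δ ≤ 8) (v₁ v₂ : DP δ)
    (h₁ : IsConic v₁) (h₂ : IsConic v₂) :
    ∃ g : DP δ ≃ₗ[ℤ] DP δ, IsWeyl g ∧ List.ofFn (g v₁) = conicQ0 δ ∧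
      List.ofFn (g v₂) ∈ tblConic δ (form v₁ v₂) := by
  obtain ⟨hA, hB, hdec⟩ := conicCheck_all δ h2 h8
  exact pair_nf IsConic (allSols δ) (fun v hv => (isConic_iff_mem h8 v).mp hv)
    (fun g hg v hv => isWeyl_isConic hg hv) _ _ _ _ 200 (length_conicQ0 δ (by omega)) hA hB
    (fun l hl => (pairCheckB_iff _ _ _ _ _ _).mp (hdec l hl)) v₁ v₂ h₁ h₂

theorem conic_pair_transitive (δ : ℕ) (h2 : 2 ≤ δ) (h8 : δ ≤ 8) (v₁ v₂ w₁ w₂ : DP δ)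
    (hv₁ : IsConic v₁) (hv₂ : IsConic v₂) (hw₁ : IsConic w₁) (hw₂ : IsConic w₂)
    (heq : form v₁ v₂ = form w₁ w₂) (hexc : ¬ (δ = 8 ∧ form v₁ v₂ = 4)) :
    ∃ g : DP δ ≃ₗ[ℤ] DP δ, IsWeyl g ∧ g v₁ = w₁ ∧ g v₂ = w₂ := by
  obtain ⟨hA, hB, hdec⟩ := conicCheck_all δ h2 h8
  exact pair_transitive IsConic (allSols δ) (fun v hv => (isConic_iff_mem h8 v).mp hv)
    (fun g hg v hv => isWeyl_isConic hg hv) _ _ _ _ 200 (length_conicQ0 δ (by omega)) hA hB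
    (fun l hl => (pairCheckB_iff _ _ _ _ _ _).mp (hdec l hl)) v₁ v₂ w₁ w₂ hv₁ hv₂ hw₁ hw₂ heq
    (length_tblConic_le δ _ hexc)

theorem exc_pair_nf (v₁ v₂ : DP 8) (h₁ : IsExc v₁) (h₂ : IsExc v₂) :
    ∃ g : DP 8 ≃ₗ[ℤ] DP 8, IsWeyl g ∧ List.ofFn (g v₁) = e8L ∧
      List.ofFn (g v₂) ∈ tblExc (form v₁ v₂) := by
  obtain ⟨hA, hB, -, hdec⟩ := excCheck
  exact pair_nf IsExc (excSols 8) (fun v hv => mem_excSols_of_isExc le_rfl v hv)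
    (fun g hg v hv => isWeyl_isExc hg hv) _ _ _ _ 200 rfl hA hB
    (fun l hl => (pairCheckB_iff _ _ _ _ _ _).mp (hdec l hl).1) v₁ v₂ h₁ h₂

theorem exc_pair_transitive (v₁ v₂ w₁ w₂ : DP 8)
    (hv₁ : IsExc v₁) (hv₂ : IsExc v₂) (hw₁ : IsExc w₁) (hw₂ : IsExc w₂)
    (heq : form v₁ v₂ = form w₁ w₂) :
    ∃ g : DP 8 ≃ₗ[ℤ] DP 8, IsWeyl g ∧ g v₁ = w₁ ∧ g v₂ = w₂ := by
  obtain ⟨hA, hB, -, hdec⟩ := excCheck
  exact pair_transitive IsExc (excSols 8) (fun v hv => mem_excSols_of_isExc le_rfl v hv)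
    (fun g hg v hv => isWeyl_isExc hg hv) _ _ _ _ 200 rfl hA hB
    (fun l hl => (pairCheckB_iff _ _ _ _ _ _).mp (hdec l hl).1) v₁ v₂ w₁ w₂ hv₁ hv₂ hw₁ hw₂ heq
    (length_tblExc_le _)

/-- third stage: the stabilizer of `e₇` and `e₈` is transitive on the exceptional classes `μ` with
`μ·e₈ = 0` and `μ·e₇ = 1`. -/
theorem exc_stageC (μ : DP 8) (hμ : IsExc μ) (h8 : form (ofL e8L) μ = 0)
    (h7 : form (ofL e7L) μ = 1) :
    ∃ g : DP 8 ≃ₗ[ℤ] DP 8, IsWeyl g ∧ g (ofL e8L) = ofL e8L ∧ g (ofL e7L) = ofL e7L ∧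
      g μ = ofL excC := by
  obtain ⟨-, -, hD, hdec⟩ := excCheck
  obtain ⟨g, hg, hgF, hgv⟩ := normL_spec (δ := 8) [e8L, e7L] gens8D hD 200 μ
  have hmem := mem_excSols_of_isExc le_rfl μ hμ
  have h8' : formL e8L (List.ofFn μ) = 0 := by
    rw [← h8, ← formL_ofFn, ofFn_ofL e8L rfl]
  have h7' : formL e7L (List.ofFn μ) = 1 := by
    rw [← h7, ← formL_ofFn, ofFn_ofL e7L rfl]
  have := (excCheckB_iff _).mp (hdec _ hmem).2 h8' h7'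
  rw [this] at hgv
  refine ⟨g, hg, hgF _ ?_, hgF _ ?_, eq_ofL_of_ofFn_eq hgv⟩
  · rw [ofFn_ofL e8L rfl]; simp
  · rw [ofFn_ofL e7L rfl]; simp

end Groth.Agent.Lib.Helper16.DPW
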