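import Groth.Agent.Lib.Helper16.DPW5

/-!
# Concrete vectors given by lists
-/

namespace Groth.Agent.Lib.Helper16.DPW

open W4c3severiratdp

lemma canon_eq_ofL (δ : ℕ) : canon δ = ofL (canonL δ) := eq_ofL_of_ofFn_eq (ofFn_canon δ)

lemma length_canonL (δ : ℕ) : (canonL δ).length = δ + 1 := by
  simp [canonL]

lemma isConic_ofL {δ : ℕ} (l : List ℤ) (hl : l.length = δ + 1) (h1 : formL l l = 0)
    (h2 : formL (canonL δ) l = -2) : IsConic (ofL (δ := δ) l) := by
  refine ⟨?_, ?_⟩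
  · rw [form_ofL l l hl hl, h1]
  · rw [canon_eq_ofL, form_ofL _ l (length_canonL δ) hl, h2]

lemma isExc_ofL {δ : ℕ} (l : List ℤ) (hl : l.length = δ + 1) (h1 : formL l l = -1)
    (h2 : formL (canonL δ) l = -1) : IsExc (ofL (δ := δ) l) := by
  refine ⟨?_, ?_⟩
  · rw [form_ofL l l hl hl, h1]
  · rw [canon_eq_ofL, form_ofL _ l (length_canonL δ) hl, h2]

end Groth.Agent.Lib.Helper16.DPW
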