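import Groth.Agent.Lib.Helper16.DPW6

/-!
# Triples of exceptional classes with sum `-2K + L` in `DP 8`
-/

namespace Groth.Agent.Lib.Helper16.DPW

open W4c3severiratdp

/-- `e₈` and `e₇` -/
noncomputable abbrev E8 : DP 8 := ofL e8L
noncomputable abbrev E7 : DP 8 := ofL e7L

def c1L : List ℤ := [1, 1, 0, 0, 0, 0, 0, 0, 1]
def c2L : List ℤ := [3, 1, 1, 1, 1, 1, 1, 0, 2]
def c3L : List ℤ := [6, 2, 2, 2, 2, 2, 2, 2, 3]

/-- stage B for exceptional classes, in explicit form -/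
theorem exc_cases (v : DP 8) (hv : IsExc v) :
    ∃ h : DP 8 ≃ₗ[ℤ] DP 8, IsWeyl h ∧ h E8 = E8 ∧
      ((form v E8 = -1 ∧ h v = E8) ∨ (form v E8 = 0 ∧ h v = E7) ∨
       (form v E8 = 1 ∧ h v = ofL c1L) ∨ (form v E8 = 2 ∧ h v = ofL c2L) ∨
       (form v E8 = 3 ∧ h v = ofL c3L)) := by
  have hE8 : IsExc E8 := isExc_ofL _ rfl (by decide) (by decide)
  obtain ⟨h, hh, h1, h2⟩ := exc_pair_nf E8 v hE8 hv
  refine ⟨h, hh, eq_ofL_of_ofFn_eq h1, ?_⟩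
  rw [form_comm] at h2
  unfold tblExc at h2
  split_ifs at h2 with c1 c2 c3 c4 c5
  · exact Or.inl ⟨c1, eq_ofL_of_ofFn_eq (List.mem_singleton.mp h2)⟩
  · exact Or.inr (Or.inl ⟨c2, eq_ofL_of_ofFn_eq (List.mem_singleton.mp h2)⟩)
  · exact Or.inr (Or.inr (Or.inl ⟨c3, eq_ofL_of_ofFn_eq (List.mem_singleton.mp h2)⟩))
  · exact Or.inr (Or.inr (Or.inr (Or.inl ⟨c4, eq_ofL_of_ofFn_eq (List.mem_singleton.mp h2)⟩)))
  · exact Or.inr (Or.inr (Or.inr (Or.inr ⟨c5, eq_ofL_of_ofFn_eq (List.mem_singleton.mp h2)⟩)))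
  · simp at h2

lemma exc_bounds (v : DP 8) (hv : IsExc v) : -1 ≤ form v E8 ∧ form v E8 ≤ 3 := by
  obtain ⟨h, -, -, hc⟩ := exc_cases v hv
  rcases hc with ⟨h, -⟩ | ⟨h, -⟩ | ⟨h, -⟩ | ⟨h, -⟩ | ⟨h, -⟩ <;> rw [h] <;> constructor <;> norm_num

lemma exc_eq_E8 (v : DP 8) (hv : IsExc v) (h1 : form v E8 = -1) : v = E8 := by
  obtain ⟨h, -, hE, hc⟩ := exc_cases v hv
  rcases hc with ⟨-, hv'⟩ | ⟨h', -⟩ | ⟨h', -⟩ | ⟨h', -⟩ | ⟨h', -⟩
  · exact h.injective (hv'.trans hE.symm)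
  all_goals (rw [h1] at h'; norm_num at h')

lemma form_E8_E8 : form E8 E8 = -1 := by
  rw [form_ofL _ _ rfl rfl]; decide

lemma form_canon_E8 : form (canon 8) E8 = -1 := by
  rw [canon_eq_ofL, form_ofL _ _ (length_canonL 8) rfl]; decide

lemma form_canon_canon8 : form (canon 8) (canon 8) = 1 := by
  rw [canon_eq_ofL, form_ofL _ _ (length_canonL 8) (length_canonL 8)]; decide

/-- the representatives of the four orbits, for `L = e₈` -/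
def RL : Fin 4 → Fin 3 → List ℤ :=
  ![![e8L, e8L, [6, 2, 2, 2, 2, 2, 2, 2, 3]],
    ![e8L, e7L, [6, 2, 2, 2, 2, 2, 2, 3, 2]],
    ![e8L, c1L, [5, 1, 2, 2, 2, 2, 2, 2, 1]],
    ![e7L, excC, [5, 1, 2, 2, 2, 2, 2, 2, 1]]]

lemma RL_check : ∀ j i, (RL j i).length = 8 + 1 ∧ formL (RL j i) (RL j i) = -1 ∧
    formL (canonL 8) (RL j i) = -1 := by decide

lemma RL_sep : ∀ j j' : Fin 4, (∑ i, (formL (RL j i) e8L) ^ 2 = ∑ i, (formL (RL j' i) e8L) ^ 2) →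
    j = j' := by decide

lemma RL_sum (j : Fin 4) :
    (ofL (RL j 0) + ofL (RL j 1) + ofL (RL j 2) : DP 8) = E8 - 2 • canon 8 := by
  funext i
  fin_cases j <;> fin_cases i <;> rfl

/-- the image of the third class under a Weyl element fixing `e₈` -/
lemma third_eq (h : DP 8 ≃ₗ[ℤ] DP 8) (hh : IsWeyl h) (hE : h E8 = E8) (s : Fin 3 → DP 8)
    (hsum : s 0 + s 1 + s 2 = E8 - 2 • canon 8) :
    h (s 2) = E8 - 2 • canon 8 - h (s 0) - h (s 1) := by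
  have h2 : s 2 = E8 - 2 • canon 8 - s 0 - s 1 := by
    rw [← hsum]; abel
  rw [h2, map_sub, map_sub, map_sub, map_nsmul, hE, hh.2]

end Groth.Agent.Lib.Helper16.DPW
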