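import Groth.Agent.Lib.Helper16.DPW7

/-!
# Classification of the triples of exceptional classes with sum `-2K + e₈`
-/

namespace Groth.Agent.Lib.Helper16.DPW

open W4c3severiratdp

lemma sum_form_E8 (s : Fin 3 → DP 8) (hsum : s 0 + s 1 + s 2 = E8 - 2 • canon 8) :
    form (s 0) E8 + form (s 1) E8 + form (s 2) E8 = 1 := by
  have h := congrArg (fun x => form x E8) hsum
  simp only [form_add_left, form_sub_left, two_nsmul, form_canon_E8, form_E8_E8] at h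
  linarith

/-- `λ₀·λ₁ = 1` if `λ₀·e₈ = λ₁·e₈ = 0` -/
lemma form_s0_s1 (s : Fin 3 → DP 8) (hs : ∀ i, IsExc (s i))
    (hsum : s 0 + s 1 + s 2 = E8 - 2 • canon 8)
    (h0 : form (s 0) E8 = 0) (h1 : form (s 1) E8 = 0) : form (s 0) (s 1) = 1 := by
  have h2 : s 2 = E8 - (canon 8 + canon 8) - s 0 - s 1 := by
    rw [← two_nsmul, ← hsum]; abel
  have hsq := (hs 2).1
  rw [h2] at hsq
  simp only [form_add_left, form_sub_left, form_add_right, form_sub_right] at hsq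
  have e1 := (hs 0).1
  have e2 := (hs 0).2
  have e3 := (hs 1).1
  have e4 := (hs 1).2
  have c1 := form_comm E8 (canon 8)
  have c2 := form_comm E8 (s 0)
  have c3 := form_comm E8 (s 1)
  have c4 := form_comm (canon 8) (s 0)
  have c5 := form_comm (canon 8) (s 1)
  have c6 := form_comm (s 0) (s 1)
  have k1 := form_canon_E8
  have k2 := form_E8_E8
  have k3 := form_canon_canon8
  linarith

theorem triple_core_sorted (s : Fin 3 → DP 8) (hs : ∀ i, IsExc (s i))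
    (hsum : s 0 + s 1 + s 2 = E8 - 2 • canon 8)
    (h01 : form (s 0) E8 ≤ form (s 1) E8) (h12 : form (s 1) E8 ≤ form (s 2) E8) :
    ∃ j : Fin 4, ∃ h : DP 8 ≃ₗ[ℤ] DP 8, IsWeyl h ∧ h E8 = E8 ∧ ∀ i, h (s i) = ofL (RL j i) := by
  have hn := sum_form_E8 s hsum
  have b0 := exc_bounds _ (hs 0)
  have b1 := exc_bounds _ (hs 1)
  have b2 := exc_bounds _ (hs 2)
  have hcases : (form (s 0) E8 = -1 ∧ form (s 1) E8 = -1) ∨
      (form (s 0) E8 = -1 ∧ form (s 1) E8 = 0) ∨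
      (form (s 0) E8 = -1 ∧ form (s 1) E8 = 1) ∨
      (form (s 0) E8 = 0 ∧ form (s 1) E8 = 0) := by omega
  rcases hcases with ⟨n0, n1⟩ | ⟨n0, n1⟩ | ⟨n0, n1⟩ | ⟨n0, n1⟩
  · -- (-1, -1, 3)
    have e0 := exc_eq_E8 _ (hs 0) n0
    have e1 := exc_eq_E8 _ (hs 1) n1
    refine ⟨0, LinearEquiv.refl ℤ _, isWeyl_one, rfl, ?_⟩
    have h3 := third_eq (LinearEquiv.refl ℤ _) isWeyl_one rfl s hsum
    simp only [LinearEquiv.refl_apply] at h3 ⊢
    intro i
    fin_cases i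
    · exact e0
    · exact e1
    · show s 2 = _
      rw [h3, e0, e1, ← RL_sum 0]
      show _ = ofL (RL 0 2)
      have a0 : (ofL (RL 0 0) : DP 8) = E8 := rfl
      have a1 : (ofL (RL 0 1) : DP 8) = E8 := rfl
      rw [a0, a1]
      abel
  · -- (-1, 0, 2)
    have e0 := exc_eq_E8 _ (hs 0) n0
    obtain ⟨h, hh, hE, hc⟩ := exc_cases _ (hs 1)
    have e1 : h (s 1) = E7 := by
      rcases hc with ⟨h', -⟩ | ⟨-, hv⟩ | ⟨h', -⟩ | ⟨h', -⟩ | ⟨h', -⟩
      · rw [n1] at h'; norm_num at h'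
      · exact hv
      all_goals (rw [n1] at h'; norm_num at h')
    refine ⟨1, h, hh, hE, ?_⟩
    have h3 := third_eq h hh hE s hsum
    intro i
    fin_cases i
    · show h (s 0) = _
      rw [e0, hE]; rfl
    · exact e1
    · show h (s 2) = _
      rw [h3, e0, hE, e1, ← RL_sum 1]
      show _ = ofL (RL 1 2)
      have a0 : (ofL (RL 1 0) : DP 8) = E8 := rfl
      have a1 : (ofL (RL 1 1) : DP 8) = E7 := rfl
      rw [a0, a1]
      abel
  · -- (-1, 1, 1)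
    have e0 := exc_eq_E8 _ (hs 0) n0
    obtain ⟨h, hh, hE, hc⟩ := exc_cases _ (hs 1)
    have e1 : h (s 1) = ofL c1L := by
      rcases hc with ⟨h', -⟩ | ⟨h', -⟩ | ⟨-, hv⟩ | ⟨h', -⟩ | ⟨h', -⟩
      · rw [n1] at h'; norm_num at h'
      · rw [n1] at h'; norm_num at h'
      · exact hv
      all_goals (rw [n1] at h'; norm_num at h')
    refine ⟨2, h, hh, hE, ?_⟩
    have h3 := third_eq h hh hE s hsum
    intro i
    fin_cases i
    · show h (s 0) = _
      rw [e0, hE]; rfl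
    · exact e1
    · show h (s 2) = _
      rw [h3, e0, hE, e1, ← RL_sum 2]
      show _ = ofL (RL 2 2)
      have a0 : (ofL (RL 2 0) : DP 8) = E8 := rfl
      have a1 : (ofL (RL 2 1) : DP 8) = ofL c1L := rfl
      rw [a0, a1]
      abel
  · -- (0, 0, 1)
    have hx := form_s0_s1 s hs hsum n0 n1
    obtain ⟨h₁, hh₁, hE₁, hc⟩ := exc_cases _ (hs 0)
    have e0 : h₁ (s 0) = E7 := by
      rcases hc with ⟨h', -⟩ | ⟨-, hv⟩ | ⟨h', -⟩ | ⟨h', -⟩ | ⟨h', -⟩
      · rw [n0] at h'; norm_num at h'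
      · exact hv
      all_goals (rw [n0] at h'; norm_num at h')
    have hμ : IsExc (h₁ (s 1)) := isWeyl_isExc hh₁ (hs 1)
    have hμ8 : form E8 (h₁ (s 1)) = 0 := by
      rw [← hE₁, hh₁.1, form_comm, n1]
    have hμ7 : form E7 (h₁ (s 1)) = 1 := by
      rw [← e0, hh₁.1, hx]
    obtain ⟨h₂, hh₂, hE₂, hE₂', hμ'⟩ := exc_stageC _ hμ hμ8 hμ7
    have hh : IsWeyl (h₁.trans h₂) := isWeyl_trans hh₁ hh₂
    have hE : (h₁.trans h₂) E8 = E8 := by
      rw [LinearEquiv.trans_apply, hE₁, hE₂]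
    refine ⟨3, h₁.trans h₂, hh, hE, ?_⟩
    have h3 := third_eq _ hh hE s hsum
    have f0 : (h₁.trans h₂) (s 0) = E7 := by
      rw [LinearEquiv.trans_apply, e0, hE₂']
    have f1 : (h₁.trans h₂) (s 1) = ofL excC := by
      rw [LinearEquiv.trans_apply, hμ']
    intro i
    fin_cases i
    · exact f0
    · exact f1
    · show (h₁.trans h₂) (s 2) = _
      rw [h3, f0, f1, ← RL_sum 3]
      show _ = ofL (RL 3 2)
      have a0 : (ofL (RL 3 0) : DP 8) = E7 := rfl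
      have a1 : (ofL (RL 3 1) : DP 8) = ofL excC := rfl
      rw [a0, a1]
      abel

theorem triple_core (s : Fin 3 → DP 8) (hs : ∀ i, IsExc (s i))
    (hsum : s 0 + s 1 + s 2 = E8 - 2 • canon 8) :
    ∃ j : Fin 4, ∃ h : DP 8 ≃ₗ[ℤ] DP 8, IsWeyl h ∧ h E8 = E8 ∧
      ∃ σ : Equiv.Perm (Fin 3), ∀ i, h (s (σ i)) = ofL (RL j i) := by
  let n : Fin 3 → ℤ := fun i => form (s i) E8
  have hmono : Monotone (n ∘ Tuple.sort n) := Tuple.monotone_sort n
  set σ := Tuple.sort n with hσ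
  have hsum' : (s ∘ σ) 0 + (s ∘ σ) 1 + (s ∘ σ) 2 = E8 - 2 • canon 8 := by
    rw [← hsum]
    have := Equiv.sum_comp σ s
    rw [Fin.sum_univ_three, Fin.sum_univ_three] at this
    exact this
  obtain ⟨j, h, hh, hE, hj⟩ := triple_core_sorted (s ∘ σ) (fun i => hs _) hsum'
    (hmono (by decide : (0 : Fin 3) ≤ 1)) (hmono (by decide : (1 : Fin 3) ≤ 2))
  exact ⟨j, h, hh, hE, σ, hj⟩

end Groth.Agent.Lib.Helper16.DPW
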