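import Mathlib.Algebra.Homology.HomologySequenceLemmas
import Mathlib.CategoryTheory.Abelian.DiagramLemmas.Four

/-!
# Two more "two out of three" lemmas for morphisms of short exact sequences of complexes
-/

set_option autoImplicit false

namespace Groth.Agent.Lib.Helper16.DT

open CategoryTheory CategoryTheory.Limits HomologicalComplex HomologicalComplex.HomologySequence
  ComposableArrows

variable {C : Type*} [Category C] [Abelian C]
  {S₁ S₂ : ShortComplex (CochainComplex C ℤ)} (φ : S₁ ⟶ S₂)
  (hS₁ : S₁.ShortExact) (hS₂ : S₂.ShortExact)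

include hS₁ hS₂

theorem quasiIso_τ₁ (h₂ : QuasiIso φ.τ₂) (h₃ : QuasiIso φ.τ₃) : QuasiIso φ.τ₁ := by
  rw [quasiIso_iff]
  intro j
  rw [quasiIsoAt_iff_isIso_homologyMap]
  have hij : (ComplexShape.up ℤ).Rel (j - 1) j := by simp
  have := Abelian.isIso_of_epi_of_isIso_of_isIso_of_mono' (n := 5) (k := 1) (by omega)
    (composableArrows₅_exact hS₁ (j - 1) j hij) (composableArrows₅_exact hS₂ (j - 1) j hij)
    (mapComposableArrows₅ φ hS₁ hS₂ (j - 1) j hij) 1 2 3 4 5 rfl rfl rfl rfl rfl
  apply this
  · change Epi (homologyMap φ.τ₂ (j - 1))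
    infer_instance
  · change IsIso (homologyMap φ.τ₃ (j - 1))
    infer_instance
  · change IsIso (homologyMap φ.τ₂ j)
    infer_instance
  · change Mono (homologyMap φ.τ₃ j)
    infer_instance

theorem quasiIso_τ₂ (h₁ : QuasiIso φ.τ₁) (h₃ : QuasiIso φ.τ₃) : QuasiIso φ.τ₂ := by
  rw [quasiIso_iff]
  intro j
  rw [quasiIsoAt_iff_isIso_homologyMap]
  have hij : (ComplexShape.up ℤ).Rel (j - 1) j := by simp
  have hjk : (ComplexShape.up ℤ).Rel j (j + 1) := by simp
  have hmono : Mono (homologyMap φ.τ₂ j) := by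
    have := Abelian.mono_of_epi_of_mono_of_mono'' (n := 5) (k := 2) (by omega)
      (composableArrows₅_exact hS₁ (j - 1) j hij) (composableArrows₅_exact hS₂ (j - 1) j hij)
      (mapComposableArrows₅ φ hS₁ hS₂ (j - 1) j hij) 2 3 4 5 rfl rfl rfl rfl
    apply this
    · change Epi (homologyMap φ.τ₃ (j - 1))
      infer_instance
    · change Mono (homologyMap φ.τ₁ j)
      infer_instance
    · change Mono (homologyMap φ.τ₃ j)
      infer_instance
  have hepi : Epi (homologyMap φ.τ₂ j) := by
    have := Abelian.epi_of_epi_of_epi_of_mono'' (n := 5) (k := 0) (by omega)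
      (composableArrows₅_exact hS₁ j (j + 1) hjk) (composableArrows₅_exact hS₂ j (j + 1) hjk)
      (mapComposableArrows₅ φ hS₁ hS₂ j (j + 1) hjk) 0 1 2 3 rfl rfl rfl rfl
    apply this
    · change Epi (homologyMap φ.τ₁ j)
      infer_instance
    · change Epi (homologyMap φ.τ₃ j)
      infer_instance
    · change Mono (homologyMap φ.τ₁ (j + 1))
      infer_instance
  exact isIso_of_mono_of_epi _

end Groth.Agent.Lib.Helper16.DT
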