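import Groth.Agent.Lib.Helper25.KFlatHtpy
import Groth.Prelude.Def_HTor
import Mathlib.LinearAlgebra.TensorProduct.RightExactness

/-! Künneth map for cochain complexes of modules: construction, characterization, naturality. -/

set_option autoImplicit false
universe u

namespace Groth.Agent.Lib.Helper16.Kun

open CategoryTheory CategoryTheory.Limits MonoidalCategory HomologicalComplex TensorProduct
open Groth.Agent.Lib.Helper25.TensorCx

variable {R : Type u} [CommRing R]

section Generic

variable {A B C : Type*} [AddCommGroup A] [AddCommGroup B] [AddCommGroup C]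
  [Module R A] [Module R B] [Module R C]

/-- Descend a linear map along a surjection. -/
noncomputable def descSurj (q : A →ₗ[R] B) (hq : Function.Surjective q) (f : A →ₗ[R] C)
    (h : LinearMap.ker q ≤ LinearMap.ker f) : B →ₗ[R] C :=
  (LinearMap.ker q).liftQ f h ∘ₗ (q.quotKerEquivOfSurjective hq).symm.toLinearMap

theorem descSurj_apply (q : A →ₗ[R] B) (hq : Function.Surjective q) (f : A →ₗ[R] C)
    (h : LinearMap.ker q ≤ LinearMap.ker f) (a : A) : descSurj q hq f h (q a) = f a := by
  unfold descSurj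
  have : (q.quotKerEquivOfSurjective hq).symm (q a) = Submodule.Quotient.mk a := by
    rw [LinearEquiv.symm_apply_eq]
    rfl
  simp only [LinearMap.coe_comp, LinearEquiv.coe_coe, Function.comp_apply, this]
  rfl

end Generic

section Elements

variable (K : Cx R)

theorem iCycles_d_apply (i j : ℤ) (z : K.cycles i) : K.d i j (K.iCycles i z) = 0 := by
  have := congrArg (fun f => f z) (congrArg ModuleCat.Hom.hom (K.iCycles_d i j))
  exact this

theorem toCycles_i_apply (i j : ℤ) (x : K.X i) : K.iCycles j (K.toCycles i j x) = K.d i j x := by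
  have := congrArg (fun f => f x) (congrArg ModuleCat.Hom.hom (K.toCycles_i i j))
  exact this

theorem homologyπ_toCycles_apply (i j : ℤ) (x : K.X i) :
    K.homologyπ j (K.toCycles i j x) = 0 := by
  have := congrArg (fun f => f x) (congrArg ModuleCat.Hom.hom (K.toCycles_comp_homologyπ i j))
  exact this

theorem iCycles_injective (i : ℤ) : Function.Injective (K.iCycles i) :=
  (ModuleCat.mono_iff_injective _).1 inferInstance

theorem homologyπ_surjective (i : ℤ) : Function.Surjective (K.homologyπ i) :=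
  (ModuleCat.epi_iff_surjective _).1 inferInstance

theorem exact_toCycles_homologyπ (i j : ℤ) (hij : i + 1 = j) :
    Function.Exact (K.toCycles i j).hom (K.homologyπ j).hom := by
  have hprev : (ComplexShape.up ℤ).prev j = i := by
    rw [CochainComplex.prev]; omega
  have hex : (ShortComplex.mk (K.toCycles i j) (K.homologyπ j)
      (K.toCycles_comp_homologyπ i j)).Exact :=
    ShortComplex.exact_of_g_is_cokernel _ (K.homologyIsCokernel i j hprev)
  exact (ShortComplex.ShortExact.moduleCat_exact_iff_function_exact _).1 hex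

theorem exists_toCycles_of_homologyπ_eq_zero (i j : ℤ) (hij : i + 1 = j) (z : K.cycles j)
    (hz : K.homologyπ j z = 0) : ∃ x : K.X i, K.toCycles i j x = z :=
  ((exact_toCycles_homologyπ K i j hij) z).1 hz

end Elements

section Kap

variable (L K : Cx R)

/-- The map `Z^i(L) ⊗ Z^j(K) → Z^n(L ⊗ K)`. -/
noncomputable def kapHom (i j n : ℤ) (h : i + j = n) :
    ModuleCat.of R (TensorProduct R (L.cycles i) (K.cycles j)) ⟶ (L ⊗ K : Cx R).cycles n :=
  (L ⊗ K : Cx R).liftCycles
    (ModuleCat.ofHom ((inc L K i j n h) ∘ₗ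
      TensorProduct.map (L.iCycles i).hom (K.iCycles j).hom)) (n + 1) (by simp) (by
    apply ModuleCat.hom_ext
    apply TensorProduct.ext'
    intro z z'
    change (L ⊗ K : Cx R).d n (n + 1) (tm L K i j n h (L.iCycles i z) (K.iCycles j z')) = 0
    rw [d_tm L K i j n (n + 1) h rfl, iCycles_d_apply, iCycles_d_apply, tm_zero_left,
      tm_zero_right, smul_zero, add_zero])

/-- The linear map `Z^i(L) ⊗ Z^j(K) → Z^n(L ⊗ K)`. -/
noncomputable def kap (i j n : ℤ) (h : i + j = n) :
    TensorProduct R (L.cycles i) (K.cycles j) →ₗ[R] (L ⊗ K : Cx R).cycles n :=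
  (kapHom L K i j n h).hom

theorem iCycles_kap (i j n : ℤ) (h : i + j = n) (z : L.cycles i) (z' : K.cycles j) :
    (L ⊗ K : Cx R).iCycles n (kap L K i j n h (z ⊗ₜ[R] z')) =
      tm L K i j n h (L.iCycles i z) (K.iCycles j z') := by
  have h1 := (L ⊗ K : Cx R).liftCycles_i
    (ModuleCat.ofHom ((inc L K i j n h) ∘ₗ
      TensorProduct.map (L.iCycles i).hom (K.iCycles j).hom)) (n + 1) (by simp) (by
    apply ModuleCat.hom_ext
    apply TensorProduct.ext'
    intro z z'
    change (L ⊗ K : Cx R).d n (n + 1) (tm L K i j n h (L.iCycles i z) (K.iCycles j z')) = 0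
    rw [d_tm L K i j n (n + 1) h rfl, iCycles_d_apply, iCycles_d_apply, tm_zero_left,
      tm_zero_right, smul_zero, add_zero])
  have := congrArg (fun f => f (z ⊗ₜ[R] z')) (congrArg ModuleCat.Hom.hom h1)
  exact this

/-- The map `Z^i(L) ⊗ Z^j(K) → H^n(L ⊗ K)`. -/
noncomputable def kapH (i j n : ℤ) (h : i + j = n) :
    TensorProduct R (L.cycles i) (K.cycles j) →ₗ[R] (L ⊗ K : Cx R).homology n :=
  ((L ⊗ K : Cx R).homologyπ n).hom ∘ₗ kap L K i j n h

theorem kapH_tmul (i j n : ℤ) (h : i + j = n) (z : L.cycles i) (z' : K.cycles j) :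
    kapH L K i j n h (z ⊗ₜ[R] z') = (L ⊗ K : Cx R).homologyπ n (kap L K i j n h (z ⊗ₜ[R] z')) :=
  rfl

theorem kapH_right_boundary (i j₀ j n n₀ : ℤ) (hj : j₀ + 1 = j) (h : i + j = n)
    (h₀ : i + j₀ = n₀) (z : L.cycles i) (y : K.X j₀) :
    kapH L K i j n h (z ⊗ₜ[R] K.toCycles j₀ j y) = 0 := by
  subst hj
  have hn : n₀ + 1 = n := by omega
  subst hn
  rw [kapH_tmul]
  have key : kap L K i (j₀ + 1) (n₀ + 1) h (z ⊗ₜ[R] K.toCycles j₀ (j₀ + 1) y) =
      (i.negOnePow : ℤˣ) • (L ⊗ K : Cx R).toCycles n₀ (n₀ + 1)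
        (tm L K i j₀ n₀ h₀ (L.iCycles i z) y) := by
    apply iCycles_injective
    rw [iCycles_kap, toCycles_i_apply, map_zsmul_unit, toCycles_i_apply,
      d_tm L K i j₀ n₀ (n₀ + 1) h₀ rfl, iCycles_d_apply, tm_zero_left, zero_add, smul_smul]
    rw [Int.units_mul_self, one_smul]
  rw [key, map_zsmul_unit, homologyπ_toCycles_apply, smul_zero]

theorem kapH_left_boundary (i₀ i j n n₀ : ℤ) (hi : i₀ + 1 = i) (h : i + j = n)
    (h₀ : i₀ + j = n₀) (x : L.X i₀) (z' : K.cycles j) :
    kapH L K i j n h (L.toCycles i₀ i x ⊗ₜ[R] z') = 0 := by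
  subst hi
  have hn : n₀ + 1 = n := by omega
  subst hn
  rw [kapH_tmul]
  have key : kap L K (i₀ + 1) j (n₀ + 1) h (L.toCycles i₀ (i₀ + 1) x ⊗ₜ[R] z') =
      (L ⊗ K : Cx R).toCycles n₀ (n₀ + 1) (tm L K i₀ j n₀ h₀ x (K.iCycles j z')) := by
    apply iCycles_injective
    rw [iCycles_kap, toCycles_i_apply, toCycles_i_apply,
      d_tm L K i₀ j n₀ (n₀ + 1) h₀ rfl, iCycles_d_apply, tm_zero_right, smul_zero, add_zero]
  rw [key, homologyπ_toCycles_apply]

/-- The surjection `Z^i ⊗ Z^j → H^i ⊗ H^j`. -/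
noncomputable def qq (i j : ℤ) :
    TensorProduct R (L.cycles i) (K.cycles j) →ₗ[R] TensorProduct R (L.homology i) (K.homology j) :=
  TensorProduct.map (L.homologyπ i).hom (K.homologyπ j).hom

theorem qq_surjective (i j : ℤ) : Function.Surjective (qq L K i j) :=
  TensorProduct.map_surjective (homologyπ_surjective L i) (homologyπ_surjective K j)

theorem ker_qq_le (i j n : ℤ) (h : i + j = n) :
    LinearMap.ker (qq L K i j) ≤ LinearMap.ker (kapH L K i j n h) := by
  unfold qq
  rw [TensorProduct.map_ker (exact_toCycles_homologyπ L (i - 1) i (by omega))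
    (homologyπ_surjective L i) (exact_toCycles_homologyπ K (j - 1) j (by omega))
    (homologyπ_surjective K j)]
  apply sup_le
  · rintro _ ⟨t, rfl⟩
    rw [LinearMap.mem_ker]
    induction t using TensorProduct.induction_on with
    | zero => simp
    | tmul z y =>
      rw [LinearMap.lTensor_tmul]
      exact kapH_right_boundary L K i (j - 1) j n (n - 1) (by omega) h (by omega) z y
    | add a b ha hb => rw [map_add, map_add, ha, hb, add_zero]
  · rintro _ ⟨t, rfl⟩
    rw [LinearMap.mem_ker]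
    induction t using TensorProduct.induction_on with
    | zero => simp
    | tmul x z' =>
      rw [LinearMap.rTensor_tmul]
      exact kapH_left_boundary L K (i - 1) i j n (n - 1) (by omega) h (by omega) x z'
    | add a b ha hb => rw [map_add, map_add, ha, hb, add_zero]

/-- The component `H^i(L) ⊗ H^j(K) → H^n(L ⊗ K)` of the Künneth map. -/
noncomputable def phiIJ (i j n : ℤ) (h : i + j = n) :
    TensorProduct R (L.homology i) (K.homology j) →ₗ[R] (L ⊗ K : Cx R).homology n :=
  descSurj (qq L K i j) (qq_surjective L K i j) (kapH L K i j n h) (ker_qq_le L K i j n h)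

theorem phiIJ_tmul (i j n : ℤ) (h : i + j = n) (z : L.cycles i) (z' : K.cycles j) :
    phiIJ L K i j n h (L.homologyπ i z ⊗ₜ[R] K.homologyπ j z') =
      (L ⊗ K : Cx R).homologyπ n (kap L K i j n h (z ⊗ₜ[R] z')) := by
  have := descSurj_apply (qq L K i j) (qq_surjective L K i j) (kapH L K i j n h)
    (ker_qq_le L K i j n h) (z ⊗ₜ[R] z')
  exact this

/-- The Künneth map. -/
noncomputable def phi (n : ℤ) : HTor.KunnethSum L K n →ₗ[R] (L ⊗ K : Cx R).homology n :=
  DirectSum.toModule R (HTor.Antidiag n) _ (fun ij => phiIJ L K ij.1.1 ij.1.2 n ij.2)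

theorem phi_lof (n : ℤ) (ij : HTor.Antidiag n)
    (t : TensorProduct R (L.homology ij.1.1) (K.homology ij.1.2)) :
    phi L K n (DirectSum.lof R (HTor.Antidiag n) _ ij t) = phiIJ L K ij.1.1 ij.1.2 n ij.2 t := by
  unfold phi
  rw [DirectSum.toModule_lof]

theorem phi_lof_tmul (n : ℤ) (ij : HTor.Antidiag n) (z : L.cycles ij.1.1) (z' : K.cycles ij.1.2) :
    phi L K n (DirectSum.lof R (HTor.Antidiag n) _ ij
      (L.homologyπ ij.1.1 z ⊗ₜ[R] K.homologyπ ij.1.2 z')) =
      (L ⊗ K : Cx R).homologyπ n (kap L K ij.1.1 ij.1.2 n ij.2 (z ⊗ₜ[R] z')) := by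
  rw [phi_lof, phiIJ_tmul]

theorem isKunnethMap_phi (n : ℤ) : HTor.IsKunnethMap L K n (phi L K n) := by
  intro ij z z' w hw
  have h1 := phi_lof_tmul L K n ij z z'
  refine h1.trans ?_
  congr 1
  apply iCycles_injective
  rw [iCycles_kap]
  exact hw.symm

/-- Extensionality for linear maps out of the Künneth sum. -/
theorem kunneth_ext {X : Type*} [AddCommGroup X] [Module R X] (n : ℤ)
    {f g : HTor.KunnethSum L K n →ₗ[R] X}
    (hfg : ∀ (ij : HTor.Antidiag n) (z : L.cycles ij.1.1) (z' : K.cycles ij.1.2),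
      f (DirectSum.lof R (HTor.Antidiag n) _ ij (L.homologyπ ij.1.1 z ⊗ₜ[R] K.homologyπ ij.1.2 z')) =
      g (DirectSum.lof R (HTor.Antidiag n) _ ij (L.homologyπ ij.1.1 z ⊗ₜ[R] K.homologyπ ij.1.2 z'))) :
    f = g := by
  apply DirectSum.linearMap_ext
  intro ij
  apply TensorProduct.ext'
  intro a b
  obtain ⟨z, rfl⟩ := homologyπ_surjective L ij.1.1 a
  obtain ⟨z', rfl⟩ := homologyπ_surjective K ij.1.2 b
  exact hfg ij z z'

end Kap

end Groth.Agent.Lib.Helper16.Kun
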