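import Groth.Agent.Lib.Helper25.KFlatHtpy
import Groth.Agent.Lib.Helper16.Kun1

/-!
# `Hom_R(X, -)` applied termwise to complexes (`HX X Y`), evaluation and precomposition maps,
and the short exact sequence of complexes attached to a short exact sequence of modules.
-/

set_option autoImplicit false
universe u

namespace Groth.Agent.Lib.Helper16.DT

open CategoryTheory CategoryTheory.Limits MonoidalCategory HomologicalComplex TensorProduct
open Groth.Agent.Lib.Helper25.TensorCx Groth.Agent.Lib.Helper25.KFlat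

variable {R : Type u} [CommRing R]

section HF

variable (X : Type u) [AddCommGroup X] [Module R X]

/-- `Hom_R(X, -)` as a functor. -/
noncomputable def hF : ModuleCat.{u} R ⥤ ModuleCat.{u} R where
  obj N := ModuleCat.of R (X →ₗ[R] N)
  map g := ModuleCat.ofHom (LinearMap.compRight R g.hom)
  map_id N := by
    ext f
    rfl
  map_comp g h := by
    ext f
    rfl

theorem hF_map_apply {N N' : ModuleCat.{u} R} (g : N ⟶ N') (f : X →ₗ[R] N) :
    ((hF X).map g).hom f = g.hom ∘ₗ f := rfl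

instance : (hF (R := R) X).Additive where
  map_add {N N' g g'} := by
    ext f
    rfl

variable {X}

/-- Evaluation at `x`, as a natural transformation. -/
noncomputable def evN (x : X) (N : ModuleCat.{u} R) : (hF X).obj N ⟶ N :=
  ModuleCat.ofHom (LinearMap.applyₗ x)

theorem evN_apply (x : X) (N : ModuleCat.{u} R) (f : X →ₗ[R] N) : (evN x N).hom f = f x := rfl

variable {X' : Type u} [AddCommGroup X'] [Module R X']

/-- Precomposition with `g : X' → X`. -/
noncomputable def hPre (g : X' →ₗ[R] X) : hF (R := R) X ⟶ hF X' where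
  app N := ModuleCat.ofHom (LinearMap.lcomp R N g)
  naturality N N' h := by
    ext f
    rfl

theorem hPre_app_apply (g : X' →ₗ[R] X) (N : ModuleCat.{u} R) (f : X →ₗ[R] N) :
    ((hPre g).app N).hom f = f ∘ₗ g := rfl

end HF

section Complex

variable (X : Type u) [AddCommGroup X] [Module R X]

/-- `Hom_R(X, Y)` termwise. -/
noncomputable abbrev HX (Y : Cx R) : Cx R :=
  ((hF X).mapHomologicalComplex (ComplexShape.up ℤ)).obj Y

/-- functoriality in `Y` -/
noncomputable abbrev HXmap {Y Y' : Cx R} (j : Y ⟶ Y') : HX X Y ⟶ HX X Y' :=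
  ((hF X).mapHomologicalComplex (ComplexShape.up ℤ)).map j

theorem HX_d_apply (Y : Cx R) (n n' : ℤ) (f : X →ₗ[R] Y.X n) :
    ((HX X Y).d n n').hom f = (Y.d n n').hom ∘ₗ f := rfl

theorem HXmap_f_apply {Y Y' : Cx R} (j : Y ⟶ Y') (n : ℤ) (f : X →ₗ[R] Y.X n) :
    ((HXmap X j).f n).hom f = (j.f n).hom ∘ₗ f := rfl

variable {X}

/-- Evaluation at `x` as a chain map. -/
noncomputable def evC (x : X) (Y : Cx R) : HX X Y ⟶ Y where
  f n := evN x (Y.X n)
  comm' n n' _ := by
    ext f
    rfl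

theorem evC_f_apply (x : X) (Y : Cx R) (n : ℤ) (f : X →ₗ[R] Y.X n) :
    ((evC x Y).f n).hom f = f x := rfl

theorem evC_naturality (x : X) {Y Y' : Cx R} (j : Y ⟶ Y') :
    HXmap X j ≫ evC x Y' = evC x Y ≫ j := by
  ext n f
  rfl

theorem evC_add (x x' : X) (Y : Cx R) : evC (x + x') Y = evC x Y + evC x' Y := by
  ext n (f : X →ₗ[R] Y.X n)
  exact map_add f x x'

theorem evC_smul (r : R) (x : X) (Y : Cx R) : evC (r • x) Y = r • evC x Y := by
  ext n (f : X →ₗ[R] Y.X n)
  exact map_smul f r x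

variable {X' : Type u} [AddCommGroup X'] [Module R X']

/-- Precomposition with `g : X' → X` as a chain map. -/
noncomputable def hPreC (g : X' →ₗ[R] X) (Y : Cx R) : HX X Y ⟶ HX X' Y :=
  (NatTrans.mapHomologicalComplex (hPre g) (ComplexShape.up ℤ)).app Y

theorem hPreC_f_apply (g : X' →ₗ[R] X) (Y : Cx R) (n : ℤ) (f : X →ₗ[R] Y.X n) :
    ((hPreC g Y).f n).hom f = f ∘ₗ g := rfl

theorem hPreC_evC (g : X' →ₗ[R] X) (Y : Cx R) (x' : X') :
    hPreC g Y ≫ evC x' Y = evC (g x') Y := by
  ext n f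
  rfl

theorem hPreC_naturality (g : X' →ₗ[R] X) {Y Y' : Cx R} (j : Y ⟶ Y') :
    HXmap X j ≫ hPreC g Y' = hPreC g Y ≫ HXmap X' j := by
  ext n f
  rfl

variable {X'' : Type u} [AddCommGroup X''] [Module R X'']

theorem hPreC_comp (g : X' →ₗ[R] X) (g' : X'' →ₗ[R] X') (Y : Cx R) :
    hPreC g Y ≫ hPreC g' Y = hPreC (g ∘ₗ g') Y := by
  ext n f
  rfl

theorem hPreC_id (Y : Cx R) : hPreC (LinearMap.id : X →ₗ[R] X) Y = 𝟙 _ := by
  ext n f
  rfl

/-- The short complex `Hom(X'', Y) → Hom(X, Y) → Hom(X', Y)`. -/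
noncomputable def hSC (i : X' →ₗ[R] X) (p : X →ₗ[R] X'') (hip : p ∘ₗ i = 0) (Y : Cx R) :
    ShortComplex (Cx R) :=
  ShortComplex.mk (hPreC p Y) (hPreC i Y) (by
    rw [hPreC_comp, hip]
    ext n f
    exact LinearMap.comp_zero f)

theorem hSC_shortExact (i : X' →ₗ[R] X) (p : X →ₗ[R] X'') (hi : Function.Injective i)
    (hp : Function.Surjective p) (hex : Function.Exact i p) (Y : Cx R)
    (hY : ∀ n, Injective (Y.X n)) :
    (hSC i p (by ext x; exact hex.apply_apply_eq_zero x) Y).ShortExact := by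
  apply shortExact_of_degreewise_shortExact
  intro n
  refine ShortComplex.ShortExact.mk' ?_ ?_ ?_
  · rw [ShortComplex.moduleCat_exact_iff]
    intro (f : X →ₗ[R] Y.X n) hf
    have hf' : f ∘ₗ i = 0 := hf
    have hker : LinearMap.ker p ≤ LinearMap.ker f := by
      intro x hx
      obtain ⟨x', rfl⟩ := (hex x).1 hx
      exact LinearMap.congr_fun hf' x'
    refine ⟨Groth.Agent.Lib.Helper16.Kun.descSurj p hp f hker, ?_⟩
    change (Groth.Agent.Lib.Helper16.Kun.descSurj p hp f hker) ∘ₗ p = f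
    ext x
    exact Groth.Agent.Lib.Helper16.Kun.descSurj_apply p hp f hker x
  · rw [ModuleCat.mono_iff_injective]
    intro (f : X'' →ₗ[R] Y.X n) (f' : X'' →ₗ[R] Y.X n) hff
    have hff' : f ∘ₗ p = f' ∘ₗ p := hff
    refine LinearMap.ext fun y => ?_
    obtain ⟨x, rfl⟩ := hp y
    exact LinearMap.congr_fun hff' x
  · rw [ModuleCat.epi_iff_surjective]
    intro (f : X' →ₗ[R] Y.X n)
    have : Module.Injective R (Y.X n) := Module.injective_module_of_injective_object R (Y.X n)
    obtain ⟨h, hh⟩ := Module.Injective.out i hi f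
    refine ⟨h, ?_⟩
    change h ∘ₗ i = f
    ext x
    exact hh x

end Complex

end Groth.Agent.Lib.Helper16.DT
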