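import Groth.Agent.Lib.Helper16.DT9
import Groth.Agent.Lib.Helper13.KInjMain
import Groth.Agent.S6955

/-!
# `- ⊗^L_R RHom(A, R) ≅ RHom(A, -)` when `A` is a perfect `R`-module
-/

set_option autoImplicit false
universe u

namespace Groth.Agent.Lib.Helper16.DT

open CategoryTheory CategoryTheory.Limits MonoidalCategory DerivedCategory
open Groth.Agent.Lib.Helper25.TensorCx Groth.Agent.Lib.Helper25.KFlat
open Groth.Agent.Lib.Helper25.Coext (coextCx counitCx sharp flat theta eMap resFac)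

attribute [local instance] HasDerivedCategory.standard

variable {R A : Type u} [CommRing R] [CommRing A] (φ : R →+* A)
  [DTen.HasRHomRel φ] [DTen.HasLTenMix φ]

variable (Y : Cx R) [Y.IsKInjective] (ι : 𝟙_ (Cx R) ⟶ Y) [QuasiIso ι]
  (hY : ∀ n, Injective (Y.X n)) (hA : DRing.IsPerfectModule R (AR φ))

include hY hA

theorem isIso_tauNat_app_Q (P : Cx R) (hP : Good P) :
    IsIso ((tauNat φ Y ι).app (Q.obj P)) := by
  obtain ⟨J, jj, hJ, hjj, -, hext⟩ :=
    Groth.Agent.Lib.Helper13.KInjMain.exists_kInjective_resolution (P ⊗ Y : Cx R)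
  have hJinj : ∀ n, Injective (J.X n) := fun n =>
    Groth.Agent.Lib.Helper13.KInjBasic.injective_of_extProp hext n
  obtain ⟨Pr, d, hd, hfin⟩ := (Groth.Agent.S6955.result R (AR φ)).1 hA
  have hC : InC jj (AR φ) := inC_of_resolution jj hjj hP.flat hY hJinj (AR φ) Pr d hd hfin
  have hκ : QuasiIso (kappaA φ jj) := quasiIso_kappaA φ jj hC
  have hi := quasiIso_iP Y ι P hP.kflat
  have hw : QuasiIso (iP Y ι P ≫ jj) := inferInstance
  have key : (tauNat φ Y ι).app (Q.obj P) ≫ (DTen.RHomRel φ).map (Q.map (iP Y ι P ≫ jj)) =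
      FPhom φ Y ι P ≫ Q.map (kappaA φ jj) ≫ theta φ J (DTen.relAdj φ) := by
    apply ((DTen.relAdj φ).homEquiv _ _).symm.injective
    rw [Adjunction.homEquiv_counit, Adjunction.homEquiv_counit]
    have c1 := (DTen.relAdj φ).counit.naturality (Q.map (iP Y ι P ≫ jj))
    dsimp only [Functor.id_map, Functor.comp_map, Functor.id_obj, Functor.comp_obj] at c1
    have c2 : (DRing.restrictD φ).map (theta φ J (DTen.relAdj φ)) ≫
        (DTen.relAdj φ).counit.app (Q.obj J) = eMap φ J := by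
      have := (DTen.relAdj φ).homEquiv_counit (Q.obj ((coextCx φ).obj J)) (Q.obj J)
        (theta φ J (DTen.relAdj φ))
      rw [← this]
      exact Equiv.symm_apply_apply _ _
    have c3 := Groth.Agent.Lib.Helper25.Coext.res_Qmap_comp_eMap φ J (kappaA φ jj)
    rw [flat_kappaA] at c3
    -- left side
    have l1 : (DRing.restrictD φ).map ((tauNat φ Y ι).app (Q.obj P) ≫
        (DTen.RHomRel φ).map (Q.map (iP Y ι P ≫ jj))) ≫ (DTen.relAdj φ).counit.app (Q.obj J) =
        eps0 φ Y ι P hP ≫ Q.map (iP Y ι P ≫ jj) := by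
      rw [Functor.map_comp, Category.assoc, c1, ← Category.assoc, res_tauNat_counit, epsNat_app]
    have l2 : eps0 φ Y ι P hP ≫ Q.map (iP Y ι P ≫ jj) =
        (DRing.restrictD φ).map (FPhom φ Y ι P) ≫
          (resFac φ).hom.app ((DTen.mixT φ).obj (P, M0 φ Y)) ≫ Q.map (cP φ P Y ≫ jj) := by
      unfold eps0
      rw [Functor.map_comp, Functor.map_comp, ← iPIso_hom Y ι P hP.kflat]
      simp only [Category.assoc, Iso.inv_hom_id_assoc]
    have r1 : (DRing.restrictD φ).map (FPhom φ Y ι P ≫ Q.map (kappaA φ jj) ≫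
        theta φ J (DTen.relAdj φ)) ≫ (DTen.relAdj φ).counit.app (Q.obj J) =
        (DRing.restrictD φ).map (FPhom φ Y ι P) ≫
          (resFac φ).hom.app ((DTen.mixT φ).obj (P, M0 φ Y)) ≫ Q.map (cP φ P Y ≫ jj) := by
      rw [Functor.map_comp, Functor.map_comp, Category.assoc, Category.assoc, c2]
      exact congrArg (fun t => (DRing.restrictD φ).map (FPhom φ Y ι P) ≫ t) c3
    rw [l1, l2, r1]
  have h1 : IsIso (FPhom φ Y ι P) := isIso_FPhom φ Y ι P hP.kflat
  have h2 : IsIso (Q.map (kappaA φ jj)) := by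
    rw [isIso_Q_map_iff_quasiIso]; exact hκ
  have h3 : IsIso (Q.map (iP Y ι P ≫ jj)) := by
    rw [isIso_Q_map_iff_quasiIso]; exact hw
  have h4 : IsIso ((tauNat φ Y ι).app (Q.obj P) ≫
      (DTen.RHomRel φ).map (Q.map (iP Y ι P ≫ jj))) := by
    rw [key]
    infer_instance
  exact IsIso.of_isIso_comp_right _ ((DTen.RHomRel φ).map (Q.map (iP Y ι P ≫ jj)))

theorem isIso_tauNat : IsIso (tauNat φ Y ι) := by
  have : ∀ K, IsIso ((tauNat φ Y ι).app K) := fun K => by
    rw [← NatTrans.isIso_app_iff_of_iso (tauNat φ Y ι) (repIso K)]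
    exact isIso_tauNat_app_Q φ Y ι hY hA (rep K) (good_rep K)
  exact NatIso.isIso_of_isIso_app _

end Groth.Agent.Lib.Helper16.DT
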