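import Groth.Agent.Lib.Helper16.DT10

/-!
# Final assembly for `RHom(A, -) ≅ - ⊗^L_R RHom(A, R)`
-/

set_option autoImplicit false
universe u

namespace Groth.Agent.Lib.Helper16.DT

open CategoryTheory CategoryTheory.Limits MonoidalCategory DerivedCategory
open Groth.Agent.Lib.Helper25.TensorCx Groth.Agent.Lib.Helper25.KFlat

attribute [local instance] HasDerivedCategory.standard

variable {R A : Type u} [CommRing R] [CommRing A] (φ : R →+* A)

/-- `res (A[0]) ≅ (A|_R)[0]` -/
noncomputable def resUnitIso :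
    (DRing.restrictD φ).obj (DTen.unit A) ≅ Dual.inD R (AR φ) :=
  (ModuleCat.restrictScalars.{u} φ).mapDerivedCategoryFactors.app (𝟙_ (Cx A)) ≪≫
    Q.mapIso ((HomologicalComplex.singleMapHomologicalComplex (ModuleCat.restrictScalars.{u} φ)
      (ComplexShape.up ℤ) 0).app (ModuleCat.of A A)) ≪≫
    ((DerivedCategory.singleFunctorIsoCompQ (ModuleCat.{u} R) 0).app _).symm

theorem isPerfectModule_AR (hA : DRing.IsPerfect R ((DRing.restrictD φ).obj (DTen.unit A))) :
    DRing.IsPerfectModule R (AR φ) :=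
  Groth.Agent.Lib.Helper84.DRingPerf.isPerfect_of_iso (resUnitIso φ) hA

variable [DTen.HasRHomRel φ] [DTen.HasLTenMix φ]

theorem nonempty_iso (hA : DRing.IsPerfectModule R (AR φ)) :
    Nonempty (DTen.RHomRel φ ≅
      (Functor.curry.obj (DTen.LTenMix φ)).flip.obj ((DTen.RHomRel φ).obj (DTen.unit R))) := by
  obtain ⟨Y, ι, hYK, hι, -, hext⟩ :=
    Groth.Agent.Lib.Helper13.KInjMain.exists_kInjective_resolution (𝟙_ (Cx R))
  have hY : ∀ n, Injective (Y.X n) := fun n =>
    Groth.Agent.Lib.Helper13.KInjBasic.injective_of_extProp hext n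
  have := isIso_tauNat φ Y ι hY hA
  exact ⟨(asIso (tauNat φ Y ι)).symm⟩

end Groth.Agent.Lib.Helper16.DT
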