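import Groth.Agent.Lib.Helper16.DT11

/-!
# `- ⊗^L_R RHom(A, R) ≅ RHom(A, -)` under an abstract `InC` hypothesis, and the case where
`R → A` is surjective with finite projective kernel
-/

set_option autoImplicit false
universe u

namespace Groth.Agent.Lib.Helper16.DT

open CategoryTheory CategoryTheory.Limits MonoidalCategory DerivedCategory
open Groth.Agent.Lib.Helper25.TensorCx Groth.Agent.Lib.Helper25.KFlat
open Groth.Agent.Lib.Helper25.Coext (coextCx counitCx sharp flat theta eMap resFac)

attribute [local instance] HasDerivedCategory.standard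

section General

variable {R A : Type u} [CommRing R] [CommRing A] (φ : R →+* A)
  [DTen.HasRHomRel φ] [DTen.HasLTenMix φ]

variable (Y : Cx R) [Y.IsKInjective] (ι : 𝟙_ (Cx R) ⟶ Y) [QuasiIso ι]
  (hC : ∀ (P J : Cx R) (jj : (P ⊗ Y : Cx R) ⟶ J), Good P → QuasiIso jj →
    (∀ n, Injective (J.X n)) → InC jj (AR φ))

include hC

theorem isIso_tauNat_app_Q_of (P : Cx R) (hP : Good P) :
    IsIso ((tauNat φ Y ι).app (Q.obj P)) := by
  obtain ⟨J, jj, hJ, hjj, -, hext⟩ :=
    Groth.Agent.Lib.Helper13.KInjMain.exists_kInjective_resolution (P ⊗ Y : Cx R)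
  have hJinj : ∀ n, Injective (J.X n) := fun n =>
    Groth.Agent.Lib.Helper13.KInjBasic.injective_of_extProp hext n
  have hC' : InC jj (AR φ) := hC P J jj hP hjj hJinj
  have hκ : QuasiIso (kappaA φ jj) := quasiIso_kappaA φ jj hC'
  have hi := quasiIso_iP Y ι P hP.kflat
  have hw : QuasiIso (iP Y ι P ≫ jj) := inferInstance
  have key : (tauNat φ Y ι).app (Q.obj P) ≫ (DTen.RHomRel φ).map (Q.map (iP Y ι P ≫ jj)) =
      FPhom φ Y ι P ≫ Q.map (kappaA φ jj) ≫ theta φ J (DTen.relAdj φ) := by
    apply ((DTen.relAdj φ).homEquiv _ _).symm.injective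
    rw [Adjunction.homEquiv_counit, Adjunction.homEquiv_counit]
    have c1 := (DTen.relAdj φ).counit.naturality (Q.map (iP Y ι P ≫ jj))
    dsimp only [Functor.id_map, Functor.comp_map, Functor.id_obj, Functor.comp_obj] at c1
    have c2 : (DRing.restrictD φ).map (theta φ J (DTen.relAdj φ)) ≫
        (DTen.relAdj φ).counit.app (Q.obj J) = eMap φ J := by
      have := (DTen.relAdj φ).homEquiv_counit (Q.obj ((coextCx φ).obj J)) (Q.obj J)
        (theta φ J (DTen.relAdj φ))
      rw [← this]
      exact Equiv.symm_apply_apply _ _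
    have c3 := Groth.Agent.Lib.Helper25.Coext.res_Qmap_comp_eMap φ J (kappaA φ jj)
    rw [flat_kappaA] at c3
    -- left side
    have l1 : (DRing.restrictD φ).map ((tauNat φ Y ι).app (Q.obj P) ≫
        (DTen.RHomRel φ).map (Q.map (iP Y ι P ≫ jj))) ≫ (DTen.relAdj φ).counit.app (Q.obj J) =
        eps0 φ Y ι P hP ≫ Q.map (iP Y ι P ≫ jj) := by
      rw [Functor.map_comp, Category.assoc, c1, ← Category.assoc, res_tauNat_counit, epsNat_app]
    have l2 : eps0 φ Y ι P hP ≫ Q.map (iP Y ι P ≫ jj) =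
        (DRing.restrictD φ).map (FPhom φ Y ι P) ≫
          (resFac φ).hom.app ((DTen.mixT φ).obj (P, M0 φ Y)) ≫ Q.map (cP φ P Y ≫ jj) := by
      unfold eps0
      rw [Functor.map_comp, Functor.map_comp, ← iPIso_hom Y ι P hP.kflat]
      simp only [Category.assoc, Iso.inv_hom_id_assoc]
    have r1 : (DRing.restrictD φ).map (FPhom φ Y ι P ≫ Q.map (kappaA φ jj) ≫
        theta φ J (DTen.relAdj φ)) ≫ (DTen.relAdj φ).counit.app (Q.obj J) =
        (DRing.restrictD φ).map (FPhom φ Y ι P) ≫
          (resFac φ).hom.app ((DTen.mixT φ).obj (P, M0 φ Y)) ≫ Q.map (cP φ P Y ≫ jj) := by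
      rw [Functor.map_comp, Functor.map_comp, Category.assoc, Category.assoc, c2]
      exact congrArg (fun t => (DRing.restrictD φ).map (FPhom φ Y ι P) ≫ t) c3
    rw [l1, l2, r1]
  have h1 : IsIso (FPhom φ Y ι P) := isIso_FPhom φ Y ι P hP.kflat
  have h2 : IsIso (Q.map (kappaA φ jj)) := by
    rw [isIso_Q_map_iff_quasiIso]; exact hκ
  have h3 : IsIso (Q.map (iP Y ι P ≫ jj)) := by
    rw [isIso_Q_map_iff_quasiIso]; exact hw
  have h4 : IsIso ((tauNat φ Y ι).app (Q.obj P) ≫
      (DTen.RHomRel φ).map (Q.map (iP Y ι P ≫ jj))) := by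
    rw [key]
    infer_instance
  exact IsIso.of_isIso_comp_right _ ((DTen.RHomRel φ).map (Q.map (iP Y ι P ≫ jj)))

theorem isIso_tauNat_of : IsIso (tauNat φ Y ι) := by
  have : ∀ K, IsIso ((tauNat φ Y ι).app K) := fun K => by
    rw [← NatTrans.isIso_app_iff_of_iso (tauNat φ Y ι) (repIso K)]
    exact isIso_tauNat_app_Q_of φ Y ι hC (rep K) (good_rep K)
  exact NatIso.isIso_of_isIso_app _

end General

section Surj

variable (R A : Type u) [CommRing R] [CommRing A] [Algebra R A]

/-- The quotient map `R → A` as an `R`-linear map to `A|_R`. -/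
noncomputable def pAR : R →ₗ[R] AR (algebraMap R A) where
  toFun r := (show AR (algebraMap R A) from (algebraMap R A r : A))
  map_add' r s := map_add (algebraMap R A) r s
  map_smul' r s := by
    change algebraMap R A (r * s) = algebraMap R A r * algebraMap R A s
    exact map_mul _ _ _

theorem pAR_apply (r : R) : (pAR R A r : A) = algebraMap R A r := rfl

theorem exact_subtype_pAR :
    Function.Exact (RingHom.ker (algebraMap R A)).subtype (pAR R A) := by
  intro r
  constructor
  · intro h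
    exact ⟨⟨r, h⟩, rfl⟩
  · rintro ⟨x, rfl⟩
    exact x.2

variable {R A}

theorem inC_AR_of_surjective (hφ : Function.Surjective (algebraMap R A))
    [Module.Finite R (RingHom.ker (algebraMap R A))]
    [Module.Projective R (RingHom.ker (algebraMap R A))]
    {P Y J : Cx R} (j : (P ⊗ Y : Cx R) ⟶ J) (hj : QuasiIso j)
    (hP : ∀ n, Module.Flat R (P.X n)) (hY : ∀ n, Injective (Y.X n))
    (hJ : ∀ n, Injective (J.X n)) : InC j (AR (algebraMap R A)) :=
  inC_coker j (RingHom.ker (algebraMap R A)).subtype (pAR R A) Subtype.val_injective hφ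
    (exact_subtype_pAR R A) hP hY hJ
    (inC_of_finite_projective j hj hP hY hJ _) (inC_self j hj)

variable [DTen.HasRHomRel (algebraMap R A)] [DTen.HasLTenMix (algebraMap R A)]

theorem isIso_tauNat_of_surjective (hφ : Function.Surjective (algebraMap R A))
    [Module.Finite R (RingHom.ker (algebraMap R A))]
    [Module.Projective R (RingHom.ker (algebraMap R A))]
    (Y : Cx R) [Y.IsKInjective] (ι : 𝟙_ (Cx R) ⟶ Y) [QuasiIso ι]
    (hY : ∀ n, Injective (Y.X n)) : IsIso (tauNat (algebraMap R A) Y ι) :=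
  isIso_tauNat_of (algebraMap R A) Y ι fun P J jj hP hjj hJ =>
    inC_AR_of_surjective hφ jj hjj hP.flat hY hJ

end Surj

end Groth.Agent.Lib.Helper16.DT
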