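import Groth.Agent.Lib.Helper16.DT0
import Groth.Agent.Lib.Helper16.DT1

/-!
# The comparison `κ_X : P ⊗ Hom(X, Y) ⟶ Hom(X, J)` attached to `j : P ⊗ Y ⟶ J`
-/

set_option autoImplicit false
universe u

namespace Groth.Agent.Lib.Helper16.DT

open CategoryTheory CategoryTheory.Limits MonoidalCategory HomologicalComplex TensorProduct
open Groth.Agent.Lib.Helper25.TensorCx Groth.Agent.Lib.Helper25.KFlat

variable {R : Type u} [CommRing R]

section Lax

variable (X : Type u) [AddCommGroup X] [Module R X] (P Y : Cx R)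

theorem whiskerLeft_evC_add (x x' : X) (n : ℤ) (t : (P ⊗ HX X Y : Cx R).X n) :
    (P ◁ evC (x + x') Y).f n t = (P ◁ evC x Y).f n t + (P ◁ evC x' Y).f n t := by
  induction t using tm_induction P (HX X Y) with
  | zero => simp only [map_zero, add_zero]
  | add a b ha hb =>
    rw [map_add, map_add, map_add, ha, hb]
    abel
  | tm' p q h k f =>
    rw [whiskerLeft_tm, whiskerLeft_tm, whiskerLeft_tm, ← tm_add_right]
    congr 1
    exact map_add (show X →ₗ[R] Y.X q from f) x x'

theorem whiskerLeft_evC_smul (r : R) (x : X) (n : ℤ) (t : (P ⊗ HX X Y : Cx R).X n) :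
    (P ◁ evC (r • x) Y).f n t = r • (P ◁ evC x Y).f n t := by
  induction t using tm_induction P (HX X Y) with
  | zero => simp only [map_zero, smul_zero]
  | add a b ha hb =>
    rw [map_add, map_add, ha, hb, smul_add]
  | tm' p q h k f =>
    rw [whiskerLeft_tm, whiskerLeft_tm, ← tm_smul_right]
    congr 1
    exact map_smul (show X →ₗ[R] Y.X q from f) r x

/-- The lax comparison in degree `n`. -/
noncomputable def laxLin (n : ℤ) :
    (P ⊗ HX X Y : Cx R).X n →ₗ[R] (X →ₗ[R] (P ⊗ Y : Cx R).X n) where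
  toFun t :=
    { toFun := fun x => (P ◁ evC x Y).f n t
      map_add' := fun x x' => whiskerLeft_evC_add X P Y x x' n t
      map_smul' := fun r x => whiskerLeft_evC_smul X P Y r x n t }
  map_add' t t' := by
    ext x
    exact map_add ((P ◁ evC x Y).f n).hom t t'
  map_smul' r t := by
    ext x
    exact map_smul ((P ◁ evC x Y).f n).hom r t

theorem laxLin_apply (n : ℤ) (t : (P ⊗ HX X Y : Cx R).X n) (x : X) :
    laxLin X P Y n t x = (P ◁ evC x Y).f n t := rfl

/-- The lax comparison `P ⊗ Hom(X, Y) ⟶ Hom(X, P ⊗ Y)`. -/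
noncomputable def lax : (P ⊗ HX X Y : Cx R) ⟶ HX X (P ⊗ Y : Cx R) where
  f n := ModuleCat.ofHom (laxLin X P Y n)
  comm' n n' _ := by
    ext t
    refine LinearMap.ext fun x => ?_
    have h := congrArg (fun f => f t)
      (congrArg ModuleCat.Hom.hom ((P ◁ evC x Y).comm n n'))
    exact h

theorem lax_f_apply (n : ℤ) (t : (P ⊗ HX X Y : Cx R).X n) (x : X) :
    (show X →ₗ[R] (P ⊗ Y : Cx R).X n from ((lax X P Y).f n).hom t) x =
      (P ◁ evC x Y).f n t := rfl

variable {X}
variable {X' : Type u} [AddCommGroup X'] [Module R X']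

theorem lax_naturality (g : X' →ₗ[R] X) :
    (P ◁ hPreC g Y) ≫ lax X' P Y = lax X P Y ≫ hPreC g (P ⊗ Y : Cx R) := by
  ext n t
  refine LinearMap.ext fun x' => ?_
  change (P ◁ evC x' Y).f n ((P ◁ hPreC g Y).f n t) = (P ◁ evC (g x') Y).f n t
  rw [← hPreC_evC g Y x', MonoidalCategory.whiskerLeft_comp]
  rfl

end Lax

section Kappa

variable (X : Type u) [AddCommGroup X] [Module R X] {P Y J : Cx R} (j : (P ⊗ Y : Cx R) ⟶ J)

/-- The comparison `P ⊗ Hom(X, Y) ⟶ Hom(X, J)`. -/
noncomputable def kappa : (P ⊗ HX X Y : Cx R) ⟶ HX X J := lax X P Y ≫ HXmap X j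

theorem kappa_f_apply (n : ℤ) (t : (P ⊗ HX X Y : Cx R).X n) (x : X) :
    (show X →ₗ[R] J.X n from ((kappa X j).f n).hom t) x = j.f n ((P ◁ evC x Y).f n t) := rfl

variable {X}
variable {X' : Type u} [AddCommGroup X'] [Module R X']

theorem kappa_naturality (g : X' →ₗ[R] X) :
    (P ◁ hPreC g Y) ≫ kappa X' j = kappa X j ≫ hPreC g J := by
  unfold kappa
  rw [← Category.assoc, lax_naturality, Category.assoc, Category.assoc, hPreC_naturality]

theorem kappa_evC (x : X) : kappa X j ≫ evC x J = (P ◁ evC x Y) ≫ j := by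
  ext n t
  rfl

end Kappa

section Base

/-- Evaluation at `1 : R` is an isomorphism `Hom(R, Y) ≅ Y`. -/
instance isIso_evC_one (Y : Cx R) : IsIso (evC (1 : R) Y) := by
  have : ∀ n, IsIso ((evC (1 : R) Y).f n) := fun n => by
    rw [ConcreteCategory.isIso_iff_bijective]
    exact (LinearMap.ringLmapEquivSelf R R (Y.X n)).bijective
  exact HomologicalComplex.Hom.isIso_of_components _

variable {P Y J : Cx R} (j : (P ⊗ Y : Cx R) ⟶ J)

theorem quasiIso_kappa_self (hj : QuasiIso j) : QuasiIso (kappa R j) := by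
  have h := kappa_evC j (1 : R)
  have h1 : QuasiIso ((P ◁ evC (1 : R) Y) ≫ j) := inferInstance
  rw [← h] at h1
  exact quasiIso_of_comp_right (kappa R j) (evC (1 : R) J)

end Base

end Groth.Agent.Lib.Helper16.DT
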