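import Groth.Agent.Lib.Helper16.DT2

/-!
# The class of modules `X` for which `κ_X` is a quasi-isomorphism
-/

set_option autoImplicit false
universe u

namespace Groth.Agent.Lib.Helper16.DT

open CategoryTheory CategoryTheory.Limits MonoidalCategory HomologicalComplex TensorProduct
open Groth.Agent.Lib.Helper25.TensorCx Groth.Agent.Lib.Helper25.KFlat

variable {R : Type u} [CommRing R] {P Y J : Cx R} (j : (P ⊗ Y : Cx R) ⟶ J)

/-- `κ_X` is a quasi-isomorphism. -/
def InC (X : Type u) [AddCommGroup X] [Module R X] : Prop := QuasiIso (kappa X j)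

section Retract

variable {X F : Type u} [AddCommGroup X] [Module R X] [AddCommGroup F] [Module R F]

theorem inC_of_retract (s : X →ₗ[R] F) (r : F →ₗ[R] X) (hrs : r ∘ₗ s = LinearMap.id)
    (hF : InC j F) : InC j X := by
  have hF' : QuasiIso (kappa F j) := hF
  have h : RetractArrow (kappa X j) (kappa F j) :=
    { i := Arrow.homMk (P ◁ hPreC r Y) (hPreC r J) (kappa_naturality j r)
      r := Arrow.homMk (P ◁ hPreC s Y) (hPreC s J) (kappa_naturality j s)
      retract := by
        apply Arrow.hom_ext
        · change (P ◁ hPreC r Y) ≫ (P ◁ hPreC s Y) = 𝟙 _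
          rw [← MonoidalCategory.whiskerLeft_comp, hPreC_comp, hrs, hPreC_id,
            MonoidalCategory.whiskerLeft_id]
        · change hPreC r J ≫ hPreC s J = 𝟙 _
          rw [hPreC_comp, hrs, hPreC_id] }
  exact quasiIso_of_retractArrow h

theorem inC_of_equiv (e : X ≃ₗ[R] F) (hF : InC j F) : InC j X :=
  inC_of_retract j e.toLinearMap e.symm.toLinearMap (by ext x; simp) hF

end Retract

section SES

variable {X' X X'' : Type u} [AddCommGroup X'] [Module R X'] [AddCommGroup X] [Module R X]
  [AddCommGroup X''] [Module R X'']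
  (i : X' →ₗ[R] X) (p : X →ₗ[R] X'') (hi : Function.Injective i)
  (hp : Function.Surjective p) (hex : Function.Exact i p)
  (hP : ∀ n, Module.Flat R (P.X n)) (hY : ∀ n, Injective (Y.X n)) (hJ : ∀ n, Injective (J.X n))

/-- The morphism of short complexes given by the `κ`'s. -/
noncomputable def kappaSC (hip : p ∘ₗ i = 0) :
    whiskerLeftShortComplex P (hSC i p hip Y) ⟶ hSC i p hip J where
  τ₁ := kappa X'' j
  τ₂ := kappa X j
  τ₃ := kappa X' j
  comm₁₂ := (kappa_naturality j p).symm
  comm₂₃ := (kappa_naturality j i).symm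

include hi hp hex hP hY hJ

theorem shortExact_src :
    (whiskerLeftShortComplex P
      (hSC i p (by ext x; exact hex.apply_apply_eq_zero x) Y)).ShortExact := by
  have hS := hSC_shortExact i p hi hp hex Y hY
  apply shortExact_whiskerLeft' P _ hS
  intro a b
  have := hP a
  apply Module.Flat.lTensor_preserves_injective_linearMap
  have hm : Mono ((hSC i p (by ext x; exact hex.apply_apply_eq_zero x) Y).f) := hS.mono_f
  have : Mono (((hSC i p (by ext x; exact hex.apply_apply_eq_zero x) Y).f).f b) := inferInstance
  exact (ModuleCat.mono_iff_injective _).1 this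

theorem inC_coker (h' : InC j X') (h : InC j X) : InC j X'' := by
  have hip : p ∘ₗ i = 0 := by ext x; exact hex.apply_apply_eq_zero x
  exact quasiIso_τ₁ (kappaSC j i p hip) (shortExact_src i p hi hp hex hP hY hJ)
    (hSC_shortExact i p hi hp hex J hJ) h h'

theorem inC_middle (h' : InC j X') (h'' : InC j X'') : InC j X := by
  have hip : p ∘ₗ i = 0 := by ext x; exact hex.apply_apply_eq_zero x
  exact quasiIso_τ₂ (kappaSC j i p hip) (shortExact_src i p hi hp hex hP hY hJ)
    (hSC_shortExact i p hi hp hex J hJ) h'' h'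

end SES

section Closure

variable (hj : QuasiIso j)
  (hP : ∀ n, Module.Flat R (P.X n)) (hY : ∀ n, Injective (Y.X n)) (hJ : ∀ n, Injective (J.X n))

include hj in
theorem inC_self : InC j R := quasiIso_kappa_self j hj

include hj hP hY hJ

theorem inC_prod {X X' : Type u} [AddCommGroup X] [Module R X] [AddCommGroup X'] [Module R X']
    (h : InC j X) (h' : InC j X') : InC j (X × X') :=
  inC_middle j (LinearMap.inl R X X') (LinearMap.snd R X X') LinearMap.inl_injective
    LinearMap.snd_surjective (by
      intro z
      constructor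
      · intro hz
        exact ⟨z.1, Prod.ext rfl (by simpa using hz.symm)⟩
      · rintro ⟨x, rfl⟩
        rfl) hP hY hJ h h'

theorem inC_punit : InC j PUnit.{u + 1} :=
  inC_of_retract j (0 : PUnit.{u + 1} →ₗ[R] R) (0 : R →ₗ[R] PUnit.{u + 1})
    (by ext) (inC_self j hj)

theorem inC_fin (n : ℕ) : InC j (Fin n → R) := by
  induction n with
  | zero =>
    exact inC_of_retract j (0 : (Fin 0 → R) →ₗ[R] R) (0 : R →ₗ[R] (Fin 0 → R))
      (by ext x i; exact i.elim0) (inC_self j hj)
  | succ n ih =>
    have h1 : InC j (R × (Fin n → R)) := inC_prod j hj hP hY hJ (inC_self j hj) ih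
    exact inC_of_equiv j (Fin.consLinearEquiv R (fun _ : Fin (n + 1) => R)).symm h1

theorem inC_of_finite_projective (X : Type u) [AddCommGroup X] [Module R X] [Module.Finite R X]
    [Module.Projective R X] : InC j X := by
  obtain ⟨n, f, g, hf, -, hfg⟩ := Module.Finite.exists_comp_eq_id_of_projective R X
  exact inC_of_retract j g f hfg (inC_fin j hj hP hY hJ n)

end Closure

end Groth.Agent.Lib.Helper16.DT
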