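import Groth.Agent.Lib.Helper16.DT3
import Mathlib.CategoryTheory.Abelian.Projective.Resolution

/-!
# Modules with a finite resolution by finite projective modules lie in the class `InC`
-/

set_option autoImplicit false
universe u

namespace Groth.Agent.Lib.Helper16.DT

open CategoryTheory CategoryTheory.Limits MonoidalCategory HomologicalComplex TensorProduct
open Groth.Agent.Lib.Helper25.TensorCx Groth.Agent.Lib.Helper25.KFlat

variable {R : Type u} [CommRing R] {P Y J : Cx R} (j : (P ⊗ Y : Cx R) ⟶ J)
  (hj : QuasiIso j)
  (hP : ∀ n, Module.Flat R (P.X n)) (hY : ∀ n, Injective (Y.X n)) (hJ : ∀ n, Injective (J.X n))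

include hj hP hY hJ

theorem inC_of_subsingleton (X : Type u) [AddCommGroup X] [Module R X] [Subsingleton X] :
    InC j X :=
  inC_of_retract j (0 : X →ₗ[R] R) (0 : R →ₗ[R] X) (by ext x; exact Subsingleton.elim _ _)
    (inC_self j hj)

theorem inC_of_resolution (X : Type u) [AddCommGroup X] [Module R X]
    (Pr : ProjectiveResolution (ModuleCat.of R X)) (d : ℕ)
    (hd : ∀ i : ℕ, d < i → IsZero (Pr.complex.X i))
    (hfin : ∀ i : ℕ, Module.Finite R (Pr.complex.X i)) : InC j X := by
  have hproj : ∀ i : ℕ, Module.Projective R (Pr.complex.X i) := fun i => by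
    have := Pr.projective i
    exact (IsProjective.iff_projective (Pr.complex.X i)).2 this
  -- the images of the differentials
  let K : ℕ → Type u := fun n => ↥(LinearMap.range (Pr.complex.d (n + 1) n).hom)
  have hK : ∀ n : ℕ, InC j (K n) := by
    have hbig : ∀ n : ℕ, d ≤ n → InC j (K n) := by
      intro n hn
      have hz : IsZero (Pr.complex.X (n + 1)) := hd (n + 1) (by omega)
      have hs : Subsingleton (Pr.complex.X (n + 1)) := ModuleCat.subsingleton_of_isZero hz
      have : Subsingleton (K n) := by
        refine ⟨fun a b => Subtype.ext ?_⟩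
        obtain ⟨a', ha'⟩ := a.2
        obtain ⟨b', hb'⟩ := b.2
        rw [← ha', ← hb', Subsingleton.elim a' b']
      exact inC_of_subsingleton j hj hP hY hJ (K n)
    intro n
    by_cases hn : d ≤ n
    · exact hbig n hn
    · -- downward induction
      have key : ∀ k : ℕ, ∀ n : ℕ, d ≤ n + k → InC j (K n) := by
        intro k
        induction k with
        | zero => intro n hn; exact hbig n (by omega)
        | succ k ih =>
          intro n hn
          have h1 : InC j (K (n + 1)) := ih (n + 1) (by omega)
          have h2 : InC j (Pr.complex.X (n + 1)) := by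
            have := hfin (n + 1)
            have := hproj (n + 1)
            exact inC_of_finite_projective j hj hP hY hJ _
          have hex := (ShortComplex.ShortExact.moduleCat_exact_iff_function_exact _).1
            (Pr.exact_succ n)
          refine inC_coker j (LinearMap.range (Pr.complex.d (n + 1 + 1) (n + 1)).hom).subtype
            (Pr.complex.d (n + 1) n).hom.rangeRestrict (Subtype.val_injective)
            (LinearMap.surjective_rangeRestrict _) ?_ hP hY hJ h1 h2
          intro z
          constructor
          · intro hz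
            have hz' : (Pr.complex.d (n + 1) n).hom z = 0 := congrArg Subtype.val hz
            obtain ⟨w, hw⟩ := (hex z).1 hz'
            exact ⟨⟨z, ⟨w, hw⟩⟩, rfl⟩
          · rintro ⟨⟨z', w, hw⟩, rfl⟩
            apply Subtype.ext
            change (Pr.complex.d (n + 1) n).hom z' = 0
            rw [← hw]
            exact (hex _).2 ⟨w, rfl⟩
      exact key d n (by omega)
  have h0 : InC j (Pr.complex.X 0) := by
    have := hfin 0
    have := hproj 0
    exact inC_of_finite_projective j hj hP hY hJ _
  have hex0 := (ShortComplex.ShortExact.moduleCat_exact_iff_function_exact _).1 Pr.exact₀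
  have hepi : Function.Surjective (Pr.π.f 0).hom :=
    (ModuleCat.epi_iff_surjective _).1 inferInstance
  let p : Pr.complex.X 0 →ₗ[R] X := (Pr.π.f 0).hom
  refine inC_coker j (LinearMap.range (Pr.complex.d (0 + 1) 0).hom).subtype p
    Subtype.val_injective hepi ?_ hP hY hJ (hK 0) h0
  intro z
  constructor
  · intro hz
    obtain ⟨w, hw⟩ := (hex0 z).1 hz
    exact ⟨⟨z, ⟨w, hw⟩⟩, rfl⟩
  · rintro ⟨⟨z', w, hw⟩, rfl⟩
    change (Pr.π.f 0).hom z' = 0
    rw [← hw]
    exact (hex0 _).2 ⟨w, rfl⟩

end Groth.Agent.Lib.Helper16.DT
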