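import Groth.Agent.Lib.Helper25.KFlatBC
import Groth.Agent.Lib.Helper25.TensorBraid

/-!
# The projection isomorphism `K ⊗_R (L'|_R) ≅ ((K ⊗_R A) ⊗_A L')|_R` on complexes (left version)
-/

set_option autoImplicit false
universe u

namespace Groth.Agent.Lib.Helper16.DT

open CategoryTheory CategoryTheory.Limits MonoidalCategory HomologicalComplex TensorProduct
open Groth.Agent.Lib.Helper25.TensorCx Groth.Agent.Lib.Helper25.KFlat

variable {R A : Type u} [CommRing R] [CommRing A] (φ : R →+* A)

section Summand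

variable (N : ModuleCat.{u} R) (M : ModuleCat.{u} A)

/-- `k ⊗ l ↦ (1 ⊗ k) ⊗ l`. -/
noncomputable def psiL :
    TensorProduct R N ((ModuleCat.restrictScalars φ).obj M) →+
      TensorProduct A ((ModuleCat.extendScalars φ).obj N) M :=
  ((TensorProduct.comm A M ((ModuleCat.extendScalars φ).obj N)).toLinearMap.toAddMonoidHom).comp
    ((psi φ M N).comp
      (TensorProduct.comm R N ((ModuleCat.restrictScalars φ).obj M)).toLinearMap.toAddMonoidHom)

theorem psiL_tmul (k : N) (l : M) :
    psiL φ N M (k ⊗ₜ[R] (show (ModuleCat.restrictScalars φ).obj M from l)) =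
      (etm φ N 1 k) ⊗ₜ[A] l := rfl

theorem psiL_bijective : Function.Bijective (psiL φ N M) := by
  have h1 := (TensorProduct.comm A M ((ModuleCat.extendScalars φ).obj N)).bijective
  have h2 := psi_bijective φ M N
  have h3 := (TensorProduct.comm R N ((ModuleCat.restrictScalars φ).obj M)).bijective
  exact h1.comp (h2.comp h3)

end Summand

section Complex

variable (K : Cx R) (L' : Cx A)

/-- The comparison map in degree `n`. -/
noncomputable def PsiL (n : ℤ) :
    (K ⊗ resCx φ L' : Cx R).X n →+ (extCx φ K ⊗ L' : Cx A).X n :=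
  ((dsIso (extCx φ K) L' n).inv.hom.toAddMonoidHom).comp
    ((DirectSum.map (fun i : Idx n => psiL φ (K.X i.1.1) (L'.X i.1.2))).comp
      (dsIso K (resCx φ L') n).hom.hom.toAddMonoidHom)

theorem PsiL_bijective (n : ℤ) : Function.Bijective (PsiL φ K L' n) := by
  have h1 := dsIso_inv_bijective (extCx φ K) L' n
  have h2 := dsIso_hom_bijective K (resCx φ L') n
  have h3 : Function.Bijective
      (DirectSum.map (fun i : Idx n => psiL φ (K.X i.1.1) (L'.X i.1.2))) :=
    ⟨(DirectSum.map_injective _).2 fun i => (psiL_bijective φ _ _).1,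
      (DirectSum.map_surjective _).2 fun i => (psiL_bijective φ _ _).2⟩
  exact h1.comp (h3.comp h2)

theorem PsiL_inc (p q n : ℤ) (h : p + q = n)
    (t : TensorProduct R (K.X p) ((ModuleCat.restrictScalars φ).obj (L'.X q))) :
    PsiL φ K L' n (inc K (resCx φ L') p q n h t) =
      inc (extCx φ K) L' p q n h (psiL φ (K.X p) (L'.X q) t) := by
  change (dsIso (extCx φ K) L' n).inv
    (DirectSum.map (fun i : Idx n => psiL φ (K.X i.1.1) (L'.X i.1.2))
      ((dsIso K (resCx φ L') n).hom (inc K (resCx φ L') p q n h t))) = _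
  rw [dsIso_hom_inc]
  change (dsIso (extCx φ K) L' n).inv
    (DirectSum.map (fun i : Idx n => psiL φ (K.X i.1.1) (L'.X i.1.2))
      (DirectSum.of _ (mkIdx p q n h) t)) = _
  rw [DirectSum.map_of]
  exact dsIso_inv_of (extCx φ K) L' p q n h _

theorem PsiL_tm (p q n : ℤ) (h : p + q = n) (k : K.X p) (l : L'.X q) :
    PsiL φ K L' n (tm K (resCx φ L') p q n h k l) =
      tm (extCx φ K) L' p q n h (etm φ (K.X p) 1 k) l :=
  PsiL_inc φ K L' p q n h _

theorem PsiL_d (n n' : ℤ) (hn : n + 1 = n') (x : (K ⊗ resCx φ L' : Cx R).X n) :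
    (extCx φ K ⊗ L' : Cx A).d n n' (PsiL φ K L' n x) =
      PsiL φ K L' n' ((K ⊗ resCx φ L' : Cx R).d n n' x) := by
  induction x using tm_induction K (resCx φ L') with
  | zero => simp only [map_zero]
  | add x y hx hy => simp only [map_add, hx, hy]
  | tm' p q h k l =>
    rw [PsiL_tm, d_tm (extCx φ K) L' p q n n' h hn, d_tm K (resCx φ L') p q n n' h hn, map_add,
      PsiL_tm]
    congr 1
    rw [map_zsmul_unit, PsiL_tm]
    rfl

theorem PsiL_smul (n : ℤ) (r : R) (x : (K ⊗ resCx φ L' : Cx R).X n) :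
    PsiL φ K L' n (r • x) = φ r • PsiL φ K L' n x := by
  induction x using tm_induction K (resCx φ L') with
  | zero => simp only [smul_zero, map_zero]
  | add x y hx hy => simp only [smul_add, map_add, hx, hy]
  | tm' p q h k l =>
    rw [← tm_smul_right, PsiL_tm, PsiL_tm, ← tm_smul_right]
    rfl

end Complex

end Groth.Agent.Lib.Helper16.DT
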