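import Groth.Agent.Lib.Helper16.DT5
import Groth.Agent.Lib.Helper16.DT4
import Groth.Agent.Lib.Helper25.Coext.Basic

/-!
# Coextension of scalars versus `Hom_R(A, -)`, and the chain-level comparison map
-/

set_option autoImplicit false
universe u

namespace Groth.Agent.Lib.Helper16.DT

open CategoryTheory CategoryTheory.Limits MonoidalCategory HomologicalComplex TensorProduct
open Groth.Agent.Lib.Helper25.TensorCx Groth.Agent.Lib.Helper25.KFlat

variable {R A : Type u} [CommRing R] [CommRing A] (φ : R →+* A)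

/-- `A` as an `R`-module. -/
abbrev AR : Type u := ↥((ModuleCat.restrictScalars φ).obj (ModuleCat.of A A))

section Module

variable (N : ModuleCat.{u} R)

/-- `Hom_R(A, N)|_R ≃ Hom_R(A, N)`. -/
noncomputable def cEquiv :
    ((ModuleCat.restrictScalars φ).obj ((ModuleCat.coextendScalars.{u, u, u} φ).obj N)) ≃ₗ[R]
      (AR φ →ₗ[R] N) where
  toFun g := (ModuleCat.CoextendScalars.equiv φ N) g
  invFun g := (ModuleCat.CoextendScalars.equiv φ N).symm g
  left_inv g := rfl
  right_inv g := rfl
  map_add' g g' := rfl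
  map_smul' r g := by
    refine LinearMap.ext fun s => ?_
    change (ModuleCat.CoextendScalars.equiv φ N) (φ r • (show (ModuleCat.coextendScalars.{u, u, u} φ).obj N from g)) s = r • (ModuleCat.CoextendScalars.equiv φ N g) s
    rw [← map_smul]
    change (ModuleCat.CoextendScalars.equiv φ N g) ((show A from s) * φ r) = _
    rw [mul_comm (show A from s) (φ r)]
    rfl

theorem cEquiv_apply (g : (ModuleCat.coextendScalars.{u, u, u} φ).obj N) (s : A) :
    cEquiv φ N g s = g s := rfl

end Module

open Groth.Agent.Lib.Helper25.Coext (coextCx counitCx sharp flat)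

/-- termwise restriction, as in the prelude -/
noncomputable abbrev rCx : Cx A ⥤ Cx R :=
  (ModuleCat.restrictScalars.{u} φ).mapHomologicalComplex (ComplexShape.up ℤ)

section CIso

variable (Y : Cx R)

/-- `Hom_R(A, Y)|_R ≅ HX A Y`. -/
noncomputable def cIso : (rCx φ).obj ((coextCx φ).obj Y) ≅ HX (AR φ) Y :=
  HomologicalComplex.Hom.isoOfComponents (fun n => (cEquiv φ (Y.X n)).toModuleIso)
    (fun n n' _ => by
      ext g
      rfl)

theorem cIso_hom_f_apply (n : ℤ) (g : (ModuleCat.coextendScalars.{u, u, u} φ).obj (Y.X n)) (s : A) :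
    (show AR φ →ₗ[R] Y.X n from ((cIso φ Y).hom.f n).hom g) s = g s := rfl

theorem cIso_inv_counit :
    (cIso φ Y).inv ≫ counitCx φ Y = evC (show AR φ from (1 : A)) Y := by
  ext n g
  rfl

end CIso

section PsiIso

variable (K : Cx R) (L' : Cx A)

/-- The comparison as a linear map. -/
noncomputable def PsiLin (n : ℤ) :
    (K ⊗ (rCx φ).obj L' : Cx R).X n →ₗ[R] ((rCx φ).obj (extCx φ K ⊗ L' : Cx A)).X n where
  toFun x := PsiL φ K L' n x
  map_add' x y := map_add _ x y
  map_smul' r x := PsiL_smul φ K L' n r x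

/-- The comparison as an isomorphism of complexes. -/
noncomputable def PsiIso : (K ⊗ (rCx φ).obj L' : Cx R) ≅ (rCx φ).obj (extCx φ K ⊗ L' : Cx A) :=
  HomologicalComplex.Hom.isoOfComponents
    (fun n => (LinearEquiv.ofBijective (PsiLin φ K L' n) (PsiL_bijective φ K L' n)).toModuleIso)
    (fun n n' h => by
      ext x
      exact PsiL_d φ K L' n n' h x)

theorem PsiIso_hom_f_apply (n : ℤ) (x : (K ⊗ (rCx φ).obj L' : Cx R).X n) :
    (PsiIso φ K L').hom.f n x = PsiL φ K L' n x := rfl

theorem PsiIso_hom_tm (p q n : ℤ) (h : p + q = n) (k : K.X p) (l : L'.X q) :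
    (PsiIso φ K L').hom.f n (tm K ((rCx φ).obj L') p q n h k l) =
      tm (extCx φ K) L' p q n h (etm φ (K.X p) 1 k) l :=
  PsiL_tm φ K L' p q n h k l

variable {K} in
theorem PsiIso_naturality {K' : Cx R} (g : K ⟶ K') :
    (g ▷ (rCx φ).obj L') ≫ (PsiIso φ K' L').hom =
      (PsiIso φ K L').hom ≫ (rCx φ).map
        ((((ModuleCat.extendScalars.{u, u, u} φ).mapHomologicalComplex (ComplexShape.up ℤ)).map g) ▷ L') := by
  ext n x
  induction x using tm_induction K ((rCx φ).obj L') with
  | zero => simp only [map_zero]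
  | add x y hx hy => simp only [map_add, hx, hy]
  | tm' p q h k l =>
    change (PsiIso φ K' L').hom.f n ((g ▷ (rCx φ).obj L').f n (tm K ((rCx φ).obj L') p q n h k l)) =
      ((((ModuleCat.extendScalars.{u, u, u} φ).mapHomologicalComplex (ComplexShape.up ℤ)).map g) ▷ L').f n
        ((PsiIso φ K L').hom.f n (tm K ((rCx φ).obj L') p q n h k l))
    rw [whiskerRight_tm, PsiIso_hom_tm, PsiIso_hom_tm, whiskerRight_tm]
    rfl

end PsiIso

end Groth.Agent.Lib.Helper16.DT
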