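import Groth.Agent.Lib.Helper16.DT6

/-!
# The chain-level comparison `(P ⊗_R A) ⊗_A Hom_R(A, Y) ⟶ Hom_R(A, J)` is a quasi-isomorphism
-/

set_option autoImplicit false
universe u

namespace Groth.Agent.Lib.Helper16.DT

open CategoryTheory CategoryTheory.Limits MonoidalCategory HomologicalComplex TensorProduct
open Groth.Agent.Lib.Helper25.TensorCx Groth.Agent.Lib.Helper25.KFlat
open Groth.Agent.Lib.Helper25.Coext (coextCx counitCx sharp flat)

variable {R A : Type u} [CommRing R] [CommRing A] (φ : R →+* A)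

/-- right multiplication by `a` on `A`, `R`-linear -/
noncomputable def muR (a : A) : AR φ →ₗ[R] AR φ where
  toFun s := (show AR φ from (show A from s) * a)
  map_add' s s' := add_mul (show A from s) (show A from s') a
  map_smul' r s := by
    change (φ r * (show A from s)) * a = φ r * ((show A from s) * a)
    exact mul_assoc _ _ _

theorem muR_one (a : A) : muR φ a (show AR φ from (1 : A)) = (show AR φ from a) :=
  one_mul a

section Theta

variable (P Y : Cx R)

/-- `P ⊗ HX A Y ≅ ((P ⊗_R A) ⊗_A Hom_R(A, Y))|_R`. -/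
noncomputable def Theta :
    (P ⊗ HX (AR φ) Y : Cx R) ≅ (rCx φ).obj (extCx φ P ⊗ (coextCx φ).obj Y : Cx A) :=
  (whiskerLeftIso P (cIso φ Y).symm) ≪≫ PsiIso φ P ((coextCx φ).obj Y)

/-- the evaluation `((P ⊗_R A) ⊗_A Hom_R(A, Y))|_R ⟶ P ⊗ Y` -/
noncomputable def cP : (rCx φ).obj (extCx φ P ⊗ (coextCx φ).obj Y : Cx A) ⟶ (P ⊗ Y : Cx R) :=
  (PsiIso φ P ((coextCx φ).obj Y)).inv ≫ (P ◁ counitCx φ Y)

theorem Theta_cP : (Theta φ P Y).hom ≫ cP φ P Y = P ◁ evC (show AR φ from (1 : A)) Y := by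
  unfold Theta cP
  rw [Iso.trans_hom, Category.assoc, Iso.hom_inv_id_assoc, whiskerLeftIso_hom, Iso.symm_hom,
    ← MonoidalCategory.whiskerLeft_comp, cIso_inv_counit]

theorem Theta_hom_tm (p q n : ℤ) (h : p + q = n) (k : P.X p) (f : AR φ →ₗ[R] Y.X q) :
    (Theta φ P Y).hom.f n (tm P (HX (AR φ) Y) p q n h k f) =
      tm (extCx φ P) ((coextCx φ).obj Y) p q n h (etm φ (P.X p) 1 k)
        ((cIso φ Y).inv.f q f) := by
  unfold Theta
  rw [Iso.trans_hom, whiskerLeftIso_hom, Iso.symm_hom]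
  change (PsiIso φ P ((coextCx φ).obj Y)).hom.f n
    ((P ◁ (cIso φ Y).inv).f n (tm P (HX (AR φ) Y) p q n h k f)) = _
  rw [whiskerLeft_tm]
  exact PsiIso_hom_tm φ P ((coextCx φ).obj Y) p q n h k _

theorem cIso_inv_smul (a : A) (q : ℤ) (f : AR φ →ₗ[R] Y.X q) :
    a • (show (ModuleCat.coextendScalars.{u, u, u} φ).obj (Y.X q) from (cIso φ Y).inv.f q f) =
      (cIso φ Y).inv.f q (f ∘ₗ muR φ a) := rfl

theorem Theta_smul (a : A) (n : ℤ) (t : (P ⊗ HX (AR φ) Y : Cx R).X n) :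
    a • (show (extCx φ P ⊗ (coextCx φ).obj Y : Cx A).X n from (Theta φ P Y).hom.f n t) =
      (Theta φ P Y).hom.f n ((P ◁ hPreC (muR φ a) Y).f n t) := by
  induction t using tm_induction P (HX (AR φ) Y) with
  | zero =>
    rw [map_zero, map_zero, map_zero]
    exact smul_zero (A := ((extCx φ P ⊗ (coextCx φ).obj Y : Cx A).X n)) a
  | add x y hx hy =>
    rw [map_add, map_add, map_add, ← hx, ← hy]
    exact smul_add (A := ((extCx φ P ⊗ (coextCx φ).obj Y : Cx A).X n)) a _ _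
  | tm' p q h k f =>
    rw [whiskerLeft_tm, Theta_hom_tm, Theta_hom_tm]
    change a • tm (extCx φ P) ((coextCx φ).obj Y) p q n h (etm φ (P.X p) 1 k)
      ((cIso φ Y).inv.f q f) = _
    rw [← tm_smul_right]
    rfl

end Theta

section Main

variable {P Y J : Cx R} (j : (P ⊗ Y : Cx R) ⟶ J)

theorem sharp_f_apply {M : Cx A} {J' : Cx R} (h : (rCx φ).obj M ⟶ J') (n : ℤ) (y : M.X n) (s : A) :
    (ModuleCat.CoextendScalars.equiv φ (J'.X n) ((sharp φ h).f n y)) s = h.f n (s • y) := rfl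

/-- The `A`-linear comparison map. -/
noncomputable def kappaA : (extCx φ P ⊗ (coextCx φ).obj Y : Cx A) ⟶ (coextCx φ).obj J :=
  sharp φ (cP φ P Y ≫ j)

theorem Theta_kappaA :
    (Theta φ P Y).hom ≫ (rCx φ).map (kappaA φ j) ≫ (cIso φ J).hom = kappa (AR φ) j := by
  ext n t
  refine LinearMap.ext fun s => ?_
  change (ModuleCat.CoextendScalars.equiv φ (J.X n)
    ((kappaA φ j).f n ((Theta φ P Y).hom.f n t))) (show A from s) = _
  unfold kappaA
  rw [sharp_f_apply, Theta_smul, kappa_f_apply]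
  change j.f n ((cP φ P Y).f n ((Theta φ P Y).hom.f n ((P ◁ hPreC (muR φ s) Y).f n t))) = _
  have h1 := congrArg (fun g => g.f n ((P ◁ hPreC (muR φ s) Y).f n t)) (Theta_cP φ P Y)
  have h1' : (cP φ P Y).f n ((Theta φ P Y).hom.f n ((P ◁ hPreC (muR φ s) Y).f n t)) =
      (P ◁ evC (show AR φ from (1 : A)) Y).f n ((P ◁ hPreC (muR φ s) Y).f n t) := h1
  rw [h1']
  have h2 : (P ◁ hPreC (muR φ s) Y) ≫ (P ◁ evC (show AR φ from (1 : A)) Y) = P ◁ evC s Y := by
    rw [← MonoidalCategory.whiskerLeft_comp, hPreC_evC, muR_one]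
  have h2' := congrArg (fun g => g.f n t) h2
  exact congrArg (j.f n) h2'

theorem quasiIso_kappaA (h : InC j (AR φ)) : QuasiIso (kappaA φ j) := by
  have h0 : QuasiIso (kappa (AR φ) j) := h
  rw [← Theta_kappaA φ j] at h0
  have h1 : QuasiIso ((rCx φ).map (kappaA φ j) ≫ (cIso φ J).hom) := by
    rwa [quasiIso_iff_comp_left] at h0
  have h2 : QuasiIso ((rCx φ).map (kappaA φ j)) := by
    rwa [quasiIso_iff_comp_right] at h1
  exact (quasiIso_map_iff_of_preservesHomology (kappaA φ j)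
    (ModuleCat.restrictScalars.{u} φ)).1 h2

theorem flat_kappaA : flat φ (kappaA φ j) = cP φ P Y ≫ j :=
  Groth.Agent.Lib.Helper25.Coext.flat_sharp φ _

end Main

section Nat

variable {P P' : Cx R} (g : P ⟶ P') (Y : Cx R)

theorem cP_naturality :
    (rCx φ).map ((((ModuleCat.extendScalars.{u, u, u} φ).mapHomologicalComplex
        (ComplexShape.up ℤ)).map g) ▷ (coextCx φ).obj Y) ≫ cP φ P' Y =
      cP φ P Y ≫ (g ▷ Y) := by
  unfold cP
  have h := PsiIso_naturality φ ((coextCx φ).obj Y) g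
  have h' : (rCx φ).map ((((ModuleCat.extendScalars.{u, u, u} φ).mapHomologicalComplex
        (ComplexShape.up ℤ)).map g) ▷ (coextCx φ).obj Y) ≫
        (PsiIso φ P' ((coextCx φ).obj Y)).inv =
      (PsiIso φ P ((coextCx φ).obj Y)).inv ≫ (g ▷ (rCx φ).obj ((coextCx φ).obj Y)) := by
    rw [Iso.comp_inv_eq, Category.assoc, Iso.eq_inv_comp]
    exact h.symm
  rw [← Category.assoc, h', Category.assoc, Category.assoc, MonoidalCategory.whisker_exchange]

end Nat

end Groth.Agent.Lib.Helper16.DT
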