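import Groth.Agent.Lib.Helper15.KProjRes
import Mathlib.Algebra.Homology.DerivedCategory.KProjective

/-!
# Natural transformations between functors on `D(R)` from data on good K-projective complexes
-/

set_option autoImplicit false
universe u

namespace Groth.Agent.Lib.Helper16.DT

open CategoryTheory CategoryTheory.Limits DerivedCategory
open Groth.Agent.Lib.Helper25.TensorCx Groth.Agent.Lib.Helper25.KFlat

attribute [local instance] HasDerivedCategory.standard

variable {R : Type u} [CommRing R]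

/-- K-projective, K-flat, termwise flat complexes. -/
structure Good (P : Cx R) : Prop where
  kproj : CochainComplex.IsKProjective P
  kflat : IsKFlat P
  flat : ∀ i, Module.Flat R (P.X i)

theorem exists_good (K : DerivedCategory (ModuleCat.{u} R)) :
    ∃ P : Cx R, Good P ∧ Nonempty (Q.obj P ≅ K) := by
  obtain ⟨P, π, hP, hπ, hPf, hfl, -⟩ :=
    Groth.Agent.Lib.Helper15.KProjRes.exists_kprojective_resolution (Q.objPreimage K)
  have : IsIso (Q.map π) := by rw [isIso_Q_map_iff_quasiIso]; exact hπ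
  exact ⟨P, ⟨hP, hPf, hfl⟩, ⟨asIso (Q.map π) ≪≫ Q.objObjPreimageIso K⟩⟩

theorem exists_Qmap_eq_of_isKProjective {P P' : Cx R} [CochainComplex.IsKProjective P]
    (f : Q.obj P ⟶ Q.obj P') : ∃ g : P ⟶ P', Q.map g = f := by
  obtain ⟨f', hf'⟩ := (CochainComplex.IsKProjective.Qh_map_bijective P
    ((HomotopyCategory.quotient _ _).obj P')).surjective f
  obtain ⟨g, rfl⟩ := (HomotopyCategory.quotient _ _).map_surjective f'
  exact ⟨g, hf'⟩

/-- a chosen good representative -/
noncomputable def rep (K : DerivedCategory (ModuleCat.{u} R)) : Cx R := (exists_good K).choose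

theorem good_rep (K : DerivedCategory (ModuleCat.{u} R)) : Good (rep K) :=
  (exists_good K).choose_spec.1

/-- the chosen isomorphism -/
noncomputable def repIso (K : DerivedCategory (ModuleCat.{u} R)) : Q.obj (rep K) ≅ K :=
  (exists_good K).choose_spec.2.some

section NatTrans

variable {H : Type*} [Category H] (Φ Ψ : DerivedCategory (ModuleCat.{u} R) ⥤ H)
  (τ₀ : ∀ (P : Cx R), Good P → (Φ.obj (Q.obj P) ⟶ Ψ.obj (Q.obj P)))
  (nat : ∀ (P P' : Cx R) (hP : Good P) (hP' : Good P') (g : P ⟶ P'),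
    Φ.map (Q.map g) ≫ τ₀ P' hP' = τ₀ P hP ≫ Ψ.map (Q.map g))

/-- The natural transformation determined by its values on good complexes. -/
noncomputable def natTransOfGood : Φ ⟶ Ψ where
  app K := Φ.map (repIso K).inv ≫ τ₀ (rep K) (good_rep K) ≫ Ψ.map (repIso K).hom
  naturality K K' f := by
    have := (good_rep K).kproj
    obtain ⟨g, hg⟩ := exists_Qmap_eq_of_isKProjective
      ((repIso K).hom ≫ f ≫ (repIso K').inv)
    have h1 := nat (rep K) (rep K') (good_rep K) (good_rep K') g
    rw [hg] at h1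
    have e1 : Φ.map f ≫ Φ.map (repIso K').inv =
        Φ.map (repIso K).inv ≫ Φ.map ((repIso K).hom ≫ f ≫ (repIso K').inv) := by
      rw [← Φ.map_comp, ← Φ.map_comp, Iso.inv_hom_id_assoc]
    have e2 : Ψ.map ((repIso K).hom ≫ f ≫ (repIso K').inv) ≫ Ψ.map (repIso K').hom =
        Ψ.map (repIso K).hom ≫ Ψ.map f := by
      rw [← Ψ.map_comp, ← Ψ.map_comp, Category.assoc, Category.assoc, Iso.inv_hom_id,
        Category.comp_id]
    calc Φ.map f ≫ Φ.map (repIso K').inv ≫ τ₀ (rep K') (good_rep K') ≫ Ψ.map (repIso K').hom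
        = (Φ.map f ≫ Φ.map (repIso K').inv) ≫ τ₀ (rep K') (good_rep K') ≫
            Ψ.map (repIso K').hom := by rw [Category.assoc]
      _ = Φ.map (repIso K).inv ≫ (Φ.map ((repIso K).hom ≫ f ≫ (repIso K').inv) ≫
            τ₀ (rep K') (good_rep K')) ≫ Ψ.map (repIso K').hom := by
          rw [e1]; simp only [Category.assoc]
      _ = Φ.map (repIso K).inv ≫ (τ₀ (rep K) (good_rep K) ≫
            Ψ.map ((repIso K).hom ≫ f ≫ (repIso K').inv)) ≫ Ψ.map (repIso K').hom := by
          rw [h1]
      _ = Φ.map (repIso K).inv ≫ τ₀ (rep K) (good_rep K) ≫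
            (Ψ.map ((repIso K).hom ≫ f ≫ (repIso K').inv) ≫ Ψ.map (repIso K').hom) := by
          simp only [Category.assoc]
      _ = (Φ.map (repIso K).inv ≫ τ₀ (rep K) (good_rep K) ≫ Ψ.map (repIso K).hom) ≫
            Ψ.map f := by
          rw [e2]; simp only [Category.assoc]

include nat in
theorem natTransOfGood_app (P : Cx R) (hP : Good P) :
    (natTransOfGood Φ Ψ τ₀ nat).app (Q.obj P) = τ₀ P hP := by
  have := (good_rep (Q.obj P)).kproj
  obtain ⟨g, hg⟩ := exists_Qmap_eq_of_isKProjective (repIso (Q.obj P)).hom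
  have h1 := nat (rep (Q.obj P)) P (good_rep (Q.obj P)) hP g
  rw [hg] at h1
  change Φ.map (repIso (Q.obj P)).inv ≫ τ₀ (rep (Q.obj P)) (good_rep (Q.obj P)) ≫
    Ψ.map (repIso (Q.obj P)).hom = τ₀ P hP
  rw [← h1, ← Φ.map_comp_assoc, Iso.inv_hom_id, Φ.map_id, Category.id_comp]

end NatTrans

end Groth.Agent.Lib.Helper16.DT
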