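import Groth.Agent.Lib.Helper16.DT7
import Groth.Agent.Lib.Helper16.DT8
import Groth.Agent.Lib.Helper25.Coext.Repr
import Groth.Agent.Lib.Helper25.LTenMixCompute
import Groth.Prelude.Def_DTen4

/-!
# The natural transformation `- ⊗^L_R RHom(A, R) ⟶ RHom(A, -)`
-/

set_option autoImplicit false
universe u

namespace Groth.Agent.Lib.Helper16.DT

open CategoryTheory CategoryTheory.Limits MonoidalCategory DerivedCategory
open Groth.Agent.Lib.Helper25.TensorCx Groth.Agent.Lib.Helper25.KFlat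
open Groth.Agent.Lib.Helper25.Coext (coextCx counitCx sharp flat theta eMap resFac)

attribute [local instance] HasDerivedCategory.standard

variable {R A : Type u} [CommRing R] [CommRing A] (φ : R →+* A)
  [DTen.HasRHomRel φ] [DTen.HasLTenMix φ]

variable (Y : Cx R) [Y.IsKInjective] (ι : 𝟙_ (Cx R) ⟶ Y) [QuasiIso ι]

/-- `M₀ = Hom_R(A, Y)` -/
noncomputable abbrev M0 : Cx A := (coextCx φ).obj Y

instance isIso_Q_map_of_quasiIso {K L : Cx R} (f : K ⟶ L) [QuasiIso f] : IsIso (Q.map f) := by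
  rw [isIso_Q_map_iff_quasiIso]
  infer_instance

/-- `Q M₀ ≅ RHom(A, R)` -/
noncomputable def mIso : Q.obj (M0 φ Y) ≅ (DTen.RHomRel φ).obj (DTen.unit R) :=
  asIso (theta φ Y (DTen.relAdj φ)) ≪≫ (DTen.RHomRel φ).mapIso (asIso (Q.map ι)).symm

/-- The functor `K ↦ K ⊗^L_R RHom(A, R)`. -/
noncomputable abbrev FF : Dual.D R ⥤ Dual.D A :=
  (Functor.curry.obj (DTen.LTenMix φ)).flip.obj ((DTen.RHomRel φ).obj (DTen.unit R))

theorem FF_map {K K' : Dual.D R} (f : K ⟶ K') :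
    (FF φ).map f = (DTen.LTenMix φ).map (Prod.mkHom f (𝟙 _)) := rfl

/-- `F(QP) ⟶ Q((P ⊗_R A) ⊗_A M₀)` -/
noncomputable def FPhom (P : Cx R) :
    (FF φ).obj (Q.obj P) ⟶ Q.obj ((DTen.mixT φ).obj (P, M0 φ Y)) :=
  (DTen.LTenMix φ).map (Prod.mkHom (𝟙 (Q.obj P)) (mIso φ Y ι).inv) ≫
    (DTen.εMix φ).app (P, M0 φ Y)

theorem isIso_FPhom (P : Cx R) (hP : IsKFlat P) : IsIso (FPhom φ Y ι P) := by
  have h1 : IsIso ((DTen.εMix φ).app (P, M0 φ Y)) :=
    Groth.Agent.Lib.Helper25.LTenMixCompute.isIso_εMix_app_of_isKFlat_left φ P (M0 φ Y) hP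
  have h2 : IsIso (Prod.mkHom (𝟙 (Q.obj P)) (mIso φ Y ι).inv :
      ((Q.obj P, (DTen.RHomRel φ).obj (DTen.unit R)) : Dual.D R × Dual.D A) ⟶
        (Q.obj P, Q.obj (M0 φ Y))) :=
    (isIso_prod_iff (f := (Prod.mkHom (𝟙 (Q.obj P)) (mIso φ Y ι).inv :
      ((Q.obj P, (DTen.RHomRel φ).obj (DTen.unit R)) : Dual.D R × Dual.D A) ⟶
        (Q.obj P, Q.obj (M0 φ Y))))).2 ⟨by dsimp [Prod.mkHom]; infer_instance,
          by dsimp [Prod.mkHom]; infer_instance⟩
  unfold FPhom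
  infer_instance

theorem FPhom_naturality {P P' : Cx R} (g : P ⟶ P') :
    (FF φ).map (Q.map g) ≫ FPhom φ Y ι P' =
      FPhom φ Y ι P ≫ Q.map ((DTen.mixT φ).map (Prod.mkHom g (𝟙 (M0 φ Y)))) := by
  unfold FPhom
  have e1 : (FF φ).map (Q.map g) ≫
      (DTen.LTenMix φ).map (Prod.mkHom (𝟙 (Q.obj P')) (mIso φ Y ι).inv) =
      (DTen.LTenMix φ).map (Prod.mkHom (𝟙 (Q.obj P)) (mIso φ Y ι).inv) ≫
        (DTen.QMix R A ⋙ DTen.LTenMix φ).map (Prod.mkHom g (𝟙 (M0 φ Y))) := by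
    rw [FF_map]
    dsimp only [Functor.comp_map]
    rw [← Functor.map_comp, ← Functor.map_comp]
    congr 1
    refine Prod.ext ?_ ?_
    · dsimp [Prod.mkHom]
      simp
    · dsimp [Prod.mkHom]
      simp
  have e2 := (DTen.εMix φ).naturality (Prod.mkHom g (𝟙 (M0 φ Y)) : (P, M0 φ Y) ⟶ (P', M0 φ Y))
  rw [← Category.assoc, e1, Category.assoc, e2, Category.assoc]
  rfl

/-- `P ⟶ P ⊗ Y` -/
noncomputable def iP (P : Cx R) : P ⟶ (P ⊗ Y : Cx R) := (ρ_ P).inv ≫ (P ◁ ι)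

theorem quasiIso_iP (P : Cx R) (hP : IsKFlat P) : QuasiIso (iP Y ι P) := by
  have : QuasiIso (P ◁ ι) := quasiIso_whiskerLeft_of_isKFlat P hP ι inferInstance
  unfold iP
  infer_instance

theorem iP_naturality {P P' : Cx R} (g : P ⟶ P') : g ≫ iP Y ι P' = iP Y ι P ≫ (g ▷ Y) := by
  unfold iP
  rw [← Category.assoc, MonoidalCategory.rightUnitor_inv_naturality, Category.assoc,
    Category.assoc, MonoidalCategory.whisker_exchange]

/-- `Q P ≅ Q (P ⊗ Y)` -/
noncomputable def iPIso (P : Cx R) (hP : IsKFlat P) : Q.obj P ≅ Q.obj (P ⊗ Y : Cx R) :=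
  haveI := quasiIso_iP Y ι P hP
  asIso (Q.map (iP Y ι P))

theorem iPIso_hom (P : Cx R) (hP : IsKFlat P) : (iPIso Y ι P hP).hom = Q.map (iP Y ι P) := rfl

/-- The counit-type map on good complexes. -/
noncomputable def eps0 (P : Cx R) (hP : Good P) :
    (FF φ ⋙ DRing.restrictD φ).obj (Q.obj P) ⟶ (𝟭 (Dual.D R)).obj (Q.obj P) :=
  (DRing.restrictD φ).map (FPhom φ Y ι P) ≫
    (resFac φ).hom.app ((DTen.mixT φ).obj (P, M0 φ Y)) ≫ Q.map (cP φ P Y) ≫
      (iPIso Y ι P hP.kflat).inv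

theorem mixT_map {P P' : Cx R} (g : P ⟶ P') :
    (DTen.mixT φ).map (Prod.mkHom g (𝟙 (M0 φ Y))) =
      (((ModuleCat.extendScalars.{u, u, u} φ).mapHomologicalComplex (ComplexShape.up ℤ)).map g) ▷
        (M0 φ Y) := by
  dsimp [DTen.mixT, DTen.tensorT, Prod.mkHom]
  simp

theorem eps0_naturality (P P' : Cx R) (hP : Good P) (hP' : Good P') (g : P ⟶ P') :
    (FF φ ⋙ DRing.restrictD φ).map (Q.map g) ≫ eps0 φ Y ι P' hP' =
      eps0 φ Y ι P hP ≫ (𝟭 (Dual.D R)).map (Q.map g) := by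
  unfold eps0
  dsimp only [Functor.comp_map, Functor.id_map]
  have e1 := FPhom_naturality φ Y ι g
  have e2 : (DRing.restrictD φ).map (Q.map ((DTen.mixT φ).map (Prod.mkHom g (𝟙 (M0 φ Y))))) ≫
      (resFac φ).hom.app ((DTen.mixT φ).obj (P', M0 φ Y)) =
      (resFac φ).hom.app ((DTen.mixT φ).obj (P, M0 φ Y)) ≫
        Q.map ((rCx φ).map ((DTen.mixT φ).map (Prod.mkHom g (𝟙 (M0 φ Y))))) :=
    (resFac φ).hom.naturality ((DTen.mixT φ).map (Prod.mkHom g (𝟙 (M0 φ Y))))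
  have e3 := cP_naturality φ g Y
  have e4 : Q.map (g ▷ Y) ≫ (iPIso Y ι P' hP'.kflat).inv =
      (iPIso Y ι P hP.kflat).inv ≫ Q.map g := by
    rw [Iso.comp_inv_eq, Category.assoc, Iso.eq_inv_comp, iPIso_hom, iPIso_hom,
      ← Functor.map_comp, ← Functor.map_comp, iP_naturality]
  rw [← Category.assoc, ← Functor.map_comp, e1, Functor.map_comp, Category.assoc,
    ← Category.assoc ((DRing.restrictD φ).map (Q.map _)), e2, Category.assoc,
    ← Category.assoc (Q.map _) (Q.map (cP φ P' Y)), ← Functor.map_comp, mixT_map, e3,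
    Functor.map_comp, Category.assoc, e4]
  simp only [Category.assoc]

/-- The natural transformation `F ⋙ res ⟶ 𝟭`. -/
noncomputable def epsNat : FF φ ⋙ DRing.restrictD φ ⟶ 𝟭 (Dual.D R) :=
  natTransOfGood _ _ (eps0 φ Y ι) (eps0_naturality φ Y ι)

theorem epsNat_app (P : Cx R) (hP : Good P) :
    (epsNat φ Y ι).app (Q.obj P) = eps0 φ Y ι P hP :=
  natTransOfGood_app _ _ (eps0 φ Y ι) (eps0_naturality φ Y ι) P hP

/-- The comparison `F ⟶ RHom(A, -)`. -/
noncomputable def tauNat : FF φ ⟶ DTen.RHomRel φ where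
  app K := (DTen.relAdj φ).unit.app ((FF φ).obj K) ≫
    (DTen.RHomRel φ).map ((epsNat φ Y ι).app K)
  naturality K K' f := by
    have h1 := (DTen.relAdj φ).unit.naturality ((FF φ).map f)
    have h2 := (epsNat φ Y ι).naturality f
    dsimp only [Functor.id_map, Functor.comp_map, Functor.id_obj, Functor.comp_obj] at h1 h2
    rw [← Category.assoc, h1, Category.assoc, Category.assoc, ← Functor.map_comp,
      ← Functor.map_comp, h2]

theorem res_tauNat_counit (K : Dual.D R) :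
    (DRing.restrictD φ).map ((tauNat φ Y ι).app K) ≫ (DTen.relAdj φ).counit.app K =
      (epsNat φ Y ι).app K := by
  change (DRing.restrictD φ).map ((DTen.relAdj φ).unit.app ((FF φ).obj K) ≫
    (DTen.RHomRel φ).map ((epsNat φ Y ι).app K)) ≫ (DTen.relAdj φ).counit.app K = _
  have h := (DTen.relAdj φ).counit.naturality ((epsNat φ Y ι).app K)
  dsimp only [Functor.id_map, Functor.comp_map, Functor.id_obj, Functor.comp_obj] at h
  rw [Functor.map_comp, Category.assoc, h]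
  exact (DTen.relAdj φ).left_triangle_components_assoc _ _

end Groth.Agent.Lib.Helper16.DT
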