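import Groth.Agent.Lib.Helper16.Kun1

/-! Künneth map: naturality in the second variable; elementwise criteria. -/

set_option autoImplicit false
universe u

namespace Groth.Agent.Lib.Helper16.Kun

open CategoryTheory CategoryTheory.Limits MonoidalCategory HomologicalComplex TensorProduct
open Groth.Agent.Lib.Helper25.TensorCx

variable {R : Type u} [CommRing R]

section Elements2

variable (K : Cx R)

theorem exact_iCycles_d (i j : ℤ) (hij : i + 1 = j) :
    Function.Exact (K.iCycles i).hom (K.d i j).hom := by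
  have hnext : (ComplexShape.up ℤ).next i = j := by
    rw [CochainComplex.next]; omega
  have hex : (ShortComplex.mk (K.iCycles i) (K.d i j) (K.iCycles_d i j)).Exact :=
    ShortComplex.exact_of_f_is_kernel _ (K.cyclesIsKernel i j hnext)
  exact (ShortComplex.ShortExact.moduleCat_exact_iff_function_exact _).1 hex

theorem exists_cycle (i j : ℤ) (hij : i + 1 = j) (x : K.X i) (hx : K.d i j x = 0) :
    ∃ z : K.cycles i, K.iCycles i z = x :=
  ((exact_iCycles_d K i j hij) x).1 hx

variable {K} {K' : Cx R} (φ : K ⟶ K')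

theorem cyclesMap_i_apply (i : ℤ) (z : K.cycles i) :
    K'.iCycles i (cyclesMap φ i z) = φ.f i (K.iCycles i z) := by
  have := congrArg (fun f => f z) (congrArg ModuleCat.Hom.hom (cyclesMap_i φ i))
  exact this

theorem homologyMap_homologyπ_apply (i : ℤ) (z : K.cycles i) :
    homologyMap φ i (K.homologyπ i z) = K'.homologyπ i (cyclesMap φ i z) := by
  have := congrArg (fun f => f z) (congrArg ModuleCat.Hom.hom (homologyπ_naturality φ i))
  exact this

theorem hom_comm_apply' (i j : ℤ) (x : K.X i) : φ.f j (K.d i j x) = K'.d i j (φ.f i x) := by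
  have := congrArg (fun f => f x) (congrArg ModuleCat.Hom.hom (φ.comm i j))
  exact this.symm

/-- Elementwise criterion for surjectivity on homology. -/
theorem homologyMap_surjective_of (j₀ j j₁ : ℤ) (h0 : j₀ + 1 = j) (h1 : j + 1 = j₁)
    (H : ∀ x : K'.X j, K'.d j j₁ x = 0 → ∃ y : K.X j, K.d j j₁ y = 0 ∧
      ∃ u : K'.X j₀, φ.f j y - x = K'.d j₀ j u) :
    Function.Surjective (homologyMap φ j) := by
  intro c
  obtain ⟨w, rfl⟩ := homologyπ_surjective K' j c
  obtain ⟨y, hy, u, hu⟩ := H (K'.iCycles j w) (iCycles_d_apply K' j j₁ w)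
  obtain ⟨z, hz⟩ := exists_cycle K j j₁ h1 y hy
  refine ⟨K.homologyπ j z, ?_⟩
  rw [homologyMap_homologyπ_apply]
  have : cyclesMap φ j z = w + K'.toCycles j₀ j u := by
    apply iCycles_injective
    rw [cyclesMap_i_apply, hz, map_add, toCycles_i_apply, ← hu]
    abel
  rw [this, map_add, homologyπ_toCycles_apply, add_zero]

/-- Elementwise criterion for injectivity on homology. -/
theorem homologyMap_injective_of (j₀ j j₁ : ℤ) (h0 : j₀ + 1 = j) (h1 : j + 1 = j₁)
    (H : ∀ y : K.X j, K.d j j₁ y = 0 → (∃ u : K'.X j₀, φ.f j y = K'.d j₀ j u) →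
      ∃ v : K.X j₀, y = K.d j₀ j v) :
    Function.Injective (homologyMap φ j) := by
  rw [injective_iff_map_eq_zero]
  intro c hc
  obtain ⟨z, rfl⟩ := homologyπ_surjective K j c
  rw [homologyMap_homologyπ_apply] at hc
  obtain ⟨u, hu⟩ := exists_toCycles_of_homologyπ_eq_zero K' j₀ j h0 _ hc
  have hu' : φ.f j (K.iCycles j z) = K'.d j₀ j u := by
    rw [← cyclesMap_i_apply, ← hu, toCycles_i_apply]
  obtain ⟨v, hv⟩ := H (K.iCycles j z) (iCycles_d_apply K j j₁ z) ⟨u, hu'⟩
  have : z = K.toCycles j₀ j v := by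
    apply iCycles_injective
    rw [toCycles_i_apply, hv]
  rw [this, homologyπ_toCycles_apply]

end Elements2

section Natural

variable (L : Cx R) {K K' : Cx R} (g : K ⟶ K')

/-- The map induced on Künneth sums. -/
noncomputable def ksMap (n : ℤ) : HTor.KunnethSum L K n →ₗ[R] HTor.KunnethSum L K' n :=
  DirectSum.lmap (fun ij : HTor.Antidiag n =>
    LinearMap.lTensor (L.homology ij.1.1) (homologyMap g ij.1.2).hom)

theorem ksMap_lof (n : ℤ) (ij : HTor.Antidiag n)
    (t : TensorProduct R (L.homology ij.1.1) (K.homology ij.1.2)) :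
    ksMap L g n (DirectSum.lof R (HTor.Antidiag n) _ ij t) =
      DirectSum.lof R (HTor.Antidiag n) _ ij
        (LinearMap.lTensor (L.homology ij.1.1) (homologyMap g ij.1.2).hom t) := by
  unfold ksMap
  rw [DirectSum.lmap_lof]

theorem cyclesMap_whiskerLeft_kap (i j n : ℤ) (h : i + j = n) (z : L.cycles i) (z' : K.cycles j) :
    cyclesMap (L ◁ g) n (kap L K i j n h (z ⊗ₜ[R] z')) =
      kap L K' i j n h (z ⊗ₜ[R] cyclesMap g j z') := by
  apply iCycles_injective
  rw [cyclesMap_i_apply, iCycles_kap, iCycles_kap, whiskerLeft_tm, cyclesMap_i_apply]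

theorem phi_natural (n : ℤ) :
    (homologyMap (L ◁ g) n).hom ∘ₗ phi L K n = phi L K' n ∘ₗ ksMap L g n := by
  apply kunneth_ext
  intro ij z z'
  rw [LinearMap.comp_apply, LinearMap.comp_apply, phi_lof_tmul, ksMap_lof,
    LinearMap.lTensor_tmul]
  have h1 : (homologyMap g ij.1.2).hom (K.homologyπ ij.1.2 z') =
      K'.homologyπ ij.1.2 (cyclesMap g ij.1.2 z') := homologyMap_homologyπ_apply g ij.1.2 z'
  rw [h1, phi_lof_tmul]
  have h2 := homologyMap_homologyπ_apply (L ◁ g) n (kap L K ij.1.1 ij.1.2 n ij.2 (z ⊗ₜ[R] z'))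
  rw [cyclesMap_whiskerLeft_kap] at h2
  exact h2

theorem phi_natural_apply (n : ℤ) (x : HTor.KunnethSum L K n) :
    homologyMap (L ◁ g) n (phi L K n x) = phi L K' n (ksMap L g n x) :=
  LinearMap.congr_fun (phi_natural L g n) x

theorem ksMap_surjective (n : ℤ) (hg : ∀ j, Function.Surjective (homologyMap g j)) :
    Function.Surjective (ksMap L g n) := by
  unfold ksMap
  rw [DirectSum.lmap_surjective]
  intro ij
  exact LinearMap.lTensor_surjective _ (hg ij.1.2)

theorem ksMap_injective (n : ℤ) (hL : ∀ i, Module.Flat R (L.homology i))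
    (hg : ∀ j, Function.Injective (homologyMap g j)) :
    Function.Injective (ksMap L g n) := by
  unfold ksMap
  rw [DirectSum.lmap_injective]
  intro ij
  have := hL ij.1.1
  exact Module.Flat.lTensor_preserves_injective_linearMap _ (hg ij.1.2)

theorem ksMap_bijective (n : ℤ) (hg : ∀ j, Function.Bijective (homologyMap g j)) :
    Function.Bijective (ksMap L g n) := by
  refine ⟨?_, ksMap_surjective L g n (fun j => (hg j).2)⟩
  unfold ksMap
  rw [DirectSum.lmap_injective]
  intro ij
  let e : K.homology ij.1.2 ≃ₗ[R] K'.homology ij.1.2 :=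
    LinearEquiv.ofBijective (homologyMap g ij.1.2).hom (hg ij.1.2)
  have : LinearMap.lTensor (L.homology ij.1.1) (homologyMap g ij.1.2).hom =
      (LinearEquiv.lTensor (L.homology ij.1.1) e).toLinearMap := rfl
  rw [this]
  exact (LinearEquiv.lTensor (L.homology ij.1.1) e).injective

theorem ksMap_comp {K'' : Cx R} (g' : K' ⟶ K'') (n : ℤ) (x : HTor.KunnethSum L K n) :
    ksMap L (g ≫ g') n x = ksMap L g' n (ksMap L g n x) := by
  have : ksMap L (g ≫ g') n = ksMap L g' n ∘ₗ ksMap L g n := by
    apply DirectSum.linearMap_ext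
    intro ij
    apply LinearMap.ext
    intro t
    rw [LinearMap.comp_apply, LinearMap.comp_apply, LinearMap.comp_apply, ksMap_lof, ksMap_lof,
      ksMap_lof]
    congr 1
    rw [homologyMap_comp, ModuleCat.hom_comp, LinearMap.lTensor_comp]
    rfl
  exact LinearMap.congr_fun this x

theorem ksMap_zero (n : ℤ) (x : HTor.KunnethSum L K n) :
    ksMap L (0 : K ⟶ K') n x = 0 := by
  have : ksMap L (0 : K ⟶ K') n = 0 := by
    apply DirectSum.linearMap_ext
    intro ij
    apply LinearMap.ext
    intro t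
    rw [LinearMap.comp_apply, ksMap_lof, homologyMap_zero]
    simp
  rw [this]
  rfl

end Natural

end Groth.Agent.Lib.Helper16.Kun
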