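import Groth.Agent.Lib.Helper16.DT12
import Groth.Agent.Lib.Helper25.QisElem2
import Groth.Agent.Lib.Helper16.Kun2

/-!
# Elementwise facts on a resolution `R[0] → Y`, and an algebraic correspondence lemma
-/

set_option autoImplicit false
universe u

namespace Groth.Agent.Lib.Helper16.DU

open CategoryTheory CategoryTheory.Limits MonoidalCategory HomologicalComplex
open Groth.Agent.Lib.Helper25.TensorCx Groth.Agent.Lib.Helper25.KFlat

section Corr

/-- Two surjections from a common source with the same kernel have isomorphic targets;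
semilinear version along a surjective ring map. -/
theorem nonempty_linearEquiv_of_correspondence {R A W E H : Type*} [CommRing R] [CommRing A]
    (φ : R →+* A) (hφ : Function.Surjective φ)
    [AddCommGroup W] [Module R W] [AddCommGroup E] [Module A E] [AddCommGroup H] [Module A H]
    (π₁ : W →+ E) (π₂ : W →+ H)
    (h₁ : ∀ (r : R) (t : W), π₁ (r • t) = φ r • π₁ t)
    (h₂ : ∀ (r : R) (t : W), π₂ (r • t) = φ r • π₂ t)
    (s₁ : Function.Surjective π₁) (s₂ : Function.Surjective π₂)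
    (h : ∀ t, π₁ t = 0 ↔ π₂ t = 0) : Nonempty (E ≃ₗ[A] H) := by
  classical
  have key : ∀ t t', π₁ t = π₁ t' → π₂ t = π₂ t' := fun t t' e => by
    have h0 : π₁ (t - t') = 0 := by rw [map_sub, e, sub_self]
    have h1 := (h _).1 h0
    rwa [map_sub, sub_eq_zero] at h1
  let f : E → H := fun e => π₂ (Function.surjInv s₁ e)
  have hf : ∀ t, f (π₁ t) = π₂ t := fun t => key _ _ (Function.surjInv_eq s₁ _)
  refine ⟨LinearEquiv.ofBijective { toFun := f, map_add' := ?_, map_smul' := ?_ } ⟨?_, ?_⟩⟩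
  · intro a b
    obtain ⟨t, rfl⟩ := s₁ a
    obtain ⟨t', rfl⟩ := s₁ b
    rw [← map_add, hf, hf, hf, map_add]
  · intro a b
    obtain ⟨r, rfl⟩ := hφ a
    obtain ⟨t, rfl⟩ := s₁ b
    rw [← h₁, hf, hf, h₂]
    rfl
  · intro a b hab
    obtain ⟨t, rfl⟩ := s₁ a
    obtain ⟨t', rfl⟩ := s₁ b
    change f _ = f _ at hab
    rw [hf, hf] at hab
    have h0 : π₂ (t - t') = 0 := by rw [map_sub, hab, sub_self]
    have h1 := (h _).2 h0
    rwa [map_sub, sub_eq_zero] at h1
  · intro z
    obtain ⟨t, rfl⟩ := s₂ z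
    exact ⟨π₁ t, hf t⟩

end Corr

variable {R : Type u} [CommRing R]

/-- Extending a linear map from an ideal to an injective module. -/
theorem exists_smul_eq_of_injective (I : Ideal R) {M : ModuleCat.{u} R} (hM : Injective M)
    (h : I →ₗ[R] M) : ∃ v : M, ∀ x : I, (x : R) • v = h x := by
  have : Module.Injective R M := Module.injective_module_of_injective_object R M
  obtain ⟨h', hh'⟩ := Module.Injective.out I.subtype Subtype.val_injective h
  refine ⟨h' 1, fun x => ?_⟩
  rw [← map_smul, ← hh' x]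
  congr 1
  exact mul_one _

section Unit

variable (Y : Cx R) (ι : 𝟙_ (Cx R) ⟶ Y)

/-- the generator of the unit complex in degree `0` -/
noncomputable def one0 : (𝟙_ (Cx R) : Cx R).X 0 :=
  (HomologicalComplex.singleObjXSelf (ComplexShape.up ℤ) 0 (𝟙_ (ModuleCat.{u} R))).inv (1 : R)

/-- the class `u = ι(1)` -/
noncomputable def uEl : Y.X 0 := ι.f 0 (one0 (R := R))

theorem unit_d_apply (i j : ℤ) (x : (𝟙_ (Cx R) : Cx R).X i) :
    (𝟙_ (Cx R) : Cx R).d i j x = 0 := by
  have : (𝟙_ (Cx R) : Cx R).d i j = 0 := HomologicalComplex.single_obj_d _ _ _ _ _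
  rw [this]
  rfl

theorem unit_eq_zero (i : ℤ) (hi : i ≠ 0) (x : (𝟙_ (Cx R) : Cx R).X i) : x = 0 := by
  have hz : IsZero ((𝟙_ (Cx R) : Cx R).X i) :=
    HomologicalComplex.isZero_single_obj_X (ComplexShape.up ℤ) 0 _ i hi
  have := ModuleCat.subsingleton_of_isZero hz
  exact Subsingleton.elim _ _

theorem unit_eq_smul (x : (𝟙_ (Cx R) : Cx R).X 0) : ∃ r : R, x = r • one0 (R := R) := by
  refine ⟨(HomologicalComplex.singleObjXSelf (ComplexShape.up ℤ) 0 (𝟙_ (ModuleCat.{u} R))).hom x, ?_⟩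
  unfold one0
  rw [← map_smul]
  have h1 : ((HomologicalComplex.singleObjXSelf (ComplexShape.up ℤ) 0 (𝟙_ (ModuleCat.{u} R))).hom x) •
      (1 : R) = (HomologicalComplex.singleObjXSelf (ComplexShape.up ℤ) 0
        (𝟙_ (ModuleCat.{u} R))).hom x := mul_one _
  rw [h1]
  have := congrArg (fun f => f x) (congrArg ModuleCat.Hom.hom
    (HomologicalComplex.singleObjXSelf (ComplexShape.up ℤ) 0 (𝟙_ (ModuleCat.{u} R))).hom_inv_id)
  exact this.symm

theorem smul_one0_eq_zero (r : R) (h : r • one0 (R := R) = 0) : r = 0 := by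
  have := congrArg
    (HomologicalComplex.singleObjXSelf (ComplexShape.up ℤ) 0 (𝟙_ (ModuleCat.{u} R))).hom h
  rw [map_smul, map_zero] at this
  unfold one0 at this
  have h2 := congrArg (fun f => f (1 : R)) (congrArg ModuleCat.Hom.hom
    (HomologicalComplex.singleObjXSelf (ComplexShape.up ℤ) 0 (𝟙_ (ModuleCat.{u} R))).inv_hom_id)
  change (HomologicalComplex.singleObjXSelf (ComplexShape.up ℤ) 0 (𝟙_ (ModuleCat.{u} R))).hom
    ((HomologicalComplex.singleObjXSelf (ComplexShape.up ℤ) 0 (𝟙_ (ModuleCat.{u} R))).inv (1 : R)) =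
      (1 : R) at h2
  rw [h2] at this
  have h3 : r • (1 : R) = r := mul_one r
  rw [← h3]
  exact this

theorem d_uEl : Y.d 0 1 (uEl Y ι) = 0 := by
  unfold uEl
  have := Groth.Agent.Lib.Helper16.Kun.hom_comm_apply' ι 0 1 (one0 (R := R))
  rw [← this, unit_d_apply, map_zero]

variable [QuasiIso ι]

include ι in
/-- `Y` is exact away from degree `0`. -/
theorem exists_d_eq (n m k : ℤ) (hnm : n + 1 = m) (hmk : m + 1 = k) (hm : m ≠ 0)
    (y : Y.X m) (hy : Y.d m k y = 0) : ∃ w : Y.X n, Y.d n m w = y := by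
  obtain ⟨x, w, -, hw⟩ := Groth.Agent.Lib.Helper25.QisElem.surj_of_quasiIso ι n m k hnm hmk y hy
  refine ⟨w, ?_⟩
  rw [← hw, unit_eq_zero m hm x, map_zero, sub_zero]

/-- `H^0(Y)` is generated by `u`. -/
theorem exists_eq_smul_add (y : Y.X 0) (hy : Y.d 0 1 y = 0) :
    ∃ (r : R) (w : Y.X (-1)), y = r • uEl Y ι + Y.d (-1) 0 w := by
  obtain ⟨x, w, -, hw⟩ := Groth.Agent.Lib.Helper25.QisElem.surj_of_quasiIso ι (-1) 0 1
    (by norm_num) (by norm_num) y hy
  obtain ⟨r, rfl⟩ := unit_eq_smul x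
  refine ⟨r, w, ?_⟩
  rw [← hw, map_smul]
  unfold uEl
  abel

/-- `u` is torsion-free modulo boundaries. -/
theorem eq_zero_of_smul_uEl (r : R) (w : Y.X (-1)) (h : r • uEl Y ι = Y.d (-1) 0 w) : r = 0 := by
  obtain ⟨w', hw'⟩ := Groth.Agent.Lib.Helper25.QisElem.inj_of_quasiIso ι (-1) 0 1
    (by norm_num) (by norm_num) (r • one0 (R := R)) (unit_d_apply _ _ _) w
    (by rw [map_smul]; exact h)
  rw [unit_d_apply] at hw'
  exact smul_one0_eq_zero r hw'.symm

end Unit

end Groth.Agent.Lib.Helper16.DU
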