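import Groth.Agent.Lib.Helper16.DU1
import Mathlib.RingTheory.PicardGroup

/-!
# The cohomology of `Hom_R(A, Y)` for `A = R/I`, `I` invertible, `Y` an injective resolution of `R`
-/

set_option autoImplicit false
universe u

namespace Groth.Agent.Lib.Helper16.DU

open CategoryTheory CategoryTheory.Limits MonoidalCategory HomologicalComplex TensorProduct
open Groth.Agent.Lib.Helper25.TensorCx Groth.Agent.Lib.Helper25.KFlat
open Groth.Agent.Lib.Helper25.Coext (coextCx)
open Groth.Agent.Lib.Helper16.DT (AR pAR)

variable {R A : Type u} [CommRing R] [CommRing A] [Algebra R A]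

section Tors

variable {M : ModuleCat.{u} R}

theorem coext_apply_algebraMap
    (g : (ModuleCat.coextendScalars.{u, u, u} (algebraMap R A)).obj M) (r : R) :
    g (algebraMap R A r) = r • g (1 : A) := by
  have h := (ModuleCat.CoextendScalars.equiv (algebraMap R A) M g).map_smul r
    (show AR (algebraMap R A) from (1 : A))
  have e : (r • (show AR (algebraMap R A) from (1 : A)) : AR (algebraMap R A)) =
      (show AR (algebraMap R A) from algebraMap R A r) := mul_one (algebraMap R A r)
  rw [e] at h
  exact h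

theorem coext_apply_zero
    (g : (ModuleCat.coextendScalars.{u, u, u} (algebraMap R A)).obj M) : g (0 : A) = 0 :=
  (ModuleCat.CoextendScalars.equiv (algebraMap R A) M g).map_zero

theorem coext_tors (g : (ModuleCat.coextendScalars.{u, u, u} (algebraMap R A)).obj M)
    (x : R) (hx : x ∈ RingHom.ker (algebraMap R A)) : x • g (1 : A) = 0 := by
  rw [← coext_apply_algebraMap, (RingHom.mem_ker).1 hx, coext_apply_zero]

theorem coext_smul_one (g : (ModuleCat.coextendScalars.{u, u, u} (algebraMap R A)).obj M)
    (r : R) : (algebraMap R A r • g) (1 : A) = r • g (1 : A) := by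
  rw [ModuleCat.CoextendScalars.smul_apply, one_mul, coext_apply_algebraMap]

variable (hφ : Function.Surjective (algebraMap R A))

include hφ in
theorem coext_ext (g g' : (ModuleCat.coextendScalars.{u, u, u} (algebraMap R A)).obj M)
    (h : g (1 : A) = g' (1 : A)) : g = g' := by
  apply ModuleCat.CoextendScalars.ext
  refine LinearMap.ext fun a => ?_
  obtain ⟨r, hr⟩ := hφ (show A from a)
  have e1 := coext_apply_algebraMap g r
  have e2 := coext_apply_algebraMap g' r
  rw [hr] at e1 e2
  exact e1.trans ((congrArg (fun t => r • t) h).trans e2.symm)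

/-- A torsion element of `M`, as an `R`-linear map `A → M`. -/
noncomputable def tl (y : M) (hy : ∀ x ∈ RingHom.ker (algebraMap R A), x • y = 0) :
    (ModuleCat.coextendScalars.{u, u, u} (algebraMap R A)).obj M :=
  Groth.Agent.Lib.Helper16.Kun.descSurj (pAR R A) hφ (LinearMap.toSpanSingleton R M y) (by
    intro r hr
    rw [LinearMap.mem_ker] at hr ⊢
    rw [LinearMap.toSpanSingleton_apply]
    exact hy r ((RingHom.mem_ker).2 hr))

theorem tl_one (y : M) (hy : ∀ x ∈ RingHom.ker (algebraMap R A), x • y = 0) :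
    (tl hφ y hy) (1 : A) = y := by
  have h := Groth.Agent.Lib.Helper16.Kun.descSurj_apply (pAR R A) hφ
    (LinearMap.toSpanSingleton R M y) (by
      intro r hr
      rw [LinearMap.mem_ker] at hr ⊢
      rw [LinearMap.toSpanSingleton_apply]
      exact hy r ((RingHom.mem_ker).2 hr)) (1 : R)
  rw [LinearMap.toSpanSingleton_apply, one_smul] at h
  have e : pAR R A (1 : R) = (show AR (algebraMap R A) from (1 : A)) := map_one (algebraMap R A)
  rw [e] at h
  exact h

end Tors

section Cx

variable (hφ : Function.Surjective (algebraMap R A))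
  [Module.Invertible R (RingHom.ker (algebraMap R A))]
  (Y : Cx R) (ι : 𝟙_ (Cx R) ⟶ Y) [QuasiIso ι] (hY : ∀ n, Injective (Y.X n))

theorem d_d_apply (a b c : ℤ) (v : Y.X a) : Y.d b c (Y.d a b v) = 0 := by
  have := congrArg (fun f => f v) (congrArg ModuleCat.Hom.hom (Y.d_comp_d a b c))
  exact this

include hY in
theorem exists_torsion_primitive (n m : ℤ) (w : Y.X m)
    (hw : ∀ x ∈ RingHom.ker (algebraMap R A), ∃ v : Y.X n, Y.d n m v = x • w) :
    ∃ v : Y.X n, ∀ x ∈ RingHom.ker (algebraMap R A), x • (w - Y.d n m v) = 0 := by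
  let ℓ' : RingHom.ker (algebraMap R A) →ₗ[R] LinearMap.range (Y.d n m).hom :=
    LinearMap.codRestrict (LinearMap.range (Y.d n m).hom)
      ((LinearMap.toSpanSingleton R _ w) ∘ₗ (RingHom.ker (algebraMap R A)).subtype) (fun x => by
        obtain ⟨v, hv⟩ := hw x x.2
        exact ⟨v, hv⟩)
  obtain ⟨h, hh⟩ := Module.projective_lifting_property ((Y.d n m).hom.rangeRestrict) ℓ'
    (LinearMap.surjective_rangeRestrict _)
  obtain ⟨v, hv⟩ := exists_smul_eq_of_injective (RingHom.ker (algebraMap R A)) (hY n) h
  refine ⟨v, fun x hx => ?_⟩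
  have h1 : Y.d n m (h ⟨x, hx⟩) = x • w := congrArg Subtype.val (LinearMap.congr_fun hh ⟨x, hx⟩)
  have h2 : x • v = h ⟨x, hx⟩ := hv ⟨x, hx⟩
  rw [smul_sub, ← map_smul, h2, h1, sub_self]

include hφ hY ι in
/-- `Hom_R(A, Y)` is exact away from degree `1`. -/
theorem coext_exact (n m k : ℤ) (hnm : n + 1 = m) (hmk : m + 1 = k) (hm : m ≠ 1)
    (g : (ModuleCat.coextendScalars.{u, u, u} (algebraMap R A)).obj (Y.X m))
    (hg : (ModuleCat.coextendScalars.{u, u, u} (algebraMap R A)).map (Y.d m k) g = 0) :
    ∃ g' : (ModuleCat.coextendScalars.{u, u, u} (algebraMap R A)).obj (Y.X n),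
      (ModuleCat.coextendScalars.{u, u, u} (algebraMap R A)).map (Y.d n m) g' = g := by
  have hyI : ∀ x ∈ RingHom.ker (algebraMap R A), x • g (1 : A) = 0 := coext_tors g
  have hdy : Y.d m k (g (1 : A)) = 0 := by
    have := congrArg (fun t : (ModuleCat.coextendScalars.{u, u, u} (algebraMap R A)).obj (Y.X k) => t (1 : A)) hg
    exact this
  have h1 : ∃ w : Y.X n, Y.d n m w = g (1 : A) := by
    by_cases hm0 : m = 0
    · subst hm0
      obtain rfl : n = -1 := by omega
      obtain rfl : k = 1 := by omega
      obtain ⟨r, w₀, hrw⟩ := exists_eq_smul_add Y ι (g (1 : A)) hdy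
      have hr : r = 0 := by
        have hx0 : ∀ x : RingHom.ker (algebraMap R A), (x : R) * r = 0 := fun x => by
          apply eq_zero_of_smul_uEl Y ι ((x : R) * r) (-((x : R) • w₀))
          have := hyI x x.2
          rw [hrw, smul_add, smul_smul, ← map_smul] at this
          rw [map_neg]
          exact eq_neg_of_add_eq_zero_left this
        have : ∀ x : RingHom.ker (algebraMap R A), r • x = (0 : R) • x := fun x => by
          apply Subtype.ext
          rw [zero_smul]
          change r * (x : R) = 0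
          rw [mul_comm]
          exact hx0 x
        exact FaithfulSMul.eq_of_smul_eq_smul this
      exact ⟨w₀, by rw [hrw, hr, zero_smul, zero_add]⟩
    · exact exists_d_eq Y ι n m k hnm hmk hm0 _ hdy
  obtain ⟨w, hw⟩ := h1
  have hn0 : n ≠ 0 := by omega
  obtain ⟨v, hv⟩ := exists_torsion_primitive Y hY (n - 1) n w (fun x hx =>
    exists_d_eq Y ι (n - 1) n m (by omega) hnm hn0 (x • w) (by rw [map_smul, hw, hyI x hx]))
  refine ⟨tl hφ (w - Y.d (n - 1) n v) hv, ?_⟩
  apply coext_ext hφ
  change Y.d n m ((tl hφ (w - Y.d (n - 1) n v) hv) (1 : A)) = g (1 : A)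
  rw [tl_one, map_sub, d_d_apply, sub_zero, hw]

end Cx

end Groth.Agent.Lib.Helper16.DU
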