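import Groth.Agent.Lib.Helper16.DU2

/-!
# `H^1(Hom_R(A, Y)) ≅ Hom_R(I, A)` for `A = R/I`, `I` invertible
-/

set_option autoImplicit false
universe u

namespace Groth.Agent.Lib.Helper16.DU

open CategoryTheory CategoryTheory.Limits MonoidalCategory HomologicalComplex TensorProduct
open Groth.Agent.Lib.Helper25.TensorCx Groth.Agent.Lib.Helper25.KFlat
open Groth.Agent.Lib.Helper25.Coext (coextCx)
open Groth.Agent.Lib.Helper16.DT (AR pAR)

variable {R A : Type u} [CommRing R] [CommRing A] [Algebra R A]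
  (hφ : Function.Surjective (algebraMap R A))
  (Y : Cx R) (ι : 𝟙_ (Cx R) ⟶ Y)

variable (A) in
/-- the correspondence module -/
def Wsub : Submodule R ((RingHom.ker (algebraMap R A) →ₗ[R] R) × Y.X 0) where
  carrier := {t | ∀ x : RingHom.ker (algebraMap R A), (x : R) • t.2 = (t.1 x) • uEl Y ι}
  add_mem' := by
    intro a b ha hb x
    have ha' := ha x
    have hb' := hb x
    simp only [Prod.snd_add, Prod.fst_add, smul_add, LinearMap.add_apply, add_smul, ha', hb']
  zero_mem' := by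
    intro x
    simp only [Prod.snd_zero, Prod.fst_zero, smul_zero, LinearMap.zero_apply, zero_smul]
  smul_mem' := by
    intro c a ha x
    have ha' := ha x
    simp only [Prod.smul_snd, Prod.smul_fst, LinearMap.smul_apply, smul_eq_mul]
    rw [smul_comm, ha', smul_smul]

theorem mem_Wsub (t : Wsub A Y ι) (x : RingHom.ker (algebraMap R A)) :
    (x : R) • t.1.2 = (t.1.1 x) • uEl Y ι := t.2 x

theorem tors_of_mem (t : Wsub A Y ι) :
    ∀ x ∈ RingHom.ker (algebraMap R A), x • Y.d 0 1 t.1.2 = 0 := fun x hx => by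
  rw [← map_smul, mem_Wsub Y ι t ⟨x, hx⟩, map_smul, d_uEl, smul_zero]

/-- `π₁` -/
def pi1 : Wsub A Y ι →+ (RingHom.ker (algebraMap R A) →ₗ[R] A) where
  toFun t := (Algebra.linearMap R A) ∘ₗ t.1.1
  map_zero' := by
    change (Algebra.linearMap R A) ∘ₗ (0 : RingHom.ker (algebraMap R A) →ₗ[R] R) = 0
    exact LinearMap.comp_zero _
  map_add' a b := by
    change (Algebra.linearMap R A) ∘ₗ (a.1.1 + b.1.1) = _
    exact LinearMap.comp_add _ _ _

theorem pi1_apply (t : Wsub A Y ι) (x : RingHom.ker (algebraMap R A)) :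
    pi1 Y ι t x = algebraMap R A (t.1.1 x) := rfl

theorem pi1_smul (r : R) (t : Wsub A Y ι) : pi1 Y ι (r • t) = algebraMap R A r • pi1 Y ι t := by
  refine LinearMap.ext fun x => ?_
  rw [LinearMap.smul_apply, pi1_apply, pi1_apply]
  change algebraMap R A (r • t.1.1 x) = _
  rw [smul_eq_mul, map_mul, smul_eq_mul]

/-- The short complex `C⁰ → C¹ → C²`. -/
noncomputable abbrev SC : ShortComplex (ModuleCat.{u} A) :=
  ((coextCx (algebraMap R A)).obj Y).sc' 0 1 2

/-- the concrete `H¹` -/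
abbrev HQ : Type u :=
  LinearMap.ker (SC (A := A) Y).g.hom ⧸ LinearMap.range (SC (A := A) Y).moduleCatToCycles

/-- evaluation of a cycle at `1` -/
noncomputable def cycEv (z : LinearMap.ker (SC (A := A) Y).g.hom) : Y.X 1 :=
  (show (ModuleCat.coextendScalars.{u, u, u} (algebraMap R A)).obj (Y.X 1) from z.1) (1 : A)

include hφ in
theorem ker_ext (z z' : LinearMap.ker (SC (A := A) Y).g.hom) (h : cycEv Y z = cycEv Y z') :
    z = z' :=
  Subtype.ext (coext_ext hφ (M := Y.X 1) _ _ h)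

/-- cycles from torsion elements -/
noncomputable def cyc (w : Y.X 0)
    (hw : ∀ x ∈ RingHom.ker (algebraMap R A), x • Y.d 0 1 w = 0) :
    LinearMap.ker (SC (A := A) Y).g.hom :=
  ⟨tl hφ (Y.d 0 1 w) hw, by
    rw [LinearMap.mem_ker]
    refine coext_ext hφ (M := Y.X 2) _ _ ?_
    change Y.d 1 2 ((tl hφ (Y.d 0 1 w) hw) (1 : A)) = 0
    rw [tl_one, d_d_apply]⟩

theorem cycEv_cyc (w : Y.X 0)
    (hw : ∀ x ∈ RingHom.ker (algebraMap R A), x • Y.d 0 1 w = 0) :
    cycEv Y (cyc hφ Y w hw) = Y.d 0 1 w := tl_one hφ _ hw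

theorem cycEv_add (z z' : LinearMap.ker (SC (A := A) Y).g.hom) :
    cycEv Y (z + z') = cycEv Y z + cycEv Y z' := rfl

theorem cycEv_smul (r : R) (z : LinearMap.ker (SC (A := A) Y).g.hom) :
    cycEv Y (algebraMap R A r • z) = r • cycEv Y z :=
  coext_smul_one (M := Y.X 1) _ r

theorem cycEv_toCycles (g : (ModuleCat.coextendScalars.{u, u, u} (algebraMap R A)).obj (Y.X 0)) :
    cycEv Y ((SC (A := A) Y).moduleCatToCycles g) = Y.d 0 1 (g (1 : A)) := rfl

/-- `π₂` -/
noncomputable def pi2 : Wsub A Y ι →+ HQ (A := A) Y where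
  toFun t := Submodule.Quotient.mk (cyc hφ Y t.1.2 (tors_of_mem Y ι t))
  map_zero' := by
    rw [← Submodule.Quotient.mk_zero]
    congr 1
    apply ker_ext hφ
    rw [cycEv_cyc]
    change Y.d 0 1 (0 : Y.X 0) = 0
    exact map_zero _
  map_add' a b := by
    rw [← Submodule.Quotient.mk_add]
    congr 1
    apply ker_ext hφ
    rw [cycEv_add, cycEv_cyc, cycEv_cyc, cycEv_cyc]
    change Y.d 0 1 (a.1.2 + b.1.2) = _
    exact map_add _ _ _

theorem pi2_apply (t : Wsub A Y ι) :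
    pi2 hφ Y ι t = Submodule.Quotient.mk (cyc hφ Y t.1.2 (tors_of_mem Y ι t)) := rfl

theorem pi2_smul (r : R) (t : Wsub A Y ι) :
    pi2 hφ Y ι (r • t) = algebraMap R A r • pi2 hφ Y ι t := by
  rw [pi2_apply, pi2_apply, ← Submodule.Quotient.mk_smul]
  congr 1
  apply ker_ext hφ
  rw [cycEv_smul, cycEv_cyc, cycEv_cyc]
  change Y.d 0 1 (r • t.1.2) = _
  exact map_smul _ _ _

variable [Module.Invertible R (RingHom.ker (algebraMap R A))]
  [QuasiIso ι] (hY : ∀ n, Injective (Y.X n))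

include hφ hY in
theorem pi1_surjective : Function.Surjective (pi1 (A := A) Y ι) := by
  intro σ
  obtain ⟨ρ, hρ⟩ := Module.projective_lifting_property (Algebra.linearMap R A) σ hφ
  obtain ⟨w, hw⟩ := exists_smul_eq_of_injective (RingHom.ker (algebraMap R A)) (hY 0)
    ((LinearMap.toSpanSingleton R _ (uEl Y ι)) ∘ₗ ρ)
  exact ⟨⟨(ρ, w), fun x => hw x⟩, hρ⟩

include hY in
theorem pi2_surjective : Function.Surjective (pi2 hφ Y ι) := by
  intro z
  obtain ⟨z, rfl⟩ := Submodule.Quotient.mk_surjective _ z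
  have hyI : ∀ x ∈ RingHom.ker (algebraMap R A), x • cycEv Y z = 0 :=
    coext_tors (M := Y.X 1) _
  have hdy : Y.d 1 2 (cycEv Y z) = 0 := by
    have hz : (SC (A := A) Y).g.hom z.1 = 0 := LinearMap.mem_ker.1 z.2
    have hz' : (ModuleCat.coextendScalars.{u, u, u} (algebraMap R A)).map (Y.d 1 2)
      (show (ModuleCat.coextendScalars.{u, u, u} (algebraMap R A)).obj (Y.X 1) from z.1) = 0 := hz
    have := congrArg
      (fun t : (ModuleCat.coextendScalars.{u, u, u} (algebraMap R A)).obj (Y.X 2) => t (1 : A)) hz'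
    exact this
  obtain ⟨w, hw⟩ := exists_d_eq Y ι 0 1 2 (by norm_num) (by norm_num) (by norm_num) _ hdy
  -- the surjection `R × Y⁻¹ → Z⁰`
  let q : (R × Y.X (-1)) →ₗ[R] LinearMap.ker (Y.d 0 1).hom :=
    LinearMap.codRestrict _ ((LinearMap.toSpanSingleton R _ (uEl Y ι)).coprod (Y.d (-1) 0).hom)
      (fun p => by
        rw [LinearMap.mem_ker, LinearMap.coprod_apply, map_add, LinearMap.toSpanSingleton_apply]
        have h1 : (Y.d 0 1).hom (p.1 • uEl Y ι) = 0 := by
          rw [map_smul]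
          have := d_uEl Y ι
          rw [show (Y.d 0 1).hom (uEl Y ι) = 0 from this, smul_zero]
        rw [h1, zero_add]
        exact d_d_apply Y (-1) 0 1 p.2)
  have hq : Function.Surjective q := by
    intro c
    obtain ⟨r, v, hrv⟩ := exists_eq_smul_add Y ι c.1 (LinearMap.mem_ker.1 c.2)
    refine ⟨(r, v), Subtype.ext ?_⟩
    exact hrv.symm
  let ℓ : RingHom.ker (algebraMap R A) →ₗ[R] LinearMap.ker (Y.d 0 1).hom :=
    LinearMap.codRestrict _
      ((LinearMap.toSpanSingleton R _ w) ∘ₗ (RingHom.ker (algebraMap R A)).subtype) (fun x => by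
        rw [LinearMap.mem_ker]
        change (Y.d 0 1) ((x : R) • w) = 0
        rw [map_smul, hw]
        exact hyI x x.2)
  obtain ⟨h, hh⟩ := Module.projective_lifting_property q ℓ hq
  obtain ⟨v, hv⟩ := exists_smul_eq_of_injective (RingHom.ker (algebraMap R A)) (hY (-1))
    ((LinearMap.snd R R (Y.X (-1))) ∘ₗ h)
  have key : ∀ x : RingHom.ker (algebraMap R A),
      (x : R) • w = (h x).1 • uEl Y ι + Y.d (-1) 0 (h x).2 := fun x =>
    (congrArg Subtype.val (LinearMap.congr_fun hh x)).symm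
  refine ⟨⟨((LinearMap.fst R R (Y.X (-1))) ∘ₗ h, w - Y.d (-1) 0 v), fun x => ?_⟩, ?_⟩
  · change (x : R) • (w - Y.d (-1) 0 v) = (h x).1 • uEl Y ι
    have h2 : (x : R) • v = (h x).2 := hv x
    rw [smul_sub, ← map_smul, h2, key x]
    abel
  · rw [pi2_apply]
    congr 1
    apply ker_ext hφ
    rw [cycEv_cyc]
    change Y.d 0 1 (w - Y.d (-1) 0 v) = _
    rw [map_sub, d_d_apply, sub_zero, hw]

include hY in
theorem pi1_eq_zero_iff (t : Wsub A Y ι) : pi1 Y ι t = 0 ↔ pi2 hφ Y ι t = 0 := by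
  constructor
  · intro h0
    have hmem : ∀ x : RingHom.ker (algebraMap R A),
        t.1.1 x ∈ RingHom.ker (algebraMap R A) := fun x => by
      rw [RingHom.mem_ker, ← pi1_apply, h0]
      rfl
    let ρ' : Module.End R (RingHom.ker (algebraMap R A)) :=
      LinearMap.codRestrict _ t.1.1 hmem
    obtain ⟨r, hr⟩ := (Module.Invertible.toModuleEnd_bijective R
      (RingHom.ker (algebraMap R A))).2 ρ'
    have hr' : ∀ x : RingHom.ker (algebraMap R A), t.1.1 x = r * (x : R) := fun x => by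
      have := congrArg Subtype.val (LinearMap.congr_fun hr x)
      exact this.symm
    have htors : ∀ x ∈ RingHom.ker (algebraMap R A), x • (t.1.2 - r • uEl Y ι) = 0 := by
      intro x hx
      rw [smul_sub, mem_Wsub Y ι t ⟨x, hx⟩, hr' ⟨x, hx⟩, smul_smul, mul_comm, sub_self]
    rw [pi2_apply, Submodule.Quotient.mk_eq_zero]
    refine ⟨tl hφ (t.1.2 - r • uEl Y ι) htors, ?_⟩
    apply ker_ext hφ
    rw [cycEv_toCycles, tl_one, cycEv_cyc, map_sub, map_smul, d_uEl, smul_zero, sub_zero]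
  · intro h0
    rw [pi2_apply, Submodule.Quotient.mk_eq_zero] at h0
    obtain ⟨g', hg'⟩ := h0
    have h1 := congrArg (cycEv Y) hg'
    rw [cycEv_cyc] at h1
    have h2 : cycEv Y ((SC (A := A) Y).moduleCatToCycles g') =
        Y.d 0 1 ((show (ModuleCat.coextendScalars.{u, u, u} (algebraMap R A)).obj (Y.X 0)
          from g') (1 : A)) := rfl
    rw [h2] at h1
    set w'' : Y.X 0 := (show (ModuleCat.coextendScalars.{u, u, u} (algebraMap R A)).obj (Y.X 0)
          from g') (1 : A) with hw''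
    have hw''I : ∀ x ∈ RingHom.ker (algebraMap R A), x • w'' = 0 := coext_tors (M := Y.X 0) _
    have hd : Y.d 0 1 (t.1.2 - w'') = 0 := by rw [map_sub, h1, sub_self]
    obtain ⟨r, v, hrv⟩ := exists_eq_smul_add Y ι _ hd
    refine LinearMap.ext fun x => ?_
    rw [pi1_apply, LinearMap.zero_apply]
    have hx : t.1.1 x - (x : R) * r = 0 := by
      apply eq_zero_of_smul_uEl Y ι _ ((x : R) • v)
      have e1 := mem_Wsub Y ι t x
      have e2 : t.1.2 = w'' + (r • uEl Y ι + Y.d (-1) 0 v) := by rw [← hrv]; abel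
      rw [e2, smul_add, hw''I x x.2, zero_add, smul_add, smul_smul, ← map_smul] at e1
      rw [sub_smul, ← e1]
      abel
    rw [sub_eq_zero] at hx
    rw [hx, map_mul, (RingHom.mem_ker).1 x.2, zero_mul]

include hφ hY ι in
theorem nonempty_equiv_HQ :
    Nonempty ((RingHom.ker (algebraMap R A) →ₗ[R] A) ≃ₗ[A] HQ (A := A) Y) :=
  nonempty_linearEquiv_of_correspondence (algebraMap R A) hφ (pi1 Y ι) (pi2 hφ Y ι)
    (pi1_smul Y ι) (pi2_smul hφ Y ι) (pi1_surjective hφ Y ι hY) (pi2_surjective hφ Y ι hY)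
    (pi1_eq_zero_iff hφ Y ι hY)

/-- `N ≃ Hom_R(I, A)` for `N` the inverse of `A ⊗_R I`. -/
noncomputable def nEquiv (N : Type u) [AddCommGroup N] [Module A N]
    (e : (A ⊗[R] (RingHom.ker (algebraMap R A))) ⊗[A] N ≃ₗ[A] A) :
    N ≃ₗ[A] (RingHom.ker (algebraMap R A) →ₗ[R] A) :=
  Module.Invertible.linearEquivDual
      (TensorProduct.comm A N (A ⊗[R] (RingHom.ker (algebraMap R A))) ≪≫ₗ e) ≪≫ₗ
    (LinearMap.liftBaseChangeEquiv A).symm

include hφ hY ι in
theorem nonempty_homology_iso (N : Type u) [AddCommGroup N] [Module A N]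
    (e : (A ⊗[R] (RingHom.ker (algebraMap R A))) ⊗[A] N ≃ₗ[A] A) :
    Nonempty ((SC (A := A) Y).homology ≅ ModuleCat.of A N) := by
  obtain ⟨e'⟩ := nonempty_equiv_HQ hφ Y ι hY
  exact ⟨(SC (A := A) Y).moduleCatHomologyIso ≪≫
    ((nEquiv N e ≪≫ₗ e').symm).toModuleIso⟩

end Groth.Agent.Lib.Helper16.DU
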