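import Groth.Agent.Lib.Helper16.DU3
import Mathlib.Algebra.Homology.DerivedCategory.TStructure
import Mathlib.Algebra.Homology.DerivedCategory.FullyFaithful

/-!
# `RHom_R(A, R) ≅ N[-1]` in `D(A)` and the final assembly
-/

set_option autoImplicit false
universe u

namespace Groth.Agent.Lib.Helper16.DU

open CategoryTheory CategoryTheory.Limits MonoidalCategory HomologicalComplex TensorProduct
open DerivedCategory
open Groth.Agent.Lib.Helper25.TensorCx Groth.Agent.Lib.Helper25.KFlat
open Groth.Agent.Lib.Helper25.Coext (coextCx)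

attribute [local instance] HasDerivedCategory.standard

variable {R A : Type u} [CommRing R] [CommRing A] [Algebra R A]
  (hφ : Function.Surjective (algebraMap R A))
  [Module.Invertible R (RingHom.ker (algebraMap R A))]
  (Y : Cx R) (ι : 𝟙_ (Cx R) ⟶ Y) [QuasiIso ι] (hY : ∀ n, Injective (Y.X n))

include hφ ι hY

theorem exactAt_coext (m : ℤ) (hm : m ≠ 1) :
    ((coextCx (algebraMap R A)).obj Y).ExactAt m := by
  rw [HomologicalComplex.exactAt_iff' _ (m - 1) m (m + 1) (by simp) (by simp),
    ShortComplex.moduleCat_exact_iff]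
  intro g hg
  exact coext_exact hφ Y ι hY (m - 1) m (m + 1) (by omega) rfl hm g hg

theorem isGE_coext : ((coextCx (algebraMap R A)).obj Y).IsGE 1 := by
  rw [CochainComplex.isGE_iff]
  intro i hi
  exact exactAt_coext hφ Y ι hY i (by omega)

theorem isLE_coext : ((coextCx (algebraMap R A)).obj Y).IsLE 1 := by
  rw [CochainComplex.isLE_iff]
  intro i hi
  exact exactAt_coext hφ Y ι hY i (by omega)

theorem nonempty_Q_iso_single (N : Type u) [AddCommGroup N] [Module A N]
    (e : (A ⊗[R] (RingHom.ker (algebraMap R A))) ⊗[A] N ≃ₗ[A] A) :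
    Nonempty (Q.obj ((coextCx (algebraMap R A)).obj Y) ≅
      (DerivedCategory.singleFunctor (ModuleCat.{u} A) 1).obj (ModuleCat.of A N)) := by
  have h1 := isGE_coext hφ Y ι hY
  have h2 := isLE_coext hφ Y ι hY
  obtain ⟨M, ⟨eM⟩⟩ := DerivedCategory.exists_iso_singleFunctor_obj_of_isGE_of_isLE
    (Q.obj ((coextCx (algebraMap R A)).obj Y)) 1
  have i1 : (DerivedCategory.homologyFunctor (ModuleCat.{u} A) 1).obj
      (Q.obj ((coextCx (algebraMap R A)).obj Y)) ≅ M :=
    (DerivedCategory.homologyFunctor _ 1).mapIso eM ≪≫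
      (DerivedCategory.singleFunctorCompHomologyFunctorIso (ModuleCat.{u} A) 1).app M
  have i2 : (DerivedCategory.homologyFunctor (ModuleCat.{u} A) 1).obj
      (Q.obj ((coextCx (algebraMap R A)).obj Y)) ≅
      ((coextCx (algebraMap R A)).obj Y).homology 1 :=
    (DerivedCategory.homologyFunctorFactors _ 1).app _
  have i3 : ((coextCx (algebraMap R A)).obj Y).homology 1 ≅ (SC (A := A) Y).homology :=
    ShortComplex.homologyMapIso
      (((coextCx (algebraMap R A)).obj Y).isoSc' 0 1 2 (by simp) (by simp))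
  obtain ⟨i4⟩ := nonempty_homology_iso hφ Y ι hY N e
  exact ⟨eM ≪≫ (DerivedCategory.singleFunctor _ 1).mapIso (i1.symm ≪≫ i2 ≪≫ i3 ≪≫ i4)⟩

end Groth.Agent.Lib.Helper16.DU
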