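import Mathlib
import Groth.Prelude.Def_SGA4hB

set_option autoImplicit false

universe u v

namespace Groth.Agent.Lib.Helper16.DetS

open Polynomial TensorProduct

variable {A : Type u} [CommRing A]

section General

variable {R : Type*} [CommRing R] {M N : Type*} [AddCommGroup M] [Module R M]
  [AddCommGroup N] [Module R N]

/-- Sylvester / Weinstein–Aronszajn for linear maps between finite free modules. -/
lemma det_one_sub_comp_comm [Module.Free R M] [Module.Finite R M] [Module.Free R N]
    [Module.Finite R N] (F : M →ₗ[R] N) (G : N →ₗ[R] M) :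
    LinearMap.det (LinearMap.id - G ∘ₗ F) = LinearMap.det (LinearMap.id - F ∘ₗ G) := by
  classical
  let bM := Module.Free.chooseBasis R M
  let bN := Module.Free.chooseBasis R N
  rw [← LinearMap.det_toMatrix bM, ← LinearMap.det_toMatrix bN]
  rw [map_sub, map_sub, LinearMap.toMatrix_comp bM bN bM, LinearMap.toMatrix_comp bN bM bN,
    LinearMap.toMatrix_id, LinearMap.toMatrix_id]
  exact Matrix.det_one_sub_mul_comm _ _

end General

section D

variable {M N : Type*} [AddCommGroup M] [Module A M] [AddCommGroup N] [Module A N]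

/-- `det(1 - t φ)`. -/
noncomputable def D (φ : M →ₗ[A] M) : A[X] :=
  LinearMap.det (LinearMap.id - (X : A[X]) • φ.baseChange A[X])

lemma detOneSub_eq (M : ModuleCat.{u} A) (w : M ⟶ M) : SGA4h.detOneSub M w = D w.hom := rfl

lemma D_zero : D (0 : M →ₗ[A] M) = 1 := by
  rw [D, LinearMap.baseChange_zero, smul_zero]
  have h : (LinearMap.id : A[X] ⊗[A] M →ₗ[A[X]] A[X] ⊗[A] M) - 0 = LinearMap.id :=
    LinearMap.ext fun m => by simp
  rw [h]
  exact LinearMap.det_id

lemma D_eq_mul {α β γ : M →ₗ[A] M} (h1 : γ = α + β) (h2 : α ∘ₗ β = 0) : D γ = D α * D β := by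
  unfold D
  rw [← LinearMap.det_comp]
  congr 1
  have h3 : (α.baseChange A[X]) ∘ₗ (β.baseChange A[X]) = 0 := by
    rw [← LinearMap.baseChange_comp, h2, LinearMap.baseChange_zero]
  rw [h1, LinearMap.baseChange_add]
  refine LinearMap.ext fun m => ?_
  have := LinearMap.congr_fun h3
  simp only [LinearMap.comp_apply, LinearMap.zero_apply] at this
  simp only [LinearMap.sub_apply, LinearMap.id_apply, LinearMap.smul_apply, LinearMap.add_apply,
    LinearMap.comp_apply, map_sub, map_smul, this, smul_zero, sub_zero, smul_add]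
  abel

/-- block-triangular decomposition. -/
lemma D_key {P Q W : M →ₗ[A] M} (h1 : P + Q = LinearMap.id) (h2 : Q ∘ₗ P = 0)
    (h3 : Q ∘ₗ W ∘ₗ P = 0) : D W = D (W ∘ₗ Q) * D (P ∘ₗ W ∘ₗ P) := by
  apply D_eq_mul
  · have : W ∘ₗ P = P ∘ₗ W ∘ₗ P := by
      have e : W ∘ₗ P = (P + Q) ∘ₗ (W ∘ₗ P) := by rw [h1, LinearMap.id_comp]
      rw [LinearMap.add_comp, h3, add_zero] at e
      exact e
    rw [← this, ← LinearMap.comp_add, add_comm, h1, LinearMap.comp_id]
  · refine LinearMap.ext fun m => ?_
    have := LinearMap.congr_fun h2 (W (P m))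
    simp only [LinearMap.comp_apply, LinearMap.zero_apply] at this ⊢
    rw [this, map_zero]

lemma D_comm [Module.Free A M] [Module.Finite A M] [Module.Free A N] [Module.Finite A N]
    (f : M →ₗ[A] N) (g : N →ₗ[A] M) : D (g ∘ₗ f) = D (f ∘ₗ g) := by
  unfold D
  rw [LinearMap.baseChange_comp, LinearMap.baseChange_comp]
  have e1 : (X : A[X]) • (g.baseChange A[X] ∘ₗ f.baseChange A[X]) =
      ((X : A[X]) • g.baseChange A[X]) ∘ₗ f.baseChange A[X] := (LinearMap.smul_comp _ _ _).symm
  have e2 : (X : A[X]) • (f.baseChange A[X] ∘ₗ g.baseChange A[X]) =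
      f.baseChange A[X] ∘ₗ ((X : A[X]) • g.baseChange A[X]) := (LinearMap.comp_smul _ _ _).symm
  rw [e1, e2]
  exact det_one_sub_comp_comm _ _

end D

end Groth.Agent.Lib.Helper16.DetS
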