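import Mathlib
import Groth.Prelude.Def_SGA4hB
import Groth.Agent.Lib.Helper16.DetS1

set_option autoImplicit false

universe u v

namespace Groth.Agent.Lib.Helper16.DetS

open Polynomial TensorProduct CategoryTheory

variable {A : Type u} [CommRing A]

section Finprod

variable {R : Type*} [CommMonoid R]

/-- shifting evens to odds. -/
def evenOddEquiv : {i : ℤ // Even i} ≃ {j : ℤ // Odd j} where
  toFun i := ⟨i.1 + 1, i.2.add_one⟩
  invFun j := ⟨j.1 - 1, j.2.sub_odd odd_one⟩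
  left_inv i := by ext; simp
  right_inv j := by ext; simp

/-- shifting odds to evens. -/
def oddEvenEquiv : {i : ℤ // Odd i} ≃ {j : ℤ // Even j} where
  toFun i := ⟨i.1 + 1, i.2.add_one⟩
  invFun j := ⟨j.1 - 1, j.2.sub_odd odd_one⟩
  left_inv i := by ext; simp
  right_inv j := by ext; simp

lemma finite_mulSupport_sub {p : ℤ → Prop} (g : ℤ → R) (hg : (Function.mulSupport g).Finite) :
    (Function.mulSupport fun i : {i : ℤ // p i} => g i.1).Finite := by
  apply Set.Finite.of_injOn (f := Subtype.val) (t := Function.mulSupport g)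
  · intro i hi
    exact hi
  · exact Subtype.val_injective.injOn
  · exact hg

lemma finite_mulSupport_shift (g : ℤ → R) (hg : (Function.mulSupport g).Finite) :
    (Function.mulSupport fun i : ℤ => g (i + 1)).Finite := by
  apply Set.Finite.of_injOn (f := fun i : ℤ => i + 1) (t := Function.mulSupport g)
  · intro i hi
    exact hi
  · intro i _ j _ h
    exact add_right_cancel h
  · exact hg

/-- telescoping: `∏_{even} γ(i+1) γ(i) = ∏_{odd} γ(i+1) γ(i)`. -/
lemma finprod_even_eq_odd (γ : ℤ → R) (hγ : (Function.mulSupport γ).Finite) :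
    ∏ᶠ i : {i : ℤ // Even i}, γ (i.1 + 1) * γ i.1 =
      ∏ᶠ i : {i : ℤ // Odd i}, γ (i.1 + 1) * γ i.1 := by
  have hs := finite_mulSupport_shift γ hγ
  rw [finprod_mul_distrib (finite_mulSupport_sub (fun i => γ (i + 1)) hs)
      (finite_mulSupport_sub γ hγ),
    finprod_mul_distrib (finite_mulSupport_sub (fun i => γ (i + 1)) hs)
      (finite_mulSupport_sub γ hγ)]
  have e1 : ∏ᶠ i : {i : ℤ // Even i}, γ (i.1 + 1) = ∏ᶠ j : {j : ℤ // Odd j}, γ j.1 :=
    finprod_comp_equiv evenOddEquiv (f := fun j : {j : ℤ // Odd j} => γ j.1)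
  have e2 : ∏ᶠ i : {i : ℤ // Odd i}, γ (i.1 + 1) = ∏ᶠ j : {j : ℤ // Even j}, γ j.1 :=
    finprod_comp_equiv oddEvenEquiv (f := fun j : {j : ℤ // Even j} => γ j.1)
  rw [e1, e2, mul_comm]

end Finprod

section Contractible

variable (C : CochainComplex (ModuleCat.{u} A) ℤ) (s : Homotopy (𝟙 C) 0) (W : C ⟶ C)

/-- `P = d ∘ s` on `C^i` (through `C^j`, `j + 1 = i`). -/
noncomputable def Pmap (j i : ℤ) : (C.X i) →ₗ[A] (C.X i) :=
  (C.d j i).hom ∘ₗ (s.hom i j).hom

/-- `γ_{j,i} = det(1 - t W_i P_i)`. -/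
noncomputable def gam (j i : ℤ) : A[X] := D ((W.f i).hom ∘ₗ Pmap C s j i)

lemma gam_congr (j j' i : ℤ) (h : j + 1 = i) (h' : j' + 1 = i) :
    gam C s W j i = gam C s W j' i := by
  obtain rfl : j = j' := by omega
  rfl

lemma P_add_Q (i : ℤ) :
    Pmap C s (i - 1) i + (s.hom (i + 1) i).hom ∘ₗ (C.d i (i + 1)).hom = LinearMap.id := by
  have h := s.comm i
  rw [dNext_eq s.hom (show (ComplexShape.up ℤ).Rel i (i + 1) from rfl),
    prevD_eq s.hom (show (ComplexShape.up ℤ).Rel (i - 1) i by simp)] at h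
  have h' := congrArg ModuleCat.Hom.hom h
  simp only [HomologicalComplex.id_f, HomologicalComplex.zero_f, add_zero, ModuleCat.hom_add,
    ModuleCat.hom_comp, ModuleCat.hom_id] at h'
  rw [add_comm]
  exact h'.symm

lemma D_W_eq (hC : ∀ i : ℤ, Module.Finite A (C.X i) ∧ Module.Free A (C.X i)) (i : ℤ) :
    D (W.f i).hom = gam C s W i (i + 1) * gam C s W (i - 1) i := by
  have := (hC i).1
  have := (hC i).2
  have := (hC (i + 1)).1
  have := (hC (i + 1)).2
  set P := Pmap C s (i - 1) i with hP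
  set Q : (C.X i) →ₗ[A] (C.X i) := (s.hom (i + 1) i).hom ∘ₗ (C.d i (i + 1)).hom with hQ
  set Wi := (W.f i).hom with hWi
  have h1 : P + Q = LinearMap.id := P_add_Q C s i
  have hdd : (C.d i (i + 1)).hom ∘ₗ (C.d (i - 1) i).hom = 0 := by
    rw [← ModuleCat.hom_comp, C.d_comp_d]
    rfl
  have hWd : (C.d i (i + 1)).hom ∘ₗ Wi = (W.f (i + 1)).hom ∘ₗ (C.d i (i + 1)).hom := by
    rw [hWi, ← ModuleCat.hom_comp, ← ModuleCat.hom_comp, W.comm i (i + 1)]
  have h2 : Q ∘ₗ P = 0 := by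
    rw [hQ, hP, Pmap, LinearMap.comp_assoc, ← LinearMap.comp_assoc _ (C.d (i - 1) i).hom, hdd,
      LinearMap.zero_comp, LinearMap.comp_zero]
  have h3 : Q ∘ₗ Wi ∘ₗ P = 0 := by
    rw [hQ, hP, Pmap, LinearMap.comp_assoc, ← LinearMap.comp_assoc _ Wi, hWd,
      LinearMap.comp_assoc, ← LinearMap.comp_assoc _ (C.d (i - 1) i).hom, hdd,
      LinearMap.zero_comp, LinearMap.comp_zero, LinearMap.comp_zero]
  have hPP : P ∘ₗ P = P := by
    have e : P = (P + Q) ∘ₗ P := by rw [h1, LinearMap.id_comp]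
    rw [LinearMap.add_comp, h2, add_zero] at e
    exact e.symm
  rw [D_key h1 h2 h3]
  congr 1
  · -- D (W Q) = γ_{i+1}
    rw [hQ, ← LinearMap.comp_assoc, D_comm, gam, Pmap, ← LinearMap.comp_assoc, hWd,
      LinearMap.comp_assoc]
  · -- D (P W P) = γ_i
    rw [D_comm (Wi ∘ₗ P) P, LinearMap.comp_assoc, hPP]
    rfl

end Contractible

end Groth.Agent.Lib.Helper16.DetS
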