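import Mathlib
import Groth.Prelude.Def_SGA4hB
import Groth.Agent.Lib.Helper16.DetS2

set_option autoImplicit false

universe u v

namespace Groth.Agent.Lib.Helper16.DetS

open Polynomial TensorProduct CategoryTheory

variable {A : Type u} [CommRing A]

lemma D_of_subsingleton {M : Type*} [AddCommGroup M] [Module A M] [Subsingleton M]
    (φ : M →ₗ[A] M) : D φ = 1 := by
  have : φ = 0 := LinearMap.ext fun m => Subsingleton.elim _ _
  rw [this, D_zero]

/-- for a contractible bounded complex of finite free modules with an endomorphism, the two halves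
of the characteristic series agree. -/
theorem detEven_eq_detOdd_of_contractible (C : CochainComplex (ModuleCat.{u} A) ℤ)
    (s : Homotopy (𝟙 C) 0) (W : C ⟶ C)
    (hC : ∀ i : ℤ, Module.Finite A (C.X i) ∧ Module.Free A (C.X i)) (a b : ℤ)
    (hz : ∀ i : ℤ, i < a ∨ b < i → Subsingleton (C.X i)) :
    SGA4h.detEven C W = SGA4h.detOdd C W := by
  set γ : ℤ → A[X] := fun i => gam C s W (i - 1) i with hγ
  have hfin : (Function.mulSupport γ).Finite := by
    apply (Set.finite_Icc a b).subset
    intro i hi
    by_contra hni
    apply hi
    have : i < a ∨ b < i := by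
      simp only [Set.mem_Icc, not_and_or, not_le] at hni
      exact hni
    haveI := hz i this
    exact D_of_subsingleton _
  have key : ∀ i : ℤ, SGA4h.detOneSub (C.X i) (W.f i) = γ (i + 1) * γ i := by
    intro i
    rw [detOneSub_eq, D_W_eq C s W hC i]
    congr 1
    exact gam_congr C s W i (i + 1 - 1) (i + 1) rfl (by omega)
  unfold SGA4h.detEven SGA4h.detOdd
  simp only [key]
  exact finprod_even_eq_odd γ hfin

end Groth.Agent.Lib.Helper16.DetS
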