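import Mathlib
import Groth.Prelude.Def_SGA4hB
import Groth.Agent.Lib.Helper16.DetS3

set_option autoImplicit false

universe u v

namespace Groth.Agent.Lib.Helper16.DetS

open Polynomial TensorProduct CategoryTheory

variable {A : Type u} [CommRing A]

section Split

variable {M N Q : Type*} [AddCommGroup M] [Module A M] [AddCommGroup N] [Module A N]
  [AddCommGroup Q] [Module A Q]
  (ι : N →ₗ[A] M) (ρ : M →ₗ[A] N) (σ : Q →ₗ[A] M) (π : M →ₗ[A] Q)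

/-- the splitting equivalence. -/
def splitEquiv (h1 : ρ ∘ₗ ι = LinearMap.id) (h2 : π ∘ₗ σ = LinearMap.id) (h3 : π ∘ₗ ι = 0)
    (h4 : ρ ∘ₗ σ = 0) (h5 : σ ∘ₗ π + ι ∘ₗ ρ = LinearMap.id) : M ≃ₗ[A] Q × N :=
  LinearEquiv.ofLinear (π.prod ρ) (σ.coprod ι)
    (by
      refine LinearMap.ext fun x => ?_
      obtain ⟨q, n⟩ := x
      have e1 := LinearMap.congr_fun h1 n
      have e2 := LinearMap.congr_fun h2 q
      have e3 := LinearMap.congr_fun h3 n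
      have e4 := LinearMap.congr_fun h4 q
      simp only [LinearMap.comp_apply, LinearMap.id_apply, LinearMap.zero_apply] at e1 e2 e3 e4
      simp [e1, e2, e3, e4])
    (by
      refine LinearMap.ext fun m => ?_
      have e5 := LinearMap.congr_fun h5 m
      simp only [LinearMap.add_apply, LinearMap.comp_apply, LinearMap.id_apply] at e5
      simp [e5])

variable [Module.Free A M] [Module.Finite A M] [Module.Free A N] [Module.Finite A N]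
  [Module.Free A Q] [Module.Finite A Q]

/-- multiplicativity of `det(1 - t ·)` in a split short exact sequence. -/
lemma D_split (h1 : ρ ∘ₗ ι = LinearMap.id) (h2 : π ∘ₗ σ = LinearMap.id) (h3 : π ∘ₗ ι = 0)
    (h5 : σ ∘ₗ π + ι ∘ₗ ρ = LinearMap.id)
    (W : M →ₗ[A] M) (φ : Q →ₗ[A] Q) (ψ : N →ₗ[A] N) (hι : W ∘ₗ ι = ι ∘ₗ ψ)
    (hπ : π ∘ₗ W = φ ∘ₗ π) : D W = D φ * D ψ := by
  have hP : ι ∘ₗ ρ + σ ∘ₗ π = LinearMap.id := by rw [add_comm]; exact h5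
  have e1 : ∀ n, ρ (ι n) = n := fun n => LinearMap.congr_fun h1 n
  have e2 : ∀ q, π (σ q) = q := fun q => LinearMap.congr_fun h2 q
  have e3 : ∀ n, π (ι n) = 0 := fun n => LinearMap.congr_fun h3 n
  have eι : ∀ n, W (ι n) = ι (ψ n) := fun n => LinearMap.congr_fun hι n
  have eπ : ∀ m, π (W m) = φ (π m) := fun m => LinearMap.congr_fun hπ m
  have hQP : (σ ∘ₗ π) ∘ₗ (ι ∘ₗ ρ) = 0 := LinearMap.ext fun m => by simp [e3]
  have hQWP : (σ ∘ₗ π) ∘ₗ W ∘ₗ (ι ∘ₗ ρ) = 0 := LinearMap.ext fun m => by simp [eι, e3]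
  rw [D_key hP hQP hQWP]
  congr 1
  · have a1 : W ∘ₗ (σ ∘ₗ π) = (W ∘ₗ σ) ∘ₗ π := rfl
    have a2 : π ∘ₗ (W ∘ₗ σ) = φ := LinearMap.ext fun q => by simp [eπ, e2]
    rw [a1, D_comm π (W ∘ₗ σ), a2]
  · have a1 : (ι ∘ₗ ρ) ∘ₗ W ∘ₗ (ι ∘ₗ ρ) = ι ∘ₗ (ρ ∘ₗ W ∘ₗ ι ∘ₗ ρ) := rfl
    have a2 : (ρ ∘ₗ W ∘ₗ ι ∘ₗ ρ) ∘ₗ ι = ψ := LinearMap.ext fun n => by simp [e1, eι]
    rw [a1, D_comm (ρ ∘ₗ W ∘ₗ ι ∘ₗ ρ) ι, a2]

end Split

end Groth.Agent.Lib.Helper16.DetS
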