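import Mathlib
import Groth.Prelude.Def_SGA4hB
import Groth.Agent.Lib.Helper16.DetS4

set_option autoImplicit false

universe u v

namespace Groth.Agent.Lib.Helper16.DetS

open Polynomial TensorProduct CategoryTheory CochainComplex HomComplex

variable {A : Type u} [CommRing A]

variable {K K' : CochainComplex (ModuleCat.{u} A) ℤ} (f : K ⟶ K') (u : K ⟶ K) (u' : K' ⟶ K')
  (ho : Homotopy (f ≫ u') (u ≫ f))

/-- the cochain defining the endomorphism of the cone. -/
noncomputable def coneAlpha : Cochain K (mappingCone f) (-1) :=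
  (Cochain.ofHom u).comp (mappingCone.inl f) (zero_add (-1)) +
    (Cochain.ofHomotopy ho).comp (Cochain.ofHom (mappingCone.inr f)) (add_zero (-1))

lemma coneAlpha_eq :
    δ (-1) 0 (coneAlpha f u u' ho) = Cochain.ofHom (f ≫ u' ≫ mappingCone.inr f) := by
  unfold coneAlpha
  rw [δ_add, δ_ofHom_comp, δ_comp_ofHom, mappingCone.δ_inl, δ_ofHomotopy, Cochain.sub_comp,
    ← Cochain.ofHom_comp, ← Cochain.ofHom_comp, ← Cochain.ofHom_comp]
  simp only [Category.assoc]
  abel

/-- the endomorphism of the cone induced by `u`, `u'` and the homotopy. -/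
noncomputable def coneEndo : mappingCone f ⟶ mappingCone f :=
  mappingCone.desc f (coneAlpha f u u' ho) (u' ≫ mappingCone.inr f) (coneAlpha_eq f u u' ho)

lemma inr_coneEndo (i : ℤ) :
    (mappingCone.inr f).f i ≫ (coneEndo f u u' ho).f i = u'.f i ≫ (mappingCone.inr f).f i := by
  unfold coneEndo
  rw [mappingCone.inr_f_desc_f]
  rfl

lemma coneEndo_fst (i j : ℤ) (hij : i + 1 = j) :
    (coneEndo f u u' ho).f i ≫ (mappingCone.fst f).1.v i j hij =
      (mappingCone.fst f).1.v i j hij ≫ u.f j := by
  apply mappingCone.ext_from f j i hij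
  · unfold coneEndo
    rw [mappingCone.inl_v_desc_f_assoc, mappingCone.inl_v_fst_v_assoc]
    unfold coneAlpha
    simp
  · rw [reassoc_of% (inr_coneEndo f u u' ho i)]
    simp

end Groth.Agent.Lib.Helper16.DetS
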