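import Mathlib
import Groth.Prelude.Def_SGA4hB
import Groth.Agent.Lib.Helper16.DetS5

set_option autoImplicit false

universe u v

namespace Groth.Agent.Lib.Helper16.DetS

open Polynomial TensorProduct CategoryTheory CochainComplex HomComplex

variable {A : Type u} [CommRing A]

variable {K K' : CochainComplex (ModuleCat.{u} A) ℤ} (f : K ⟶ K') (u : K ⟶ K) (u' : K' ⟶ K')
  (ho : Homotopy (f ≫ u') (u ≫ f))

section Degree

variable (i : ℤ)

lemma cone_h1 : ((mappingCone.snd f).v i i (add_zero i)).hom ∘ₗ ((mappingCone.inr f).f i).hom =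
    LinearMap.id := by
  rw [← ModuleCat.hom_comp, mappingCone.inr_f_snd_v]
  rfl

lemma cone_h2 : ((mappingCone.fst f).1.v i (i + 1) rfl).hom ∘ₗ
    ((mappingCone.inl f).v (i + 1) i (by omega)).hom = LinearMap.id := by
  rw [← ModuleCat.hom_comp, mappingCone.inl_v_fst_v]
  rfl

lemma cone_h3 : ((mappingCone.fst f).1.v i (i + 1) rfl).hom ∘ₗ ((mappingCone.inr f).f i).hom =
    0 := by
  rw [← ModuleCat.hom_comp, mappingCone.inr_f_fst_v]
  rfl

lemma cone_h4 : ((mappingCone.snd f).v i i (add_zero i)).hom ∘ₗ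
    ((mappingCone.inl f).v (i + 1) i (by omega)).hom = 0 := by
  rw [← ModuleCat.hom_comp, mappingCone.inl_v_snd_v]
  rfl

lemma cone_h5 : ((mappingCone.inl f).v (i + 1) i (by omega)).hom ∘ₗ
      ((mappingCone.fst f).1.v i (i + 1) rfl).hom +
    ((mappingCone.inr f).f i).hom ∘ₗ ((mappingCone.snd f).v i i (add_zero i)).hom =
    LinearMap.id := by
  rw [← ModuleCat.hom_comp, ← ModuleCat.hom_comp, ← ModuleCat.hom_add,
    mappingCone.id_X f i (i + 1) rfl]
  rfl

/-- the degree `i` term of the cone splits as `K^{i+1} × K'^i`. -/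
noncomputable def coneEquiv : (mappingCone f).X i ≃ₗ[A] (K.X (i + 1)) × (K'.X i) :=
  splitEquiv _ _ _ _ (cone_h1 f i) (cone_h2 f i) (cone_h3 f i) (cone_h4 f i) (cone_h5 f i)

lemma cone_finite_free (hK : ∀ i : ℤ, Module.Finite A (K.X i) ∧ Module.Free A (K.X i))
    (hK' : ∀ i : ℤ, Module.Finite A (K'.X i) ∧ Module.Free A (K'.X i)) :
    Module.Finite A ((mappingCone f).X i) ∧ Module.Free A ((mappingCone f).X i) := by
  have := (hK (i + 1)).1
  have := (hK (i + 1)).2
  have := (hK' i).1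
  have := (hK' i).2
  exact ⟨Module.Finite.equiv (coneEquiv f i).symm, Module.Free.of_equiv (coneEquiv f i).symm⟩

lemma cone_detOneSub (hK : ∀ i : ℤ, Module.Finite A (K.X i) ∧ Module.Free A (K.X i))
    (hK' : ∀ i : ℤ, Module.Finite A (K'.X i) ∧ Module.Free A (K'.X i)) :
    SGA4h.detOneSub ((mappingCone f).X i) ((coneEndo f u u' ho).f i) =
      SGA4h.detOneSub (K.X (i + 1)) (u.f (i + 1)) * SGA4h.detOneSub (K'.X i) (u'.f i) := by
  have := (hK (i + 1)).1
  have := (hK (i + 1)).2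
  have := (hK' i).1
  have := (hK' i).2
  have := (cone_finite_free f i hK hK').1
  have := (cone_finite_free f i hK hK').2
  rw [detOneSub_eq, detOneSub_eq, detOneSub_eq]
  refine D_split _ _ _ _ (cone_h1 f i) (cone_h2 f i) (cone_h3 f i) (cone_h5 f i) _ _ _ ?_ ?_
  · rw [← ModuleCat.hom_comp, ← ModuleCat.hom_comp, inr_coneEndo]
  · rw [← ModuleCat.hom_comp, ← ModuleCat.hom_comp, coneEndo_fst]

end Degree

end Groth.Agent.Lib.Helper16.DetS
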