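import Mathlib
import Groth.Prelude.Def_SGA4hB
import Groth.Agent.Lib.Helper16.DetS6

set_option autoImplicit false

universe u v

namespace Groth.Agent.Lib.Helper16.DetS

open Polynomial TensorProduct CategoryTheory CochainComplex HomComplex

variable {A : Type u} [CommRing A]

variable {K K' : CochainComplex (ModuleCat.{u} A) ℤ} (f : K ⟶ K') (u : K ⟶ K) (u' : K' ⟶ K')
  (ho : Homotopy (f ≫ u') (u ≫ f))

lemma finite_mulSupport_detOneSub (L : CochainComplex (ModuleCat.{u} A) ℤ) (w : L ⟶ L) (a b : ℤ)
    [L.IsStrictlyGE a] [L.IsStrictlyLE b] :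
    (Function.mulSupport fun i : ℤ => SGA4h.detOneSub (L.X i) (w.f i)).Finite := by
  apply (Set.finite_Icc a b).subset
  intro i hi
  by_contra hni
  apply hi
  simp only [Set.mem_Icc, not_and_or, not_le] at hni
  have hz : Limits.IsZero (L.X i) := by
    rcases hni with h | h
    · exact L.isZero_of_isStrictlyGE a i h
    · exact L.isZero_of_isStrictlyLE b i h
  haveI := ModuleCat.subsingleton_of_isZero hz
  show SGA4h.detOneSub (L.X i) (w.f i) = 1
  rw [detOneSub_eq]
  exact D_of_subsingleton _

include ho in
/-- the main identity, given a homotopy equivalence compatible with the endomorphisms. -/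
theorem main_of_homotopyEquiv (a b : ℤ) [K.IsStrictlyGE a] [K.IsStrictlyLE b]
    [K'.IsStrictlyGE a] [K'.IsStrictlyLE b]
    (hK : ∀ i : ℤ, Module.Finite A (K.X i) ∧ Module.Free A (K.X i))
    (hK' : ∀ i : ℤ, Module.Finite A (K'.X i) ∧ Module.Free A (K'.X i))
    (hf : IsIso ((HomotopyCategory.quotient _ _).map f)) :
    SGA4h.detEven K u * SGA4h.detOdd K' u' = SGA4h.detOdd K u * SGA4h.detEven K' u' := by
  -- contraction of the cone
  have hz : Limits.IsZero ((HomotopyCategory.quotient _ _).obj (mappingCone f)) :=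
    Pretriangulated.Triangle.isZero₃_of_isIso₁ _
      (HomotopyCategory.mappingCone_triangleh_distinguished f) hf
  have s : Homotopy (𝟙 (mappingCone f)) 0 :=
    HomotopyCategory.homotopyOfEq _ _ (hz.eq_of_src _ _)
  have hcone := detEven_eq_detOdd_of_contractible (mappingCone f) s (coneEndo f u u' ho)
    (fun i => cone_finite_free f i hK hK') (a - 1) b (by
      intro i hi
      apply ModuleCat.subsingleton_of_isZero
      rw [mappingCone.isZero_X_iff]
      rcases hi with h | h
      · exact ⟨K.isZero_of_isStrictlyGE a _ (by omega), K'.isZero_of_isStrictlyGE a _ (by omega)⟩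
      · exact ⟨K.isZero_of_isStrictlyLE b _ (by omega), K'.isZero_of_isStrictlyLE b _ (by omega)⟩)
  have hu := finite_mulSupport_detOneSub K u a b
  have hu' := finite_mulSupport_detOneSub K' u' a b
  have hus := finite_mulSupport_shift _ hu
  -- even part of the cone
  have e1 : SGA4h.detEven (mappingCone f) (coneEndo f u u' ho) =
      SGA4h.detOdd K u * SGA4h.detEven K' u' := by
    unfold SGA4h.detEven SGA4h.detOdd
    simp only [cone_detOneSub f u u' ho _ hK hK']
    rw [finprod_mul_distrib
      (finite_mulSupport_sub (fun i => SGA4h.detOneSub (K.X (i + 1)) (u.f (i + 1))) hus)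
      (finite_mulSupport_sub (fun i => SGA4h.detOneSub (K'.X i) (u'.f i)) hu')]
    congr 1
    exact finprod_comp_equiv evenOddEquiv
      (f := fun j : {j : ℤ // Odd j} => SGA4h.detOneSub (K.X j.1) (u.f j.1))
  have e2 : SGA4h.detOdd (mappingCone f) (coneEndo f u u' ho) =
      SGA4h.detEven K u * SGA4h.detOdd K' u' := by
    unfold SGA4h.detEven SGA4h.detOdd
    simp only [cone_detOneSub f u u' ho _ hK hK']
    rw [finprod_mul_distrib
      (finite_mulSupport_sub (fun i => SGA4h.detOneSub (K.X (i + 1)) (u.f (i + 1))) hus)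
      (finite_mulSupport_sub (fun i => SGA4h.detOneSub (K'.X i) (u'.f i)) hu')]
    congr 1
    exact finprod_comp_equiv oddEvenEquiv
      (f := fun j : {j : ℤ // Even j} => SGA4h.detOneSub (K.X j.1) (u.f j.1))
  rw [← e1, ← e2, hcone]

end Groth.Agent.Lib.Helper16.DetS
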