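import Groth.Agent.Lib.Helper83.Dk0
set_option autoImplicit false

namespace Groth.Agent.Lib.Helper16.Dickson7

open CliffordAlgebra Groth.Agent.Lib.Helper83.Cl2 Groth.Agent.Lib.Helper83.Cl5
  Groth.Agent.Lib.Helper83.Cl6 Groth.Agent.Lib.Helper83.Dk Groth.Agent.Lib.Helper75.OrthSplit

universe u v
variable {R : Type u} [CommRing R]

/-- pure algebra: the idempotent equation for the coefficient. -/
theorem coeff_idem {A : Type v} [Ring A] [Algebra R A] (ζ : A) (c a : R)
    (h1 : ζ * ζ = ζ - c • (1 : A))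
    (h2 : (ζ + a • (1 - (ζ + ζ))) * (ζ + a • (1 - (ζ + ζ))) =
      (ζ + a • (1 - (ζ + ζ))) - c • (1 : A)) :
    ((1 - 4 * c) * (a * a - a)) • (1 : A) = 0 := by
  have e : (ζ + a • (1 - (ζ + ζ))) * (ζ + a • (1 - (ζ + ζ))) =
      ζ * ζ + (2 * a) • ζ - (4 * a) • (ζ * ζ) + (a * a) • (1 : A) - (4 * a * a) • ζ
        + (4 * a * a) • (ζ * ζ) := by
    simp only [mul_add, add_mul, mul_sub, sub_mul, smul_mul_assoc, mul_smul_comm, mul_one,
      one_mul, smul_add, smul_sub, smul_smul]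
    module
  linear_combination (norm := module) h2 - e - (1 - 4 * a + 4 * a * a) • h1

theorem map_zeta_cases [IsLocalRing R] {M : Type v} [AddCommGroup M] [Module R M]
    [Module.Free R M] [Module.Finite R M] (Q : QuadraticForm R M)
    (hQ : Function.Surjective (QuadraticMap.polarBilin Q)) (ζ : CliffordAlgebra Q)
    (hζ : Zeta Q ζ) (g : M ≃ₗ[R] M) (hg : g ∈ QuadGrp.O Q) :
    CliffordAlgebra.map (QuadGrp.isometryOfMem Q g hg) ζ = ζ ∨
      CliffordAlgebra.map (QuadGrp.isometryOfMem Q g hg) ζ = 1 - ζ := by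
  obtain ⟨hz, hza, r, hr⟩ := zeta_z Q hζ
  obtain ⟨he, hv, c, hc, hu⟩ := hζ
  set φ := CliffordAlgebra.map (QuadGrp.isometryOfMem Q g hg) with hφ
  have hge : φ ζ ∈ evenOdd Q 0 := map_mem_evenOdd _ 0 ζ he
  have hgv : ∀ w, ι Q w * φ ζ = (1 - φ ζ) * ι Q w := by
    intro w
    have hw : ι Q w = φ (ι Q (g.symm w)) := by
      rw [hφ, map_apply_ι, QuadGrp.isometryOfMem_apply, LinearEquiv.apply_symm_apply]
    rw [hw, ← map_mul, hv, map_mul, map_sub, map_one]
  have hgc : φ ζ * φ ζ = φ ζ - algebraMap R _ c := by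
    rw [← map_mul, hc, map_sub, AlgHom.commutes]
  have hee : φ ζ - ζ ∈ evenOdd Q 0 := Submodule.sub_mem _ hge he
  have hea : ∀ w, ι Q w * (φ ζ - ζ) = -((φ ζ - ζ) * ι Q w) := by
    intro w
    rw [mul_sub, hgv w, hv w, sub_mul, sub_mul, sub_mul, one_mul]
    abel
  obtain ⟨a, ha⟩ := eq_smul_of_even_anticomm Q hQ _ hz hza r hr _ hee hea
  have hζg : φ ζ = ζ + a • (1 - (ζ + ζ)) := by rw [← ha]; abel
  have key := coeff_idem ζ c a (by rw [hc, Algebra.algebraMap_eq_smul_one])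
    (by rw [← hζg, hgc, Algebra.algebraMap_eq_smul_one])
  rw [← Algebra.algebraMap_eq_smul_one,
    ← map_zero (algebraMap R (CliffordAlgebra Q))] at key
  have key2 := algebraMap_inj Q key
  have key3 : a * a - a = 0 := (hu.mul_right_eq_zero).mp key2
  rcases IsLocalRing.isUnit_or_isUnit_one_sub_self a with h | h
  · right
    have h1 : a * (a - 1) = 0 := by rw [mul_sub, mul_one]; exact key3
    have h2 : a - 1 = 0 := (h.mul_right_eq_zero).mp h1
    have h3 : a = 1 := sub_eq_zero.mp h2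
    rw [hζg, h3, one_smul]; abel
  · left
    have h1 : a * (1 - a) = 0 := by
      rw [mul_sub, mul_one, ← neg_sub, key3, neg_zero]
    have h3 : a = 0 := (h.mul_left_eq_zero).mp h1
    rw [hζg, h3, zero_smul, add_zero]

end Groth.Agent.Lib.Helper16.Dickson7
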