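import Mathlib

/-!
# Discriminant versus length of a full-rank subalgebra over a PID (helper16)

For `S ⊆ St` finite free of the same rank `d` over a PID `R`:
`exists_smith` : there are nonzero `a i` with `St/S ≃ Π R/(a i)` and
`discr bS ~ (∏ a i)^2 * discr bt`.
-/

namespace Groth.Agent.Lib.Helper16.DiscrLength

open Module

section General

variable {A B ι : Type*} [CommRing A] [CommRing B] [Algebra A B] [Fintype ι] [DecidableEq ι]

theorem discr_basis_change (b b' : Basis ι A B) :
    Algebra.discr A b' = (b.toMatrix b').det ^ 2 * Algebra.discr A b := by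
  rw [← Algebra.discr_of_matrix_vecMul]
  congr 1
  ext j
  rw [Matrix.vecMul, dotProduct]
  simp only [Matrix.map_apply]
  rw [← b.sum_toMatrix_smul_self b' j]
  apply Finset.sum_congr rfl
  intro i _
  rw [Algebra.smul_def, mul_comm]

theorem discr_smul_basis (b : Basis ι A B) (a : ι → A) :
    Algebra.discr A (fun i => a i • b i) = (∏ i, a i) ^ 2 * Algebra.discr A b := by
  rw [← Matrix.det_diagonal, ← Algebra.discr_of_matrix_vecMul]
  congr 1
  ext j
  rw [Matrix.vecMul, dotProduct]
  simp only [Matrix.map_apply]
  rw [Finset.sum_eq_single j]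
  · rw [Matrix.diagonal_apply_eq, Algebra.smul_def, mul_comm]
  · intro i _ hij
    rw [Matrix.diagonal_apply_ne _ hij, map_zero, mul_zero]
  · intro h
    exact absurd (Finset.mem_univ j) h

end General

section PID

variable {R St : Type*} [CommRing R] [IsDomain R] [IsPrincipalIdealRing R] [CommRing St]
  [Algebra R St] {d : ℕ} (bt : Basis (Fin d) R St) (S : Subalgebra R St)
  (bS : Basis (Fin d) R S)

omit [IsPrincipalIdealRing R] in
include bt bS in
theorem finrank_toSubmodule_eq :
    Module.finrank R (Subalgebra.toSubmodule S) = Module.finrank R St := by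
  rw [Module.finrank_eq_card_basis bt, ← Module.finrank_eq_card_basis bS]
  exact LinearEquiv.finrank_eq (Subalgebra.toSubmoduleEquiv S)

/-- Coordinates in the top basis of an element of the submodule, in terms of its coordinates in
the bottom Smith basis. -/
theorem repr_top_eq (h : Module.finrank R (Subalgebra.toSubmodule S) = Module.finrank R St)
    (y : Subalgebra.toSubmodule S) (i : Fin d) :
    (Submodule.smithNormalFormTopBasis bt h).repr (y : St) i =
      Submodule.smithNormalFormCoeffs bt h i * (Submodule.smithNormalFormBotBasis bt h).repr y i := by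
  set a := Submodule.smithNormalFormCoeffs bt h
  set b' := Submodule.smithNormalFormTopBasis bt h
  set ab := Submodule.smithNormalFormBotBasis bt h
  have hy : (y : St) = ∑ j, (ab.repr y j * a j) • b' j := by
    conv_lhs => rw [← ab.sum_repr y]
    rw [Submodule.coe_sum]
    apply Finset.sum_congr rfl
    intro j _
    rw [Submodule.coe_smul, Submodule.smithNormalFormBotBasis_def, smul_smul]
  rw [hy, b'.repr_sum_self, mul_comm]

include bt in
/-- The trace of an element of the full-rank subalgebra `S` computed on `S` agrees with the trace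
computed on `St`. -/
theorem trace_subalgebra_eq (h : Module.finrank R (Subalgebra.toSubmodule S) = Module.finrank R St)
    (x : S) : Algebra.trace R S x = Algebra.trace R St (x : St) := by
  classical
  set a := Submodule.smithNormalFormCoeffs bt h with ha
  set b' := Submodule.smithNormalFormTopBasis bt h with hb'
  set ab := Submodule.smithNormalFormBotBasis bt h with hab
  let ab' : Basis (Fin d) R S := ab.map (Subalgebra.toSubmoduleEquiv S)
  rw [Algebra.trace_eq_matrix_trace ab', Algebra.trace_eq_matrix_trace b', Matrix.trace,
    Matrix.trace]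
  apply Finset.sum_congr rfl
  intro j _
  rw [Matrix.diag_apply, Matrix.diag_apply, Algebra.leftMulMatrix_eq_repr_mul,
    Algebra.leftMulMatrix_eq_repr_mul]
  have haj : a j ≠ 0 := Submodule.smithNormalFormCoeffs_ne_zero bt h j
  apply mul_left_cancel₀ haj
  -- the element `y = x * ab' j` of `S`, viewed in the submodule
  let y : Subalgebra.toSubmodule S := (Subalgebra.toSubmoduleEquiv S).symm (x * ab' j)
  have h1 := repr_top_eq bt S h y j
  have hy : (y : St) = a j • ((x : St) * b' j) := by
    show ((x * ab' j : S) : St) = _
    rw [Subalgebra.coe_mul]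
    have : ((ab' j : S) : St) = a j • b' j := by
      show ((ab j : Subalgebra.toSubmodule S) : St) = _
      exact Submodule.smithNormalFormBotBasis_def bt h j
    rw [this, mul_smul_comm]
  have h2 : ab'.repr (x * ab' j) j = ab.repr y j := by
    simp only [ab', Basis.map_repr, LinearEquiv.trans_apply]
    rfl
  rw [h2, ← h1, hy, map_smul, Finsupp.smul_apply, smul_eq_mul]

/-- Smith normal form of a full-rank subalgebra, with the discriminant relation. -/
theorem exists_smith :
    ∃ a : Fin d → R, (∀ i, a i ≠ 0) ∧
      Nonempty ((St ⧸ Subalgebra.toSubmodule S) ≃ₗ[R] Π i, R ⧸ Ideal.span ({a i} : Set R)) ∧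
      ∃ u : R, IsUnit u ∧ Algebra.discr R bS = u * ((∏ i, a i) ^ 2 * Algebra.discr R bt) := by
  classical
  have h := finrank_toSubmodule_eq bt S bS
  set a := Submodule.smithNormalFormCoeffs bt h with ha
  set b' := Submodule.smithNormalFormTopBasis bt h with hb'
  set ab := Submodule.smithNormalFormBotBasis bt h with hab
  let ab' : Basis (Fin d) R S := ab.map (Subalgebra.toSubmoduleEquiv S)
  refine ⟨a, fun i => Submodule.smithNormalFormCoeffs_ne_zero bt h i,
    ⟨Submodule.quotientEquivPiSpan (Subalgebra.toSubmodule S) bt h⟩,
    (ab'.toMatrix bS).det ^ 2 * (bt.toMatrix b').det ^ 2, ?_, ?_⟩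
  · apply IsUnit.mul
    · apply IsUnit.pow
      rw [← Basis.det_apply]
      exact Basis.isUnit_det ab' bS
    · apply IsUnit.pow
      rw [← Basis.det_apply]
      exact Basis.isUnit_det bt b'
  · have hcoe : ∀ i, ((ab' i : S) : St) = a i • b' i := by
      intro i
      show ((ab i : Subalgebra.toSubmodule S) : St) = _
      exact Submodule.smithNormalFormBotBasis_def bt h i
    have h1 : Algebra.discr R (ab' : Fin d → S) = Algebra.discr R (fun i => a i • b' i) := by
      rw [Algebra.discr_def, Algebra.discr_def]
      congr 1
      ext i j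
      rw [Algebra.traceMatrix_apply, Algebra.traceMatrix_apply, Algebra.traceForm_apply,
        Algebra.traceForm_apply, trace_subalgebra_eq bt S h, Subalgebra.coe_mul, hcoe, hcoe]
    rw [discr_basis_change ab' bS, h1, discr_smul_basis, discr_basis_change bt b']
    ring

end PID

end Groth.Agent.Lib.Helper16.DiscrLength
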