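import Mathlib
import Groth.Prelude.Def_Disp2

set_option autoImplicit false
universe u v

open Dieu

namespace Helper16.Disp

section General

variable {A : Type u} [CommRing A] {P : Type v} [AddCommGroup P] [Module A P]

/-- `castHom` preserves `𝔞 • ⊤`. -/
theorem castHom_mem {g g' : A →+* A} (e : g = g') (𝔞 : Ideal A) (z : BC g P)
    (hz : z ∈ 𝔞 • (⊤ : Submodule A (BC g P))) :
    BC.castHom e z ∈ 𝔞 • (⊤ : Submodule A (BC g' P)) := by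
  subst e
  exact hz

theorem tmul_mem {g : A →+* A} (𝔞 : Ideal A) (b : A) (hb : b ∈ 𝔞) (x : P) :
    BC.tmul g b x ∈ 𝔞 • (⊤ : Submodule A (BC g P)) := by
  rw [BC.tmul_eq_smul_tmul_one]
  exact Submodule.smul_mem_smul hb Submodule.mem_top

/-- the twisted push with a cast -/
noncomputable def pushc (τ ρ τ' : A →+* A) (h : τ.comp ρ = τ') : BC ρ P →ₛₗ[τ] BC τ' P :=
  (BC.castHom h).comp (BC.push ρ τ)

@[simp] theorem pushc_tmul (τ ρ τ' : A →+* A) (h : τ.comp ρ = τ') (u : A) (y : P) :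
    pushc τ ρ τ' h (BC.tmul ρ u y) = BC.tmul τ' (τ u) y := by
  rw [pushc, LinearMap.comp_apply, BC.push_tmul, BC.castHom_tmul]

/-- the composite operator `b ⊗ x ↦ b • push (K x)` -/
noncomputable def Tc (τ ρ τ' : A →+* A) (h : τ.comp ρ = τ') (K : P →ₗ[A] BC ρ P) :
    BC τ P →ₗ[A] BC τ' P :=
  BC.lift τ ((pushc τ ρ τ' h).comp K)

@[simp] theorem Tc_tmul (τ ρ τ' : A →+* A) (h : τ.comp ρ = τ') (K : P →ₗ[A] BC ρ P) (b : A) (x : P) :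
    Tc τ ρ τ' h K (BC.tmul τ b x) = b • pushc τ ρ τ' h (K x) := by
  rw [Tc, BC.lift_tmul, LinearMap.comp_apply]

theorem Tc_eq (τ ρ : A →+* A) (K : P →ₗ[A] BC ρ P) (τ' : A →+* A) (h : τ.comp ρ = τ')
    (z : BC τ P) :
    Tc τ ρ τ' h K z = BC.castHom h (BC.lift τ (BC.push ρ τ) (BC.map τ K z)) := by
  induction z using BC.induction_on τ with
  | zero => simp
  | tmul b x =>
    rw [Tc_tmul, BC.map_tmul, BC.lift_tmul, map_smul]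
    rfl
  | add z₁ z₂ h₁ h₂ => rw [map_add, h₁, h₂, map_add, map_add, map_add]

theorem Tc_castHom (τ τ₀ ρ τ' : A →+* A) (e : τ₀ = τ) (h : τ.comp ρ = τ') (h₀ : τ₀.comp ρ = τ')
    (K : P →ₗ[A] BC ρ P) (z : BC τ₀ P) :
    Tc τ ρ τ' h K (BC.castHom e z) = Tc τ₀ ρ τ' h₀ K z := by
  subst e
  rfl

theorem pushc_pushc (τ ρ₁ ρ₂ τ₁ ρ₁₂ τ₂ : A →+* A) (h₁ : τ.comp ρ₁ = τ₁) (h₂ : ρ₁.comp ρ₂ = ρ₁₂)
    (h₃ : τ₁.comp ρ₂ = τ₂) (h₄ : τ.comp ρ₁₂ = τ₂) (w : BC ρ₂ P) :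
    pushc τ ρ₁₂ τ₂ h₄ (pushc ρ₁ ρ₂ ρ₁₂ h₂ w) = pushc τ₁ ρ₂ τ₂ h₃ w := by
  induction w using BC.induction_on ρ₂ with
  | zero => simp
  | tmul v y =>
    rw [pushc_tmul, pushc_tmul, pushc_tmul, ← h₁]
    rfl
  | add z₁ z₂ e₁ e₂ => rw [map_add, map_add, map_add, e₁, e₂]

theorem Tc_pushc (τ ρ₁ ρ₂ τ₁ ρ₁₂ τ₂ : A →+* A) (h₁ : τ.comp ρ₁ = τ₁) (h₂ : ρ₁.comp ρ₂ = ρ₁₂)
    (h₃ : τ₁.comp ρ₂ = τ₂) (h₄ : τ.comp ρ₁₂ = τ₂) (G : P →ₗ[A] BC ρ₂ P) (w : BC ρ₁ P) :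
    Tc τ₁ ρ₂ τ₂ h₃ G (pushc τ ρ₁ τ₁ h₁ w) = pushc τ ρ₁₂ τ₂ h₄ (Tc ρ₁ ρ₂ ρ₁₂ h₂ G w) := by
  induction w using BC.induction_on ρ₁ with
  | zero => simp
  | tmul u y =>
    rw [pushc_tmul, Tc_tmul, Tc_tmul, LinearMap.map_smulₛₗ, pushc_pushc τ ρ₁ ρ₂ τ₁ ρ₁₂ τ₂ h₁ h₂ h₃ h₄]
  | add z₁ z₂ e₁ e₂ => rw [map_add, map_add, map_add, map_add, e₁, e₂]

/-- associativity of `Tc` -/
theorem Tc_Tc (τ ρ₁ ρ₂ τ₁ ρ₁₂ τ₂ : A →+* A) (h₁ : τ.comp ρ₁ = τ₁) (h₂ : ρ₁.comp ρ₂ = ρ₁₂)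
    (h₃ : τ₁.comp ρ₂ = τ₂) (h₄ : τ.comp ρ₁₂ = τ₂) (K : P →ₗ[A] BC ρ₁ P) (G : P →ₗ[A] BC ρ₂ P)
    (z : BC τ P) :
    Tc τ₁ ρ₂ τ₂ h₃ G (Tc τ ρ₁ τ₁ h₁ K z) = Tc τ ρ₁₂ τ₂ h₄ ((Tc ρ₁ ρ₂ ρ₁₂ h₂ G).comp K) z := by
  induction z using BC.induction_on τ with
  | zero => simp
  | tmul b x =>
    rw [Tc_tmul, Tc_tmul, map_smul, LinearMap.comp_apply,
      Tc_pushc τ ρ₁ ρ₂ τ₁ ρ₁₂ τ₂ h₁ h₂ h₃ h₄]
  | add z₁ z₂ e₁ e₂ => rw [map_add, map_add, map_add, e₁, e₂]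

theorem pushc_mem (τ ρ τ' : A →+* A) (h : τ.comp ρ = τ') (𝔟 : Ideal A) (w : BC ρ P)
    (hw : w ∈ 𝔟 • (⊤ : Submodule A (BC ρ P))) :
    pushc τ ρ τ' h w ∈ (𝔟.map τ) • (⊤ : Submodule A (BC τ' P)) := by
  refine Submodule.smul_induction_on hw ?_ ?_
  · intro c hc w _
    rw [LinearMap.map_smulₛₗ]
    exact Submodule.smul_mem_smul (Ideal.mem_map_of_mem τ hc) Submodule.mem_top
  · intro x y hx hy
    rw [map_add]; exact add_mem hx hy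

theorem Tc_mem_of_forall (τ ρ τ' : A →+* A) (h : τ.comp ρ = τ') (K : P →ₗ[A] BC ρ P)
    (𝔟 : Ideal A) (hK : ∀ y, K y ∈ 𝔟 • (⊤ : Submodule A (BC ρ P))) (z : BC τ P) :
    Tc τ ρ τ' h K z ∈ (𝔟.map τ) • (⊤ : Submodule A (BC τ' P)) := by
  induction z using BC.induction_on τ with
  | zero => simp
  | tmul b x =>
    rw [Tc_tmul]
    exact Submodule.smul_mem _ _ (pushc_mem τ ρ τ' h 𝔟 _ (hK x))
  | add z₁ z₂ e₁ e₂ => rw [map_add]; exact add_mem e₁ e₂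

theorem Tc_mem (τ ρ τ' : A →+* A) (h : τ.comp ρ = τ') (K : P →ₗ[A] BC ρ P)
    (𝔞 𝔟 : Ideal A) (hK : ∀ y, K y ∈ 𝔟 • (⊤ : Submodule A (BC ρ P))) (z : BC τ P)
    (hz : z ∈ 𝔞 • (⊤ : Submodule A (BC τ P))) :
    Tc τ ρ τ' h K z ∈ (𝔞 * 𝔟.map τ) • (⊤ : Submodule A (BC τ' P)) := by
  refine Submodule.smul_induction_on hz ?_ ?_
  · intro c hc w _
    rw [map_smul, Submodule.mul_smul]
    exact Submodule.smul_mem_smul hc (Tc_mem_of_forall τ ρ τ' h K 𝔟 hK w)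
  · intro x y hx hy
    rw [map_add]; exact add_mem hx hy

end General

end Helper16.Disp
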