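import Groth.Agent.Lib.Helper16.Disp9

set_option autoImplicit false
universe u v w

open Dieu

namespace Helper16.Disp

section Coord

variable {A : Type u} [CommRing A] {P : Type v} [AddCommGroup P] [Module A P]

/-- coordinate functional on `BC g P` induced from a functional on `P` -/
noncomputable def bcCoord (g : A →+* A) (c : P →ₗ[A] A) : BC g P →ₗ[A] A :=
  BC.lift g ((semilinearOfRingHom g).comp c)

@[simp] theorem bcCoord_tmul (g : A →+* A) (c : P →ₗ[A] A) (b : A) (x : P) :
    bcCoord g c (BC.tmul g b x) = b * g (c x) := by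
  rw [bcCoord, BC.lift_tmul, LinearMap.comp_apply, semilinearOfRingHom_apply, smul_eq_mul]

theorem bcCoord_mem (g : A →+* A) (c : P →ₗ[A] A) (𝔞 : Ideal A) (z : BC g P)
    (hz : z ∈ 𝔞 • (⊤ : Submodule A (BC g P))) : bcCoord g c z ∈ 𝔞 := by
  refine Submodule.smul_induction_on hz ?_ ?_
  · intro r hr w _
    rw [map_smul, smul_eq_mul]
    exact Ideal.mul_mem_right _ _ hr
  · intro x y hx hy
    rw [map_add]; exact add_mem hx hy

variable {ι : Type w} [Fintype ι] [DecidableEq ι] (e : ι → P) (c : ι → (P →ₗ[A] A))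
  (hce : ∀ i j, c i (e j) = if i = j then 1 else 0)
  (hsum : ∀ x : P, x = Finset.univ.sum fun i => c i x • e i)

include hce in
theorem bcCoord_sum_tmul (g : A →+* A) (a : ι → A) (m : ι) :
    bcCoord g (c m) (Finset.univ.sum fun i => BC.tmul g (a i) (e i)) = a m := by
  rw [map_sum]
  simp only [bcCoord_tmul, hce]
  rw [Finset.sum_eq_single m]
  · rw [if_pos rfl, map_one, mul_one]
  · intro b _ hb
    rw [if_neg (Ne.symm hb), map_zero, mul_zero]
  · intro h; exact absurd (Finset.mem_univ m) h

include hce hsum in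
theorem forall_mem_iff (g : A →+* A) (K : P →ₗ[A] BC g P) (Mat : ι → ι → A)
    (hK : ∀ i, K (e i) = Finset.univ.sum fun m => BC.tmul g (Mat m i) (e m)) (𝔞 : Ideal A) :
    (∀ x : P, K x ∈ 𝔞 • (⊤ : Submodule A (BC g P))) ↔ ∀ m i, Mat m i ∈ 𝔞 := by
  constructor
  · intro h m i
    have h1 := bcCoord_mem g (c m) 𝔞 _ (h (e i))
    rw [hK, bcCoord_sum_tmul e c hce] at h1
    exact h1
  · intro h x
    rw [hsum x, map_sum]
    refine Submodule.sum_mem _ fun i _ => ?_
    rw [map_smul, hK]
    refine Submodule.smul_mem _ _ (Submodule.sum_mem _ fun m _ => ?_)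
    exact tmul_mem 𝔞 _ (h m i) _

end Coord

section Iter

variable {p : ℕ} [Fact p.Prime] {R : Type u} [CommRing R]
variable {P : Type v} [AddCommGroup P] [Module (WittVector p R) P]

local notation "σ" => (WittVector.frobenius : WittVector p R →+* WittVector p R)

variable {ι : Type w} [Fintype ι] [DecidableEq ι] (e : ι → P)

/-- The matrices of the iterates of `V#`. -/
noncomputable def iterMat (γ : Matrix ι ι (WittVector p R)) : ℕ → Matrix ι ι (WittVector p R)
  | 0 => γ
  | n + 1 => (iterMat γ n).map σ * γ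

theorem vSharpPow_basis (Vs : P →ₗ[WittVector p R] BC σ P) (γ : Matrix ι ι (WittVector p R))
    (hVs : ∀ i, Vs (e i) = Finset.univ.sum fun m => BC.tmul σ (γ m i) (e m)) (n : ℕ) (i : ι) :
    vSharpPow Vs n (e i) =
      Finset.univ.sum fun m => BC.tmul (σ ^ (n + 1)) (iterMat γ n m i) (e m) := by
  induction n generalizing i with
  | zero =>
    rw [vSharpPow_zero_apply, hVs, map_sum]
    refine Finset.sum_congr rfl fun m _ => ?_
    rw [BC.castHom_tmul]
    rfl
  | succ n ih =>
    rw [vSharpPow_succ_eq_Tc, hVs, map_sum]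
    have h1 : ∀ j : ι, Tc σ (σ ^ (n + 1)) (σ ^ (n + 1 + 1)) (comp_pow_eq_pow_succ σ (n + 1))
        (vSharpPow Vs n) (BC.tmul σ (γ j i) (e j)) =
        Finset.univ.sum fun m =>
          BC.tmul (σ ^ (n + 1 + 1)) (σ (iterMat γ n m j) * γ j i) (e m) := by
      intro j
      rw [Tc_tmul, ih, map_sum, Finset.smul_sum]
      refine Finset.sum_congr rfl fun m _ => ?_
      rw [pushc_tmul, BC.smul_tmul, mul_comm]
    simp only [h1]
    rw [Finset.sum_comm]
    refine Finset.sum_congr rfl fun m _ => ?_
    have h2 : iterMat γ (n + 1) m i =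
        Finset.univ.sum fun j => σ (iterMat γ n m j) * γ j i := by
      change ((iterMat γ n).map σ * γ) m i = _
      rw [Matrix.mul_apply]
      rfl
    rw [h2]
    induction (Finset.univ : Finset ι) using Finset.induction_on with
    | empty => simp
    | insert a s ha ih' => rw [Finset.sum_insert ha, Finset.sum_insert ha, BC.add_tmul, ih']

end Iter

end Helper16.Disp
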