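import Groth.Agent.Lib.Helper16.Disp10

set_option autoImplicit false
universe u v w

open Dieu

namespace Helper16.Disp

section Pi

variable {p : ℕ} [Fact p.Prime] {R : Type u} [CommRing R]

local notation "σ" => (WittVector.frobenius : WittVector p R →+* WittVector p R)

/-- `W(R) → R → R/pR`. -/
noncomputable def piBar : WittVector p R →+* R ⧸ Ideal.span {(p : R)} :=
  (Ideal.Quotient.mk (Ideal.span {(p : R)})).comp WittVector.constantCoeff

theorem piBar_apply (w : WittVector p R) :
    piBar w = Ideal.Quotient.mk (Ideal.span {(p : R)}) (w.coeff 0) := rfl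

theorem mk_p_eq_zero : Ideal.Quotient.mk (Ideal.span {(p : R)}) (p : R) = 0 :=
  Ideal.Quotient.eq_zero_iff_mem.mpr (Ideal.mem_span_singleton_self _)

theorem piBar_natCast_p : piBar (p : WittVector p R) = 0 := by
  rw [piBar, RingHom.comp_apply, map_natCast]
  exact mk_p_eq_zero

theorem piBar_frobenius (w : WittVector p R) : piBar (σ w) = piBar w ^ p := by
  obtain ⟨z, hz⟩ := frobenius_coeff_zero w
  rw [piBar_apply, piBar_apply, hz, map_add, map_mul, map_pow, mk_p_eq_zero, zero_mul, add_zero]

theorem piBar_frobenius_pow (i : ℕ) (w : WittVector p R) :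
    piBar ((σ ^ i) w) = piBar w ^ p ^ i := by
  induction i with
  | zero => simp
  | succ i ih =>
    rw [pow_succ', RingHom.mul_def, RingHom.comp_apply, piBar_frobenius, ih, ← pow_mul, ← pow_succ]

theorem eq_verschiebung_shift (x : WittVector p R) (hx : x.coeff 0 = 0) :
    x = WittVector.verschiebung (x.shift 1) := by
  have := WittVector.eq_iterate_verschiebung (x := x) (n := 1) (by
    intro i hi
    obtain rfl : i = 0 := by omega
    exact hx)
  simpa using this

theorem mem_IV_sup_iff (x : WittVector p R) :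
    x ∈ W4c1extbt610.IV p R ⊔ Ideal.span {(p : WittVector p R)} ↔ piBar x = 0 := by
  constructor
  · intro hx
    obtain ⟨a, ha, b, hb, rfl⟩ := Submodule.mem_sup.mp hx
    obtain ⟨z, rfl⟩ := exists_verschiebung_of_mem_IV a ha
    obtain ⟨c, rfl⟩ := Ideal.mem_span_singleton'.mp hb
    rw [map_add, map_mul, piBar_natCast_p, mul_zero, add_zero, piBar_apply,
      WittVector.verschiebung_coeff_zero, map_zero]
  · intro hx
    rw [piBar_apply, Ideal.Quotient.eq_zero_iff_mem] at hx
    obtain ⟨r, hr⟩ := Ideal.mem_span_singleton'.mp hx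
    set y := x - WittVector.teichmuller p r * (p : WittVector p R) with hy
    have hy0 : y.coeff 0 = 0 := by
      have h1 : y.coeff 0 = WittVector.constantCoeff y := rfl
      rw [h1, hy, map_sub, map_mul, map_natCast]
      change x.coeff 0 - (WittVector.teichmuller p r).coeff 0 * (p : R) = 0
      rw [WittVector.teichmuller_coeff_zero, hr, sub_self]
    have hyV := eq_verschiebung_shift y hy0
    have hxy : x = y + WittVector.teichmuller p r * (p : WittVector p R) := by
      rw [hy]; ring
    rw [hxy]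
    refine Submodule.add_mem_sup ?_ ?_
    · rw [hyV]; exact W4c1extbt610.verschiebung_mem_IV p R _
    · exact Ideal.mul_mem_left _ _ (Ideal.mem_span_singleton_self _)

end Pi

section MatMod

variable {p : ℕ} [Fact p.Prime] {R : Type u} [CommRing R]

local notation "σ" => (WittVector.frobenius : WittVector p R →+* WittVector p R)

variable {ιT ιL : Type w} [Fintype ιT] [Fintype ιL] [DecidableEq ιT] [DecidableEq ιL]

/-- twisted product over `W`. -/
noncomputable def QN (βLL : Matrix ιL ιL (WittVector p R)) (N : ℕ) : Matrix ιL ιL (WittVector p R) :=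
  ((List.range N).reverse.map fun i : ℕ => βLL.map (σ ^ i : WittVector p R →+* WittVector p R)).prod

theorem QN_zero (βLL : Matrix ιL ιL (WittVector p R)) : QN βLL 0 = 1 := by
  simp [QN]

theorem QN_succ (βLL : Matrix ιL ιL (WittVector p R)) (N : ℕ) :
    QN βLL (N + 1) = βLL.map (σ ^ N : WittVector p R →+* WittVector p R) * QN βLL N := by
  simp [QN, List.range_succ]

theorem QN_succ' (βLL : Matrix ιL ιL (WittVector p R)) (N : ℕ) :
    QN βLL (N + 1) = (QN βLL N).map σ * βLL := by
  induction N with
  | zero =>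
    rw [QN_succ, QN_zero, mul_one, pow_zero]
    have : (1 : Matrix ιL ιL (WittVector p R)).map σ = 1 := Matrix.map_one _ (map_zero _) (map_one _)
    rw [this, one_mul]
    ext k l
    rfl
  | succ N ih =>
    rw [QN_succ, ih, ← mul_assoc]
    congr 1
    rw [← ih, QN_succ, Matrix.map_mul]
    congr 1
    ext k l
    rw [Matrix.map_apply, Matrix.map_apply, Matrix.map_apply, pow_succ', RingHom.mul_def,
      RingHom.comp_apply]

/-- the diagonal entries `p` on `T`, `1` on `L` -/
noncomputable def dp : ιT ⊕ ιL → WittVector p R := Sum.elim (fun _ => (p : WittVector p R)) (fun _ => 1)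

/-- the matrix of `V#` -/
noncomputable def gammaMat (β : Matrix (ιT ⊕ ιL) (ιT ⊕ ιL) (WittVector p R)) :
    Matrix (ιT ⊕ ιL) (ιT ⊕ ιL) (WittVector p R) :=
  fun m i => dp m * β m i

theorem piBar_gammaMat_inl (β : Matrix (ιT ⊕ ιL) (ιT ⊕ ιL) (WittVector p R)) (j : ιT)
    (c : ιT ⊕ ιL) : piBar (gammaMat β (Sum.inl j) c) = 0 := by
  rw [gammaMat, dp, Sum.elim_inl, map_mul, piBar_natCast_p, zero_mul]

theorem gammaMat_inr (β : Matrix (ιT ⊕ ιL) (ιT ⊕ ιL) (WittVector p R)) (k : ιL)
    (c : ιT ⊕ ιL) : gammaMat β (Sum.inr k) c = β (Sum.inr k) c := by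
  rw [gammaMat, dp, Sum.elim_inr, one_mul]

theorem piBar_iterMat_succ (β : Matrix (ιT ⊕ ιL) (ιT ⊕ ιL) (WittVector p R)) (n : ℕ)
    (r c : ιT ⊕ ιL) :
    piBar (iterMat (gammaMat β) (n + 1) r c) =
      Finset.univ.sum fun l : ιL =>
        piBar (iterMat (gammaMat β) n r (Sum.inr l)) ^ p * piBar (β (Sum.inr l) c) := by
  change piBar (((iterMat (gammaMat β) n).map σ * gammaMat β) r c) = _
  rw [Matrix.mul_apply, map_sum, Fintype.sum_sum_type]
  have h1 : (Finset.univ.sum fun j : ιT =>
      piBar (((iterMat (gammaMat β) n).map σ) r (Sum.inl j) * gammaMat β (Sum.inl j) c)) = 0 := by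
    refine Finset.sum_eq_zero fun j _ => ?_
    rw [map_mul, piBar_gammaMat_inl, mul_zero]
  rw [h1, zero_add]
  refine Finset.sum_congr rfl fun l _ => ?_
  rw [map_mul, Matrix.map_apply, piBar_frobenius, gammaMat_inr]

theorem piBar_iterMat_inl (β : Matrix (ιT ⊕ ιL) (ιT ⊕ ιL) (WittVector p R)) (n : ℕ)
    (j : ιT) (c : ιT ⊕ ιL) : piBar (iterMat (gammaMat β) n (Sum.inl j) c) = 0 := by
  induction n generalizing c with
  | zero => exact piBar_gammaMat_inl β j c
  | succ n ih =>
    rw [piBar_iterMat_succ]
    refine Finset.sum_eq_zero fun l _ => ?_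
    rw [ih, zero_pow (Fact.out : p.Prime).ne_zero, zero_mul]

theorem piBar_iterMat_inr_inr (β : Matrix (ιT ⊕ ιL) (ιT ⊕ ιL) (WittVector p R)) (n : ℕ)
    (k l : ιL) :
    piBar (iterMat (gammaMat β) n (Sum.inr k) (Sum.inr l)) =
      piBar (QN (Matrix.of fun k l : ιL => β (Sum.inr k) (Sum.inr l)) (n + 1) k l) := by
  induction n generalizing l with
  | zero =>
    rw [QN_succ, QN_zero, mul_one, pow_zero]
    change piBar (gammaMat β (Sum.inr k) (Sum.inr l)) = _
    rw [gammaMat_inr]
    rfl
  | succ n ih =>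
    rw [piBar_iterMat_succ, QN_succ' _ (n + 1), Matrix.mul_apply, map_sum]
    refine Finset.sum_congr rfl fun l' _ => ?_
    rw [ih, map_mul, Matrix.map_apply, piBar_frobenius]
    rfl

/-- The statement's product is the reduction of `QN`. -/
theorem prod_eq_QN_map (β : Matrix (ιT ⊕ ιL) (ιT ⊕ ιL) (WittVector p R)) (N : ℕ) :
    (((List.range N).reverse.map fun i : ℕ =>
        (Matrix.of fun k l : ιL =>
            Ideal.Quotient.mk (Ideal.span {(p : R)})
              (WittVector.constantCoeff (β (Sum.inr k) (Sum.inr l)))).map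
          fun x : R ⧸ Ideal.span {(p : R)} => x ^ p ^ i).prod) =
      (QN (Matrix.of fun k l : ιL => β (Sum.inr k) (Sum.inr l)) N).map piBar := by
  induction N with
  | zero =>
    rw [QN_zero]
    have : (1 : Matrix ιL ιL (WittVector p R)).map (piBar (p := p) (R := R)) = 1 :=
      Matrix.map_one _ (map_zero _) (map_one _)
    rw [this]
    simp
  | succ N ih =>
    rw [QN_succ, Matrix.map_mul, ← ih]
    rw [List.range_succ, List.reverse_append, List.reverse_singleton, List.singleton_append,
      List.map_cons, List.prod_cons]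
    congr 1
    ext k l
    rw [Matrix.map_apply, Matrix.map_apply, Matrix.map_apply, piBar_frobenius_pow]
    rfl

end MatMod

end Helper16.Disp
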