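import Groth.Agent.Lib.Helper16.Disp11

set_option autoImplicit false
universe u v w

open Dieu

namespace Helper16.Disp

section Crit

variable {p : ℕ} [Fact p.Prime] {R : Type u} [CommRing R]
variable {P : Type v} [AddCommGroup P] [Module (WittVector p R) P]

local notation "σ" => (WittVector.frobenius : WittVector p R →+* WittVector p R)

variable (D : W4c1extbt610.Display3n p R P) {L T : Submodule (WittVector p R) P}
  (hLT : IsCompl L T) (hLQ : L ≤ D.Q)
  {ιT ιL : Type w} [Fintype ιT] [Fintype ιL] [DecidableEq ιT] [DecidableEq ιL]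
  (bT : Module.Basis ιT (WittVector p R) T) (bL : Module.Basis ιL (WittVector p R) L)

/-- the basis of `P` from bases of `T` and `L`. -/
noncomputable def eFam : ιT ⊕ ιL → P :=
  Sum.elim (fun a : ιT => (bT a : P)) (fun a : ιL => (bL a : P))

/-- coordinates -/
noncomputable def cFam : ιT ⊕ ιL → (P →ₗ[WittVector p R] WittVector p R) :=
  Sum.elim (fun j => (bT.coord j).comp (Submodule.projectionOnto T L hLT.symm))
    (fun k => (bL.coord k).comp (Submodule.projectionOnto L T hLT))

theorem cFam_eFam (i j : ιT ⊕ ιL) :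
    cFam hLT bT bL i (eFam bT bL j) = if i = j then 1 else 0 := by
  rcases i with i | i <;> rcases j with j | j
  · change bT.coord i (Submodule.projectionOnto T L hLT.symm (bT j : P)) = _
    rw [Submodule.projectionOnto_apply_left hLT.symm (bT j), Module.Basis.coord_apply,
      Module.Basis.repr_self, Finsupp.single_apply]
    simp [eq_comm]
  · change bT.coord i (Submodule.projectionOnto T L hLT.symm (bL j : P)) = _
    rw [Submodule.projectionOnto_apply_right hLT.symm (bL j), map_zero]
    simp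
  · change bL.coord i (Submodule.projectionOnto L T hLT (bT j : P)) = _
    rw [Submodule.projectionOnto_apply_right hLT (bT j), map_zero]
    simp
  · change bL.coord i (Submodule.projectionOnto L T hLT (bL j : P)) = _
    rw [Submodule.projectionOnto_apply_left hLT (bL j), Module.Basis.coord_apply,
      Module.Basis.repr_self, Finsupp.single_apply]
    simp [eq_comm]

theorem eFam_sum (x : P) :
    x = Finset.univ.sum fun i => cFam hLT bT bL i x • eFam bT bL i := by
  rw [Fintype.sum_sum_type]
  have h1 := Submodule.projection_add_projection_eq_self hLT x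
  have hL : ((Submodule.projectionOnto L T hLT x : L) : P) =
      Finset.univ.sum fun k : ιL =>
        cFam hLT bT bL (Sum.inr k) x • eFam bT bL (Sum.inr k) := by
    conv_lhs => rw [← bL.sum_repr (Submodule.projectionOnto L T hLT x)]
    rw [Submodule.coe_sum]
    rfl
  have hT : ((Submodule.projectionOnto T L hLT.symm x : T) : P) =
      Finset.univ.sum fun k : ιT =>
        cFam hLT bT bL (Sum.inl k) x • eFam bT bL (Sum.inl k) := by
    conv_lhs => rw [← bT.sum_repr (Submodule.projectionOnto T L hLT.symm x)]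
    rw [Submodule.coe_sum]
    rfl
  rw [← hL, ← hT, add_comm]
  exact h1.symm

variable (α β : Matrix (ιT ⊕ ιL) (ιT ⊕ ιL) (WittVector p R))

theorem Vs_eFam (hαβ : α * β = 1)
    (hF : ∀ j : ιT, D.F (bT j : P) =
      Finset.univ.sum fun i : ιT ⊕ ιL => α i (Sum.inl j) • eFam bT bL i)
    (hV : ∀ k : ιL, D.Vinv ⟨(bL k : P), hLQ (bL k).2⟩ =
      Finset.univ.sum fun i : ιT ⊕ ιL => α i (Sum.inr k) • eFam bT bL i)
    (Vs : P →ₗ[WittVector p R] BC σ P) (hVs : IsVSharp D Vs) (i : ιT ⊕ ιL) :
    Vs (eFam bT bL i) =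
      Finset.univ.sum fun m => BC.tmul σ (gammaMat β m i) (eFam bT bL m) := by
  have hcol : ∀ c : ιT ⊕ ιL,
      (Finset.univ.sum fun i' : ιT ⊕ ιL => α i' c • Vs (eFam bT bL i')) =
        dp (p := p) (R := R) c • BC.tmul σ 1 (eFam bT bL c) := by
    intro c
    rcases c with j | k
    · have h1 := hVs.app_smul_F 1 (bT j : P)
      rw [one_smul, hF j, map_sum] at h1
      simp only [map_smul] at h1
      rw [h1]
      rfl
    · have h1 := hVs.app_smul_Vinv 1 ⟨(bL k : P), hLQ (bL k).2⟩
      rw [one_smul, hV k, map_sum] at h1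
      simp only [map_smul] at h1
      rw [h1]
      change _ = (1 : WittVector p R) • _
      rw [one_smul]
      rfl
  have h2 : (Finset.univ.sum fun c : ιT ⊕ ιL =>
      β c i • Finset.univ.sum fun i' : ιT ⊕ ιL => α i' c • Vs (eFam bT bL i')) =
      Vs (eFam bT bL i) := by
    simp only [Finset.smul_sum, smul_smul]
    rw [Finset.sum_comm]
    have h3 : ∀ i' : ιT ⊕ ιL,
        (Finset.univ.sum fun c : ιT ⊕ ιL => (β c i * α i' c) • Vs (eFam bT bL i')) =
          (if i' = i then (1 : WittVector p R) else 0) • Vs (eFam bT bL i') := by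
      intro i'
      rw [← Finset.sum_smul]
      congr 1
      have h4 := congrFun (congrFun hαβ i') i
      rw [Matrix.mul_apply, Matrix.one_apply] at h4
      rw [← h4]
      exact Finset.sum_congr rfl fun c _ => mul_comm _ _
    simp only [h3]
    rw [Finset.sum_eq_single i]
    · rw [if_pos rfl, one_smul]
    · intro b _ hb
      rw [if_neg hb, zero_smul]
    · intro h; exact absurd (Finset.mem_univ i) h
  rw [← h2]
  refine Finset.sum_congr rfl fun c _ => ?_
  rw [hcol c, smul_smul, BC.smul_tmul, mul_one, gammaMat, mul_comm]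

include hLT in
theorem isDisplay_iff_matrix (hp : IsNilpotent (p : R)) (hαβ : α * β = 1)
    (hF : ∀ j : ιT, D.F (bT j : P) =
      Finset.univ.sum fun i : ιT ⊕ ιL => α i (Sum.inl j) • eFam bT bL i)
    (hV : ∀ k : ιL, D.Vinv ⟨(bL k : P), hLQ (bL k).2⟩ =
      Finset.univ.sum fun i : ιT ⊕ ιL => α i (Sum.inr k) • eFam bT bL i) :
    IsDisplay D ↔
      ∃ N : ℕ, 0 < N ∧
        (QN (Matrix.of fun k l : ιL => β (Sum.inr k) (Sum.inr l)) N).map
          (piBar (p := p) (R := R)) = 0 := by
  obtain ⟨Vs, hVs⟩ := exists_isVSharp D hp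
  have hVse := Vs_eFam D hLQ bT bL α β hαβ hF hV Vs hVs
  have key : ∀ n : ℕ,
      (∀ x : P, vSharpPow Vs n x ∈
        (W4c1extbt610.IV p R ⊔ Ideal.span {(p : WittVector p R)}) •
          (⊤ : Submodule (WittVector p R) (BC (σ ^ (n + 1)) P))) ↔
      ∀ m i, iterMat (gammaMat β) n m i ∈
        W4c1extbt610.IV p R ⊔ Ideal.span {(p : WittVector p R)} := fun n =>
    forall_mem_iff (eFam bT bL) (cFam hLT bT bL) (cFam_eFam hLT bT bL) (eFam_sum hLT bT bL)
      (σ ^ (n + 1)) (vSharpPow Vs n) (iterMat (gammaMat β) n)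
      (vSharpPow_basis (eFam bT bL) Vs (gammaMat β) hVse n) _
  constructor
  · rintro ⟨Vs', hVs', n, hn⟩
    obtain rfl := isVSharp_unique D Vs' Vs hVs' hVs
    have h1 := (key n).mp hn
    refine ⟨n + 1, Nat.succ_pos n, ?_⟩
    ext k l
    rw [Matrix.map_apply, Matrix.zero_apply, ← piBar_iterMat_inr_inr]
    exact (mem_IV_sup_iff _).mp (h1 _ _)
  · rintro ⟨N, hN, h⟩
    obtain ⟨n, rfl⟩ : ∃ n, N = n + 1 := ⟨N - 1, by omega⟩
    refine ⟨Vs, hVs, n + 1, (key (n + 1)).mpr ?_⟩
    intro m i
    rw [mem_IV_sup_iff]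
    rcases m with j | k
    · exact piBar_iterMat_inl β (n + 1) j i
    · rw [piBar_iterMat_succ]
      refine Finset.sum_eq_zero fun l _ => ?_
      have h2 := congrFun (congrFun h k) l
      rw [Matrix.map_apply, Matrix.zero_apply] at h2
      rw [piBar_iterMat_inr_inr, h2, zero_pow (Fact.out : p.Prime).ne_zero, zero_mul]

end Crit

end Helper16.Disp
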