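import Groth.Agent.Lib.Helper16.Disp1

set_option autoImplicit false
universe u v

open Dieu

namespace Helper16.Disp

section VS

variable {p : ℕ} [Fact p.Prime] {R : Type u} [CommRing R]
variable {P : Type v} [AddCommGroup P] [Module (WittVector p R) P]

local notation "σ" => (WittVector.frobenius : WittVector p R →+* WittVector p R)

theorem vSharpPow_succ_eq_Tc (Vs : P →ₗ[WittVector p R] BC σ P) (n : ℕ) (x : P) :
    vSharpPow Vs (n + 1) x =
      Tc σ (σ ^ (n + 1)) (σ ^ (n + 1 + 1)) (comp_pow_eq_pow_succ σ (n + 1)) (vSharpPow Vs n) (Vs x) := by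
  rw [Tc_eq, vSharpPow_succ_apply]

theorem pow_comp_pow (m n N : ℕ) (hN : N = m + n + 1) :
    (σ ^ (m + 1)).comp (σ ^ (n + 1)) = σ ^ (N + 1) := by
  subst hN
  rw [← RingHom.mul_def, ← pow_add]
  congr 1
  omega

/-- associativity of iterated `V^#` -/
theorem vSharpPow_add (Vs : P →ₗ[WittVector p R] BC σ P) (m n N : ℕ) (hN : N = m + n + 1)
    (h : (σ ^ (m + 1)).comp (σ ^ (n + 1)) = σ ^ (N + 1)) (x : P) :
    vSharpPow Vs N x =
      Tc (σ ^ (m + 1)) (σ ^ (n + 1)) (σ ^ (N + 1)) h (vSharpPow Vs n) (vSharpPow Vs m x) := by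
  induction m generalizing N x with
  | zero =>
    obtain rfl : N = n + 1 := by omega
    rw [vSharpPow_succ_eq_Tc, vSharpPow_zero_apply]
    rw [Tc_castHom (σ ^ (0 + 1)) σ (σ ^ (n + 1)) (σ ^ (n + 1 + 1)) (pow_one σ).symm h
      (comp_pow_eq_pow_succ σ (n + 1))]
  | succ m ih =>
    obtain ⟨N', rfl, hN'⟩ : ∃ N', N = N' + 1 ∧ N' = m + n + 1 := ⟨m + n + 1, by omega, rfl⟩
    have h' : (σ ^ (m + 1)).comp (σ ^ (n + 1)) = σ ^ (N' + 1) := pow_comp_pow m n N' hN'
    have ihmap : vSharpPow Vs N' =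
        (Tc (σ ^ (m + 1)) (σ ^ (n + 1)) (σ ^ (N' + 1)) h' (vSharpPow Vs n)).comp (vSharpPow Vs m) := by
      apply LinearMap.ext
      intro y
      rw [ih N' hN' h' y, LinearMap.comp_apply]
    rw [vSharpPow_succ_eq_Tc, ihmap, vSharpPow_succ_eq_Tc Vs m x]
    rw [Tc_Tc σ (σ ^ (m + 1)) (σ ^ (n + 1)) (σ ^ (m + 1 + 1)) (σ ^ (N' + 1)) (σ ^ (N' + 1 + 1))
      (comp_pow_eq_pow_succ σ (m + 1)) h' h (comp_pow_eq_pow_succ σ (N' + 1))]

/-- level predicate -/
def Lv (Vs : P →ₗ[WittVector p R] BC σ P) (m : ℕ) (𝔞 : Ideal (WittVector p R)) : Prop :=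
  ∀ x : P, vSharpPow Vs m x ∈ 𝔞 • (⊤ : Submodule (WittVector p R) (BC (σ ^ (m + 1)) P))

theorem Lv_add (Vs : P →ₗ[WittVector p R] BC σ P) (m n : ℕ) (𝔞 𝔟 : Ideal (WittVector p R))
    (hm : Lv Vs m 𝔞) (hn : Lv Vs n 𝔟) :
    Lv Vs (m + n + 1) (𝔞 * 𝔟.map (σ ^ (m + 1))) := by
  intro x
  rw [vSharpPow_add Vs m n (m + n + 1) rfl (pow_comp_pow m n _ rfl) x]
  exact Tc_mem _ _ _ _ _ 𝔞 𝔟 hn _ (hm x)

theorem Lv_mono (Vs : P →ₗ[WittVector p R] BC σ P) (m : ℕ) (𝔞 𝔟 : Ideal (WittVector p R))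
    (h : 𝔞 ≤ 𝔟) (hm : Lv Vs m 𝔞) : Lv Vs m 𝔟 :=
  fun x => Submodule.smul_mono_left h (hm x)

theorem map_frob_pow_J_le (m : ℕ) :
    (W4c1extbt610.IV p R ⊔ Ideal.span {(p : WittVector p R)}).map (σ ^ (m + 1)) ≤
      Ideal.span {(p : WittVector p R)} := by
  rw [Ideal.map_sup, sup_le_iff]
  constructor
  · rw [W4c1extbt610.IV, Ideal.map_span, Ideal.span_le]
    rintro _ ⟨_, ⟨w, rfl⟩, rfl⟩
    rw [pow_succ, RingHom.mul_def, RingHom.comp_apply, WittVector.frobenius_verschiebung, map_mul,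
      map_natCast]
    exact Ideal.mul_mem_left _ _ (Ideal.subset_span rfl)
  · rw [Ideal.map_span, Ideal.span_le]
    rintro _ ⟨_, rfl, rfl⟩
    rw [map_natCast]
    exact Ideal.subset_span rfl

theorem Lv_iter (Vs : P →ₗ[WittVector p R] BC σ P) (n0 : ℕ)
    (h0 : Lv Vs n0 (W4c1extbt610.IV p R ⊔ Ideal.span {(p : WittVector p R)})) (a : ℕ) :
    Lv Vs (a * (n0 + 1) + n0) (Ideal.span {(p : WittVector p R)} ^ a) := by
  induction a with
  | zero =>
    intro x
    simp
  | succ a ih =>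
    have h1 := Lv_add Vs _ _ _ _ ih h0
    have e : (a + 1) * (n0 + 1) + n0 = a * (n0 + 1) + n0 + n0 + 1 := by ring
    rw [e]
    refine Lv_mono Vs _ _ _ ?_ h1
    rw [pow_succ]
    exact Ideal.mul_mono_right (map_frob_pow_J_le _)

/-- `p^c = 0` in `R` implies multiplication by `p^c` raises the `V`-adic level. -/
theorem pow_mul_mem_ker_truncate (c : ℕ) (hc : (p : R) ^ c = 0) (n : ℕ) (x : WittVector p R)
    (hx : x ∈ RingHom.ker (WittVector.truncate (p := p) (R := R) n)) :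
    (p : WittVector p R) ^ c * x ∈ RingHom.ker (WittVector.truncate (p := p) (R := R) (n + 1)) := by
  rw [WittVector.mem_ker_truncate] at hx ⊢
  have hx' := WittVector.eq_iterate_verschiebung hx
  set y := x.shift n with hy
  have e1 : (p : WittVector p R) ^ c * x = (WittVector.verschiebung^[n]) ((p : WittVector p R) ^ c * y) := by
    rw [hx']
    have : ((p : WittVector p R) ^ c) = ((p ^ c : ℕ) : WittVector p R) := by push_cast; rfl
    rw [this, ← nsmul_eq_mul, ← nsmul_eq_mul]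
    have hadd : ∀ (k : ℕ) (z : WittVector p R),
        (WittVector.verschiebung^[k]) ((p ^ c) • z) = (p ^ c) • (WittVector.verschiebung^[k]) z := by
      intro k
      induction k with
      | zero => intro z; rfl
      | succ k ihk =>
        intro z
        rw [Function.iterate_succ_apply', Function.iterate_succ_apply', ihk, map_nsmul]
    rw [hadd]
  intro i hi
  rw [e1]
  by_cases hin : i < n
  · exact WittVector.iterate_verschiebung_coeff_eq_zero _ hin
  · obtain rfl : i = n := by omega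
    have := WittVector.iterate_verschiebung_coeff ((p : WittVector p R) ^ c * y) i 0
    rw [zero_add] at this
    have hcc : ((p : WittVector p R) ^ c * y).coeff 0 =
        WittVector.constantCoeff ((p : WittVector p R) ^ c * y) := rfl
    rw [this, hcc, map_mul, map_pow, map_natCast, hc, zero_mul]

theorem pow_mem_ker_truncate (c : ℕ) (hc : (p : R) ^ c = 0) (n : ℕ) :
    (p : WittVector p R) ^ (c * n) ∈ RingHom.ker (WittVector.truncate (p := p) (R := R) n) := by
  induction n with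
  | zero =>
    rw [WittVector.mem_ker_truncate]
    intro i hi
    omega
  | succ n ih =>
    have := pow_mul_mem_ker_truncate c hc n _ ih
    rw [← pow_add] at this
    have e : c * (n + 1) = c + c * n := by ring
    rw [e]
    exact this

theorem exists_Lv_ker_truncate (hp : IsNilpotent (p : R)) (Vs : P →ₗ[WittVector p R] BC σ P)
    (hnil : IsVNilpotent Vs) (n : ℕ) :
    ∃ N : ℕ, Lv Vs N (RingHom.ker (WittVector.truncate (p := p) (R := R) n)) := by
  obtain ⟨c, hc⟩ := hp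
  obtain ⟨n0, h0⟩ := hnil
  refine ⟨(c * n) * (n0 + 1) + n0, ?_⟩
  refine Lv_mono Vs _ _ _ ?_ (Lv_iter Vs n0 h0 (c * n))
  rw [Ideal.span_singleton_pow, Ideal.span_le, Set.singleton_subset_iff]
  exact pow_mem_ker_truncate c hc n

end VS

end Helper16.Disp
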