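import Groth.Agent.Lib.Helper16.Disp1

set_option autoImplicit false
universe u v

open Dieu

namespace Helper16.Disp

section Theta

variable {A : Type u} {B : Type u} [CommRing A] [CommRing B] (φ : A →+* B)
variable {P : Type v} [AddCommGroup P] [Module A P]

/-- `c ⊗ x ↦ c ⊗ (1 ⊗ x)` : `B ⊗_{h∘g} P → B ⊗_h (B ⊗_g P)` -/
noncomputable def unpush (h : B →+* B) : BC (h.comp φ) P →ₗ[B] BC h (BC φ P) :=
  BC.lift (h.comp φ)
    { toFun := fun x => BC.tmul h 1 (BC.tmul φ 1 x)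
      map_add' := fun x y => by rw [BC.tmul_add, BC.tmul_add]
      map_smul' := fun a x => by
        rw [← BC.tmul_apply_eq, BC.tmul_eq_smul_tmul_one φ (φ a), ← BC.tmul_apply_eq,
          BC.tmul_eq_smul_tmul_one h (h (φ a))]
        rfl }

@[simp] theorem unpush_tmul (h : B →+* B) (c : B) (x : P) :
    unpush φ h (BC.tmul (h.comp φ) c x) = BC.tmul h c (BC.tmul φ 1 x) := by
  rw [unpush, BC.lift_tmul]
  change c • BC.tmul h 1 (BC.tmul φ 1 x) = _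
  rw [BC.smul_tmul, mul_one]

/-- `b ⊗ y ↦ φ b ⊗ (1 ⊗ y)` -/
noncomputable def Theta (ρS : A →+* A) (ρR : B →+* B) (hρ : φ.comp ρS = ρR.comp φ) :
    BC ρS P →ₛₗ[φ] BC ρR (BC φ P) :=
  ((unpush φ ρR).comp (BC.castHom hρ)).comp (BC.push ρS φ)

@[simp] theorem Theta_tmul (ρS : A →+* A) (ρR : B →+* B) (hρ : φ.comp ρS = ρR.comp φ) (b : A) (y : P) :
    Theta φ ρS ρR hρ (BC.tmul ρS b y) = BC.tmul ρR (φ b) (BC.tmul φ 1 y) := by
  rw [Theta, LinearMap.comp_apply, BC.push_tmul, LinearMap.comp_apply, BC.castHom_tmul, unpush_tmul]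

theorem Theta_castHom (ρS ρS' : A →+* A) (ρR ρR' : B →+* B) (hρ : φ.comp ρS = ρR.comp φ)
    (hρ' : φ.comp ρS' = ρR'.comp φ) (eS : ρS = ρS') (eR : ρR = ρR') (z : BC ρS P) :
    BC.castHom eR (Theta φ ρS ρR hρ z) = Theta φ ρS' ρR' hρ' (BC.castHom eS z) := by
  subst eS eR
  rfl

theorem pushc_Theta (τS ρS τS' : A →+* A) (τR ρR τR' : B →+* B)
    (hS : τS.comp ρS = τS') (hR : τR.comp ρR = τR')
    (hρ : φ.comp ρS = ρR.comp φ) (hτ : φ.comp τS = τR.comp φ) (hτ' : φ.comp τS' = τR'.comp φ)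
    (z : BC ρS P) :
    pushc τR ρR τR' hR (Theta φ ρS ρR hρ z) = Theta φ τS' τR' hτ' (pushc τS ρS τS' hS z) := by
  induction z using BC.induction_on ρS with
  | zero => simp
  | tmul u y =>
    rw [Theta_tmul, pushc_tmul, pushc_tmul, Theta_tmul]
    have : τR (φ u) = φ (τS u) := (RingHom.congr_fun hτ u).symm
    rw [this]
  | add z₁ z₂ e₁ e₂ => rw [map_add, map_add, map_add, map_add, e₁, e₂]

theorem Tc_Theta (τS ρS τS' : A →+* A) (τR ρR τR' : B →+* B)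
    (hS : τS.comp ρS = τS') (hR : τR.comp ρR = τR')
    (hρ : φ.comp ρS = ρR.comp φ) (hτ : φ.comp τS = τR.comp φ) (hτ' : φ.comp τS' = τR'.comp φ)
    (KS : P →ₗ[A] BC ρS P) (KR : BC φ P →ₗ[B] BC ρR (BC φ P))
    (hK : ∀ y, KR (BC.tmul φ 1 y) = Theta φ ρS ρR hρ (KS y)) (z : BC τS P) :
    Tc τR ρR τR' hR KR (Theta φ τS τR hτ z) = Theta φ τS' τR' hτ' (Tc τS ρS τS' hS KS z) := by
  induction z using BC.induction_on τS with
  | zero => simp
  | tmul b y =>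
    rw [Theta_tmul, Tc_tmul, Tc_tmul, hK, LinearMap.map_smulₛₗ,
      pushc_Theta φ τS ρS τS' τR ρR τR' hS hR hρ hτ hτ']
  | add z₁ z₂ e₁ e₂ => rw [map_add, map_add, map_add, map_add, e₁, e₂]

theorem Theta_mem (ρS : A →+* A) (ρR : B →+* B) (hρ : φ.comp ρS = ρR.comp φ) (𝔞 : Ideal A)
    (z : BC ρS P) (hz : z ∈ 𝔞 • (⊤ : Submodule A (BC ρS P))) :
    Theta φ ρS ρR hρ z ∈ (𝔞.map φ) • (⊤ : Submodule B (BC ρR (BC φ P))) := by
  refine Submodule.smul_induction_on hz ?_ ?_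
  · intro c hc w _
    rw [LinearMap.map_smulₛₗ]
    exact Submodule.smul_mem_smul (Ideal.mem_map_of_mem φ hc) Submodule.mem_top
  · intro x y hx hy
    rw [map_add]; exact add_mem hx hy

end Theta

end Helper16.Disp
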