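import Groth.Agent.Lib.Helper16.Disp2
import Groth.Agent.Lib.Helper16.Disp3

set_option autoImplicit false
universe u v

open Dieu TensorProduct

namespace Helper16.Disp

section Ker

variable {p : ℕ} [Fact p.Prime] {S R : Type u} [CommRing S] [CommRing R]
variable {P : Type v} [AddCommGroup P] [Module (WittVector p S) P]

/-- generators of `Q_R` -/
def gens (f : S →+* R) (Q : Submodule (WittVector p S) P) :
    Set (BC (WittVector.map f : WittVector p S →+* WittVector p R) P) :=
  {z | ∃ (b : WittVector p R) (q : P), q ∈ Q ∧
      z = BC.tmul (WittVector.map f : WittVector p S →+* WittVector p R) b q} ∪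
  {z | ∃ (b : WittVector p R) (x : P),
      z = BC.tmul (WittVector.map f : WittVector p S →+* WittVector p R) (WittVector.verschiebung b) x}

/-- `w₀` as a `W(S)`-linear map between the twisted modules -/
noncomputable def omega (f : S →+* R) :
    Res (WittVector.map f : WittVector p S →+* WittVector p R) →ₗ[WittVector p S]
      Res ((WittVector.constantCoeff : WittVector p R →+* R).comp
        (WittVector.map f : WittVector p S →+* WittVector p R)) where
  toFun t := Res.mk _ (WittVector.constantCoeff t.val)
  map_add' s t := by
    apply Res.ext
    change WittVector.constantCoeff (s.val + t.val) =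
      WittVector.constantCoeff s.val + WittVector.constantCoeff t.val
    exact map_add _ _ _
  map_smul' a t := by
    apply Res.ext
    change WittVector.constantCoeff ((WittVector.map f) a * t.val) =
      ((WittVector.constantCoeff : WittVector p R →+* R).comp
        (WittVector.map f : WittVector p S →+* WittVector p R)) a * WittVector.constantCoeff t.val
    rw [map_mul]
    rfl

theorem omega_surjective (f : S →+* R) : Function.Surjective (omega (p := p) f) := by
  intro t
  refine ⟨Res.mk _ (WittVector.teichmuller p t.val), ?_⟩
  apply Res.ext
  change WittVector.constantCoeff (WittVector.teichmuller p t.val) = t.val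
  exact WittVector.teichmuller_coeff_zero p t.val

theorem bcQuotMap_eq_map (f : S →+* R) (Q : Submodule (WittVector p S) P)
    (z : Res (WittVector.map f : WittVector p S →+* WittVector p R) ⊗[WittVector p S] P) :
    (bcQuotMap f Q z : Res ((WittVector.constantCoeff : WittVector p R →+* R).comp
        (WittVector.map f : WittVector p S →+* WittVector p R)) ⊗[WittVector p S] (P ⧸ Q)) =
      TensorProduct.map (omega f) Q.mkQ z := by
  induction z using TensorProduct.induction_on with
  | zero => rw [map_zero]; exact map_zero (bcQuotMap f Q)
  | tmul t x =>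
    rw [TensorProduct.map_tmul]
    exact bcQuotMap_tmul f Q t.val x
  | add z₁ z₂ h₁ h₂ =>
    rw [map_add, ← h₁, ← h₂]
    exact map_add (bcQuotMap f Q) z₁ z₂

theorem ker_aux (f : S →+* R) (Q : Submodule (WittVector p S) P)
    (z : Res (WittVector.map f : WittVector p S →+* WittVector p R) ⊗[WittVector p S] P)
    (hz' : TensorProduct.map (omega (p := p) f) Q.mkQ z = 0) :
    (z : BC (WittVector.map f : WittVector p S →+* WittVector p R) P) ∈
      Submodule.span (WittVector p R) (gens f Q) := by
  have hker := TensorProduct.map_ker (LinearMap.exact_subtype_ker_map (omega (p := p) f))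
    (omega_surjective f) (LinearMap.exact_subtype_mkQ Q) (Submodule.mkQ_surjective Q)
  have hz'' : z ∈ LinearMap.ker (TensorProduct.map (omega (p := p) f) Q.mkQ) := hz'
  rw [hker, Submodule.mem_sup] at hz''
  obtain ⟨z₁, ⟨y₁, rfl⟩, z₂, ⟨y₂, rfl⟩, hsum⟩ := hz''
  subst hsum
  clear hz'
  refine add_mem (S := Submodule (WittVector p R)
    (BC (WittVector.map f : WittVector p S →+* WittVector p R) P)) ?_ ?_
  · induction y₁ using TensorProduct.induction_on with
    | zero => rw [map_zero]; exact zero_mem _
    | tmul t q =>
      rw [LinearMap.lTensor_tmul]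
      exact Submodule.subset_span (Or.inl ⟨t.val, q.1, q.2, rfl⟩)
    | add a b ha hb =>
      rw [map_add]
      exact add_mem (S := Submodule (WittVector p R)
        (BC (WittVector.map f : WittVector p S →+* WittVector p R) P)) ha hb
  · induction y₂ using TensorProduct.induction_on with
    | zero => rw [map_zero]; exact zero_mem _
    | tmul t x =>
      rw [LinearMap.rTensor_tmul]
      have ht : WittVector.constantCoeff (t.1 : Res _).val = 0 := by
        have := t.2
        rw [LinearMap.mem_ker] at this
        exact congrArg Res.val this
      have hV : (t.1 : Res _).val = WittVector.verschiebung ((t.1 : Res _).val.shift 1) := by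
        have := WittVector.eq_iterate_verschiebung (x := (t.1 : Res _).val) (n := 1) (by
          intro i hi
          obtain rfl : i = 0 := by omega
          exact ht)
        simpa using this
      refine Submodule.subset_span (Or.inr ⟨(t.1 : Res _).val.shift 1, x, ?_⟩)
      change (t.1 : Res _) ⊗ₜ[WittVector p S] x = Res.mk _ _ ⊗ₜ[WittVector p S] x
      congr 1
    | add a b ha hb =>
      rw [map_add]
      exact add_mem (S := Submodule (WittVector p R)
        (BC (WittVector.map f : WittVector p S →+* WittVector p R) P)) ha hb

theorem ker_bcQuotMap_le (f : S →+* R) (Q : Submodule (WittVector p S) P) :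
    LinearMap.ker (bcQuotMap f Q) ≤ Submodule.span (WittVector p R) (gens f Q) := by
  intro z hz
  rw [LinearMap.mem_ker] at hz
  apply ker_aux f Q z
  rw [← bcQuotMap_eq_map]
  exact hz

theorem gens_subset_ker (f : S →+* R) (Q : Submodule (WittVector p S) P) :
    Submodule.span (WittVector p R) (gens f Q) ≤ LinearMap.ker (bcQuotMap f Q) := by
  rw [Submodule.span_le]
  rintro z (⟨b, q, hq, rfl⟩ | ⟨b, x, rfl⟩)
  · change _ ∈ LinearMap.ker _
    have hq0 : Q.mkQ q = 0 := by
      rw [Submodule.mkQ_apply]
      exact (Submodule.Quotient.mk_eq_zero Q).mpr hq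
    rw [LinearMap.mem_ker, bcQuotMap_tmul, hq0]
    simp
  · change _ ∈ LinearMap.ker _
    rw [LinearMap.mem_ker, bcQuotMap_tmul]
    have : WittVector.constantCoeff (WittVector.verschiebung b) = 0 :=
      WittVector.verschiebung_coeff_zero b
    rw [this]
    simp

end Ker

end Helper16.Disp
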