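import Groth.Agent.Lib.Helper16.Disp4

set_option autoImplicit false
universe u v

open Dieu TensorProduct

namespace Helper16.Disp

section Main

variable {p : ℕ} [Fact p.Prime] {S R : Type u} [CommRing S] [CommRing R] (f : S →+* R)
variable {P : Type v} [AddCommGroup P] [Module (WittVector p S) P]

local notation "σS" => (WittVector.frobenius : WittVector p S →+* WittVector p S)
local notation "σR" => (WittVector.frobenius : WittVector p R →+* WittVector p R)
local notation "φ" => (WittVector.map f : WittVector p S →+* WittVector p R)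

theorem map_comp_frob : (φ).comp σS = (σR).comp φ := by
  ext1 x
  exact (WittVector.frobenius_isPoly p).map f x

theorem map_comp_frob_pow (n : ℕ) : (φ).comp (σS ^ n) = (σR ^ n).comp φ := by
  induction n with
  | zero => rfl
  | succ n ih =>
    rw [pow_succ, pow_succ, RingHom.mul_def, RingHom.mul_def, ← RingHom.comp_assoc, ih,
      RingHom.comp_assoc, map_comp_frob, ← RingHom.comp_assoc]

/-- the base-changed `V^#` -/
noncomputable def VsR (Vs : P →ₗ[WittVector p S] BC σS P) :
    BC φ P →ₗ[WittVector p R] BC σR (BC φ P) :=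
  BC.lift φ ((Theta φ σS σR (map_comp_frob f)).comp Vs)

theorem VsR_tmul (Vs : P →ₗ[WittVector p S] BC σS P) (w : WittVector p R) (x : P) :
    VsR f Vs (BC.tmul φ w x) = w • Theta φ σS σR (map_comp_frob f) (Vs x) := by
  rw [VsR, BC.lift_tmul, LinearMap.comp_apply]

theorem Theta_Vs_F (D : W4c1extbt610.Display3n p S P) (Vs : P →ₗ[WittVector p S] BC σS P)
    (hVs : IsVSharp D Vs) (x : P) :
    Theta φ σS σR (map_comp_frob f) (Vs (D.F x)) =
      (p : WittVector p R) • BC.tmul σR 1 (BC.tmul φ 1 x) := by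
  have h := hVs.app_smul_F 1 x
  rw [one_smul] at h
  rw [h, LinearMap.map_smulₛₗ, Theta_tmul, map_natCast, map_one]

theorem Theta_Vs_Vinv (D : W4c1extbt610.Display3n p S P) (Vs : P →ₗ[WittVector p S] BC σS P)
    (hVs : IsVSharp D Vs) (q : D.Q) :
    Theta φ σS σR (map_comp_frob f) (Vs (D.Vinv q)) =
      BC.tmul σR 1 (BC.tmul φ 1 (q : P)) := by
  have h := hVs.app_smul_Vinv 1 q
  rw [one_smul] at h
  rw [h, Theta_tmul, map_one]

theorem tmul_tmul_eq (w b : WittVector p R) (x : P) :
    BC.tmul σR w (BC.tmul φ b x) = (w * σR b) • BC.tmul σR 1 (BC.tmul φ 1 x) := by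
  rw [BC.tmul_eq_smul_tmul_one φ b x, ← BC.tmul_mul_apply, BC.tmul_eq_smul_tmul_one σR (w * σR b)]

theorem VsR_isVSharp (D : W4c1extbt610.Display3n p S P)
    (DR : W4c1extbt610.Display3n p R (BC φ P)) (hDR : IsDispBaseChange f D DR)
    (Vs : P →ₗ[WittVector p S] BC σS P) (hVs : IsVSharp D Vs) :
    IsVSharp DR (VsR f Vs) := by
  constructor
  · intro w z
    induction z using BC.induction_on φ with
    | zero => simp
    | tmul b x =>
      rw [hDR.F_tmul, BC.smul_tmul, VsR_tmul, Theta_Vs_F f D Vs hVs, tmul_tmul_eq f w b x, smul_comm]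
    | add z₁ z₂ h₁ h₂ =>
      rw [map_add, smul_add, map_add, h₁, h₂, BC.tmul_add, smul_add]
  · have hT : Submodule.span (WittVector p R) (gens f D.Q) ≤ DR.Q := by
      rw [hDR.Q_eq]; exact gens_subset_ker f D.Q
    have key : ∀ y (hy : y ∈ Submodule.span (WittVector p R) (gens f D.Q)),
        ∀ (w : WittVector p R), VsR f Vs (w • DR.Vinv ⟨y, hT hy⟩) = BC.tmul σR w y := by
      intro y hy
      induction hy using Submodule.span_induction with
      | mem y hy =>
        intro w
        rcases hy with ⟨b, q, hq, rfl⟩ | ⟨b, x, rfl⟩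
        · rw [hDR.Vinv_tmul b ⟨q, hq⟩, BC.smul_tmul, VsR_tmul, Theta_Vs_Vinv f D Vs hVs,
            tmul_tmul_eq f w b q]
        · rw [hDR.Vinv_verschiebung_tmul b x, BC.smul_tmul, VsR_tmul, Theta_Vs_F f D Vs hVs,
            tmul_tmul_eq f w (WittVector.verschiebung b) x, WittVector.frobenius_verschiebung,
            smul_smul, mul_assoc]
      | zero =>
        intro w
        have : (⟨0, hT (Submodule.zero_mem _)⟩ : DR.Q) = 0 := rfl
        rw [this, map_zero, smul_zero, map_zero, BC.tmul_zero]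
      | add x y hx hy ihx ihy =>
        intro w
        have : (⟨x + y, hT (Submodule.add_mem _ hx hy)⟩ : DR.Q) = ⟨x, hT hx⟩ + ⟨y, hT hy⟩ := rfl
        rw [this, map_add, smul_add, map_add, ihx, ihy, BC.tmul_add]
      | smul a x hx ihx =>
        intro w
        have : (⟨a • x, hT (Submodule.smul_mem _ a hx)⟩ : DR.Q) = a • ⟨x, hT hx⟩ := rfl
        rw [this, LinearMap.map_smulₛₗ DR.Vinv, smul_smul, ihx, BC.tmul_mul_apply]
    intro w y
    have hy : (y : BC φ P) ∈ Submodule.span (WittVector p R) (gens f D.Q) := by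
      apply ker_bcQuotMap_le f D.Q
      rw [← hDR.Q_eq]
      exact y.2
    exact key y hy w

theorem vSharpPow_VsR (Vs : P →ₗ[WittVector p S] BC σS P) (n : ℕ) (x : P) :
    vSharpPow (VsR f Vs) n (BC.tmul φ 1 x) =
      Theta φ (σS ^ (n + 1)) (σR ^ (n + 1)) (map_comp_frob_pow f (n + 1)) (vSharpPow Vs n x) := by
  induction n generalizing x with
  | zero =>
    rw [vSharpPow_zero_apply, vSharpPow_zero_apply, VsR_tmul, one_smul]
    exact Theta_castHom φ σS (σS ^ (0 + 1)) σR (σR ^ (0 + 1)) (map_comp_frob f)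
      (map_comp_frob_pow f (0 + 1)) (pow_one σS).symm (pow_one σR).symm (Vs x)
  | succ n ih =>
    rw [vSharpPow_succ_eq_Tc, vSharpPow_succ_eq_Tc, VsR_tmul, one_smul]
    exact Tc_Theta φ σS (σS ^ (n + 1)) (σS ^ (n + 1 + 1)) σR (σR ^ (n + 1)) (σR ^ (n + 1 + 1))
      (comp_pow_eq_pow_succ σS (n + 1)) (comp_pow_eq_pow_succ σR (n + 1))
      (map_comp_frob_pow f (n + 1)) (map_comp_frob f) (map_comp_frob_pow f (n + 1 + 1))
      (vSharpPow Vs n) (vSharpPow (VsR f Vs) n) ih (Vs x)

theorem map_J_le :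
    (W4c1extbt610.IV p S ⊔ Ideal.span {(p : WittVector p S)}).map φ ≤
      W4c1extbt610.IV p R ⊔ Ideal.span {(p : WittVector p R)} := by
  rw [Ideal.map_sup, sup_le_iff]
  constructor
  · refine le_trans ?_ le_sup_left
    rw [W4c1extbt610.IV, Ideal.map_span, Ideal.span_le]
    rintro _ ⟨_, ⟨w, rfl⟩, rfl⟩
    rw [WittVector.map_verschiebung]
    exact W4c1extbt610.verschiebung_mem_IV p R _
  · refine le_trans ?_ le_sup_right
    rw [Ideal.map_span, Ideal.span_le]
    rintro _ ⟨_, rfl, rfl⟩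
    rw [map_natCast]
    exact Ideal.subset_span rfl

theorem VsR_isVNilpotent (Vs : P →ₗ[WittVector p S] BC σS P) (hnil : IsVNilpotent Vs) :
    IsVNilpotent (VsR f Vs) := by
  obtain ⟨n0, h0⟩ := hnil
  refine ⟨n0, ?_⟩
  intro z
  induction z using BC.induction_on φ with
  | zero => simp
  | tmul w x =>
    rw [BC.tmul_eq_smul_tmul_one, map_smul, vSharpPow_VsR]
    refine Submodule.smul_mem _ _ ?_
    exact Submodule.smul_mono_left (map_J_le f) (Theta_mem φ _ _ _ _ _ (h0 x))
  | add z₁ z₂ h₁ h₂ => rw [map_add]; exact add_mem h₁ h₂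

theorem isDisplay_baseChange (D : W4c1extbt610.Display3n p S P) (hD : IsDisplay D)
    (DR : W4c1extbt610.Display3n p R (BC φ P)) (hDR : IsDispBaseChange f D DR) :
    IsDisplay DR := by
  obtain ⟨Vs, hVs, hnil⟩ := hD
  exact ⟨VsR f Vs, VsR_isVSharp f D DR hDR Vs hVs, VsR_isVNilpotent f Vs hnil⟩

end Main

end Helper16.Disp
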