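import Groth.Agent.Lib.Helper16.Disp2

set_option autoImplicit false
universe u v

open Dieu TensorProduct

namespace Helper16.Disp

section Bij

variable {A : Type u} [CommRing A] {M : Type v} [AddCommGroup M] [Module A M]

/-- the bilinear map underlying the inverse of `ι` for a bijective twist -/
noncomputable def invBil (τe : A ≃+* A) : Res (τe : A →+* A) →ₗ[A] M →ₗ[A] M where
  toFun t := (τe.symm t.val) • LinearMap.id
  map_add' s t := by rw [Res.val_add, map_add, add_smul]
  map_smul' a t := by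
    rw [Res.val_smul, map_mul, RingHom.id_apply, mul_smul]
    congr 1
    exact τe.symm_apply_apply a

theorem iota_injective (τe : A ≃+* A) : Function.Injective (BC.ι (τe : A →+* A) M) := by
  intro x y h
  have h' := congrArg (TensorProduct.lift (invBil (M := M) τe)) h
  change TensorProduct.lift (invBil τe) (Res.mk _ 1 ⊗ₜ[A] x) =
    TensorProduct.lift (invBil τe) (Res.mk _ 1 ⊗ₜ[A] y) at h'
  rw [TensorProduct.lift.tmul, TensorProduct.lift.tmul] at h'
  change (τe.symm 1) • x = (τe.symm 1) • y at h'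
  rwa [map_one, one_smul, one_smul] at h'

theorem iota_surjective (τe : A ≃+* A) : Function.Surjective (BC.ι (τe : A →+* A) M) := by
  intro z
  induction z using BC.induction_on (τe : A →+* A) with
  | zero => exact ⟨0, map_zero _⟩
  | tmul b x =>
    refine ⟨τe.symm b • x, ?_⟩
    rw [LinearMap.map_smulₛₗ, BC.ι_apply, BC.smul_tmul, mul_one]
    congr 1
    exact τe.apply_symm_apply b
  | add z₁ z₂ h₁ h₂ =>
    obtain ⟨x₁, rfl⟩ := h₁
    obtain ⟨x₂, rfl⟩ := h₂
    exact ⟨x₁ + x₂, map_add _ _ _⟩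

theorem tmul_one_mem_iff (τ : A →+* A) (hτ : Function.Bijective τ) (c : A) (hc : τ c = c) (y : M) :
    BC.tmul τ 1 y ∈ (Ideal.span {c}) • (⊤ : Submodule A (BC τ M)) ↔
      y ∈ (Ideal.span {c}) • (⊤ : Submodule A M) := by
  let τe : A ≃+* A := RingEquiv.ofBijective τ hτ
  have hτe : (τe : A →+* A) = τ := rfl
  rw [Submodule.ideal_span_singleton_smul, Submodule.ideal_span_singleton_smul,
    Submodule.mem_smul_pointwise_iff_exists, Submodule.mem_smul_pointwise_iff_exists]
  constructor
  · rintro ⟨z, -, hz⟩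
    obtain ⟨y', rfl⟩ := iota_surjective (M := M) τe z
    refine ⟨y', Submodule.mem_top, ?_⟩
    apply iota_injective (M := M) τe
    rw [LinearMap.map_smulₛₗ, hτe, hc]
    exact hz
  · rintro ⟨y', -, rfl⟩
    refine ⟨BC.tmul τ 1 y', Submodule.mem_top, ?_⟩
    rw [BC.smul_tmul, mul_one, ← BC.tmul_apply_eq, hc]

end Bij

section Perfect

variable {p : ℕ} [Fact p.Prime] {k : Type u} [CommRing k] [CharP k p] [PerfectRing k p]
variable {M : Type v} [AddCommGroup M] [Module (WittVector p k) M]

local notation "σ" => (WittVector.frobenius : WittVector p k →+* WittVector p k)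
set_option quotPrecheck false in
local notation "σi" => ((WittVector.frobeniusEquiv p k).symm : WittVector p k →+* WittVector p k)

theorem frob_symm (w : WittVector p k) : σ (σi w) = w :=
  (WittVector.frobeniusEquiv p k).apply_symm_apply w

theorem IV_sup_eq : W4c1extbt610.IV p k ⊔ Ideal.span {(p : WittVector p k)} =
    Ideal.span {(p : WittVector p k)} := by
  rw [sup_eq_right, W4c1extbt610.IV, Ideal.span_le]
  rintro _ ⟨w, rfl⟩
  have : WittVector.verschiebung w = σi w * p := by
    rw [← WittVector.verschiebung_frobenius, frob_symm]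
  rw [this]
  exact Ideal.mul_mem_left _ _ (Ideal.subset_span rfl)

theorem frob_pow_bijective (n : ℕ) : Function.Bijective (σ ^ n) := by
  induction n with
  | zero => exact Function.bijective_id
  | succ n ih =>
    rw [pow_succ, RingHom.mul_def]
    exact ih.comp (WittVector.frobenius_bijective p k)

theorem Vs_eq (Dm : DieuMod p k M) (D : W4c1extbt610.Display3n p k M)
    (hQ : ∀ x : M, x ∈ D.Q ↔ x ∈ Set.range Dm.V)
    (hV : ∀ (m : M) (h : Dm.V m ∈ D.Q), D.Vinv ⟨Dm.V m, h⟩ = m)
    (Vs : M →ₗ[WittVector p k] BC σ M) (hVs : IsVSharp D Vs) (m : M) :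
    Vs m = BC.tmul σ 1 (Dm.V m) := by
  have hmem : Dm.V m ∈ D.Q := (hQ _).mpr ⟨m, rfl⟩
  have h := hVs.app_smul_Vinv 1 ⟨Dm.V m, hmem⟩
  rw [one_smul, hV m hmem] at h
  exact h

theorem vSharpPow_eq (Dm : DieuMod p k M) (Vs : M →ₗ[WittVector p k] BC σ M)
    (hVs : ∀ m, Vs m = BC.tmul σ 1 (Dm.V m)) (n : ℕ) (x : M) :
    vSharpPow Vs n x = BC.tmul (σ ^ (n + 1)) 1 ((⇑Dm.V)^[n + 1] x) := by
  induction n generalizing x with
  | zero =>
    rw [vSharpPow_zero_apply, hVs, BC.castHom_tmul]
    rfl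
  | succ n ih =>
    rw [vSharpPow_succ_eq_Tc, hVs, Tc_tmul, one_smul, ih, pushc_tmul, map_one,
      ← Function.iterate_succ_apply (⇑Dm.V) (n + 1) x]

theorem V_pow_smul (Dm : DieuMod p k M) (e n : ℕ) (x : M) :
    (⇑Dm.V)^[n] ((p : WittVector p k) ^ e • x) = (p : WittVector p k) ^ e • (⇑Dm.V)^[n] x := by
  induction n generalizing x with
  | zero => rfl
  | succ n ih =>
    rw [Function.iterate_succ_apply, Function.iterate_succ_apply, LinearMap.map_smulₛₗ, map_pow,
      map_natCast, ih]

theorem isDisplay_iff (Dm : DieuMod p k M) (D : W4c1extbt610.Display3n p k M)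
    (hF : D.F = Dm.F) (hQ : ∀ x : M, x ∈ D.Q ↔ x ∈ Set.range Dm.V)
    (hV : ∀ (m : M) (h : Dm.V m ∈ D.Q), D.Vinv ⟨Dm.V m, h⟩ = m) :
    IsDisplay D ↔ Dm.VTopNilp := by
  constructor
  · rintro ⟨Vs, hVs, n0, h0⟩
    have hVs' := Vs_eq Dm D hQ hV Vs hVs
    have h1 : ∀ x : M, (⇑Dm.V)^[n0 + 1] x ∈
        (Ideal.span {(p : WittVector p k)}) • (⊤ : Submodule (WittVector p k) M) := by
      intro x
      have := h0 x
      rw [vSharpPow_eq Dm Vs hVs', IV_sup_eq] at this
      exact (tmul_one_mem_iff (σ ^ (n0 + 1)) (frob_pow_bijective (n0 + 1)) _ (map_natCast _ p) _).mp this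
    intro e
    refine ⟨(n0 + 1) * e, ?_⟩
    induction e with
    | zero =>
      intro m
      simp
    | succ e ih =>
      intro m
      have e1 : (n0 + 1) * (e + 1) = (n0 + 1) + (n0 + 1) * e := by ring
      rw [e1, Function.iterate_add_apply]
      have h2 := ih m
      rw [Ideal.span_singleton_pow, Submodule.ideal_span_singleton_smul,
        Submodule.mem_smul_pointwise_iff_exists] at h2
      obtain ⟨y, -, hy⟩ := h2
      rw [← hy, V_pow_smul]
      have h3 := h1 y
      rw [Submodule.ideal_span_singleton_smul, Submodule.mem_smul_pointwise_iff_exists] at h3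
      obtain ⟨y', -, hy'⟩ := h3
      rw [← hy', smul_smul, ← pow_succ, Ideal.span_singleton_pow,
        Submodule.ideal_span_singleton_smul]
      exact Submodule.smul_mem_pointwise_smul _ _ _ Submodule.mem_top
  · intro hnil
    obtain ⟨n, hn⟩ := hnil 1
    let Vs : M →ₗ[WittVector p k] BC σ M :=
      { toFun := fun x => BC.tmul σ 1 (Dm.V x)
        map_add' := fun x y => by rw [map_add, BC.tmul_add]
        map_smul' := fun w x => by
          rw [LinearMap.map_smulₛₗ, ← BC.tmul_apply_eq, frob_symm, RingHom.id_apply,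
            BC.tmul_eq_smul_tmul_one] }
    have hVs' : ∀ m, Vs m = BC.tmul σ 1 (Dm.V m) := fun m => rfl
    refine ⟨Vs, ⟨?_, ?_⟩, n, ?_⟩
    · intro w x
      rw [hVs', hF, LinearMap.map_smulₛₗ, Dm.V_F, smul_smul, ← BC.tmul_apply_eq, map_mul, frob_symm,
        map_natCast, BC.tmul_eq_smul_tmul_one σ (w * p), BC.tmul_eq_smul_tmul_one σ w, smul_smul,
        mul_comm]
    · intro w y
      obtain ⟨m, hm⟩ := (hQ y).mp y.2
      have hy : y = ⟨Dm.V m, (hQ _).mpr ⟨m, rfl⟩⟩ := Subtype.ext hm.symm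
      rw [hy, hV, hVs', LinearMap.map_smulₛₗ, ← BC.tmul_apply_eq, frob_symm]
    · intro x
      rw [vSharpPow_eq Dm Vs hVs', IV_sup_eq]
      refine (tmul_one_mem_iff (σ ^ (n + 1)) (frob_pow_bijective (n + 1)) _ (map_natCast _ p) _).mpr ?_
      rw [Function.iterate_succ_apply]
      have := hn (Dm.V x)
      rwa [pow_one] at this

end Perfect

end Helper16.Disp
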