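import Groth.Agent.Lib.Helper16.Disp2

set_option autoImplicit false
universe u v

namespace Helper16.Disp

section Idem

variable {p : ℕ} [Fact p.Prime] {R : Type u} [CommRing R]

local notation "σ" => (WittVector.frobenius : WittVector p R →+* WittVector p R)

theorem verschiebung_mul_verschiebung (a b : WittVector p R) :
    WittVector.verschiebung a * WittVector.verschiebung b =
      (p : WittVector p R) * WittVector.verschiebung (a * b) := by
  rw [← WittVector.verschiebung_mul_frobenius, WittVector.frobenius_verschiebung]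
  have : a * (b * (p : WittVector p R)) = p • (a * b) := by
    rw [nsmul_eq_mul]; ring
  rw [this, map_nsmul, nsmul_eq_mul]

theorem exists_pow_eq (x : WittVector p R) (hx : x.coeff 0 = 0) (m : ℕ) :
    ∃ y : WittVector p R, x ^ (m + 1) = (p : WittVector p R) ^ m * WittVector.verschiebung y := by
  have hx' : x = WittVector.verschiebung (x.shift 1) := by
    have := WittVector.eq_iterate_verschiebung (x := x) (n := 1) (by
      intro i hi
      obtain rfl : i = 0 := by omega
      exact hx)
    simpa using this
  induction m with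
  | zero => exact ⟨x.shift 1, by rw [pow_zero, one_mul, zero_add, pow_one]; exact hx'⟩
  | succ m ih =>
    obtain ⟨y, hy⟩ := ih
    refine ⟨y * x.shift 1, ?_⟩
    rw [pow_succ, hy]
    conv_lhs => rw [hx']
    rw [mul_assoc, verschiebung_mul_verschiebung, ← mul_assoc, ← pow_succ]

theorem pow_mem_ker_truncate_of_coeff_zero (c : ℕ) (hc : (p : R) ^ c = 0) (x : WittVector p R)
    (hx : x.coeff 0 = 0) (n : ℕ) :
    x ^ (c * n + 1) ∈ RingHom.ker (WittVector.truncate (p := p) (R := R) n) := by
  obtain ⟨y, hy⟩ := exists_pow_eq x hx (c * n)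
  rw [hy]
  exact Ideal.mul_mem_right _ _ (pow_mem_ker_truncate c hc n)

theorem eq_zero_of_cube_eq (hp : IsNilpotent (p : R)) (d : WittVector p R) (hd : d ^ 3 = d)
    (hd0 : IsNilpotent (d.coeff 0)) : d = 0 := by
  obtain ⟨c, hc⟩ := hp
  obtain ⟨c', hc'⟩ := hd0
  have hodd : ∀ j : ℕ, d ^ (2 * j + 1) = d := by
    intro j
    induction j with
    | zero => simp
    | succ j ih =>
      have : 2 * (j + 1) + 1 = (2 * j + 1) + 2 := by ring
      rw [this, pow_add, ih, ← pow_succ']
      exact hd
  have h0 : (d ^ c').coeff 0 = 0 := by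
    have : (d ^ c').coeff 0 = WittVector.constantCoeff (d ^ c') := rfl
    rw [this, map_pow]
    exact hc'
  have hmem : ∀ n, d ∈ RingHom.ker (WittVector.truncate (p := p) (R := R) n) := by
    intro n
    have h1 := pow_mem_ker_truncate_of_coeff_zero c hc (d ^ c') h0 n
    rw [← pow_mul] at h1
    set N := c' * (c * n + 1) with hN
    rw [← hodd N]
    have : 2 * N + 1 = N + (N + 1) := by ring
    rw [this, pow_add]
    exact Ideal.mul_mem_right _ _ h1
  ext i
  have := (WittVector.mem_ker_truncate (i + 1) d).mp (hmem (i + 1)) i (Nat.lt_succ_self i)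
  rw [this, WittVector.zero_coeff]

theorem frobenius_coeff_zero (x : WittVector p R) :
    ∃ z : R, (σ x).coeff 0 = x.coeff 0 ^ p + (p : R) * z := by
  refine ⟨MvPolynomial.aeval x.coeff (WittVector.frobeniusPolyAux p 0), ?_⟩
  rw [WittVector.coeff_frobenius, WittVector.frobeniusPoly, map_add, map_mul, map_pow,
    MvPolynomial.aeval_X, MvPolynomial.aeval_C]
  simp

theorem frobenius_idempotent (hp : IsNilpotent (p : R)) (e : WittVector p R)
    (he : IsIdempotentElem e) : σ e = e := by
  have he' : IsIdempotentElem (σ e) := he.map σ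
  have hd : (σ e - e) ^ 3 = σ e - e := by
    have h1 : σ e * σ e = σ e := he'
    have h2 : e * e = e := he
    have : (σ e - e) ^ 3 = σ e * σ e * σ e - 3 * (σ e * σ e) * e + 3 * σ e * (e * e) - e * e * e := by
      ring
    rw [this, h1, h1, h2, h2]
    ring
  have h0 : IsNilpotent ((σ e - e).coeff 0) := by
    have hc : (σ e - e).coeff 0 = (σ e).coeff 0 - e.coeff 0 := by
      have h := map_sub (WittVector.constantCoeff : WittVector p R →+* R) (σ e) e
      exact h
    obtain ⟨z, hz⟩ := frobenius_coeff_zero e
    have hidem : e.coeff 0 * e.coeff 0 = e.coeff 0 := by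
      have h := congrArg (WittVector.constantCoeff : WittVector p R →+* R) he.eq
      rw [map_mul] at h
      exact h
    have hpow : e.coeff 0 ^ p = e.coeff 0 := by
      have : ∀ n : ℕ, e.coeff 0 ^ (n + 1) = e.coeff 0 := by
        intro n
        induction n with
        | zero => simp
        | succ n ih => rw [pow_succ, ih, hidem]
      obtain ⟨q, hq⟩ : ∃ q, p = q + 1 := ⟨p - 1, (Nat.succ_pred_eq_of_pos (Fact.out : p.Prime).pos).symm⟩
      have h3 := this q
      rw [← hq] at h3
      exact h3
    rw [hc, hz, hpow, add_sub_cancel_left]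
    exact Commute.isNilpotent_mul_right (Commute.all _ _) hp
  have := eq_zero_of_cube_eq hp _ hd h0
  exact sub_eq_zero.mp this

end Idem

end Helper16.Disp
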