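import Groth.Agent.Lib.Helper16.Disp7

set_option autoImplicit false
universe u v w

open TensorProduct

namespace Helper16.Disp

section BCRankAlg

variable {A : Type u} {B : Type v} [CommRing A] [CommRing B] [Algebra A B]
variable (P : Type w) [AddCommGroup P] [Module A P]

/-- `x ↦ 1 ⊗ x` as a semilinear map. -/
noncomputable def iotaTP : P →ₛₗ[algebraMap A B] B ⊗[A] P where
  toFun := fun x => (1 : B) ⊗ₜ[A] x
  map_add' := fun x y => TensorProduct.tmul_add _ _ _
  map_smul' := fun a x => by
    rw [← TensorProduct.smul_tmul, Algebra.smul_def, mul_one,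
      TensorProduct.smul_tmul', smul_eq_mul, mul_one]

/-- `Res (algebraMap A B) ≃ B` -/
noncomputable def resEquiv : Dieu.Res (algebraMap A B) ≃ₗ[A] B where
  toFun := fun t => t.val
  invFun := fun b => Dieu.Res.mk (algebraMap A B) b
  map_add' := fun _ _ => rfl
  map_smul' := fun a t => by
    rw [Dieu.Res.val_smul, RingHom.id_apply, Algebra.smul_def]
  left_inv := fun _ => rfl
  right_inv := fun _ => rfl

theorem lift_iotaTP_eq (z : Dieu.Res (algebraMap A B) ⊗[A] P) :
    Dieu.BC.lift (algebraMap A B) (iotaTP (A := A) (B := B) P)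
        (show Dieu.BC (algebraMap A B) P from z) =
      TensorProduct.congr (resEquiv (A := A) (B := B)) (LinearEquiv.refl A P) z := by
  induction z using TensorProduct.induction_on with
  | zero => exact (map_zero _).trans (map_zero _).symm
  | tmul t x =>
    rw [TensorProduct.congr_tmul]
    change Dieu.BC.lift (algebraMap A B) (iotaTP (A := A) (B := B) P)
      (Dieu.BC.tmul (algebraMap A B) t.val x) = _
    rw [Dieu.BC.lift_tmul]
    change t.val • ((1 : B) ⊗ₜ[A] x) = t.val ⊗ₜ[A] x
    rw [TensorProduct.smul_tmul', smul_eq_mul, mul_one]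
  | add z₁ z₂ h₁ h₂ =>
    rw [map_add, ← h₁, ← h₂]
    exact map_add _ _ _

/-- The comparison `BC g P ≃ B ⊗[A] P`. -/
noncomputable def bcEquiv : Dieu.BC (algebraMap A B) P ≃ₗ[B] B ⊗[A] P := by
  refine LinearEquiv.ofBijective (Dieu.BC.lift (algebraMap A B) (iotaTP (A := A) (B := B) P))
    ⟨?_, ?_⟩
  · intro z₁ z₂ h
    have h1 := lift_iotaTP_eq (A := A) (B := B) P z₁
    have h2 := lift_iotaTP_eq (A := A) (B := B) P z₂
    have h3 : TensorProduct.congr (resEquiv (A := A) (B := B)) (LinearEquiv.refl A P) z₁ =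
        TensorProduct.congr (resEquiv (A := A) (B := B)) (LinearEquiv.refl A P) z₂ := by
      rw [← h1, ← h2]; exact h
    exact (TensorProduct.congr (resEquiv (A := A) (B := B)) (LinearEquiv.refl A P)).injective h3
  · intro y
    obtain ⟨z, hz⟩ :=
      (TensorProduct.congr (resEquiv (A := A) (B := B)) (LinearEquiv.refl A P)).surjective y
    exact ⟨z, (lift_iotaTP_eq (A := A) (B := B) P z).trans hz⟩

theorem finite_BC' [Module.Finite A P] : Module.Finite B (Dieu.BC (algebraMap A B) P) :=
  Module.Finite.equiv (bcEquiv (A := A) (B := B) P).symm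

theorem flat_BC' [Module.Flat A P] : Module.Flat B (Dieu.BC (algebraMap A B) P) :=
  Module.Flat.of_linearEquiv (bcEquiv (A := A) (B := B) P)

theorem rankAtStalk_BC' [Module.Finite A P] [Module.Flat A P] (𝔮 : PrimeSpectrum B) :
    Module.rankAtStalk (Dieu.BC (algebraMap A B) P) 𝔮 =
      Module.rankAtStalk P (PrimeSpectrum.comap (algebraMap A B) 𝔮) := by
  rw [Module.rankAtStalk_eq_of_equiv (bcEquiv (A := A) (B := B) P), Module.rankAtStalk_baseChange]

end BCRankAlg

section BCRank

variable {A : Type u} {B : Type v} [CommRing A] [CommRing B] (g : A →+* B)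
variable (P : Type w) [AddCommGroup P] [Module A P]

theorem finite_BC [Module.Finite A P] : Module.Finite B (Dieu.BC g P) := by
  letI := g.toAlgebra
  exact finite_BC' (A := A) (B := B) P

theorem flat_BC [Module.Flat A P] : Module.Flat B (Dieu.BC g P) := by
  letI := g.toAlgebra
  exact flat_BC' (A := A) (B := B) P

theorem rankAtStalk_BC [Module.Finite A P] [Module.Flat A P] (𝔮 : PrimeSpectrum B) :
    Module.rankAtStalk (Dieu.BC g P) 𝔮 = Module.rankAtStalk P (PrimeSpectrum.comap g 𝔮) := by
  letI := g.toAlgebra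
  exact rankAtStalk_BC' (A := A) (B := B) P 𝔮

end BCRank

section FixIdem

variable {W : Type u} [CommRing W] (τ : W →+* W) (hτ : ∀ e : W, IsIdempotentElem e → τ e = e)
variable (P : Type v) [AddCommGroup P] [Module W P]

include hτ in
theorem rankAtStalk_comap_of_fix_idem
    [Module.Finite W P] [Module.Projective W P] (𝔮 : PrimeSpectrum W) :
    Module.rankAtStalk P (PrimeSpectrum.comap τ 𝔮) = Module.rankAtStalk P 𝔮 := by
  haveI : Module.FinitePresentation W P := Module.finitePresentation_of_projective W P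
  have hlc := Module.isLocallyConstant_rankAtStalk (R := W) (M := P)
  have hcl : IsClopen (Module.rankAtStalk (R := W) P ⁻¹' {Module.rankAtStalk P 𝔮}) :=
    hlc.isClopen_fiber (Module.rankAtStalk P 𝔮)
  obtain ⟨e, he, hs⟩ := PrimeSpectrum.isClopen_iff.mp hcl
  have h1 : 𝔮 ∈ Module.rankAtStalk (R := W) P ⁻¹' {Module.rankAtStalk P 𝔮} := rfl
  rw [hs] at h1
  have h2 : PrimeSpectrum.comap τ 𝔮 ∈
      Module.rankAtStalk (R := W) P ⁻¹' {Module.rankAtStalk P 𝔮} := by
    rw [hs]
    rw [SetLike.mem_coe, PrimeSpectrum.mem_basicOpen] at h1 ⊢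
    intro h
    apply h1
    rw [PrimeSpectrum.comap_asIdeal, Ideal.mem_comap, hτ e he] at h
    exact h
  exact h2

include hτ in
theorem bijective_of_surjective_BC_of_fix_idem
    [Module.Finite W P] [Module.Projective W P]
    (Φ : Dieu.BC τ P →ₗ[W] P) (hΦ : Function.Surjective Φ) :
    Function.Bijective Φ := by
  haveI := finite_BC τ P
  haveI := flat_BC τ P
  apply Module.bijective_of_surjective_of_rankAtStalk_eq hΦ
  intro m _
  rw [rankAtStalk_BC τ P, rankAtStalk_comap_of_fix_idem τ hτ P]

end FixIdem

section FrobRank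

variable {p : ℕ} [Fact p.Prime] {R : Type u} [CommRing R]
variable (P : Type v) [AddCommGroup P] [Module (WittVector p R) P]

local notation "σ" => (WittVector.frobenius : WittVector p R →+* WittVector p R)

theorem bijective_of_surjective_BC_frobenius (hp : IsNilpotent (p : R))
    (hfin : Module.Finite (WittVector p R) P) (hproj : Module.Projective (WittVector p R) P)
    (Φ : Dieu.BC σ P →ₗ[WittVector p R] P) (hΦ : Function.Surjective Φ) :
    Function.Bijective Φ :=
  @bijective_of_surjective_BC_of_fix_idem (WittVector p R) _ σ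
    (fun e he => frobenius_idempotent hp e he) P _ _ hfin hproj Φ hΦ

end FrobRank

end Helper16.Disp
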