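import Groth.Agent.Lib.Helper16.Disp8

set_option autoImplicit false
universe u v

namespace Helper16.Disp

section Exist

variable {p : ℕ} [Fact p.Prime] {R : Type u} [CommRing R]
variable {P : Type v} [AddCommGroup P] [Module (WittVector p R) P]

local notation "σ" => (WittVector.frobenius : WittVector p R →+* WittVector p R)

theorem exists_verschiebung_of_mem_IV (r : WittVector p R) (hr : r ∈ W4c1extbt610.IV p R) :
    ∃ z : WittVector p R, r = WittVector.verschiebung z := by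
  unfold W4c1extbt610.IV at hr
  induction hr using Submodule.span_induction with
  | mem x hx => obtain ⟨z, rfl⟩ := hx; exact ⟨z, rfl⟩
  | zero => exact ⟨0, (map_zero _).symm⟩
  | add x y _ _ hx hy =>
    obtain ⟨a, rfl⟩ := hx
    obtain ⟨b, rfl⟩ := hy
    exact ⟨a + b, (map_add _ _ _).symm⟩
  | smul w x _ hx =>
    obtain ⟨a, rfl⟩ := hx
    exact ⟨a * σ w, by rw [WittVector.verschiebung_mul_frobenius, smul_eq_mul, mul_comm]⟩

variable (D : W4c1extbt610.Display3n p R P) {L T : Submodule (WittVector p R) P}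
  (hLT : IsCompl L T) (hLQ : L ≤ D.Q)

/-- `V⁻¹ ⊕ F` on `L ⊕ T`. -/
noncomputable def phi0 : P →ₛₗ[σ] P :=
  D.Vinv.comp ((Submodule.inclusion hLQ).comp (Submodule.projectionOnto L T hLT)) +
    D.F.comp (T.subtype.comp (Submodule.projectionOnto T L hLT.symm))

/-- `id ⊕ p` on `L ⊕ T`. -/
noncomputable def psi0 : P →ₗ[WittVector p R] P :=
  L.subtype.comp (Submodule.projectionOnto L T hLT) +
    (p : WittVector p R) • T.subtype.comp (Submodule.projectionOnto T L hLT.symm)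

theorem phi0_apply (x : P) : phi0 D hLT hLQ x =
    D.Vinv (Submodule.inclusion hLQ (Submodule.projectionOnto L T hLT x)) +
      D.F ((Submodule.projectionOnto T L hLT.symm x : T) : P) := rfl

theorem psi0_apply (x : P) : psi0 (p := p) (R := R) hLT x =
    ((Submodule.projectionOnto L T hLT x : L) : P) +
      (p : WittVector p R) • ((Submodule.projectionOnto T L hLT.symm x : T) : P) := rfl

theorem phi0_of_mem_L (l : P) (hl : l ∈ L) : phi0 D hLT hLQ l = D.Vinv ⟨l, hLQ hl⟩ := by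
  have h1 : Submodule.projectionOnto L T hLT l = ⟨l, hl⟩ :=
    Submodule.projectionOnto_apply_left hLT ⟨l, hl⟩
  have h2 : Submodule.projectionOnto T L hLT.symm l = 0 :=
    Submodule.projectionOnto_apply_right hLT.symm ⟨l, hl⟩
  rw [phi0_apply, h1, h2, Submodule.coe_zero, map_zero, add_zero]
  rfl

theorem phi0_of_mem_T (t : P) (ht : t ∈ T) : phi0 D hLT hLQ t = D.F t := by
  have h1 : Submodule.projectionOnto L T hLT t = 0 :=
    Submodule.projectionOnto_apply_right hLT ⟨t, ht⟩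
  have h2 : Submodule.projectionOnto T L hLT.symm t = ⟨t, ht⟩ :=
    Submodule.projectionOnto_apply_left hLT.symm ⟨t, ht⟩
  rw [phi0_apply, h1, h2, map_zero, map_zero, zero_add]

theorem psi0_of_mem_L (l : P) (hl : l ∈ L) : psi0 (p := p) (R := R) hLT l = l := by
  have h1 : Submodule.projectionOnto L T hLT l = ⟨l, hl⟩ :=
    Submodule.projectionOnto_apply_left hLT ⟨l, hl⟩
  have h2 : Submodule.projectionOnto T L hLT.symm l = 0 :=
    Submodule.projectionOnto_apply_right hLT.symm ⟨l, hl⟩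
  rw [psi0_apply, h1, h2, Submodule.coe_zero, smul_zero, add_zero]

theorem psi0_of_mem_T (t : P) (ht : t ∈ T) :
    psi0 (p := p) (R := R) hLT t = (p : WittVector p R) • t := by
  have h1 : Submodule.projectionOnto L T hLT t = 0 :=
    Submodule.projectionOnto_apply_right hLT ⟨t, ht⟩
  have h2 : Submodule.projectionOnto T L hLT.symm t = ⟨t, ht⟩ :=
    Submodule.projectionOnto_apply_left hLT.symm ⟨t, ht⟩
  rw [psi0_apply, h1, h2, Submodule.coe_zero, zero_add]

theorem tmul_natCast_smul (b : WittVector p R) (x : P) :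
    Dieu.BC.tmul σ b ((p : WittVector p R) • x) = Dieu.BC.tmul σ (b * (p : WittVector p R)) x := by
  rw [← Dieu.BC.tmul_mul_apply, map_natCast]

theorem keyB (a : P) (ha : a ∈ W4c1extbt610.IV p R • T) :
    ∃ haQ : a ∈ D.Q, ∃ u : Dieu.BC σ P,
      Dieu.BC.lift σ (phi0 D hLT hLQ) u = D.Vinv ⟨a, haQ⟩ ∧
        Dieu.BC.map σ (psi0 (p := p) (R := R) hLT) u = Dieu.BC.tmul σ 1 a := by
  refine Submodule.smul_induction_on ha ?_ ?_
  · intro r hr t ht
    obtain ⟨z, rfl⟩ := exists_verschiebung_of_mem_IV r hr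
    refine ⟨D.IV_smul_le (Submodule.smul_mem_smul (W4c1extbt610.verschiebung_mem_IV p R z)
      Submodule.mem_top), Dieu.BC.tmul σ z t, ?_, ?_⟩
    · rw [Dieu.BC.lift_tmul, phi0_of_mem_T D hLT hLQ t ht]
      exact (D.Vinv_verschiebung_smul z t).symm
    · rw [Dieu.BC.map_tmul, psi0_of_mem_T hLT t ht, tmul_natCast_smul,
        ← Dieu.BC.tmul_mul_apply, WittVector.frobenius_verschiebung, one_mul]
  · intro x y hx hy
    obtain ⟨hxQ, ux, h1, h2⟩ := hx
    obtain ⟨hyQ, uy, h3, h4⟩ := hy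
    refine ⟨D.Q.add_mem hxQ hyQ, ux + uy, ?_, ?_⟩
    · rw [map_add, h1, h3, ← map_add]
      rfl
    · rw [map_add, h2, h4, ← Dieu.BC.tmul_add]

include hLT in
theorem keyA (hQ : D.Q = L ⊔ W4c1extbt610.IV p R • T) (y : D.Q) :
    ∃ u : Dieu.BC σ P,
      Dieu.BC.lift σ (phi0 D hLT hLQ) u = D.Vinv y ∧
        Dieu.BC.map σ (psi0 (p := p) (R := R) hLT) u = Dieu.BC.tmul σ 1 (y : P) := by
  have hy : (y : P) ∈ L ⊔ W4c1extbt610.IV p R • T := hQ ▸ y.2
  obtain ⟨l, hl, a, ha, hla⟩ := Submodule.mem_sup.mp hy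
  obtain ⟨haQ, ua, h1, h2⟩ := keyB D hLT hLQ a ha
  refine ⟨Dieu.BC.tmul σ 1 l + ua, ?_, ?_⟩
  · rw [map_add, h1, Dieu.BC.lift_tmul, one_smul, phi0_of_mem_L D hLT hLQ l hl, ← map_add]
    congr 1
    exact Subtype.ext hla
  · rw [map_add, h2, Dieu.BC.map_tmul, psi0_of_mem_L hLT l hl, ← Dieu.BC.tmul_add, hla]

include hLT in
theorem lift_phi0_surjective (hQ : D.Q = L ⊔ W4c1extbt610.IV p R • T) :
    Function.Surjective (Dieu.BC.lift σ (phi0 D hLT hLQ)) := by
  rw [← LinearMap.range_eq_top, ← top_le_iff, ← D.span_range_Vinv, Submodule.span_le]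
  rintro _ ⟨y, rfl⟩
  obtain ⟨u, hu, -⟩ := keyA D hLT hLQ hQ y
  exact ⟨u, hu⟩

theorem F_eq_p_smul_Vinv (y : D.Q) : D.F (y : P) = (p : WittVector p R) • D.Vinv y := by
  have h1 := D.Vinv_verschiebung_smul 1 (y : P)
  rw [one_smul] at h1
  rw [← h1]
  have h2 : (⟨WittVector.verschiebung (1 : WittVector p R) • (y : P),
      D.IV_smul_le (Submodule.smul_mem_smul (W4c1extbt610.verschiebung_mem_IV p R 1)
        Submodule.mem_top)⟩ : D.Q) = WittVector.verschiebung (1 : WittVector p R) • y :=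
    Subtype.ext rfl
  rw [h2, LinearMap.map_smulₛₗ, WittVector.frobenius_verschiebung, one_mul]

theorem exists_isVSharp (hp : IsNilpotent (p : R)) : ∃ Vs, Dieu.IsVSharp D Vs := by
  obtain ⟨L, T, hLT, hQ⟩ := D.exists_normal
  have hLQ : L ≤ D.Q := hQ ▸ le_sup_left
  have hsurj := lift_phi0_surjective D hLT hLQ hQ
  have hbij := bijective_of_surjective_BC_frobenius P hp D.finite D.projective _ hsurj
  let Φe := LinearEquiv.ofBijective (Dieu.BC.lift σ (phi0 D hLT hLQ)) hbij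
  let Vs : P →ₗ[WittVector p R] Dieu.BC σ P :=
    (Dieu.BC.map σ (psi0 (p := p) (R := R) hLT)).comp Φe.symm.toLinearMap
  have hΦ : ∀ u : Dieu.BC σ P, Vs (Dieu.BC.lift σ (phi0 D hLT hLQ) u) =
      Dieu.BC.map σ (psi0 (p := p) (R := R) hLT) u := by
    intro u
    change Dieu.BC.map σ (psi0 (p := p) (R := R) hLT) (Φe.symm (Φe u)) = _
    rw [LinearEquiv.symm_apply_apply]
  have hV : ∀ y : D.Q, Vs (D.Vinv y) = Dieu.BC.tmul σ 1 (y : P) := by
    intro y
    obtain ⟨u, hu1, hu2⟩ := keyA D hLT hLQ hQ y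
    rw [← hu1, hΦ, hu2]
  have hF : ∀ x : P, Vs (D.F x) = (p : WittVector p R) • Dieu.BC.tmul σ 1 x := by
    intro x
    set l := Submodule.projectionOnto L T hLT x with hl
    set t := Submodule.projectionOnto T L hLT.symm x with ht
    have hx : x = (l : P) + (t : P) :=
      (Submodule.projection_add_projection_eq_self hLT x).symm
    have h1 : Vs (D.F (l : P)) = (p : WittVector p R) • Dieu.BC.tmul σ 1 (l : P) := by
      have := F_eq_p_smul_Vinv D (⟨(l : P), hLQ l.2⟩ : D.Q)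
      rw [this, map_smul, hV]
    have h2 : Vs (D.F (t : P)) = (p : WittVector p R) • Dieu.BC.tmul σ 1 (t : P) := by
      have h3 := hΦ (Dieu.BC.tmul σ 1 (t : P))
      rw [Dieu.BC.lift_tmul, one_smul, phi0_of_mem_T D hLT hLQ _ t.2, Dieu.BC.map_tmul,
        psi0_of_mem_T hLT _ t.2, tmul_natCast_smul, one_mul] at h3
      rw [h3, Dieu.BC.smul_tmul, mul_one]
    rw [hx, map_add, map_add, h1, h2, Dieu.BC.tmul_add, smul_add]
  refine ⟨Vs, ?_, ?_⟩
  · intro w x
    rw [map_smul, hF, smul_comm, Dieu.BC.smul_tmul, mul_one]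
  · intro w y
    rw [map_smul, hV, Dieu.BC.smul_tmul, mul_one]

theorem isVSharp_unique (Vs Vs' : P →ₗ[WittVector p R] Dieu.BC σ P)
    (h : Dieu.IsVSharp D Vs) (h' : Dieu.IsVSharp D Vs') : Vs = Vs' := by
  apply LinearMap.ext_on_range (v := fun y : D.Q => D.Vinv y) D.span_range_Vinv
  intro y
  have h1 := h.app_smul_Vinv 1 y
  have h2 := h'.app_smul_Vinv 1 y
  rw [one_smul] at h1 h2
  rw [h1, h2]

end Exist

end Helper16.Disp
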