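import Groth.Agent.Lib.Helper16.Disp9

set_option autoImplicit false
universe u v w w'

open Dieu TensorProduct

namespace Helper16.Disp

section SemiBC

variable {A : Type u} {B : Type v} [CommRing A] [CommRing B] (g : A →+* B)
variable (τA : A →+* A) (τB : B →+* B) (hcomm : τB.comp g = g.comp τA)
variable {P : Type w} {P' : Type w'} [AddCommGroup P] [Module A P] [AddCommGroup P'] [Module A P']

/-- `x ↦ 1 ⊗ φ x`, semilinear for `g ∘ τA`. -/
noncomputable def iotaComp (φ : P →ₛₗ[τA] P') : P →ₛₗ[g.comp τA] BC g P' where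
  toFun x := BC.tmul g 1 (φ x)
  map_add' x y := by rw [map_add, BC.tmul_add]
  map_smul' a x := by
    rw [LinearMap.map_smulₛₗ, ← BC.tmul_apply_eq, BC.tmul_eq_smul_tmul_one]
    rfl

/-- semilinear base change of a semilinear map: `b ⊗ x ↦ τB b ⊗ φ x`. -/
noncomputable def semiBC (φ : P →ₛₗ[τA] P') : BC g P →ₛₗ[τB] BC g P' :=
  ((BC.lift (g.comp τA) (iotaComp g τA φ)).comp (BC.castHom hcomm)).comp (BC.push g τB)

@[simp] theorem semiBC_tmul (φ : P →ₛₗ[τA] P') (b : B) (x : P) :
    semiBC g τA τB hcomm φ (BC.tmul g b x) = BC.tmul g (τB b) (φ x) := by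
  rw [semiBC, LinearMap.comp_apply, LinearMap.comp_apply, BC.push_tmul, BC.castHom_tmul,
    BC.lift_tmul]
  change τB b • BC.tmul g 1 (φ x) = _
  rw [BC.smul_tmul, mul_one]

end SemiBC

section MapFunct

variable {A : Type u} {B : Type v} [CommRing A] [CommRing B] (g : A →+* B)
variable {P : Type w} [AddCommGroup P] [Module A P]

theorem map_comp_eq (ψ₁ ψ₂ : P →ₗ[A] P) :
    (BC.map g ψ₁).comp (BC.map g ψ₂) = BC.map g (ψ₁.comp ψ₂) := by
  apply BC.ext
  intro x
  rw [LinearMap.comp_apply, BC.map_tmul, BC.map_tmul, BC.map_tmul, LinearMap.comp_apply]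

theorem map_add_eq (ψ₁ ψ₂ : P →ₗ[A] P) :
    BC.map g ψ₁ + BC.map g ψ₂ = BC.map g (ψ₁ + ψ₂) := by
  apply BC.ext
  intro x
  rw [LinearMap.add_apply, BC.map_tmul, BC.map_tmul, BC.map_tmul, LinearMap.add_apply,
    BC.tmul_add]

theorem map_id_eq : BC.map g (LinearMap.id : P →ₗ[A] P) = LinearMap.id := by
  apply BC.ext
  intro x
  rw [BC.map_tmul, LinearMap.id_apply, LinearMap.id_apply]

theorem map_zero_eq : BC.map g (0 : P →ₗ[A] P) = 0 := by
  apply BC.ext
  intro x
  rw [BC.map_tmul, LinearMap.zero_apply, BC.tmul_zero, LinearMap.zero_apply]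

end MapFunct

section Idem

variable {A : Type u} [CommRing A] {M : Type v} [AddCommGroup M] [Module A M]

theorem isCompl_range_of_idem (e₁ e₂ : M →ₗ[A] M) (hadd : e₁ + e₂ = LinearMap.id)
    (h12 : e₁.comp e₂ = 0) (h21 : e₂.comp e₁ = 0) :
    IsCompl (LinearMap.range e₁) (LinearMap.range e₂) := by
  have hadd' : ∀ z, e₁ z + e₂ z = z := fun z => by
    have := LinearMap.congr_fun hadd z
    simpa using this
  constructor
  · rw [Submodule.disjoint_def]
    rintro z ⟨u, rfl⟩ ⟨v, hv⟩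
    have h1 : e₂ (e₁ u) = 0 := LinearMap.congr_fun h21 u
    have h2 : e₁ (e₂ v) = 0 := LinearMap.congr_fun h12 v
    have h3 := hadd' (e₁ u)
    rw [h1, add_zero] at h3
    rw [← h3, ← hv, h2]
  · rw [Submodule.codisjoint_iff_exists_add_eq]
    intro z
    exact ⟨e₁ z, e₂ z, ⟨z, rfl⟩, ⟨z, rfl⟩, hadd' z⟩

theorem apply_of_mem_range_idem (e₁ e₂ : M →ₗ[A] M) (hadd : e₁ + e₂ = LinearMap.id)
    (h21 : e₂.comp e₁ = 0) (z : M) (hz : z ∈ LinearMap.range e₁) : e₁ z = z := by
  obtain ⟨u, rfl⟩ := hz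
  have h1 : e₂ (e₁ u) = 0 := LinearMap.congr_fun h21 u
  have := LinearMap.congr_fun hadd (e₁ u)
  simpa [h1] using this

end Idem

section Vdiv

variable {A : Type u} [CommRing A] (I : Ideal A) {M : Type v} [AddCommGroup M] [Module A M]
  [Module.Flat A M] (τ : A →+* A) {N : Type w} [AddCommGroup N] [Module A N]

/-- multiplication map `I ⊗ M → M`. -/
noncomputable def mulMap : I ⊗[A] M →ₗ[A] M :=
  (TensorProduct.lid A M).toLinearMap.comp (LinearMap.rTensor M (Submodule.subtype I))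

theorem mulMap_tmul (i : I) (m : M) : mulMap I (i ⊗ₜ[A] m) = (i : A) • m := by
  rw [mulMap, LinearMap.comp_apply, LinearMap.rTensor_tmul]
  simp

theorem mulMap_injective : Function.Injective (mulMap I (M := M)) := by
  rw [mulMap]
  exact (TensorProduct.lid A M).injective.comp
    (Module.Flat.rTensor_preserves_injective_linearMap (Submodule.subtype I)
      (Submodule.subtype_injective I))

theorem range_mulMap : LinearMap.range (mulMap I (M := M)) = I • (⊤ : Submodule A M) := by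
  apply le_antisymm
  · rintro _ ⟨u, rfl⟩
    induction u using TensorProduct.induction_on with
    | zero => rw [map_zero]; exact zero_mem _
    | tmul i m =>
      rw [mulMap_tmul]
      exact Submodule.smul_mem_smul i.2 Submodule.mem_top
    | add a b ha hb => rw [map_add]; exact add_mem ha hb
  · rw [Submodule.smul_le]
    intro r hr m _
    exact ⟨(⟨r, hr⟩ : I) ⊗ₜ[A] m, mulMap_tmul I ⟨r, hr⟩ m⟩

/-- The equivalence `I ⊗ M ≃ I • M` for flat `M`. -/
noncomputable def mulEquiv : I ⊗[A] M ≃ₗ[A] (I • (⊤ : Submodule A M) : Submodule A M) :=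
  LinearEquiv.ofBijective
    (LinearMap.codRestrict (I • (⊤ : Submodule A M)) (mulMap I (M := M)) (fun u => by
      rw [← range_mulMap]; exact ⟨u, rfl⟩))
    ⟨fun a b h => mulMap_injective I (by
        have := congrArg Subtype.val h
        exact this),
     fun y => by
        have hy : (y : M) ∈ LinearMap.range (mulMap I (M := M)) := by
          rw [range_mulMap]; exact y.2
        obtain ⟨u, hu⟩ := hy
        exact ⟨u, Subtype.ext hu⟩⟩

theorem mulEquiv_tmul (i : I) (m : M) :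
    ((mulEquiv I (M := M) (i ⊗ₜ[A] m) : (I • (⊤ : Submodule A M) : Submodule A M)) : M) =
      (i : A) • m :=
  mulMap_tmul I i m

/-- Division: from a bi-semilinear map on `I × M` to a semilinear map on `I • M`. -/
noncomputable def vdiv (Bil : I →ₛₗ[τ] M →ₛₗ[τ] N) :
    (I • (⊤ : Submodule A M) : Submodule A M) →ₛₗ[τ] N :=
  (TensorProduct.lift Bil).comp (mulEquiv I (M := M)).symm.toLinearMap

theorem vdiv_smul (Bil : I →ₛₗ[τ] M →ₛₗ[τ] N) (i : I) (m : M)
    (h : (i : A) • m ∈ I • (⊤ : Submodule A M)) :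
    vdiv I τ Bil ⟨(i : A) • m, h⟩ = Bil i m := by
  have h1 : (mulEquiv I (M := M)).symm ⟨(i : A) • m, h⟩ = i ⊗ₜ[A] m := by
    rw [LinearEquiv.symm_apply_eq]
    exact Subtype.ext (mulEquiv_tmul I i m).symm
  rw [vdiv, LinearMap.comp_apply]
  change TensorProduct.lift Bil ((mulEquiv I (M := M)).symm ⟨(i : A) • m, h⟩) = _
  rw [h1, TensorProduct.lift.tmul]

end Vdiv

end Helper16.Disp
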