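import Groth.Agent.Lib.Helper16.DispBC1
import Groth.Agent.Lib.Helper16.Disp11
import Groth.Agent.Lib.Helper16.Disp5

set_option autoImplicit false
universe u v

open Dieu TensorProduct

namespace Helper16.Disp

section VinvI

variable {p : ℕ} [Fact p.Prime] {R : Type u} [CommRing R]

local notation "σR" => (WittVector.frobenius : WittVector p R →+* WittVector p R)

theorem verschiebung_injective :
    Function.Injective (WittVector.verschiebung : WittVector p R → WittVector p R) := by
  intro a b h
  ext n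
  have := congrArg (fun x : WittVector p R => x.coeff (n + 1)) h
  simpa [WittVector.verschiebung_coeff_succ] using this

theorem mem_IV_eq (i : WittVector p R) (hi : i ∈ W4c1extbt610.IV p R) :
    i = WittVector.verschiebung (i.shift 1) := by
  obtain ⟨z, rfl⟩ := exists_verschiebung_of_mem_IV i hi
  exact eq_verschiebung_shift _ (WittVector.verschiebung_coeff_zero z)

/-- `V⁻¹ : I_R → W(R)`. -/
noncomputable def vinvI : W4c1extbt610.IV p R →ₛₗ[σR] WittVector p R where
  toFun i := (i : WittVector p R).shift 1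
  map_add' a b := by
    apply verschiebung_injective
    rw [map_add, ← mem_IV_eq _ a.2, ← mem_IV_eq _ b.2, ← mem_IV_eq _ (a + b).2]
    rfl
  map_smul' c a := by
    apply verschiebung_injective
    rw [← mem_IV_eq _ (c • a).2, smul_eq_mul, mul_comm (σR c), WittVector.verschiebung_mul_frobenius,
      ← mem_IV_eq _ a.2, mul_comm]
    rfl

theorem vinvI_verschiebung (z : WittVector p R)
    (h : WittVector.verschiebung z ∈ W4c1extbt610.IV p R) :
    vinvI ⟨WittVector.verschiebung z, h⟩ = z := by
  apply verschiebung_injective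
  exact (mem_IV_eq _ h).symm

end VinvI

section BCD

variable {p : ℕ} [Fact p.Prime] {S R : Type u} [CommRing S] [CommRing R] (f : S →+* R)
variable {P : Type v} [AddCommGroup P] [Module (WittVector p S) P]

local notation "σS" => (WittVector.frobenius : WittVector p S →+* WittVector p S)
local notation "σR" => (WittVector.frobenius : WittVector p R →+* WittVector p R)
local notation "φ" => (WittVector.map f : WittVector p S →+* WittVector p R)

variable (D : W4c1extbt610.Display3n p S P) {L T : Submodule (WittVector p S) P}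
  (hLT : IsCompl L T) (hLQ : L ≤ D.Q)

/-- `F_R`. -/
noncomputable def FR : BC φ P →ₛₗ[σR] BC φ P :=
  semiBC φ σS σR (map_comp_frob f).symm D.F

@[simp] theorem FR_tmul (w : WittVector p R) (x : P) :
    FR f D (BC.tmul φ w x) = BC.tmul φ (σR w) (D.F x) :=
  semiBC_tmul _ _ _ _ _ _ _

/-- `V⁻¹ ∘ pr_L` on `P`. -/
noncomputable def lPart : P →ₛₗ[σS] P :=
  D.Vinv.comp ((Submodule.inclusion hLQ).comp (Submodule.projectionOnto L T hLT))

theorem lPart_apply (x : P) : lPart D hLT hLQ x =
    D.Vinv ⟨(Submodule.projectionOnto L T hLT x : P), hLQ (Submodule.projectionOnto L T hLT x).2⟩ :=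
  rfl

/-- `σ ⊗ (V⁻¹ ∘ pr_L)`. -/
noncomputable def AR : BC φ P →ₛₗ[σR] BC φ P :=
  semiBC φ σS σR (map_comp_frob f).symm (lPart D hLT hLQ)

@[simp] theorem AR_tmul (w : WittVector p R) (x : P) :
    AR f D hLT hLQ (BC.tmul φ w x) = BC.tmul φ (σR w) (lPart D hLT hLQ x) :=
  semiBC_tmul _ _ _ _ _ _ _

/-- projection to `L` as an endomorphism -/
noncomputable def piL : P →ₗ[WittVector p S] P :=
  L.subtype.comp (Submodule.projectionOnto L T hLT)

/-- projection to `T` as an endomorphism -/
noncomputable def piT : P →ₗ[WittVector p S] P :=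
  T.subtype.comp (Submodule.projectionOnto T L hLT.symm)

theorem piL_add_piT : piL (p := p) hLT + piT (p := p) hLT = LinearMap.id :=
  Submodule.projection_add_projection_eq_id hLT

theorem piL_comp_piT : (piL (p := p) hLT).comp (piT (p := p) hLT) = 0 := by
  ext x
  change ((Submodule.projectionOnto L T hLT
    ((Submodule.projectionOnto T L hLT.symm x : T) : P) : L) : P) = 0
  rw [Submodule.projectionOnto_apply_right hLT]
  rfl

theorem piT_comp_piL : (piT (p := p) hLT).comp (piL (p := p) hLT) = 0 := by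
  ext x
  change ((Submodule.projectionOnto T L hLT.symm
    ((Submodule.projectionOnto L T hLT x : L) : P) : T) : P) = 0
  rw [Submodule.projectionOnto_apply_right hLT.symm]
  rfl

theorem piL_of_mem_L (l : P) (hl : l ∈ L) : piL (p := p) hLT l = l := by
  change ((Submodule.projectionOnto L T hLT l : L) : P) = l
  rw [Submodule.projectionOnto_apply_left hLT ⟨l, hl⟩]

theorem piT_of_mem_T (t : P) (ht : t ∈ T) : piT (p := p) hLT t = t := by
  change ((Submodule.projectionOnto T L hLT.symm t : T) : P) = t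
  rw [Submodule.projectionOnto_apply_left hLT.symm ⟨t, ht⟩]

theorem piT_of_mem_L (l : P) (hl : l ∈ L) : piT (p := p) hLT l = 0 := by
  change ((Submodule.projectionOnto T L hLT.symm l : T) : P) = 0
  rw [Submodule.projectionOnto_apply_right hLT.symm ⟨l, hl⟩]
  rfl

theorem piL_of_mem_T (t : P) (ht : t ∈ T) : piL (p := p) hLT t = 0 := by
  change ((Submodule.projectionOnto L T hLT t : L) : P) = 0
  rw [Submodule.projectionOnto_apply_right hLT ⟨t, ht⟩]
  rfl

theorem piL_mem (x : P) : piL (p := p) hLT x ∈ L := (Submodule.projectionOnto L T hLT x).2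

theorem piT_mem (x : P) : piT (p := p) hLT x ∈ T := (Submodule.projectionOnto T L hLT.symm x).2

/-- base-changed projections -/
noncomputable def PiL : BC φ P →ₗ[WittVector p R] BC φ P := BC.map φ (piL (p := p) hLT)

noncomputable def PiT : BC φ P →ₗ[WittVector p R] BC φ P := BC.map φ (piT (p := p) hLT)

theorem PiL_add_PiT : PiL f hLT + PiT f hLT = LinearMap.id := by
  rw [PiL, PiT, map_add_eq, piL_add_piT, map_id_eq]

theorem PiL_comp_PiT : (PiL f hLT).comp (PiT f hLT) = 0 := by
  rw [PiL, PiT, map_comp_eq, piL_comp_piT, map_zero_eq]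

theorem PiT_comp_PiL : (PiT f hLT).comp (PiL f hLT) = 0 := by
  rw [PiL, PiT, map_comp_eq, piT_comp_piL, map_zero_eq]

theorem PiL_tmul (b : WittVector p R) (x : P) :
    PiL f hLT (BC.tmul φ b x) = BC.tmul φ b (piL (p := p) hLT x) := BC.map_tmul _ _ _ _

theorem PiT_tmul (b : WittVector p R) (x : P) :
    PiT f hLT (BC.tmul φ b x) = BC.tmul φ b (piT (p := p) hLT x) := BC.map_tmul _ _ _ _

theorem isCompl_LR_TR : IsCompl (LinearMap.range (PiL f hLT)) (LinearMap.range (PiT f hLT)) :=
  isCompl_range_of_idem _ _ (PiL_add_PiT f hLT) (PiL_comp_PiT f hLT) (PiT_comp_PiL f hLT)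

theorem tmul_mem_TR (b : WittVector p R) (t : P) (ht : t ∈ T) :
    BC.tmul φ b t ∈ LinearMap.range (PiT f hLT) :=
  ⟨BC.tmul φ b t, by rw [PiT_tmul, piT_of_mem_T hLT t ht]⟩

theorem tmul_mem_LR (b : WittVector p R) (l : P) (hl : l ∈ L) :
    BC.tmul φ b l ∈ LinearMap.range (PiL f hLT) :=
  ⟨BC.tmul φ b l, by rw [PiL_tmul, piL_of_mem_L hLT l hl]⟩

theorem verschiebung_mul (w b : WittVector p R) :
    WittVector.verschiebung w * b = WittVector.verschiebung (w * σR b) :=
  (WittVector.verschiebung_mul_frobenius w b).symm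

theorem IV_smul_le_ker :
    W4c1extbt610.IV p R • (⊤ : Submodule (WittVector p R) (BC φ P)) ≤
      LinearMap.ker (bcQuotMap f D.Q) := by
  rw [Submodule.smul_le]
  intro r hr z hz
  clear hz
  obtain ⟨w, rfl⟩ := exists_verschiebung_of_mem_IV r hr
  apply gens_subset_ker f D.Q
  induction z using BC.induction_on φ with
  | zero => rw [smul_zero]; exact zero_mem _
  | tmul b x =>
    rw [BC.smul_tmul, verschiebung_mul]
    exact Submodule.subset_span (Or.inr ⟨_, x, rfl⟩)
  | add z₁ z₂ h₁ h₂ => rw [smul_add]; exact add_mem h₁ h₂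

theorem tmul_IV_smul_mem (b : WittVector p R) (a : P) (ha : a ∈ W4c1extbt610.IV p S • T) :
    BC.tmul φ b a ∈ W4c1extbt610.IV p R • LinearMap.range (PiT f hLT) := by
  refine Submodule.smul_induction_on ha ?_ ?_
  · intro r hr t ht
    obtain ⟨s, rfl⟩ := exists_verschiebung_of_mem_IV r hr
    rw [← BC.tmul_mul_apply, WittVector.map_verschiebung, mul_comm, ← BC.smul_tmul]
    exact Submodule.smul_mem_smul (W4c1extbt610.verschiebung_mem_IV p R _)
      (tmul_mem_TR f hLT b t ht)
  · intro x y hx hy
    rw [BC.tmul_add]; exact add_mem hx hy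

include hLT in
theorem piT_mem_of_mem_Q (hQ : D.Q = L ⊔ W4c1extbt610.IV p S • T) (q : P) (hq : q ∈ D.Q) :
    piT (p := p) hLT q ∈ W4c1extbt610.IV p S • T := by
  rw [hQ] at hq
  obtain ⟨l, hl, a, ha, rfl⟩ := Submodule.mem_sup.mp hq
  rw [map_add, piT_of_mem_L hLT l hl, zero_add,
    piT_of_mem_T hLT a (Submodule.smul_le_right ha)]
  exact ha

theorem PiT_mem (hQ : D.Q = L ⊔ W4c1extbt610.IV p S • T) (z : BC φ P)
    (hz : z ∈ LinearMap.ker (bcQuotMap f D.Q)) :
    PiT f hLT z ∈ W4c1extbt610.IV p R • LinearMap.range (PiT f hLT) := by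
  have hz' := ker_bcQuotMap_le f D.Q hz
  clear hz
  induction hz' using Submodule.span_induction with
  | mem z hz =>
    rcases hz with ⟨b, q, hq, rfl⟩ | ⟨b, x, rfl⟩
    · rw [PiT_tmul]
      exact tmul_IV_smul_mem f hLT b _ (piT_mem_of_mem_Q D hLT hQ q hq)
    · rw [PiT_tmul, BC.tmul_eq_smul_tmul_one]
      exact Submodule.smul_mem_smul (W4c1extbt610.verschiebung_mem_IV p R _)
        (tmul_mem_TR f hLT 1 _ (piT_mem hLT x))
  | zero => rw [map_zero]; exact zero_mem _
  | add x y _ _ hx hy => rw [map_add]; exact add_mem hx hy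
  | smul c x _ hx => rw [map_smul]; exact Submodule.smul_mem _ _ hx

include hLQ in
theorem QR_eq (hQ : D.Q = L ⊔ W4c1extbt610.IV p S • T) :
    LinearMap.ker (bcQuotMap f D.Q) =
      LinearMap.range (PiL f hLT) ⊔ W4c1extbt610.IV p R • LinearMap.range (PiT f hLT) := by
  apply le_antisymm
  · intro z hz
    have h1 : PiL f hLT z + PiT f hLT z = z := by
      have := LinearMap.congr_fun (PiL_add_PiT f hLT) z
      simpa using this
    rw [← h1]
    exact Submodule.add_mem_sup ⟨z, rfl⟩ (PiT_mem f D hLT hQ z hz)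
  · rw [sup_le_iff]
    constructor
    · rintro _ ⟨u, rfl⟩
      apply gens_subset_ker f D.Q
      induction u using BC.induction_on φ with
      | zero => rw [map_zero]; exact zero_mem _
      | tmul b x =>
        rw [PiL_tmul]
        exact Submodule.subset_span (Or.inl ⟨b, _, hLQ (piL_mem hLT x), rfl⟩)
      | add z₁ z₂ h₁ h₂ => rw [map_add]; exact add_mem h₁ h₂
    · exact le_trans (Submodule.smul_mono le_rfl le_top) (IV_smul_le_ker f D)

end BCD

end Helper16.Disp
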