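import Groth.Agent.Lib.Helper16.DispBC2

set_option autoImplicit false
universe u v

open Dieu TensorProduct

namespace Helper16.Disp

section ProjBC

variable {A : Type u} {B : Type v} [CommRing A] [CommRing B]
variable (P : Type*) [AddCommGroup P] [Module A P]

theorem projective_BC' [Algebra A B] [Module.Projective A P] :
    Module.Projective B (BC (algebraMap A B) P) :=
  Module.Projective.of_equiv' (bcEquiv (A := A) (B := B) P).symm

theorem projective_BC (g : A →+* B) [Module.Projective A P] : Module.Projective B (BC g P) := by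
  letI := g.toAlgebra
  exact projective_BC' (A := A) (B := B) P

theorem flat_BC_of_projective (g : A →+* B) [Module.Projective A P] :
    Module.Flat B (BC g P) := flat_BC g P

end ProjBC

section BCD

variable {p : ℕ} [Fact p.Prime] {S R : Type u} [CommRing S] [CommRing R] (f : S →+* R)
variable {P : Type v} [AddCommGroup P] [Module (WittVector p S) P]

local notation "σS" => (WittVector.frobenius : WittVector p S →+* WittVector p S)
local notation "σR" => (WittVector.frobenius : WittVector p R →+* WittVector p R)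
local notation "φ" => (WittVector.map f : WittVector p S →+* WittVector p R)

variable (D : W4c1extbt610.Display3n p S P) {L T : Submodule (WittVector p S) P}
  (hLT : IsCompl L T) (hLQ : L ≤ D.Q) (hQ : D.Q = L ⊔ W4c1extbt610.IV p S • T)

include D in
theorem flat_PR : Module.Flat (WittVector p R) (BC φ P) := by
  exact @flat_BC_of_projective _ _ _ _ P _ _ φ D.projective

/-- the bi-semilinear map `(i, z) ↦ V⁻¹ i • F_R z`. -/
noncomputable def bilR : W4c1extbt610.IV p R →ₛₗ[σR] BC φ P →ₛₗ[σR] BC φ P :=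
  LinearMap.mk₂'ₛₗ σR σR (fun i z => vinvI i • FR f D z)
    (fun i₁ i₂ z => by rw [map_add, add_smul])
    (fun c i z => by rw [LinearMap.map_smulₛₗ, smul_eq_mul, mul_smul])
    (fun i z₁ z₂ => by rw [map_add, smul_add])
    (fun c i z => by rw [LinearMap.map_smulₛₗ, smul_comm])

theorem bilR_apply (i : W4c1extbt610.IV p R) (z : BC φ P) :
    bilR f D i z = vinvI i • FR f D z := rfl

/-- `V_R⁻¹` on `I_R • P_R`. -/
noncomputable def VdivR :
    (W4c1extbt610.IV p R • (⊤ : Submodule (WittVector p R) (BC φ P)) :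
      Submodule (WittVector p R) (BC φ P)) →ₛₗ[σR] BC φ P :=
  haveI := flat_PR f D
  vdiv (W4c1extbt610.IV p R) σR (bilR f D)

theorem VdivR_smul (w : WittVector p R) (z : BC φ P)
    (h : WittVector.verschiebung w • z ∈
      W4c1extbt610.IV p R • (⊤ : Submodule (WittVector p R) (BC φ P))) :
    VdivR f D ⟨WittVector.verschiebung w • z, h⟩ = w • FR f D z := by
  haveI := flat_PR f D
  have := vdiv_smul (W4c1extbt610.IV p R) σR (bilR f D)
    ⟨WittVector.verschiebung w, W4c1extbt610.verschiebung_mem_IV p R w⟩ z h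
  rw [bilR_apply, vinvI_verschiebung] at this
  exact this

include hQ in
theorem PiT_mem_top (z : BC φ P) (hz : z ∈ LinearMap.ker (bcQuotMap f D.Q)) :
    PiT f hLT z ∈ W4c1extbt610.IV p R • (⊤ : Submodule (WittVector p R) (BC φ P)) :=
  Submodule.smul_mono le_rfl le_top (PiT_mem f D hLT hQ z hz)

/-- `Q_R → I_R • P_R`, the `T`-component. -/
noncomputable def tPart : LinearMap.ker (bcQuotMap f D.Q) →ₗ[WittVector p R]
    (W4c1extbt610.IV p R • (⊤ : Submodule (WittVector p R) (BC φ P)) :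
      Submodule (WittVector p R) (BC φ P)) :=
  LinearMap.codRestrict _ ((PiT f hLT).comp (LinearMap.ker (bcQuotMap f D.Q)).subtype)
    (fun z => PiT_mem_top f D hLT hQ z.1 z.2)

/-- `V_R⁻¹`. -/
noncomputable def VinvR : LinearMap.ker (bcQuotMap f D.Q) →ₛₗ[σR] BC φ P :=
  (AR f D hLT hLQ).comp (LinearMap.ker (bcQuotMap f D.Q)).subtype +
    (VdivR f D).comp (tPart f D hLT hQ)

theorem VinvR_apply (z : BC φ P) (hz : z ∈ LinearMap.ker (bcQuotMap f D.Q)) :
    VinvR f D hLT hLQ hQ ⟨z, hz⟩ =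
      AR f D hLT hLQ z + VdivR f D ⟨PiT f hLT z, PiT_mem_top f D hLT hQ z hz⟩ := rfl

theorem tmul_natCast_smul' (b : WittVector p R) (x : P) :
    BC.tmul φ b ((p : WittVector p S) • x) = BC.tmul φ (b * (p : WittVector p R)) x := by
  rw [← BC.tmul_mul_apply, map_natCast]

theorem VdivR_tmul_aux (a : P) (ha : a ∈ W4c1extbt610.IV p S • (⊤ : Submodule (WittVector p S) P)) :
    ∀ w : WittVector p R, ∃ (h : BC.tmul φ w a ∈
        W4c1extbt610.IV p R • (⊤ : Submodule (WittVector p R) (BC φ P))) (hq : a ∈ D.Q),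
      VdivR f D ⟨BC.tmul φ w a, h⟩ = BC.tmul φ (σR w) (D.Vinv ⟨a, hq⟩) := by
  refine Submodule.smul_induction_on ha ?_ ?_
  · intro r hr x _ w
    obtain ⟨s, rfl⟩ := exists_verschiebung_of_mem_IV r hr
    have hq : WittVector.verschiebung s • x ∈ D.Q :=
      D.IV_smul_le (Submodule.smul_mem_smul (W4c1extbt610.verschiebung_mem_IV p S s)
        Submodule.mem_top)
    have e1 : BC.tmul φ w (WittVector.verschiebung s • x) =
        WittVector.verschiebung (φ s * σR w) • BC.tmul φ 1 x := by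
      rw [← BC.tmul_mul_apply, WittVector.map_verschiebung, mul_comm, verschiebung_mul,
        BC.smul_tmul, mul_one]
    have h' : WittVector.verschiebung (φ s * σR w) • BC.tmul φ 1 x ∈
        W4c1extbt610.IV p R • (⊤ : Submodule (WittVector p R) (BC φ P)) :=
      Submodule.smul_mem_smul (W4c1extbt610.verschiebung_mem_IV p R _) Submodule.mem_top
    refine ⟨e1 ▸ h', hq, ?_⟩
    have e2 : (⟨BC.tmul φ w (WittVector.verschiebung s • x), e1 ▸ h'⟩ :
        (W4c1extbt610.IV p R • (⊤ : Submodule (WittVector p R) (BC φ P)) :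
          Submodule (WittVector p R) (BC φ P))) =
        ⟨WittVector.verschiebung (φ s * σR w) • BC.tmul φ 1 x, h'⟩ := Subtype.ext e1
    rw [e2, VdivR_smul, FR_tmul, map_one, BC.smul_tmul, mul_one]
    have e3 : D.Vinv ⟨WittVector.verschiebung s • x, hq⟩ = s • D.F x :=
      D.Vinv_verschiebung_smul s x
    rw [e3, ← BC.tmul_mul_apply, mul_comm]
  · intro a₁ a₂ h₁ h₂ w
    obtain ⟨k₁, q₁, e₁⟩ := h₁ w
    obtain ⟨k₂, q₂, e₂⟩ := h₂ w
    have e0 : BC.tmul φ w (a₁ + a₂) = BC.tmul φ w a₁ + BC.tmul φ w a₂ := BC.tmul_add _ _ _ _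
    refine ⟨e0 ▸ add_mem k₁ k₂, add_mem q₁ q₂, ?_⟩
    have e3 : (⟨BC.tmul φ w (a₁ + a₂), e0 ▸ add_mem k₁ k₂⟩ :
        (W4c1extbt610.IV p R • (⊤ : Submodule (WittVector p R) (BC φ P)) :
          Submodule (WittVector p R) (BC φ P))) =
        ⟨BC.tmul φ w a₁, k₁⟩ + ⟨BC.tmul φ w a₂, k₂⟩ := Subtype.ext e0
    have e4 : (⟨a₁ + a₂, add_mem q₁ q₂⟩ : D.Q) = ⟨a₁, q₁⟩ + ⟨a₂, q₂⟩ := rfl
    rw [e3, map_add, e₁, e₂, e4, map_add, BC.tmul_add]

theorem VdivR_tmul (a : P) (ha : a ∈ W4c1extbt610.IV p S • (⊤ : Submodule (WittVector p S) P))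
    (w : WittVector p R)
    (h : BC.tmul φ w a ∈ W4c1extbt610.IV p R • (⊤ : Submodule (WittVector p R) (BC φ P)))
    (hq : a ∈ D.Q) :
    VdivR f D ⟨BC.tmul φ w a, h⟩ = BC.tmul φ (σR w) (D.Vinv ⟨a, hq⟩) := by
  obtain ⟨_, _, e⟩ := VdivR_tmul_aux f D a ha w
  exact e

theorem VinvR_tmul (w : WittVector p R) (y : D.Q)
    (h : BC.tmul φ w (y : P) ∈ LinearMap.ker (bcQuotMap f D.Q)) :
    VinvR f D hLT hLQ hQ ⟨_, h⟩ = BC.tmul φ (σR w) (D.Vinv y) := by
  have hy : (y : P) ∈ L ⊔ W4c1extbt610.IV p S • T := hQ ▸ y.2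
  obtain ⟨l, hl, a, ha, hla⟩ := Submodule.mem_sup.mp hy
  have haT : a ∈ T := Submodule.smul_le_right ha
  have ha' : a ∈ W4c1extbt610.IV p S • (⊤ : Submodule (WittVector p S) P) :=
    Submodule.smul_mono le_rfl le_top ha
  have haQ : a ∈ D.Q := D.IV_smul_le ha'
  rw [VinvR_apply, AR_tmul]
  have e1 : PiT f hLT (BC.tmul φ w (y : P)) = BC.tmul φ w a := by
    rw [PiT_tmul, ← hla, map_add, piT_of_mem_L hLT l hl, piT_of_mem_T hLT a haT, zero_add]
  have e2 : (⟨PiT f hLT (BC.tmul φ w (y : P)), PiT_mem_top f D hLT hQ _ h⟩ :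
      (W4c1extbt610.IV p R • (⊤ : Submodule (WittVector p R) (BC φ P)) :
        Submodule (WittVector p R) (BC φ P))) =
      ⟨BC.tmul φ w a, e1 ▸ PiT_mem_top f D hLT hQ _ h⟩ := Subtype.ext e1
  rw [e2, VdivR_tmul f D a ha' w _ haQ, ← BC.tmul_add]
  congr 1
  have e3 : lPart D hLT hLQ (y : P) = D.Vinv ⟨l, hLQ hl⟩ := by
    rw [lPart_apply]
    congr 1
    apply Subtype.ext
    change piL (p := p) hLT (y : P) = l
    rw [← hla, map_add, piL_of_mem_L hLT l hl, piL_of_mem_T hLT a haT, add_zero]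
  rw [e3, ← map_add]
  congr 1
  exact Subtype.ext hla

theorem VinvR_verschiebung_tmul (w : WittVector p R) (x : P)
    (h : BC.tmul φ (WittVector.verschiebung w) x ∈ LinearMap.ker (bcQuotMap f D.Q)) :
    VinvR f D hLT hLQ hQ ⟨_, h⟩ = BC.tmul φ w (D.F x) := by
  rw [VinvR_apply, AR_tmul]
  have e1 : PiT f hLT (BC.tmul φ (WittVector.verschiebung w) x) =
      WittVector.verschiebung w • BC.tmul φ 1 (piT (p := p) hLT x) := by
    rw [PiT_tmul, BC.smul_tmul, mul_one]
  have h' : WittVector.verschiebung w • BC.tmul φ 1 (piT (p := p) hLT x) ∈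
      W4c1extbt610.IV p R • (⊤ : Submodule (WittVector p R) (BC φ P)) :=
    Submodule.smul_mem_smul (W4c1extbt610.verschiebung_mem_IV p R _) Submodule.mem_top
  have e2 : (⟨PiT f hLT (BC.tmul φ (WittVector.verschiebung w) x),
      PiT_mem_top f D hLT hQ _ h⟩ :
      (W4c1extbt610.IV p R • (⊤ : Submodule (WittVector p R) (BC φ P)) :
        Submodule (WittVector p R) (BC φ P))) =
      ⟨WittVector.verschiebung w • BC.tmul φ 1 (piT (p := p) hLT x), h'⟩ := Subtype.ext e1
  rw [e2, VdivR_smul, FR_tmul, map_one, BC.smul_tmul, mul_one,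
    WittVector.frobenius_verschiebung, ← tmul_natCast_smul', lPart_apply,
    ← F_eq_p_smul_Vinv, ← BC.tmul_add, ← map_add]
  congr 2
  exact LinearMap.congr_fun (piL_add_piT (p := p) hLT) x

end BCD

end Helper16.Disp
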