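import Groth.Agent.Lib.Helper16.DispBC3

set_option autoImplicit false
universe u v

open Dieu TensorProduct

namespace Helper16.Disp

section BCD

variable {p : ℕ} [Fact p.Prime] {S R : Type u} [CommRing S] [CommRing R] (f : S →+* R)
variable {P : Type v} [AddCommGroup P] [Module (WittVector p S) P]

local notation "σS" => (WittVector.frobenius : WittVector p S →+* WittVector p S)
local notation "σR" => (WittVector.frobenius : WittVector p R →+* WittVector p R)
local notation "φ" => (WittVector.map f : WittVector p S →+* WittVector p R)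

variable (D : W4c1extbt610.Display3n p S P) {L T : Submodule (WittVector p S) P}
  (hLT : IsCompl L T) (hLQ : L ≤ D.Q) (hQ : D.Q = L ⊔ W4c1extbt610.IV p S • T)

theorem VinvR_verschiebung_smul (w : WittVector p R) (z : BC φ P) :
    ∀ h : WittVector.verschiebung w • z ∈ LinearMap.ker (bcQuotMap f D.Q),
      VinvR f D hLT hLQ hQ ⟨_, h⟩ = w • FR f D z := by
  induction z using BC.induction_on φ with
  | zero =>
    intro h
    have e : (⟨WittVector.verschiebung w • (0 : BC φ P), h⟩ :
        LinearMap.ker (bcQuotMap f D.Q)) = 0 := Subtype.ext (smul_zero _)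
    rw [e, map_zero, map_zero, smul_zero]
  | tmul b x =>
    intro h
    have e1 : WittVector.verschiebung w • BC.tmul φ b x =
        BC.tmul φ (WittVector.verschiebung (w * σR b)) x := by
      rw [BC.smul_tmul, verschiebung_mul]
    have e2 : (⟨WittVector.verschiebung w • BC.tmul φ b x, h⟩ :
        LinearMap.ker (bcQuotMap f D.Q)) =
        ⟨BC.tmul φ (WittVector.verschiebung (w * σR b)) x, e1 ▸ h⟩ := Subtype.ext e1
    rw [e2, VinvR_verschiebung_tmul, FR_tmul, BC.smul_tmul]
  | add z₁ z₂ h₁ h₂ =>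
    intro h
    have k₁ : WittVector.verschiebung w • z₁ ∈ LinearMap.ker (bcQuotMap f D.Q) :=
      IV_smul_le_ker f D (Submodule.smul_mem_smul (W4c1extbt610.verschiebung_mem_IV p R w)
        Submodule.mem_top)
    have k₂ : WittVector.verschiebung w • z₂ ∈ LinearMap.ker (bcQuotMap f D.Q) :=
      IV_smul_le_ker f D (Submodule.smul_mem_smul (W4c1extbt610.verschiebung_mem_IV p R w)
        Submodule.mem_top)
    have e : (⟨WittVector.verschiebung w • (z₁ + z₂), h⟩ :
        LinearMap.ker (bcQuotMap f D.Q)) =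
        ⟨WittVector.verschiebung w • z₁, k₁⟩ + ⟨WittVector.verschiebung w • z₂, k₂⟩ :=
      Subtype.ext (smul_add _ _ _)
    rw [e, map_add, h₁ k₁, h₂ k₂, map_add, smul_add]

theorem span_range_VinvR :
    Submodule.span (WittVector p R) (Set.range (VinvR f D hLT hLQ hQ)) = ⊤ := by
  rw [eq_top_iff]
  intro z hz
  clear hz
  induction z using BC.induction_on φ with
  | zero => exact zero_mem _
  | tmul b x =>
    rw [BC.tmul_eq_smul_tmul_one]
    refine Submodule.smul_mem _ _ ?_
    have hx : x ∈ Submodule.span (WittVector p S) (Set.range D.Vinv) := by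
      rw [D.span_range_Vinv]; exact Submodule.mem_top
    induction hx using Submodule.span_induction with
    | mem x hx =>
      obtain ⟨y, rfl⟩ := hx
      have h : BC.tmul φ 1 (y : P) ∈ LinearMap.ker (bcQuotMap f D.Q) :=
        gens_subset_ker f D.Q (Submodule.subset_span (Or.inl ⟨1, y, y.2, rfl⟩))
      have e := VinvR_tmul f D hLT hLQ hQ 1 y h
      rw [map_one] at e
      rw [← e]
      exact Submodule.subset_span ⟨_, rfl⟩
    | zero => rw [BC.tmul_zero]; exact zero_mem _
    | add x y _ _ hx hy => rw [BC.tmul_add]; exact add_mem hx hy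
    | smul c x _ hx =>
      rw [← BC.tmul_mul_apply, one_mul, BC.tmul_eq_smul_tmul_one]
      exact Submodule.smul_mem _ _ hx
  | add z₁ z₂ h₁ h₂ => exact add_mem h₁ h₂

/-- The base change display. -/
noncomputable def DRof : W4c1extbt610.Display3n p R (BC φ P) where
  Q := LinearMap.ker (bcQuotMap f D.Q)
  F := FR f D
  Vinv := VinvR f D hLT hLQ hQ
  finite := @finite_BC _ _ _ _ φ P _ _ D.finite
  projective := @projective_BC _ _ _ _ P _ _ φ D.projective
  IV_smul_le := IV_smul_le_ker f D
  exists_normal := ⟨_, _, isCompl_LR_TR f hLT, QR_eq f D hLT hLQ hQ⟩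
  span_range_Vinv := span_range_VinvR f D hLT hLQ hQ
  Vinv_verschiebung_smul := fun w z => VinvR_verschiebung_smul f D hLT hLQ hQ w z _

theorem DRof_isDispBaseChange : IsDispBaseChange f D (DRof f D hLT hLQ hQ) where
  Q_eq := rfl
  F_tmul := fun w x => FR_tmul f D w x
  Vinv_tmul := fun w y h => VinvR_tmul f D hLT hLQ hQ w y h
  Vinv_verschiebung_tmul := fun w x h => VinvR_verschiebung_tmul f D hLT hLQ hQ w x h

theorem exists_dispBaseChange :
    ∃ DR : W4c1extbt610.Display3n p R (BC φ P), IsDispBaseChange f D DR := by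
  obtain ⟨L, T, hLT, hQ⟩ := D.exists_normal
  have hLQ : L ≤ D.Q := hQ ▸ le_sup_left
  exact ⟨DRof f D hLT hLQ hQ, DRof_isDispBaseChange f D hLT hLQ hQ⟩

theorem dispBaseChange_unique (DR DR' : W4c1extbt610.Display3n p R (BC φ P))
    (h : IsDispBaseChange f D DR) (h' : IsDispBaseChange f D DR') : DR = DR' := by
  obtain ⟨Q, F, Vinv, h1, h2, h3, h4, h5, h6⟩ := DR
  obtain ⟨Q', F', Vinv', h1', h2', h3', h4', h5', h6'⟩ := DR'
  have hQ : Q = Q' := h.Q_eq.trans h'.Q_eq.symm
  subst hQ
  have hF : F = F' := by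
    apply LinearMap.ext
    intro z
    induction z using BC.induction_on φ with
    | zero => rw [map_zero, map_zero]
    | tmul b x => exact (h.F_tmul b x).trans (h'.F_tmul b x).symm
    | add z₁ z₂ e₁ e₂ => rw [map_add, map_add, e₁, e₂]
  subst hF
  have hQk : Q = LinearMap.ker (bcQuotMap f D.Q) := h.Q_eq
  have hV : Vinv = Vinv' := by
    apply LinearMap.ext
    rintro ⟨z, hz⟩
    have hz' : z ∈ Submodule.span (WittVector p R) (gens f D.Q) :=
      ker_bcQuotMap_le f D.Q (hQk ▸ hz)
    have key : ∀ hz : z ∈ Q, Vinv ⟨z, hz⟩ = Vinv' ⟨z, hz⟩ := by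
      clear hz
      induction hz' using Submodule.span_induction with
      | mem z hzg =>
        intro hz
        rcases hzg with ⟨b, q, hq, rfl⟩ | ⟨b, x, rfl⟩
        · exact (h.Vinv_tmul b ⟨q, hq⟩ hz).trans (h'.Vinv_tmul b ⟨q, hq⟩ hz).symm
        · exact (h.Vinv_verschiebung_tmul b x hz).trans (h'.Vinv_verschiebung_tmul b x hz).symm
      | zero =>
        intro hz
        have e : (⟨0, hz⟩ : Q) = 0 := rfl
        rw [e, map_zero, map_zero]
      | add x y hx hy ex ey =>
        intro hz
        have kx : x ∈ Q := hQk ▸ gens_subset_ker f D.Q hx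
        have ky : y ∈ Q := hQk ▸ gens_subset_ker f D.Q hy
        have e : (⟨x + y, hz⟩ : Q) = ⟨x, kx⟩ + ⟨y, ky⟩ := rfl
        rw [e, map_add, map_add, ex kx, ey ky]
      | smul c x hx ex =>
        intro hz
        have kx : x ∈ Q := hQk ▸ gens_subset_ker f D.Q hx
        have e : (⟨c • x, hz⟩ : Q) = c • ⟨x, kx⟩ := rfl
        rw [e, LinearMap.map_smulₛₗ, LinearMap.map_smulₛₗ, ex kx]
    exact key hz
  subst hV
  rfl

end BCD

end Helper16.Disp
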