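import Groth.Agent.Lib.Helper16.DispH10

set_option autoImplicit false
universe u v w w'

open Dieu TensorProduct

namespace Helper16.DispD

section Abstract

variable {A : Type u} {B : Type v} {C : Type v} [CommRing A] [CommRing B] [CommRing C]
variable (a : A →+* B) (j₁ j₂ : B →+* C) (c : A →+* C)
variable (e₁ : j₁.comp a = c) (e₂ : j₂.comp a = c)
variable {P : Type w} [AddCommGroup P] [Module A P] {P' : Type w'} [AddCommGroup P'] [Module A P']

/-- `a` as an `A`-linear map `A → Res a`. -/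
noncomputable def aL : A →ₗ[A] Dieu.Res a where
  toFun s := Dieu.Res.mk a (a s)
  map_add' s t := by rw [map_add]; rfl
  map_smul' r s := by
    apply Dieu.Res.ext
    rw [Dieu.Res.val_smul, smul_eq_mul, map_mul]
    rfl

include e₁ e₂ in
theorem dL_smul (r : A) (b : B) : j₁ (a r * b) - j₂ (a r * b) = c r * (j₁ b - j₂ b) := by
  have h1 : j₁ (a r) = c r := by rw [← e₁]; rfl
  have h2 : j₂ (a r) = c r := by rw [← e₂]; rfl
  rw [map_mul, map_mul, h1, h2, mul_sub]

/-- `j₁ - j₂` as an `A`-linear map `Res a → Res c`. -/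
noncomputable def dL : Dieu.Res a →ₗ[A] Dieu.Res c where
  toFun b := Dieu.Res.mk c (j₁ b.val - j₂ b.val)
  map_add' s t := by
    apply Dieu.Res.ext
    rw [Dieu.Res.val_add, Dieu.Res.val_add, map_add, map_add]
    change _ = (j₁ s.val - j₂ s.val) + (j₁ t.val - j₂ t.val)
    change j₁ s.val + j₁ t.val - (j₂ s.val + j₂ t.val) = _
    ring
  map_smul' r b := by
    apply Dieu.Res.ext
    rw [Dieu.Res.val_smul, RingHom.id_apply, Dieu.Res.val_smul]
    exact dL_smul a j₁ j₂ c e₁ e₂ r b.val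

variable (hEq : ∀ b : B, j₁ b = j₂ b → ∃ s : A, a s = b)

include hEq in
theorem exact_aL_dL : Function.Exact (aL a) (dL a j₁ j₂ c e₁ e₂) := by
  intro b
  constructor
  · intro h
    have h' : j₁ b.val - j₂ b.val = 0 := congrArg Dieu.Res.val h
    obtain ⟨s, hs⟩ := hEq b.val (sub_eq_zero.mp h')
    exact ⟨s, Dieu.Res.ext _ hs⟩
  · rintro ⟨s, rfl⟩
    apply Dieu.Res.ext
    change j₁ (a s) - j₂ (a s) = 0
    have h1 : j₁ (a s) = c s := by rw [← e₁]; rfl
    have h2 : j₂ (a s) = c s := by rw [← e₂]; rfl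
    rw [h1, h2, sub_self]

/-- the `j`-semilinear map `w ⊗ x ↦ j w ⊗ x`. -/
noncomputable def Jmap (j : B →+* C) (e : j.comp a = c) : BC a P' →ₛₗ[j] BC c P' :=
  (BC.castHom e).comp (BC.push a j)

@[simp] theorem Jmap_tmul (j : B →+* C) (e : j.comp a = c) (b : B) (x : P') :
    Jmap a c j e (BC.tmul a b x) = BC.tmul c (j b) x := by
  rw [Jmap, LinearMap.comp_apply, BC.push_tmul, BC.castHom_tmul]

theorem dL_rTensor_eq (y : Dieu.Res a ⊗[A] P') :
    ((dL a j₁ j₂ c e₁ e₂).rTensor P' y : Dieu.Res c ⊗[A] P') =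
      ((Jmap a c j₁ e₁ (show BC a P' from y) - Jmap a c j₂ e₂ (show BC a P' from y) : BC c P')) := by
  induction y using TensorProduct.induction_on with
  | zero =>
    have h1 : Jmap a c j₁ e₁ (0 : BC a P') = 0 := map_zero _
    have h2 : Jmap a c j₂ e₂ (0 : BC a P') = 0 := map_zero _
    have h3 : (dL a j₁ j₂ c e₁ e₂).rTensor P' 0 = 0 := map_zero _
    rw [h3]
    change (0 : BC c P') = Jmap a c j₁ e₁ (0 : BC a P') - Jmap a c j₂ e₂ (0 : BC a P')
    rw [h1, h2, sub_zero]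
  | tmul b x =>
    rw [LinearMap.rTensor_tmul]
    change (Dieu.Res.mk c (j₁ b.val - j₂ b.val)) ⊗ₜ[A] x =
      Jmap a c j₁ e₁ (BC.tmul a b.val x) - Jmap a c j₂ e₂ (BC.tmul a b.val x)
    rw [Jmap_tmul, Jmap_tmul]
    change BC.tmul c (j₁ b.val - j₂ b.val) x = _
    rw [sub_eq_add_neg, BC.add_tmul, sub_eq_add_neg]
    congr 1
  | add y₁ y₂ h₁ h₂ =>
    rw [map_add, h₁, h₂]
    have e1 : Jmap a c j₁ e₁ (show BC a P' from (y₁ + y₂)) =
        Jmap a c j₁ e₁ (show BC a P' from y₁) + Jmap a c j₁ e₁ (show BC a P' from y₂) :=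
      map_add _ _ _
    have e2 : Jmap a c j₂ e₂ (show BC a P' from (y₁ + y₂)) =
        Jmap a c j₂ e₂ (show BC a P' from y₁) + Jmap a c j₂ e₂ (show BC a P' from y₂) :=
      map_add _ _ _
    rw [e1, e2]
    change _ = (_ : BC c P')
    abel

include hEq in
/-- elements of the equaliser of `W(R) ⊗ P' ⇉ W(R ⊗ R) ⊗ P'` come from `P'` (flat `P'`). -/
theorem exists_tmul_of_Jmap_eq [Module.Flat A P'] (y : BC a P')
    (h : Jmap a c j₁ e₁ y = Jmap a c j₂ e₂ y) : ∃ x' : P', y = BC.tmul a 1 x' := by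
  have hex := Module.Flat.rTensor_exact P' (exact_aL_dL a j₁ j₂ c e₁ e₂ hEq)
  have h0 : (dL a j₁ j₂ c e₁ e₂).rTensor P' (show Dieu.Res a ⊗[A] P' from y) = 0 := by
    rw [dL_rTensor_eq]
    exact sub_eq_zero.mpr h
  obtain ⟨u, hu⟩ := (hex _).mp h0
  refine ⟨TensorProduct.lid A P' u, ?_⟩
  have hu' : u = (1 : A) ⊗ₜ[A] (TensorProduct.lid A P' u) := by
    apply (TensorProduct.lid A P').injective
    rw [TensorProduct.lid_tmul, one_smul]
  rw [hu'] at hu
  rw [LinearMap.rTensor_tmul] at hu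
  have : aL a (1 : A) = Dieu.Res.mk a 1 := by
    apply Dieu.Res.ext
    change a 1 = 1
    exact map_one a
  rw [this] at hu
  exact hu.symm

theorem tmul_injective [Module.Flat A P'] (ha : Function.Injective a) (x₁ x₂ : P')
    (h : BC.tmul a 1 x₁ = BC.tmul a 1 x₂) : x₁ = x₂ := by
  have hinj : Function.Injective (aL a) := by
    intro s t hst
    exact ha (congrArg Dieu.Res.val hst)
  have h2 := Module.Flat.rTensor_preserves_injective_linearMap (M := P') (aL a) hinj
  have e : ∀ x : P', (aL a).rTensor P' ((1 : A) ⊗ₜ[A] x) = BC.tmul a 1 x := by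
    intro x
    rw [LinearMap.rTensor_tmul]
    have : aL a (1 : A) = Dieu.Res.mk a 1 := by
      apply Dieu.Res.ext
      change a 1 = 1
      exact map_one a
    rw [this]
    rfl
  have h3 : (1 : A) ⊗ₜ[A] x₁ = (1 : A) ⊗ₜ[A] x₂ := h2 ((e x₁).trans (h.trans (e x₂).symm))
  have := congrArg (TensorProduct.lid A P') h3
  rwa [TensorProduct.lid_tmul, TensorProduct.lid_tmul, one_smul, one_smul] at this

include hEq in
/-- descent of linear maps. -/
theorem exists_descent_linear [Module.Flat A P'] (ha : Function.Injective a)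
    (χ : BC a P →ₗ[B] BC a P')
    (hχ : ∀ x : P, Jmap a c j₁ e₁ (χ (BC.tmul a 1 x)) = Jmap a c j₂ e₂ (χ (BC.tmul a 1 x))) :
    ∃ ψ : P →ₗ[A] P', ∀ x : P, BC.tmul a 1 (ψ x) = χ (BC.tmul a 1 x) := by
  choose g hg using fun x : P =>
    exists_tmul_of_Jmap_eq a j₁ j₂ c e₁ e₂ hEq (χ (BC.tmul a 1 x)) (hχ x)
  refine ⟨{ toFun := g, map_add' := ?_, map_smul' := ?_ }, fun x => (hg x).symm⟩
  · intro x y
    apply tmul_injective a ha
    rw [BC.tmul_add, ← hg, ← hg, ← hg, BC.tmul_add, map_add]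
  · intro r x
    apply tmul_injective a ha
    rw [RingHom.id_apply, ← hg, ← BC.tmul_apply_eq, BC.tmul_eq_smul_tmul_one, map_smul, hg,
      BC.smul_tmul, mul_one, BC.tmul_apply_eq]

end Abstract

end Helper16.DispD
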