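import Groth.Agent.Lib.Helper16.DispD1
import Mathlib.RingTheory.TensorProduct.IncludeLeftSubRight

set_option autoImplicit false
universe u v v'

open Dieu TensorProduct WittVector Helper16.Disp Helper16.DispH

namespace Helper16.DispD

section WittEq

variable {p : ℕ} [hp : Fact p.Prime] {S R : Type u} [CommRing S] [CommRing R] [Algebra S R]
  [Module.FaithfullyFlat S R]

theorem witt_equalizer (b : WittVector p R)
    (h : (WittVector.map (Algebra.TensorProduct.includeLeftRingHom : R →+* TensorProduct S R R) :
        WittVector p R →+* WittVector p (TensorProduct S R R)) b =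
      (WittVector.map ((Algebra.TensorProduct.includeRight : R →ₐ[S] TensorProduct S R R) :
        R →+* TensorProduct S R R) : WittVector p R →+* WittVector p (TensorProduct S R R)) b) :
    ∃ s : WittVector p S,
      (WittVector.map (algebraMap S R) : WittVector p S →+* WittVector p R) s = b := by
  have heff : Algebra.IsEffective S R := Algebra.IsEffective.of_faithfullyFlat S R
  have hcoord : ∀ n : ℕ, ∃ s : S, algebraMap S R s = b.coeff n := by
    intro n
    have hn := congrArg (fun y : WittVector p (TensorProduct S R R) => y.coeff n) h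
    simp only [WittVector.map_coeff] at hn
    have h0 : Algebra.TensorProduct.includeLeftSubRight S R (b.coeff n) = 0 := by
      rw [Algebra.TensorProduct.includeLeftSubRight_apply, sub_eq_zero]
      exact hn
    obtain ⟨s, hs⟩ := (heff (b.coeff n)).mp h0
    exact ⟨s, hs⟩
  choose sf hsf using hcoord
  refine ⟨WittVector.mk p sf, ?_⟩
  ext n
  rw [WittVector.map_coeff, WittVector.coeff_mk, hsf]

theorem witt_map_injective :
    Function.Injective (WittVector.map (algebraMap S R) : WittVector p S →+* WittVector p R) :=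
  WittVector.map_injective _ (FaithfulSMul.algebraMap_injective S R)

end WittEq

section QMem

variable {p : ℕ} [hp : Fact p.Prime] {S R : Type u} [CommRing S] [CommRing R] (f : S →+* R)
variable {P' : Type v'} [AddCommGroup P'] [Module (WittVector p S) P']
variable (D' : W4c1extbt610.Display3n p S P')

local notation "φ" => (WittVector.map f : WittVector p S →+* WittVector p R)

theorem coeff_zero_of_mem_IV (r : WittVector p R) (hr : r ∈ W4c1extbt610.IV p R) :
    r.coeff 0 = 0 := by
  obtain ⟨z, rfl⟩ := exists_verschiebung_of_mem_IV r hr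
  exact WittVector.verschiebung_coeff_zero z

include D' in
theorem mem_IV_smul_top_of_tmul_mem (hf : Function.Injective f) (t : P')
    (ht : BC.tmul φ 1 t ∈ W4c1extbt610.IV p R • (⊤ : Submodule (WittVector p R) (BC φ P'))) :
    t ∈ W4c1extbt610.IV p S • (⊤ : Submodule (WittVector p S) P') := by
  obtain ⟨s, hs⟩ := Module.projective_def'.mp D'.projective
  have hcoord : ∀ i : P', s t i ∈ W4c1extbt610.IV p S := by
    intro i
    let ℓ : P' →ₗ[WittVector p S] WittVector p S := (Finsupp.lapply i).comp s
    let Li : BC φ P' →ₗ[WittVector p R] WittVector p R :=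
      BC.lift φ ((Dieu.semilinearOfRingHom φ).comp ℓ)
    have hLi : ∀ z : BC φ P', z ∈ W4c1extbt610.IV p R •
        (⊤ : Submodule (WittVector p R) (BC φ P')) → Li z ∈ W4c1extbt610.IV p R := by
      intro z hz
      refine Submodule.smul_induction_on hz ?_ ?_
      · intro r hr m _
        rw [map_smul, smul_eq_mul]
        exact Ideal.mul_mem_right _ _ hr
      · intro x y hx hy
        rw [map_add]
        exact Ideal.add_mem _ hx hy
    have h1 := hLi _ ht
    have h2 : Li (BC.tmul φ 1 t) = φ (s t i) := by
      change BC.lift φ ((Dieu.semilinearOfRingHom φ).comp ℓ) (BC.tmul φ 1 t) = _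
      rw [BC.lift_tmul, one_smul]
      rfl
    rw [h2] at h1
    have h3 := coeff_zero_of_mem_IV _ h1
    rw [WittVector.map_coeff] at h3
    have h4 : (s t i).coeff 0 = 0 := hf (h3.trans (map_zero f).symm)
    rw [eq_verschiebung_shift _ h4]
    exact W4c1extbt610.verschiebung_mem_IV p S _
  have e : t = Finsupp.linearCombination (WittVector p S) id (s t) := by
    have := congrArg (fun ψ => ψ t) hs
    exact this.symm
  rw [e, Finsupp.linearCombination_apply, Finsupp.sum]
  apply Submodule.sum_mem
  intro i _
  exact Submodule.smul_mem_smul (hcoord i) Submodule.mem_top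

theorem mem_Q_of_tmul_mem (hf : Function.Injective f) (x' : P')
    (h : BC.tmul φ 1 x' ∈ LinearMap.ker (bcQuotMap f D'.Q)) : x' ∈ D'.Q := by
  obtain ⟨L, T, hLT, hQ⟩ := D'.exists_normal
  have h1 := PiT_mem f D' hLT hQ _ h
  rw [PiT_tmul] at h1
  have h2 : BC.tmul φ 1 (piT (p := p) hLT x') ∈
      W4c1extbt610.IV p R • (⊤ : Submodule (WittVector p R) (BC φ P')) :=
    Submodule.smul_mono le_rfl le_top h1
  have h3 := mem_IV_smul_top_of_tmul_mem f D' hf _ h2
  have h4 : piT (p := p) hLT (piT (p := p) hLT x') ∈ W4c1extbt610.IV p S • T := by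
    refine Submodule.smul_induction_on h3 ?_ ?_
    · intro r hr m _
      rw [map_smul]
      exact Submodule.smul_mem_smul hr (piT_mem hLT m)
    · intro x y hx hy
      rw [map_add]
      exact add_mem hx hy
  rw [piT_of_mem_T hLT _ (piT_mem hLT x')] at h4
  have hsum : x' = piL (p := p) hLT x' + piT (p := p) hLT x' := by
    have := congrArg (fun ψ => ψ x') (piL_add_piT (p := p) hLT)
    exact this.symm
  rw [hQ, hsum]
  exact Submodule.add_mem_sup (piL_mem hLT x') h4

end QMem

section Main

variable {p : ℕ} [hp : Fact p.Prime] {S R : Type u} [CommRing S] [CommRing R] [Algebra S R]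
  [Module.FaithfullyFlat S R]
variable {P : Type v} [AddCommGroup P] [Module (WittVector p S) P]
variable {P' : Type v'} [AddCommGroup P'] [Module (WittVector p S) P']
variable (D : W4c1extbt610.Display3n p S P) (D' : W4c1extbt610.Display3n p S P')

local notation "a" => (WittVector.map (algebraMap S R) : WittVector p S →+* WittVector p R)
local notation "j₁" => (WittVector.map (Algebra.TensorProduct.includeLeftRingHom :
  R →+* TensorProduct S R R) : WittVector p R →+* WittVector p (TensorProduct S R R))
local notation "j₂" => (WittVector.map ((Algebra.TensorProduct.includeRight :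
  R →ₐ[S] TensorProduct S R R) : R →+* TensorProduct S R R) :
    WittVector p R →+* WittVector p (TensorProduct S R R))
local notation "c" => (WittVector.map (algebraMap S (TensorProduct S R R)) :
  WittVector p S →+* WittVector p (TensorProduct S R R))

theorem existsUnique_descent (e₁ : (j₁).comp a = c) (e₂ : (j₂).comp a = c)
    (DR : W4c1extbt610.Display3n p R (BC a P)) (hDR : IsDispBaseChange (algebraMap S R) D DR)
    (DR' : W4c1extbt610.Display3n p R (BC a P'))
    (hDR' : IsDispBaseChange (algebraMap S R) D' DR')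
    (χ : BC a P →ₗ[WittVector p R] BC a P') (hχ : W4c1extbt610.IsHom DR DR' χ)
    (hχJ : ∀ x : P, Jmap a c j₁ e₁ (χ (BC.tmul a 1 x)) = Jmap a c j₂ e₂ (χ (BC.tmul a 1 x))) :
    ∃! ψ : P →ₗ[WittVector p S] P', W4c1extbt610.IsHom D D' ψ ∧ BC.map a ψ = χ := by
  haveI : Module.Flat (WittVector p S) P' := @Module.Flat.of_projective _ _ _ _ _ D'.projective
  have hinj := witt_map_injective (p := p) (S := S) (R := R)
  obtain ⟨ψ, hψ⟩ := exists_descent_linear a j₁ j₂ c e₁ e₂
    (fun b hb => witt_equalizer (p := p) (S := S) b hb) hinj χ hχJ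
  have hmap : BC.map a ψ = χ := BC.ext a (fun x => by rw [BC.map_tmul, hψ])
  have hgen : ∀ y : P, y ∈ D.Q → BC.tmul a 1 y ∈ DR.Q := by
    intro y hy
    rw [hDR.Q_eq]
    exact gens_subset_ker (algebraMap S R) D.Q (Submodule.subset_span (Or.inl ⟨1, y, hy, rfl⟩))
  have hQ : ∀ y : P, y ∈ D.Q → ψ y ∈ D'.Q := by
    intro y hy
    have h1 := hχ.mapsTo _ (hgen y hy)
    rw [← hψ, hDR'.Q_eq] at h1
    exact mem_Q_of_tmul_mem (algebraMap S R) D' (FaithfulSMul.algebraMap_injective S R) _ h1
  have hgen' : ∀ y : P, ∀ hy : y ∈ D.Q, BC.tmul a 1 (ψ y) ∈ DR'.Q := by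
    intro y hy
    have h1 := hχ.mapsTo _ (hgen y hy)
    rwa [← hψ] at h1
  refine ⟨ψ, ⟨isHom_of_comm_Vinv D D' ψ hQ ?_, hmap⟩, ?_⟩
  · intro y
    apply tmul_injective a hinj
    have e1 := hDR'.Vinv_tmul 1 ⟨ψ y, hQ y y.2⟩ (hgen' y y.2)
    have e2 := hDR.Vinv_tmul 1 y (hgen y y.2)
    have e3 := hχ.comm_Vinv ⟨BC.tmul a 1 (y : P), hgen y y.2⟩
    rw [map_one] at e1 e2
    rw [← e1, hψ (D.Vinv y), ← e2, e3]
    congr 1
    apply Subtype.ext
    exact (hψ y).symm
  · rintro ψ' ⟨_, hmap'⟩
    ext x
    apply tmul_injective a hinj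
    rw [hψ, ← hmap', BC.map_tmul]

end Main

end Helper16.DispD
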