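import Mathlib
import Groth.Prelude.Def_W4c1extbt610Disp

set_option autoImplicit false
universe u v w

namespace Helper16.DispExt

open W4c1extbt610

variable {p : ℕ} [Fact p.Prime] {R : Type u} [CommRing R]
variable {P : Type v} [AddCommGroup P] [Module (WittVector p R) P]

local notation "σ" => (WittVector.frobenius : WittVector p R →+* WittVector p R)

theorem V_one_smul_mem (D : Display3n p R P) (x : P) :
    WittVector.verschiebung (1 : WittVector p R) • x ∈ D.Q :=
  D.IV_smul_le (Submodule.smul_mem_smul (verschiebung_mem_IV p R 1) Submodule.mem_top)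

theorem F_eq_Vinv (D : Display3n p R P) (x : P) :
    D.F x = D.Vinv ⟨WittVector.verschiebung (1 : WittVector p R) • x, V_one_smul_mem D x⟩ := by
  have := D.Vinv_verschiebung_smul 1 x
  rw [one_smul] at this
  exact this.symm

variable {P' : Type w} [AddCommGroup P'] [Module (WittVector p R) P']

theorem ιMulti_isAltMult (D : Display3n p R P) (r : ℕ)
    (E : Display3n p R (⋀[WittVector p R]^r P)) (hE : IsExtPow D r E) :
    IsAltMult D E (exteriorPower.ιMulti (WittVector p R) r) := by
  have hmaps : ∀ q : Fin r → D.Q,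
      exteriorPower.ιMulti (WittVector p R) r (fun i => (q i : P)) ∈ E.Q := by
    intro q
    rw [hE.1]
    exact Submodule.subset_span ⟨q, rfl⟩
  refine ⟨hmaps, fun q => hE.2 q _, ?_⟩
  intro i x q
  rw [F_eq_Vinv E]
  set q' : Fin r → D.Q := Function.update q i
    ⟨WittVector.verschiebung (1 : WittVector p R) • x, V_one_smul_mem D x⟩ with hq'
  have e1 : WittVector.verschiebung (1 : WittVector p R) •
      exteriorPower.ιMulti (WittVector p R) r (Function.update (fun j => (q j : P)) i x) =
      exteriorPower.ιMulti (WittVector p R) r (fun j => (q' j : P)) := by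
    rw [← AlternatingMap.map_update_smul]
    congr 1
    funext j
    by_cases hj : j = i
    · subst hj
      simp [hq']
    · simp [hq', Function.update_of_ne hj]
  have e2 : (⟨WittVector.verschiebung (1 : WittVector p R) •
      exteriorPower.ιMulti (WittVector p R) r (Function.update (fun j => (q j : P)) i x),
      V_one_smul_mem E _⟩ : E.Q) =
      ⟨exteriorPower.ιMulti (WittVector p R) r (fun j => (q' j : P)), hmaps q'⟩ :=
    Subtype.ext e1
  rw [e2, hE.2 q' _]
  congr 1
  funext j
  by_cases hj : j = i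
  · subst hj
    simp only [hq', Function.update_self]
    exact (F_eq_Vinv D x).symm
  · simp [hq', Function.update_of_ne hj]

theorem lift_isHom (D : Display3n p R P) (r : ℕ)
    (E : Display3n p R (⋀[WittVector p R]^r P)) (hE : IsExtPow D r E)
    (D' : Display3n p R P') (φ : P [⋀^Fin r]→ₗ[WittVector p R] P') (hφ : IsAltMult D D' φ) :
    IsHom E D' (exteriorPower.alternatingMapLinearEquiv φ) := by
  set ψ := exteriorPower.alternatingMapLinearEquiv φ with hψ
  have hmaps : ∀ y : ⋀[WittVector p R]^r P, y ∈ E.Q → ψ y ∈ D'.Q := by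
    intro y hy
    rw [hE.1] at hy
    induction hy using Submodule.span_induction with
    | mem y hy =>
      obtain ⟨q, rfl⟩ := hy
      rw [hψ, exteriorPower.alternatingMapLinearEquiv_apply_ιMulti]
      exact hφ.mapsTo q
    | zero => rw [map_zero]; exact zero_mem _
    | add x y _ _ hx hy => rw [map_add]; exact add_mem hx hy
    | smul c x _ hx => rw [map_smul]; exact Submodule.smul_mem _ _ hx
  have aux : ∀ (q : Fin r → D.Q)
      (hy : exteriorPower.ιMulti (WittVector p R) r (fun i => (q i : P)) ∈ E.Q),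
      ψ (E.Vinv ⟨exteriorPower.ιMulti (WittVector p R) r (fun i => (q i : P)), hy⟩) =
        D'.Vinv ⟨ψ (exteriorPower.ιMulti (WittVector p R) r (fun i => (q i : P))),
          hmaps _ hy⟩ := by
    intro q hy
    have e1 : ψ (exteriorPower.ιMulti (WittVector p R) r fun i => D.Vinv (q i)) =
        φ (fun i => D.Vinv (q i)) := exteriorPower.alternatingMapLinearEquiv_apply_ιMulti φ _
    rw [hE.2 q hy, e1, ← hφ.vCond q]
    congr 1
    exact Subtype.ext (exteriorPower.alternatingMapLinearEquiv_apply_ιMulti φ _).symm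
  have hV : ∀ y : E.Q, ψ (E.Vinv y) = D'.Vinv ⟨ψ y, hmaps y y.2⟩ := by
    rintro ⟨y, hy⟩
    have hy' : y ∈ Submodule.span (WittVector p R)
        (Set.range fun q : Fin r → D.Q =>
          exteriorPower.ιMulti (WittVector p R) r (fun i => (q i : P))) := hE.1 ▸ hy
    have key : ∀ hy : y ∈ E.Q, ψ (E.Vinv ⟨y, hy⟩) = D'.Vinv ⟨ψ y, hmaps y hy⟩ := by
      clear hy
      induction hy' using Submodule.span_induction with
      | mem y hyg =>
        intro hy
        obtain ⟨q, rfl⟩ := hyg
        exact aux q hy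
      | zero =>
        intro hy
        have e : (⟨0, hy⟩ : E.Q) = 0 := rfl
        have e' : (⟨ψ 0, hmaps 0 hy⟩ : D'.Q) = 0 := Subtype.ext (map_zero ψ)
        rw [e, e', map_zero, map_zero, map_zero]
      | add x y hx hy' ex ey =>
        intro hy
        have kx : x ∈ E.Q := hE.1 ▸ hx
        have ky : y ∈ E.Q := hE.1 ▸ hy'
        have e : (⟨x + y, hy⟩ : E.Q) = ⟨x, kx⟩ + ⟨y, ky⟩ := rfl
        have e' : (⟨ψ (x + y), hmaps _ hy⟩ : D'.Q) = ⟨ψ x, hmaps x kx⟩ + ⟨ψ y, hmaps y ky⟩ :=
          Subtype.ext (map_add ψ x y)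
        rw [e, e', map_add, map_add, map_add, ex kx, ey ky]
      | smul c x hx ex =>
        intro hy
        have kx : x ∈ E.Q := hE.1 ▸ hx
        have e : (⟨c • x, hy⟩ : E.Q) = c • ⟨x, kx⟩ := rfl
        have e' : (⟨ψ (c • x), hmaps _ hy⟩ : D'.Q) = c • ⟨ψ x, hmaps x kx⟩ :=
          Subtype.ext (map_smul ψ c x)
        rw [e, e', LinearMap.map_smulₛₗ E.Vinv, map_smul ψ, LinearMap.map_smulₛₗ D'.Vinv, ex kx]
    exact key hy
  refine ⟨hmaps, ?_, hV⟩
  intro x
  rw [F_eq_Vinv E, F_eq_Vinv D', hV]
  congr 1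
  exact Subtype.ext (map_smul ψ _ x)

end Helper16.DispExt
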