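import Groth.Agent.Lib.Helper16.DispBC4
import Groth.Agent.Lib.Helper95.DispLift

set_option autoImplicit false
universe u v

open WittVector

namespace Helper16.DispH

section Ghost

variable {p : ℕ} [hp : Fact p.Prime] {U : Type*} [CommRing U]

theorem pow_torsionFree (hU : ∀ u : U, (p : U) * u = 0 → u = 0) :
    ∀ (k : ℕ) (u : U), (p : U) ^ k * u = 0 → u = 0 := by
  intro k
  induction k with
  | zero => intro u hu; simpa using hu
  | succ k ihk =>
    intro u hu
    rw [pow_succ, mul_assoc] at hu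
    exact hU u (ihk _ hu)

theorem ghost_injective_of_torsionFree (hU : ∀ u : U, (p : U) * u = 0 → u = 0)
    (x y : WittVector p U) (h : ∀ n, ghostComponent n x = ghostComponent n y) : x = y := by
  have key : ∀ n, x.coeff n = y.coeff n := by
    intro n
    induction n using Nat.strong_induction_on with
    | _ n ih =>
      have hn := h n
      rw [ghostComponent_apply, ghostComponent_apply, aeval_wittPolynomial, aeval_wittPolynomial,
        Finset.sum_range_succ, Finset.sum_range_succ] at hn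
      have h1 : ∑ i ∈ Finset.range n, (p : U) ^ i * x.coeff i ^ p ^ (n - i) =
          ∑ i ∈ Finset.range n, (p : U) ^ i * y.coeff i ^ p ^ (n - i) := by
        apply Finset.sum_congr rfl
        intro i hi
        rw [ih i (Finset.mem_range.mp hi)]
      rw [h1] at hn
      have h2 := add_left_cancel hn
      rw [Nat.sub_self, pow_zero, pow_one, pow_one] at h2
      have h4 : (p : U) ^ n * (x.coeff n - y.coeff n) = 0 := by rw [mul_sub, h2, sub_self]
      exact sub_eq_zero.mp (pow_torsionFree hU n _ h4)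
  ext n
  exact key n

end Ghost

section Teich

variable {p : ℕ} [hp : Fact p.Prime] {S : Type*} [CommRing S]

/-- the universal square-zero ring hom -/
noncomputable def thetaHom (α β : S) (h1 : α * α = 0) (h2 : β * β = 0) (h3 : α * β = 0) :
    TrivSqZeroExt ℤ (ℤ × ℤ) →+* S where
  toFun u := (u.fst : S) + (u.snd.1 : S) * α + (u.snd.2 : S) * β
  map_one' := by simp
  map_mul' u v := by
    simp only [TrivSqZeroExt.fst_mul, TrivSqZeroExt.snd_mul, Prod.fst_add, Prod.snd_add,
      Prod.smul_fst, Prod.smul_snd, smul_eq_mul, MulOpposite.smul_eq_mul_unop,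
      MulOpposite.unop_op]
    push_cast
    linear_combination (-(u.snd.1 : S) * (v.snd.1 : S)) * h1 +
      (-(u.snd.2 : S) * (v.snd.2 : S)) * h2 +
      (-(u.snd.1 : S) * (v.snd.2 : S) - (u.snd.2 : S) * (v.snd.1 : S)) * h3
  map_zero' := by simp
  map_add' u v := by
    simp only [TrivSqZeroExt.fst_add, TrivSqZeroExt.snd_add, Prod.fst_add, Prod.snd_add]
    push_cast
    ring

theorem tsze_torsionFree (u : TrivSqZeroExt ℤ (ℤ × ℤ))
    (h : (p : TrivSqZeroExt ℤ (ℤ × ℤ)) * u = 0) : u = 0 := by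
  have hp0 : (p : ℤ) ≠ 0 := by exact_mod_cast hp.out.ne_zero
  have hf := congrArg TrivSqZeroExt.fst h
  have hs := congrArg TrivSqZeroExt.snd h
  simp only [TrivSqZeroExt.fst_mul, TrivSqZeroExt.snd_mul, TrivSqZeroExt.fst_natCast,
    TrivSqZeroExt.snd_natCast, TrivSqZeroExt.fst_zero, TrivSqZeroExt.snd_zero, zero_smul,
    add_zero] at hf hs
  have h1 : u.fst = 0 := by
    rcases mul_eq_zero.mp hf with h | h
    · exact absurd h hp0
    · exact h
  have h2 : u.snd = 0 := by
    have hs' : (p : ℤ) • u.snd = 0 := by simpa using hs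
    have ha := congrArg Prod.fst hs'
    have hb := congrArg Prod.snd hs'
    rw [Prod.smul_fst, smul_eq_mul, Prod.fst_zero] at ha
    rw [Prod.smul_snd, smul_eq_mul, Prod.snd_zero] at hb
    apply Prod.ext
    · rcases mul_eq_zero.mp ha with h | h
      · exact absurd h hp0
      · exact h
    · rcases mul_eq_zero.mp hb with h | h
      · exact absurd h hp0
      · exact h
  exact TrivSqZeroExt.ext h1 h2

theorem inr_pow_eq_zero (m : ℤ × ℤ) (k : ℕ) (hk : 2 ≤ k) :
    (TrivSqZeroExt.inr m : TrivSqZeroExt ℤ (ℤ × ℤ)) ^ k = 0 := by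
  obtain ⟨j, rfl⟩ := Nat.exists_eq_add_of_le hk
  rw [pow_add, pow_two, TrivSqZeroExt.inr_mul_inr, zero_mul]

theorem teichmuller_add_univ (m m' : ℤ × ℤ) :
    teichmuller p (TrivSqZeroExt.inr m : TrivSqZeroExt ℤ (ℤ × ℤ)) +
      teichmuller p (TrivSqZeroExt.inr m' : TrivSqZeroExt ℤ (ℤ × ℤ)) =
      teichmuller p (TrivSqZeroExt.inr (m + m') : TrivSqZeroExt ℤ (ℤ × ℤ)) := by
  apply ghost_injective_of_torsionFree (p := p) (fun u hu => tsze_torsionFree u hu)
  intro n
  rw [map_add, ghostComponent_teichmuller, ghostComponent_teichmuller, ghostComponent_teichmuller]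
  rcases Nat.eq_zero_or_pos n with rfl | hn
  · rw [pow_zero, pow_one, pow_one, pow_one, TrivSqZeroExt.inr_add]
  · have h2 : 2 ≤ p ^ n := by
      calc 2 ≤ p := hp.out.two_le
        _ = p ^ 1 := (pow_one p).symm
        _ ≤ p ^ n := Nat.pow_le_pow_right hp.out.pos hn
    rw [inr_pow_eq_zero _ _ h2, inr_pow_eq_zero _ _ h2, inr_pow_eq_zero _ _ h2, add_zero]

theorem teichmuller_add_of_sq_zero (α β : S) (h1 : α * α = 0) (h2 : β * β = 0) (h3 : α * β = 0) :
    teichmuller p α + teichmuller p β = teichmuller p (α + β) := by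
  have key := congrArg (WittVector.map (thetaHom α β h1 h2 h3))
    (teichmuller_add_univ (p := p) ((1 : ℤ), (0 : ℤ)) ((0 : ℤ), (1 : ℤ)))
  rw [map_add, map_teichmuller, map_teichmuller, map_teichmuller] at key
  have e1 : thetaHom α β h1 h2 h3 (TrivSqZeroExt.inr ((1 : ℤ), (0 : ℤ))) = α := by
    simp [thetaHom]
  have e2 : thetaHom α β h1 h2 h3 (TrivSqZeroExt.inr ((0 : ℤ), (1 : ℤ))) = β := by
    simp [thetaHom]
  have e3 : thetaHom α β h1 h2 h3 (TrivSqZeroExt.inr (((1 : ℤ), (0 : ℤ)) + ((0 : ℤ), (1 : ℤ)))) =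
      α + β := by
    simp [thetaHom]
  rw [e1, e2, e3] at key
  exact key

end Teich

end Helper16.DispH
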