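import Groth.Agent.Lib.Helper16.DispH9

set_option autoImplicit false
universe u v v'

open Dieu TensorProduct WittVector Helper16.Disp

namespace Helper16.DispH

section TorsionFree

theorem smul_eq_zero_of_projective {A : Type*} [CommRing A] {M : Type*} [AddCommGroup M]
    [Module A M] [hM : Module.Projective A M] (c : A) (hc : ∀ a : A, c * a = 0 → a = 0)
    (m : M) (h : c • m = 0) : m = 0 := by
  obtain ⟨s, hs⟩ := Module.projective_def'.mp hM
  have h1 : s m = 0 := by
    ext i
    have h2 : c • s m = 0 := by rw [← map_smul, h, map_zero]
    have h3 := congrArg (fun φ => φ i) h2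
    simp only [Finsupp.smul_apply, smul_eq_mul, Finsupp.zero_apply] at h3
    rw [Finsupp.zero_apply]
    exact hc _ h3
  have := congrArg (fun φ => φ m) hs
  simp only [LinearMap.comp_apply, LinearMap.id_apply] at this
  rw [← this, h1, map_zero]

variable {p : ℕ} [hp : Fact p.Prime]

theorem witt_p_torsionFree_of_reduced {R : Type*} [CommRing R] [IsReduced R] [CharP R p]
    (x : WittVector p R) (h : (p : WittVector p R) * x = 0) : x = 0 := by
  rw [mul_comm] at h
  ext i
  have := congrArg (fun y : WittVector p R => y.coeff (i + 1)) h
  simp only [mul_charP_coeff_succ, WittVector.zero_coeff] at this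
  rw [WittVector.zero_coeff]
  exact IsReduced.eq_zero _ ⟨p, this⟩

end TorsionFree

section Main

variable {p : ℕ} [hp : Fact p.Prime] {S : Type u} [CommRing S]
variable {P : Type v} [AddCommGroup P] [Module (WittVector p S) P]
variable {P' : Type v'} [AddCommGroup P'] [Module (WittVector p S) P']
variable (D : W4c1extbt610.Display3n p S P) (D' : W4c1extbt610.Display3n p S P')

theorem hom_eq_zero_of_p_smul_eq_zero (hp0 : IsNilpotent (p : S))
    (hn : IsNilpotent (nilradical S)) (hD : IsDisplay D)
    (ψ : P →ₗ[WittVector p S] P') (hψ : W4c1extbt610.IsHom D D' ψ)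
    (h : (p : WittVector p S) • ψ = 0) : ψ = 0 := by
  by_cases hS : Nontrivial (S ⧸ nilradical S)
  · have hp0' : ((p : ℕ) : S ⧸ nilradical S) = 0 := by
      have : (Ideal.Quotient.mk (nilradical S)) (p : S) = 0 :=
        Ideal.Quotient.eq_zero_iff_mem.mpr ((mem_nilradical).mpr hp0)
      rwa [map_natCast] at this
    haveI : CharP (S ⧸ nilradical S) p := (CharP.charP_iff_prime_eq_zero hp.out).mpr hp0'
    haveI : IsReduced (S ⧸ nilradical S) :=
      (Ideal.isRadical_iff_quotient_reduced (nilradical S)).mp (Ideal.radical_isRadical (0 : Ideal S))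
    have hker : IsNilpotent (RingHom.ker (Ideal.Quotient.mk (nilradical S))) := by
      rw [Ideal.mk_ker]; exact hn
    have h0 : W4c1extbt610.IsHom D D' (0 : P →ₗ[WittVector p S] P') := by
      have := isHom_sub D D' ψ ψ hψ hψ
      rwa [sub_self] at this
    apply baseChange_injective D D' hp0 (Ideal.Quotient.mk (nilradical S))
      Ideal.Quotient.mk_surjective hker hD ψ 0 hψ h0
    rw [BCmap_zero]
    haveI := D'.projective
    haveI : Module.Projective (WittVector p (S ⧸ nilradical S))
        (BC (WittVector.map (Ideal.Quotient.mk (nilradical S)) :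
          WittVector p S →+* WittVector p (S ⧸ nilradical S)) P') := projective_BC P' _
    ext z
    rw [LinearMap.zero_apply]
    apply smul_eq_zero_of_projective (p : WittVector p (S ⧸ nilradical S))
      (fun a ha => witt_p_torsionFree_of_reduced a ha)
    have h1 := congrArg (BC.map (WittVector.map (Ideal.Quotient.mk (nilradical S)) :
          WittVector p S →+* WittVector p (S ⧸ nilradical S))) h
    rw [BCmap_smul, BCmap_zero, map_natCast] at h1
    have := congrArg (fun φ => φ z) h1
    simpa only [LinearMap.smul_apply, LinearMap.zero_apply] using this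
  · rw [not_nontrivial_iff_subsingleton] at hS
    have h1 : (1 : S) ∈ nilradical S := by
      rw [← Ideal.Quotient.eq_zero_iff_mem]
      exact Subsingleton.elim _ _
    have h2 : (1 : S) = 0 := by
      obtain ⟨k, hk⟩ := (mem_nilradical).mp h1
      rwa [one_pow] at hk
    haveI : Subsingleton S := subsingleton_of_zero_eq_one h2.symm
    haveI : Subsingleton (WittVector p S) := by
      constructor
      intro a b
      ext n
      exact Subsingleton.elim _ _
    haveI : Subsingleton P' := Module.subsingleton (WittVector p S) P'
    ext x
    exact Subsingleton.elim _ _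

end Main

end Helper16.DispH
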