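import Groth.Agent.Lib.Helper16.DispH1

set_option autoImplicit false
universe u v

open WittVector

namespace Helper16.DispH

section WI

variable {p : ℕ} [hp : Fact p.Prime] {S : Type u} [CommRing S]

/-- `W(𝔟)`: Witt vectors with all coefficients in `𝔟`, as an ideal. -/
noncomputable def WI (𝔟 : Ideal S) : Ideal (WittVector p S) :=
  RingHom.ker (WittVector.map (Ideal.Quotient.mk 𝔟) : WittVector p S →+* WittVector p (S ⧸ 𝔟))

theorem mem_WI_iff (𝔟 : Ideal S) (x : WittVector p S) :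
    x ∈ WI (p := p) 𝔟 ↔ ∀ n, x.coeff n ∈ 𝔟 := by
  rw [WI, RingHom.mem_ker, WittVector.ext_iff]
  constructor
  · intro h n
    have := h n
    rwa [WittVector.map_coeff, WittVector.zero_coeff, Ideal.Quotient.eq_zero_iff_mem] at this
  · intro h n
    rw [WittVector.map_coeff, WittVector.zero_coeff, Ideal.Quotient.eq_zero_iff_mem]
    exact h n

theorem ker_map_eq {R : Type*} [CommRing R] (f : S →+* R) :
    RingHom.ker (WittVector.map f : WittVector p S →+* WittVector p R) = WI (RingHom.ker f) := by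
  ext x
  rw [mem_WI_iff, RingHom.mem_ker, WittVector.ext_iff]
  constructor
  · intro h n
    have := h n
    rwa [WittVector.map_coeff, WittVector.zero_coeff] at this
  · intro h n
    rw [WittVector.map_coeff, WittVector.zero_coeff]
    exact h n

theorem WI_mono {𝔟 𝔠 : Ideal S} (h : 𝔟 ≤ 𝔠) : WI (p := p) 𝔟 ≤ WI 𝔠 := by
  intro x hx
  rw [mem_WI_iff] at hx ⊢
  exact fun n => h (hx n)

theorem WI_bot : WI (p := p) (⊥ : Ideal S) = ⊥ := by
  rw [eq_bot_iff]
  intro x hx
  rw [mem_WI_iff] at hx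
  rw [Submodule.mem_bot]
  ext n
  rw [WittVector.zero_coeff]
  exact (Submodule.mem_bot S).mp (hx n)

theorem map_mem_WI {R : Type*} [CommRing R] (f : S →+* R) (𝔟 : Ideal S) (x : WittVector p S)
    (hx : x ∈ WI (p := p) 𝔟) : WittVector.map f x ∈ WI (p := p) (𝔟.map f) := by
  rw [mem_WI_iff] at hx ⊢
  intro n
  rw [WittVector.map_coeff]
  exact Ideal.mem_map_of_mem f (hx n)

theorem teichmuller_mem_WI (𝔟 : Ideal S) (β : S) (hβ : β ∈ 𝔟) : teichmuller p β ∈ WI (p := p) 𝔟 := by
  rw [mem_WI_iff]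
  intro n
  rcases Nat.eq_zero_or_pos n with rfl | hn
  · rw [teichmuller_coeff_zero]; exact hβ
  · rw [teichmuller_coeff_pos p β n hn]; exact 𝔟.zero_mem

theorem shift_mem_WI (𝔟 : Ideal S) (x : WittVector p S) (hx : x ∈ WI (p := p) 𝔟) (k : ℕ) :
    x.shift k ∈ WI (p := p) 𝔟 := by
  rw [mem_WI_iff] at hx ⊢
  intro n
  rw [shift_coeff]
  exact hx _

theorem verschiebung_mem_WI (𝔟 : Ideal S) (x : WittVector p S) (hx : x ∈ WI (p := p) 𝔟) :
    verschiebung x ∈ WI (p := p) 𝔟 := by
  rw [mem_WI_iff] at hx ⊢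
  intro n
  cases n with
  | zero => rw [verschiebung_coeff_zero]; exact 𝔟.zero_mem
  | succ n => rw [verschiebung_coeff_succ]; exact hx n

/-- decomposition `x = [x₀] + V (shift x)` -/
theorem eq_teichmuller_add_verschiebung (x : WittVector p S) :
    x = teichmuller p (x.coeff 0) + verschiebung (x.shift 1) := by
  ext n
  rw [coeff_add_of_disjoint]
  · cases n with
    | zero => rw [teichmuller_coeff_zero, verschiebung_coeff_zero, add_zero]
    | succ n =>
      rw [teichmuller_coeff_pos p _ (n + 1) (Nat.succ_pos n), verschiebung_coeff_succ, shift_coeff,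
        zero_add, Nat.add_comm]
  · intro n
    cases n with
    | zero => right; exact verschiebung_coeff_zero _
    | succ n => left; exact teichmuller_coeff_pos p _ (n + 1) (Nat.succ_pos n)

theorem coeff_teichmuller_add_verschiebung_succ (α : S) (y : WittVector p S) (n : ℕ) :
    (teichmuller p α + verschiebung y).coeff (n + 1) = y.coeff n := by
  rw [coeff_add_of_disjoint]
  · rw [teichmuller_coeff_pos p _ (n + 1) (Nat.succ_pos n), verschiebung_coeff_succ, zero_add]
  · intro n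
    cases n with
    | zero => right; exact verschiebung_coeff_zero _
    | succ n => left; exact teichmuller_coeff_pos p _ (n + 1) (Nat.succ_pos n)

variable (𝔟 : Ideal S) (h2 : ∀ a ∈ 𝔟, ∀ b ∈ 𝔟, a * b = 0)

include h2 in
/-- coefficients are additive on `W(𝔟)` when `𝔟² = 0`. -/
theorem coeff_add_WI : ∀ (n : ℕ) (a b : WittVector p S), a ∈ WI (p := p) 𝔟 → b ∈ WI (p := p) 𝔟 →
    (a + b).coeff n = a.coeff n + b.coeff n := by
  intro n
  induction n with
  | zero => intro a b _ _; exact WittVector.add_coeff_zero a b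
  | succ n ih =>
    intro a b ha hb
    have ha0 : a.coeff 0 ∈ 𝔟 := (mem_WI_iff 𝔟 a).mp ha 0
    have hb0 : b.coeff 0 ∈ 𝔟 := (mem_WI_iff 𝔟 b).mp hb 0
    have e : a + b = teichmuller p (a.coeff 0 + b.coeff 0) +
        verschiebung (a.shift 1 + b.shift 1) := by
      conv_lhs => rw [eq_teichmuller_add_verschiebung a, eq_teichmuller_add_verschiebung b]
      rw [← teichmuller_add_of_sq_zero (p := p) _ _ (h2 _ ha0 _ ha0) (h2 _ hb0 _ hb0)
        (h2 _ ha0 _ hb0), map_add]
      abel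
    rw [e, coeff_teichmuller_add_verschiebung_succ,
      ih _ _ (shift_mem_WI 𝔟 a ha 1) (shift_mem_WI 𝔟 b hb 1), shift_coeff, shift_coeff,
      Nat.add_comm 1 n]

include h2 in
theorem shift_add_WI (a b : WittVector p S) (ha : a ∈ WI (p := p) 𝔟) (hb : b ∈ WI (p := p) 𝔟) :
    (a + b).shift 1 = a.shift 1 + b.shift 1 := by
  ext n
  rw [shift_coeff, coeff_add_WI 𝔟 h2 _ a b ha hb,
    coeff_add_WI 𝔟 h2 n _ _ (shift_mem_WI 𝔟 a ha 1) (shift_mem_WI 𝔟 b hb 1), shift_coeff,
    shift_coeff]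

variable (hpb : ∀ a ∈ 𝔟, (p : S) * a = 0)

include h2 hpb in
theorem frobenius_eq_zero_of_mem_WI (x : WittVector p S) (hx : x ∈ WI (p := p) 𝔟) :
    frobenius x = 0 := by
  have hx' := (mem_WI_iff 𝔟 x).mp hx
  ext n
  obtain ⟨g, hg, h⟩ := Groth.Agent.Lib.Helper95.DispLift.coeff_frobenius_eq p 𝔟 x hx' n
  rw [h, WittVector.zero_coeff, hpb g hg, add_zero]
  obtain ⟨j, hj⟩ := Nat.exists_eq_add_of_le hp.out.two_le
  have : x.coeff n ^ p = x.coeff n ^ (2 + j) := congrArg (fun k => x.coeff n ^ k) hj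
  rw [this, pow_add, pow_two, h2 _ (hx' n) _ (hx' n), zero_mul]

include h2 hpb in
theorem verschiebung_mul_eq_zero (ξ b : WittVector p S) (hb : b ∈ WI (p := p) 𝔟) :
    verschiebung ξ * b = 0 := by
  rw [← verschiebung_mul_frobenius, frobenius_eq_zero_of_mem_WI 𝔟 h2 hpb b hb, mul_zero, map_zero]

include h2 hpb in
/-- `η * [β] = [η₀ β]` for `β ∈ 𝔟`. -/
theorem mul_teichmuller_of_mem (η : WittVector p S) (β : S) (hβ : β ∈ 𝔟) :
    η * teichmuller p β = teichmuller p (η.coeff 0 * β) := by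
  conv_lhs => rw [eq_teichmuller_add_verschiebung η]
  rw [add_mul, verschiebung_mul_eq_zero 𝔟 h2 hpb _ _ (teichmuller_mem_WI 𝔟 β hβ), add_zero,
    ← map_mul]

include h2 hpb in
theorem natCast_mul_eq_zero : ∀ (n : ℕ) (b : WittVector p S), b ∈ WI (p := p) 𝔟 →
    ((p : WittVector p S) * b).coeff n = 0 := by
  intro n
  induction n with
  | zero =>
    intro b hb
    rw [WittVector.mul_coeff_zero]
    have : (p : WittVector p S).coeff 0 = (p : S) := by
      have := map_natCast (WittVector.constantCoeff : WittVector p S →+* S) p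
      exact this
    rw [this]
    exact hpb _ ((mem_WI_iff 𝔟 b).mp hb 0)
  | succ n ih =>
    intro b hb
    have hb0 : b.coeff 0 ∈ 𝔟 := (mem_WI_iff 𝔟 b).mp hb 0
    have e : (p : WittVector p S) * b = teichmuller p 0 +
        verschiebung ((p : WittVector p S) * b.shift 1) := by
      conv_lhs => rw [eq_teichmuller_add_verschiebung b]
      rw [mul_add, mul_teichmuller_of_mem 𝔟 h2 hpb _ _ hb0]
      have : (p : WittVector p S).coeff 0 = (p : S) := by
        have := map_natCast (WittVector.constantCoeff : WittVector p S →+* S) p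
        exact this
      rw [this, hpb _ hb0]
      congr 1
      rw [mul_comm, ← verschiebung_mul_frobenius, map_natCast, mul_comm]
    rw [e, coeff_teichmuller_add_verschiebung_succ]
    exact ih _ (shift_mem_WI 𝔟 b hb 1)

include h2 hpb in
theorem natCast_mul_eq_zero' (b : WittVector p S) (hb : b ∈ WI (p := p) 𝔟) :
    (p : WittVector p S) * b = 0 := by
  ext n
  rw [natCast_mul_eq_zero 𝔟 h2 hpb n b hb, WittVector.zero_coeff]

include h2 hpb in
theorem shift_mul_WI (ξ a : WittVector p S) (ha : a ∈ WI (p := p) 𝔟) :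
    (ξ * a).shift 1 = frobenius ξ * a.shift 1 := by
  apply WittVector.verschiebung_injective
  have ha0 : a.coeff 0 ∈ 𝔟 := (mem_WI_iff 𝔟 a).mp ha 0
  have e1 : verschiebung ((ξ * a).shift 1) = ξ * a - teichmuller p (ξ.coeff 0 * a.coeff 0) := by
    have := eq_teichmuller_add_verschiebung (ξ * a)
    rw [WittVector.mul_coeff_zero] at this
    rw [eq_sub_iff_add_eq']
    exact this.symm
  have e2 : verschiebung (a.shift 1) = a - teichmuller p (a.coeff 0) := by
    have := eq_teichmuller_add_verschiebung a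
    rw [eq_sub_iff_add_eq']
    exact this.symm
  rw [e1, mul_comm (frobenius ξ), verschiebung_mul_frobenius, e2, sub_mul,
    mul_comm (teichmuller p (a.coeff 0)), mul_teichmuller_of_mem 𝔟 h2 hpb _ _ ha0, mul_comm a ξ]

local notation "σ" => (WittVector.frobenius : WittVector p S →+* WittVector p S)

/-- the shift as a Frobenius-semilinear map on `W(𝔟)`. -/
noncomputable def shiftJ : WI (p := p) 𝔟 →ₛₗ[σ] WittVector p S where
  toFun a := (a : WittVector p S).shift 1
  map_add' a b := shift_add_WI 𝔟 h2 _ _ a.2 b.2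
  map_smul' ξ a := shift_mul_WI 𝔟 h2 hpb ξ _ a.2

theorem shiftJ_apply (a : WI (p := p) 𝔟) :
    shiftJ 𝔟 h2 hpb a = (a : WittVector p S).shift 1 := rfl

theorem shiftJ_mem (a : WI (p := p) 𝔟) : shiftJ 𝔟 h2 hpb a ∈ WI (p := p) 𝔟 :=
  shift_mem_WI 𝔟 _ a.2 1

theorem shiftJ_verschiebung (b : WittVector p S) (h : verschiebung b ∈ WI (p := p) 𝔟) :
    shiftJ 𝔟 h2 hpb ⟨verschiebung b, h⟩ = b := by
  ext n
  rw [shiftJ_apply, shift_coeff, Nat.add_comm, verschiebung_coeff_succ]

omit hp in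
theorem mem_WI_of_verschiebung_mem [Fact p.Prime] (b : WittVector p S)
    (h : verschiebung b ∈ WI (p := p) 𝔟) : b ∈ WI (p := p) 𝔟 := by
  rw [mem_WI_iff] at h ⊢
  intro n
  have := h (n + 1)
  rwa [verschiebung_coeff_succ] at this

include h2 hpb in
theorem IVp_mul_WI_eq_zero (c b : WittVector p S)
    (hc : c ∈ W4c1extbt610.IV p S ⊔ Ideal.span {(p : WittVector p S)}) (hb : b ∈ WI (p := p) 𝔟) :
    c * b = 0 := by
  obtain ⟨c1, hc1, c2, hc2, rfl⟩ := Submodule.mem_sup.mp hc
  obtain ⟨z, rfl⟩ := Helper16.Disp.exists_verschiebung_of_mem_IV c1 hc1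
  obtain ⟨w, rfl⟩ := Ideal.mem_span_singleton'.mp hc2
  rw [add_mul, verschiebung_mul_eq_zero 𝔟 h2 hpb z b hb, zero_add, mul_comm w, mul_assoc]
  exact natCast_mul_eq_zero' 𝔟 h2 hpb _ (Ideal.mul_mem_left _ w hb)

end WI

end Helper16.DispH
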