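import Groth.Agent.Lib.Helper16.DispH2

set_option autoImplicit false
universe u v w w'

open Dieu TensorProduct

namespace Helper16.DispH

section ProjInf

variable {A : Type u} [CommRing A] {M : Type v} [AddCommGroup M] [Module A M]

theorem smul_top_inf_le [hM : Module.Projective A M] (K₁ K₂ : Ideal A) :
    K₁ • (⊤ : Submodule A M) ⊓ K₂ • (⊤ : Submodule A M) ≤ (K₁ ⊓ K₂) • (⊤ : Submodule A M) := by
  obtain ⟨s, hs⟩ := Module.projective_def'.mp hM
  have coord : ∀ (K : Ideal A) (z : M), z ∈ K • (⊤ : Submodule A M) → ∀ i, s z i ∈ K := by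
    intro K z hz i
    refine Submodule.smul_induction_on hz ?_ ?_
    · intro r hr m _
      rw [map_smul, Finsupp.smul_apply, smul_eq_mul]
      exact K.mul_mem_right _ hr
    · intro x y hx hy
      rw [map_add, Finsupp.add_apply]
      exact K.add_mem hx hy
  intro z hz
  have hz1 := coord K₁ z hz.1
  have hz2 := coord K₂ z hz.2
  have e : z = Finsupp.linearCombination A id (s z) := by
    have := congrArg (fun φ => φ z) hs
    exact this.symm
  rw [e, Finsupp.linearCombination_apply, Finsupp.sum]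
  apply Submodule.sum_mem
  intro i _
  exact Submodule.smul_mem_smul ⟨hz1 i, hz2 i⟩ Submodule.mem_top

theorem smul_smul_top_eq_bot (𝔠 K : Ideal A) (h : ∀ c ∈ 𝔠, ∀ b ∈ K, c * b = 0) (c : A) (hc : c ∈ 𝔠)
    (y : M) (hy : y ∈ K • (⊤ : Submodule A M)) : c • y = 0 := by
  refine Submodule.smul_induction_on hy ?_ ?_
  · intro b hb m _
    rw [← mul_smul, h c hc b hb, zero_smul]
  · intro x y hx hy
    rw [smul_add, hx, hy, add_zero]

end ProjInf

section LemK

variable {A : Type u} {B : Type v} [CommRing A] [CommRing B] (g : A →+* B)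
variable {P : Type w} [AddCommGroup P] [Module A P] {P' : Type w'} [AddCommGroup P'] [Module A P']

/-- `Res g → A ⧸ ker g`, the inverse of the canonical iso, as an `A`-linear map. -/
noncomputable def resToQuot (hg : Function.Surjective g) : Dieu.Res g →ₗ[A] A ⧸ RingHom.ker g where
  toFun t := (RingHom.quotientKerEquivOfSurjective hg).symm t.val
  map_add' s t := by rw [Dieu.Res.val_add, map_add]
  map_smul' a t := by
    rw [Dieu.Res.val_smul, map_mul, RingHom.id_apply]
    have : (RingHom.quotientKerEquivOfSurjective hg).symm (g a) =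
        Ideal.Quotient.mk (RingHom.ker g) a := by
      rw [RingEquiv.symm_apply_eq]
      rfl
    rw [this, Algebra.smul_def]
    rfl

theorem mem_ker_smul_of_tmul_eq_zero (hg : Function.Surjective g) (x : P)
    (h : BC.tmul g 1 x = 0) : x ∈ (RingHom.ker g) • (⊤ : Submodule A P) := by
  have h' : (Dieu.Res.mk g 1) ⊗ₜ[A] x = (0 : Dieu.Res g ⊗[A] P) := h
  have h1 := congrArg (LinearMap.rTensor P (resToQuot g hg)) h'
  rw [LinearMap.rTensor_tmul, map_zero] at h1
  have h2 : resToQuot g hg (Dieu.Res.mk g 1) = 1 := by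
    change (RingHom.quotientKerEquivOfSurjective hg).symm 1 = 1
    exact map_one _
  rw [h2] at h1
  have h3 := congrArg (TensorProduct.quotTensorEquivQuotSMul P (RingHom.ker g)) h1
  rw [TensorProduct.quotTensorEquivQuotSMul_mk_one_tmul, map_zero] at h3
  exact (Submodule.Quotient.mk_eq_zero _).mp h3

theorem tmul_mem_map_smul (K : Ideal A) (b : B) (x : P) (hx : x ∈ K • (⊤ : Submodule A P)) :
    BC.tmul g b x ∈ (K.map g) • (⊤ : Submodule B (BC g P)) := by
  refine Submodule.smul_induction_on hx ?_ ?_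
  · intro k hk m _
    rw [← BC.tmul_mul_apply, mul_comm, ← BC.smul_tmul]
    exact Submodule.smul_mem_smul (Ideal.mem_map_of_mem g hk) Submodule.mem_top
  · intro x y hx hy
    rw [BC.tmul_add]
    exact add_mem hx hy

theorem tmul_eq_zero_of_mem (b : B) (x : P) (hx : x ∈ (RingHom.ker g) • (⊤ : Submodule A P)) :
    BC.tmul g b x = 0 := by
  have := tmul_mem_map_smul g (RingHom.ker g) b x hx
  have e : (RingHom.ker g).map g = ⊥ := by
    rw [eq_bot_iff, Ideal.map_le_iff_le_comap]
    intro a ha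
    exact ha
  rw [e, Submodule.bot_smul] at this
  exact (Submodule.mem_bot _).mp this

theorem BCmap_sub (ψ₁ ψ₂ : P →ₗ[A] P') : BC.map g (ψ₁ - ψ₂) = BC.map g ψ₁ - BC.map g ψ₂ := by
  apply BC.ext
  intro x
  rw [LinearMap.sub_apply, BC.map_tmul, BC.map_tmul, BC.map_tmul, LinearMap.sub_apply,
    sub_eq_add_neg, BC.tmul_add, BC.tmul_neg, ← sub_eq_add_neg]

theorem BCmap_smul (c : A) (ψ : P →ₗ[A] P') : BC.map g (c • ψ) = g c • BC.map g ψ := by
  apply BC.ext
  intro x
  rw [LinearMap.smul_apply, BC.map_tmul, BC.map_tmul, LinearMap.smul_apply, BC.smul_tmul,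
    ← BC.tmul_mul_apply, mul_one, one_mul]

theorem BCmap_zero : BC.map g (0 : P →ₗ[A] P') = 0 := by
  apply BC.ext
  intro x
  rw [BC.map_tmul, LinearMap.zero_apply, BC.tmul_zero, LinearMap.zero_apply]

theorem lift_mem {N : Type*} [AddCommGroup N] [Module B N] (φ : P →ₛₗ[g] N) (N' : Submodule B N)
    (h : ∀ x, φ x ∈ N') (z : BC g P) : BC.lift g φ z ∈ N' := by
  induction z using BC.induction_on g with
  | zero => rw [map_zero]; exact N'.zero_mem
  | tmul b x => rw [BC.lift_tmul]; exact N'.smul_mem _ (h x)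
  | add a b ha hb => rw [map_add]; exact N'.add_mem ha hb

theorem lift_castHom {N : Type*} [AddCommGroup N] [Module B N] {g' : A →+* B} (e : g = g')
    (φ : P →ₛₗ[g] N) (φ' : P →ₛₗ[g'] N) (h : ∀ x, φ x = φ' x) (z : BC g P) :
    BC.lift g' φ' (BC.castHom e z) = BC.lift g φ z := by
  subst e
  have : φ = φ' := LinearMap.ext h
  subst this
  rfl

end LemK

end Helper16.DispH
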