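import Groth.Agent.Lib.Helper16.DispH3

set_option autoImplicit false
universe u v

open Dieu TensorProduct WittVector Helper16.Disp

namespace Helper16.DispH

section Lam

variable {p : ℕ} [hp : Fact p.Prime] {S : Type u} [CommRing S]
variable {P' : Type v} [AddCommGroup P'] [Module (WittVector p S) P']
variable (𝔟 : Ideal S) (h2 : ∀ a ∈ 𝔟, ∀ b ∈ 𝔟, a * b = 0) (hpb : ∀ a ∈ 𝔟, (p : S) * a = 0)
variable (D' : W4c1extbt610.Display3n p S P')

local notation "σ" => (WittVector.frobenius : WittVector p S →+* WittVector p S)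
local notation "J" => (WI (p := p) 𝔟)

/-- the bi-semilinear map `(b, x) ↦ shift b • F' x`. -/
noncomputable def bilJ : J →ₛₗ[σ] P' →ₛₗ[σ] P' :=
  LinearMap.mk₂'ₛₗ σ σ (fun b x => shiftJ 𝔟 h2 hpb b • D'.F x)
    (fun b₁ b₂ x => by rw [map_add, add_smul])
    (fun c b x => by rw [LinearMap.map_smulₛₗ, smul_eq_mul, mul_smul])
    (fun b x₁ x₂ => by rw [map_add, smul_add])
    (fun c b x => by rw [LinearMap.map_smulₛₗ, smul_comm])

theorem bilJ_apply (b : J) (x : P') : bilJ 𝔟 h2 hpb D' b x = shiftJ 𝔟 h2 hpb b • D'.F x := rfl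

include D' in
theorem flat_P' : Module.Flat (WittVector p S) P' :=
  @Module.Flat.of_projective _ _ _ _ _ D'.projective

/-- the extension `Λ` of `V'⁻¹` to `W(𝔟) • P'`. -/
noncomputable def Lam : (J • (⊤ : Submodule (WittVector p S) P') : Submodule (WittVector p S) P')
    →ₛₗ[σ] P' :=
  haveI := flat_P' D'
  vdiv J σ (bilJ 𝔟 h2 hpb D')

theorem Lam_smul (b : WittVector p S) (hb : b ∈ J) (x : P')
    (h : b • x ∈ J • (⊤ : Submodule (WittVector p S) P')) :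
    Lam 𝔟 h2 hpb D' ⟨b • x, h⟩ = (b.shift 1) • D'.F x := by
  haveI := flat_P' D'
  have := vdiv_smul J σ (bilJ 𝔟 h2 hpb D') ⟨b, hb⟩ x h
  exact this

theorem Lam_mem (z : (J • (⊤ : Submodule (WittVector p S) P') : Submodule (WittVector p S) P')) :
    Lam 𝔟 h2 hpb D' z ∈ J • (⊤ : Submodule (WittVector p S) P') := by
  haveI := flat_P' D'
  change TensorProduct.lift (bilJ 𝔟 h2 hpb D') ((mulEquiv J (M := P')).symm z) ∈ _
  generalize (mulEquiv J (M := P')).symm z = u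
  induction u using TensorProduct.induction_on with
  | zero => rw [map_zero]; exact zero_mem _
  | tmul b x =>
    rw [TensorProduct.lift.tmul, bilJ_apply]
    exact Submodule.smul_mem_smul (shiftJ_mem 𝔟 h2 hpb b) Submodule.mem_top
  | add a b ha hb => rw [map_add]; exact add_mem ha hb

/-- total version of `Λ` (zero outside `W(𝔟) • P'`). -/
noncomputable def LamP (z : P') : P' := by
  classical
  exact if h : z ∈ J • (⊤ : Submodule (WittVector p S) P') then Lam 𝔟 h2 hpb D' ⟨z, h⟩ else 0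

theorem LamP_of_mem (z : P') (h : z ∈ J • (⊤ : Submodule (WittVector p S) P')) :
    LamP 𝔟 h2 hpb D' z = Lam 𝔟 h2 hpb D' ⟨z, h⟩ := by
  unfold LamP
  exact dif_pos h

theorem LamP_mem (z : P') : LamP 𝔟 h2 hpb D' z ∈ J • (⊤ : Submodule (WittVector p S) P') := by
  by_cases h : z ∈ J • (⊤ : Submodule (WittVector p S) P')
  · rw [LamP_of_mem 𝔟 h2 hpb D' z h]; exact Lam_mem 𝔟 h2 hpb D' _
  · unfold LamP
    rw [dif_neg h]; exact zero_mem _

theorem LamP_add (z₁ z₂ : P') (h₁ : z₁ ∈ J • (⊤ : Submodule (WittVector p S) P'))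
    (h₂ : z₂ ∈ J • (⊤ : Submodule (WittVector p S) P')) :
    LamP 𝔟 h2 hpb D' (z₁ + z₂) = LamP 𝔟 h2 hpb D' z₁ + LamP 𝔟 h2 hpb D' z₂ := by
  rw [LamP_of_mem 𝔟 h2 hpb D' _ h₁, LamP_of_mem 𝔟 h2 hpb D' _ h₂,
    LamP_of_mem 𝔟 h2 hpb D' _ (add_mem h₁ h₂), ← map_add]
  rfl

theorem LamP_smul (ξ : WittVector p S) (z : P')
    (h : z ∈ J • (⊤ : Submodule (WittVector p S) P')) :
    LamP 𝔟 h2 hpb D' (ξ • z) = σ ξ • LamP 𝔟 h2 hpb D' z := by
  rw [LamP_of_mem 𝔟 h2 hpb D' _ h, LamP_of_mem 𝔟 h2 hpb D' _ (Submodule.smul_mem _ ξ h),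
    ← LinearMap.map_smulₛₗ (Lam 𝔟 h2 hpb D')]
  rfl

theorem LamP_zero : LamP 𝔟 h2 hpb D' 0 = 0 := by
  rw [LamP_of_mem 𝔟 h2 hpb D' 0 (zero_mem _)]
  exact map_zero (Lam 𝔟 h2 hpb D')

theorem LamP_gen (b : WittVector p S) (hb : b ∈ J) (x : P') :
    LamP 𝔟 h2 hpb D' (b • x) = (b.shift 1) • D'.F x := by
  have h : b • x ∈ J • (⊤ : Submodule (WittVector p S) P') :=
    Submodule.smul_mem_smul hb Submodule.mem_top
  rw [LamP_of_mem 𝔟 h2 hpb D' _ h, Lam_smul 𝔟 h2 hpb D' b hb x h]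

/-- on `W(𝔟) • L` both `Λ` and `V'⁻¹` vanish. -/
theorem Lam_Vinv_L (L : Submodule (WittVector p S) P') (hLQ : L ≤ D'.Q) (l : P')
    (hl : l ∈ J • L) :
    ∃ hq : l ∈ D'.Q, LamP 𝔟 h2 hpb D' l = 0 ∧ D'.Vinv ⟨l, hq⟩ = 0 := by
  have mem : ∀ z, z ∈ J • L → z ∈ J • (⊤ : Submodule (WittVector p S) P') :=
    fun z hz => Submodule.smul_mono le_rfl le_top hz
  refine Submodule.smul_induction_on' (p := fun l _ => ∃ hq : l ∈ D'.Q,
    LamP 𝔟 h2 hpb D' l = 0 ∧ D'.Vinv ⟨l, hq⟩ = 0) hl ?_ ?_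
  · intro b hb l₀ hl₀
    have hq0 : l₀ ∈ D'.Q := hLQ hl₀
    refine ⟨D'.Q.smul_mem b hq0, ?_, ?_⟩
    · rw [LamP_gen 𝔟 h2 hpb D' b hb]
      have h1 := F_eq_p_smul_Vinv D' ⟨l₀, hq0⟩
      change D'.F l₀ = _ at h1
      rw [h1, ← mul_smul, mul_comm,
        natCast_mul_eq_zero' 𝔟 h2 hpb _ (shift_mem_WI 𝔟 b hb 1), zero_smul]
    · have : (⟨b • l₀, D'.Q.smul_mem b hq0⟩ : D'.Q) = b • ⟨l₀, hq0⟩ := rfl
      rw [this, LinearMap.map_smulₛₗ, frobenius_eq_zero_of_mem_WI 𝔟 h2 hpb b hb, zero_smul]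
  · rintro x hxL y hyL ⟨hx, hx1, hx2⟩ ⟨hy, hy1, hy2⟩
    refine ⟨D'.Q.add_mem hx hy, ?_, ?_⟩
    · rw [LamP_add 𝔟 h2 hpb D' x y (mem x hxL) (mem y hyL), hx1, hy1, add_zero]
    · have : (⟨x + y, D'.Q.add_mem hx hy⟩ : D'.Q) = ⟨x, hx⟩ + ⟨y, hy⟩ := rfl
      rw [this, map_add, hx2, hy2, add_zero]

/-- on `(W(𝔟) ⊓ I) • P'`, `Λ` agrees with `V'⁻¹`. -/
theorem Lam_Vinv_T (t : P')
    (ht : t ∈ (J ⊓ W4c1extbt610.IV p S) • (⊤ : Submodule (WittVector p S) P')) :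
    ∃ hq : t ∈ D'.Q, LamP 𝔟 h2 hpb D' t = D'.Vinv ⟨t, hq⟩ := by
  have mem : ∀ z, z ∈ (J ⊓ W4c1extbt610.IV p S) • (⊤ : Submodule (WittVector p S) P') →
      z ∈ J • (⊤ : Submodule (WittVector p S) P') :=
    fun z hz => Submodule.smul_mono inf_le_left le_rfl hz
  refine Submodule.smul_induction_on' (p := fun t _ => ∃ hq : t ∈ D'.Q,
    LamP 𝔟 h2 hpb D' t = D'.Vinv ⟨t, hq⟩) ht ?_ ?_
  · intro c hc x _
    obtain ⟨b, rfl⟩ := exists_verschiebung_of_mem_IV c hc.2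
    have hq : verschiebung b • x ∈ D'.Q :=
      D'.IV_smul_le (Submodule.smul_mem_smul (W4c1extbt610.verschiebung_mem_IV p S b)
        Submodule.mem_top)
    refine ⟨hq, ?_⟩
    rw [LamP_gen 𝔟 h2 hpb D' _ hc.1, D'.Vinv_verschiebung_smul b x]
    congr 1
    ext n
    rw [shift_coeff, Nat.add_comm, verschiebung_coeff_succ]
  · rintro x hx y hy ⟨hqx, ex⟩ ⟨hqy, ey⟩
    refine ⟨D'.Q.add_mem hqx hqy, ?_⟩
    have : (⟨x + y, D'.Q.add_mem hqx hqy⟩ : D'.Q) = ⟨x, hqx⟩ + ⟨y, hqy⟩ := rfl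
    rw [this, map_add, LamP_add 𝔟 h2 hpb D' x y (mem x hx) (mem y hy), ex, ey]

/-- `Λ = V'⁻¹` on `W(𝔟) • P' ⊓ Q'`. -/
theorem LamP_eq_Vinv (z : P') (hz : z ∈ J • (⊤ : Submodule (WittVector p S) P'))
    (hq : z ∈ D'.Q) : LamP 𝔟 h2 hpb D' z = D'.Vinv ⟨z, hq⟩ := by
  obtain ⟨L, T, hLT, hQ⟩ := D'.exists_normal
  have hLQ : L ≤ D'.Q := hQ ▸ le_sup_left
  haveI := D'.projective
  -- components
  have hzsum : z = piL (p := p) hLT z + piT (p := p) hLT z := by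
    have := congrArg (fun φ => φ z) (piL_add_piT (p := p) hLT)
    exact this.symm
  have hL : piL (p := p) hLT z ∈ J • L := by
    refine Submodule.smul_induction_on hz ?_ ?_
    · intro b hb m _
      rw [map_smul]
      exact Submodule.smul_mem_smul hb (piL_mem hLT m)
    · intro x y hx hy
      rw [map_add]; exact add_mem hx hy
  have hT1 : piT (p := p) hLT z ∈ J • (⊤ : Submodule (WittVector p S) P') := by
    refine Submodule.smul_induction_on hz ?_ ?_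
    · intro b hb m _
      rw [map_smul]
      exact Submodule.smul_mem_smul hb Submodule.mem_top
    · intro x y hx hy
      rw [map_add]; exact add_mem hx hy
  have hT2 : piT (p := p) hLT z ∈
      W4c1extbt610.IV p S • (⊤ : Submodule (WittVector p S) P') :=
    Submodule.smul_mono le_rfl le_top (piT_mem_of_mem_Q D' hLT hQ z hq)
  have hT : piT (p := p) hLT z ∈
      (J ⊓ W4c1extbt610.IV p S) • (⊤ : Submodule (WittVector p S) P') :=
    smul_top_inf_le _ _ ⟨hT1, hT2⟩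
  obtain ⟨hqL, eL1, eL2⟩ := Lam_Vinv_L 𝔟 h2 hpb D' L hLQ _ hL
  obtain ⟨hqT, eT⟩ := Lam_Vinv_T 𝔟 h2 hpb D' _ hT
  have e1 : (⟨z, hq⟩ : D'.Q) = ⟨piL (p := p) hLT z, hqL⟩ + ⟨piT (p := p) hLT z, hqT⟩ :=
    Subtype.ext hzsum
  rw [e1, map_add, eL2, zero_add, ← eT]
  conv_lhs => rw [hzsum]
  rw [LamP_add 𝔟 h2 hpb D' _ _ (Submodule.smul_mono le_rfl le_top hL) hT1, eL1, zero_add]

end Lam

end Helper16.DispH
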