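import Groth.Agent.Lib.Helper16.DispH4

set_option autoImplicit false
universe u v v'

open Dieu TensorProduct WittVector Helper16.Disp

namespace Helper16.DispH

section Special

variable {p : ℕ} [hp : Fact p.Prime] {S : Type u} [CommRing S]
variable {P : Type v} [AddCommGroup P] [Module (WittVector p S) P]
variable {P' : Type v'} [AddCommGroup P'] [Module (WittVector p S) P']
variable (𝔟 : Ideal S) (h2 : ∀ a ∈ 𝔟, ∀ b ∈ 𝔟, a * b = 0) (hpb : ∀ a ∈ 𝔟, (p : S) * a = 0)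
variable (D : W4c1extbt610.Display3n p S P) (D' : W4c1extbt610.Display3n p S P')
variable (ω : P →ₗ[WittVector p S] P')

local notation "σ" => (WittVector.frobenius : WittVector p S →+* WittVector p S)
local notation "J" => (WI (p := p) 𝔟)

/-- the iterates `Λⁿ ∘ ω`. -/
noncomputable def om (n : ℕ) (x : P) : P' := (LamP 𝔟 h2 hpb D')^[n] (ω x)

theorem om_zero (x : P) : om 𝔟 h2 hpb D' ω 0 x = ω x := rfl

theorem om_succ (n : ℕ) (x : P) :
    om 𝔟 h2 hpb D' ω (n + 1) x = LamP 𝔟 h2 hpb D' (om 𝔟 h2 hpb D' ω n x) :=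
  Function.iterate_succ_apply' _ _ _

variable (hωJ : ∀ x : P, ω x ∈ WI (p := p) 𝔟 • (⊤ : Submodule (WittVector p S) P'))

include hωJ in
theorem om_mem (n : ℕ) (x : P) :
    om 𝔟 h2 hpb D' ω n x ∈ J • (⊤ : Submodule (WittVector p S) P') := by
  cases n with
  | zero => exact hωJ x
  | succ n => rw [om_succ]; exact LamP_mem 𝔟 h2 hpb D' _

include hωJ in
theorem om_add (n : ℕ) (x y : P) :
    om 𝔟 h2 hpb D' ω n (x + y) = om 𝔟 h2 hpb D' ω n x + om 𝔟 h2 hpb D' ω n y := by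
  induction n with
  | zero => exact map_add ω x y
  | succ n ih =>
    rw [om_succ, om_succ, om_succ, ih,
      LamP_add 𝔟 h2 hpb D' _ _ (om_mem 𝔟 h2 hpb D' ω hωJ n x) (om_mem 𝔟 h2 hpb D' ω hωJ n y)]

include hωJ in
theorem om_smul (n : ℕ) (ξ : WittVector p S) (x : P) :
    om 𝔟 h2 hpb D' ω n (ξ • x) = (σ ^ n) ξ • om 𝔟 h2 hpb D' ω n x := by
  induction n with
  | zero => exact map_smul ω ξ x
  | succ n ih =>
    rw [om_succ, om_succ, ih, LamP_smul 𝔟 h2 hpb D' _ _ (om_mem 𝔟 h2 hpb D' ω hωJ n x), pow_succ']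
    rfl

/-- `Λⁿ ∘ ω` as a `σⁿ`-semilinear map. -/
noncomputable def omS (n : ℕ) : P →ₛₗ[σ ^ n] P' where
  toFun := om 𝔟 h2 hpb D' ω n
  map_add' := om_add 𝔟 h2 hpb D' ω hωJ n
  map_smul' := om_smul 𝔟 h2 hpb D' ω hωJ n

theorem omS_apply (n : ℕ) (x : P) : omS 𝔟 h2 hpb D' ω hωJ n x = om 𝔟 h2 hpb D' ω n x := rfl

/-- `Λ ∘ ω` as a `σ`-semilinear map. -/
noncomputable def phi1 : P →ₛₗ[σ] P' where
  toFun := fun x => LamP 𝔟 h2 hpb D' (ω x)
  map_add' := fun x y => by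
    rw [map_add, LamP_add 𝔟 h2 hpb D' _ _ (hωJ x) (hωJ y)]
  map_smul' := fun ξ x => by
    rw [map_smul, LamP_smul 𝔟 h2 hpb D' _ _ (hωJ x)]

theorem phi1_apply (x : P) : phi1 𝔟 h2 hpb D' ω hωJ x = LamP 𝔟 h2 hpb D' (ω x) := rfl

theorem base0 (Vs : P →ₗ[WittVector p S] BC σ P) (hVs : IsVSharp D Vs)
    (hω : W4c1extbt610.IsHom D D' ω) (x : P) :
    ω x = BC.lift σ (phi1 𝔟 h2 hpb D' ω hωJ) (Vs x) := by
  have : ω = (BC.lift σ (phi1 𝔟 h2 hpb D' ω hωJ)).comp Vs := by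
    apply LinearMap.ext_on_range (v := fun y : D.Q => D.Vinv y) D.span_range_Vinv
    intro y
    have h1 := hVs.app_smul_Vinv 1 y
    rw [one_smul] at h1
    rw [LinearMap.comp_apply, h1, BC.lift_tmul, one_smul, phi1_apply, hω.comm_Vinv y,
      LamP_eq_Vinv 𝔟 h2 hpb D' _ (hωJ y) (hω.mapsTo y y.2)]
  exact congrArg (fun φ => φ x) this

theorem lift_pushc (m : ℕ) (h : (σ).comp (σ ^ m) = σ ^ (m + 1)) (w : BC (σ ^ m) P) :
    BC.lift (σ ^ (m + 1)) (omS 𝔟 h2 hpb D' ω hωJ (m + 1)) (pushc σ (σ ^ m) (σ ^ (m + 1)) h w) =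
      LamP 𝔟 h2 hpb D' (BC.lift (σ ^ m) (omS 𝔟 h2 hpb D' ω hωJ m) w) := by
  have hmem : ∀ w : BC (σ ^ m) P, BC.lift (σ ^ m) (omS 𝔟 h2 hpb D' ω hωJ m) w ∈
      J • (⊤ : Submodule (WittVector p S) P') :=
    fun w => lift_mem _ _ _ (fun x => om_mem 𝔟 h2 hpb D' ω hωJ m x) w
  induction w using BC.induction_on (σ ^ m) with
  | zero => rw [map_zero, map_zero, map_zero, LamP_zero]
  | tmul u y =>
    rw [pushc_tmul, BC.lift_tmul, BC.lift_tmul, omS_apply, omS_apply, om_succ,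
      LamP_smul 𝔟 h2 hpb D' _ _ (om_mem 𝔟 h2 hpb D' ω hωJ m y)]
  | add a b ha hb =>
    rw [map_add, map_add, map_add, ha, hb, LamP_add 𝔟 h2 hpb D' _ _ (hmem a) (hmem b)]

theorem iter (Vs : P →ₗ[WittVector p S] BC σ P) (hVs : IsVSharp D Vs)
    (hω : W4c1extbt610.IsHom D D' ω) : ∀ (n : ℕ) (x : P),
    ω x = BC.lift (σ ^ (n + 1)) (omS 𝔟 h2 hpb D' ω hωJ (n + 1)) (vSharpPow Vs n x) := by
  intro n
  induction n with
  | zero =>
    intro x
    rw [vSharpPow_zero_apply,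
      lift_castHom σ (pow_one σ).symm (phi1 𝔟 h2 hpb D' ω hωJ) (omS 𝔟 h2 hpb D' ω hωJ (0 + 1))
        (fun _ => rfl)]
    exact base0 𝔟 h2 hpb D D' ω hωJ Vs hVs hω x
  | succ n ih =>
    intro x
    have key : ∀ z : BC σ P,
        BC.lift (σ ^ (n + 1 + 1)) (omS 𝔟 h2 hpb D' ω hωJ (n + 1 + 1))
          (Tc σ (σ ^ (n + 1)) (σ ^ (n + 1 + 1)) (comp_pow_eq_pow_succ σ (n + 1))
            (vSharpPow Vs n) z) = BC.lift σ (phi1 𝔟 h2 hpb D' ω hωJ) z := by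
      intro z
      induction z using BC.induction_on σ with
      | zero => rw [map_zero, map_zero, map_zero]
      | tmul b y =>
        rw [Tc_tmul, map_smul, lift_pushc, ← ih y, BC.lift_tmul, phi1_apply]
      | add a b ha hb => rw [map_add, map_add, map_add, ha, hb]
    rw [vSharpPow_succ_eq_Tc, key]
    exact base0 𝔟 h2 hpb D D' ω hωJ Vs hVs hω x

include h2 hpb hωJ in
/-- **The special case**: a homomorphism of displays which vanishes modulo `W(𝔟)`, `𝔟² = 0`,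
`p𝔟 = 0`, vanishes. -/
theorem special (hD : IsDisplay D) (hω : W4c1extbt610.IsHom D D' ω) : ω = 0 := by
  obtain ⟨Vs, hVs, n0, hn0⟩ := hD
  ext x
  rw [iter 𝔟 h2 hpb D D' ω hωJ Vs hVs hω n0 x, LinearMap.zero_apply]
  have hz := hn0 x
  refine Submodule.smul_induction_on hz ?_ ?_
  · intro c hc w _
    rw [map_smul]
    exact smul_smul_top_eq_bot _ J (fun c hc b hb => IVp_mul_WI_eq_zero 𝔟 h2 hpb c b hc hb) c hc _
      (lift_mem _ _ _ (fun x => om_mem 𝔟 h2 hpb D' ω hωJ (n0 + 1) x) w)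
  · intro a b ha hb
    rw [map_add, ha, hb, add_zero]

end Special

end Helper16.DispH
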