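import Groth.Agent.Lib.Helper16.DispH5

set_option autoImplicit false
universe u v v'

open Dieu TensorProduct WittVector Helper16.Disp

namespace Helper16.DispH

section HomClosure

variable {p : ℕ} [hp : Fact p.Prime] {S : Type u} [CommRing S]
variable {P : Type v} [AddCommGroup P] [Module (WittVector p S) P]
variable {P' : Type v'} [AddCommGroup P'] [Module (WittVector p S) P']
variable (D : W4c1extbt610.Display3n p S P) (D' : W4c1extbt610.Display3n p S P')

theorem isHom_sub (ψ χ : P →ₗ[WittVector p S] P') (hψ : W4c1extbt610.IsHom D D' ψ)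
    (hχ : W4c1extbt610.IsHom D D' χ) : W4c1extbt610.IsHom D D' (ψ - χ) where
  mapsTo q hq := by
    rw [LinearMap.sub_apply]
    exact D'.Q.sub_mem (hψ.mapsTo q hq) (hχ.mapsTo q hq)
  comm_F x := by
    rw [LinearMap.sub_apply, LinearMap.sub_apply, map_sub, hψ.comm_F, hχ.comm_F]
  comm_Vinv q := by
    have e : (⟨(ψ - χ) q, by
        rw [LinearMap.sub_apply]
        exact D'.Q.sub_mem (hψ.mapsTo q q.2) (hχ.mapsTo q q.2)⟩ : D'.Q) =
        ⟨ψ q, hψ.mapsTo q q.2⟩ - ⟨χ q, hχ.mapsTo q q.2⟩ := rfl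
    rw [e, map_sub, LinearMap.sub_apply, hψ.comm_Vinv, hχ.comm_Vinv]

theorem isHom_smul (c : WittVector p S) (hc : WittVector.frobenius c = c)
    (ψ : P →ₗ[WittVector p S] P') (hψ : W4c1extbt610.IsHom D D' ψ) :
    W4c1extbt610.IsHom D D' (c • ψ) where
  mapsTo q hq := by
    rw [LinearMap.smul_apply]
    exact D'.Q.smul_mem c (hψ.mapsTo q hq)
  comm_F x := by
    rw [LinearMap.smul_apply, LinearMap.smul_apply, LinearMap.map_smulₛₗ, hc, hψ.comm_F]
  comm_Vinv q := by
    have e : (⟨(c • ψ) q, by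
        rw [LinearMap.smul_apply]
        exact D'.Q.smul_mem c (hψ.mapsTo q q.2)⟩ : D'.Q) = c • ⟨ψ q, hψ.mapsTo q q.2⟩ := rfl
    rw [e, LinearMap.map_smulₛₗ, hc, LinearMap.smul_apply, hψ.comm_Vinv]

theorem frobenius_p_pow (n : ℕ) :
    WittVector.frobenius ((p : WittVector p S) ^ n) = (p : WittVector p S) ^ n := by
  rw [map_pow, map_natCast]

theorem F_eq_Vinv' (x : P) :
    D.F x = D.Vinv ⟨WittVector.verschiebung (1 : WittVector p S) • x,
      D.IV_smul_le (Submodule.smul_mem_smul (W4c1extbt610.verschiebung_mem_IV p S 1)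
        Submodule.mem_top)⟩ := by
  have := D.Vinv_verschiebung_smul 1 x
  rw [one_smul] at this
  exact this.symm

/-- a linear map commuting with `V⁻¹` is a homomorphism. -/
theorem isHom_of_comm_Vinv (ψ : P →ₗ[WittVector p S] P') (h1 : ∀ q : P, q ∈ D.Q → ψ q ∈ D'.Q)
    (h2 : ∀ q : D.Q, ψ (D.Vinv q) = D'.Vinv ⟨ψ q, h1 q q.2⟩) : W4c1extbt610.IsHom D D' ψ where
  mapsTo := h1
  comm_F x := by
    rw [F_eq_Vinv' D x, h2, F_eq_Vinv' D' (ψ x)]
    congr 1
    apply Subtype.ext
    exact map_smul ψ _ x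
  comm_Vinv := h2

end HomClosure

section HomBC

variable {p : ℕ} [hp : Fact p.Prime] {S R : Type u} [CommRing S] [CommRing R] (f : S →+* R)
variable {P : Type v} [AddCommGroup P] [Module (WittVector p S) P]
variable {P' : Type v'} [AddCommGroup P'] [Module (WittVector p S) P']
variable (D : W4c1extbt610.Display3n p S P) (D' : W4c1extbt610.Display3n p S P')

local notation "φ" => (WittVector.map f : WittVector p S →+* WittVector p R)

theorem map_gens (ω : P →ₗ[WittVector p S] P') (hω : W4c1extbt610.IsHom D D' ω)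
    (z : BC φ P) (hz : z ∈ gens f D.Q) : BC.map φ ω z ∈ gens f D'.Q := by
  rcases hz with ⟨b, q, hq, rfl⟩ | ⟨b, x, rfl⟩
  · left
    exact ⟨b, ω q, hω.mapsTo q hq, BC.map_tmul _ _ _ _⟩
  · right
    exact ⟨b, ω x, BC.map_tmul _ _ _ _⟩

/-- base change of a homomorphism of 3n-displays is a homomorphism of the base changes. -/
theorem isHom_baseChange (DR : W4c1extbt610.Display3n p R (BC φ P))
    (hDR : IsDispBaseChange f D DR) (DR' : W4c1extbt610.Display3n p R (BC φ P'))
    (hDR' : IsDispBaseChange f D' DR') (ω : P →ₗ[WittVector p S] P')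
    (hω : W4c1extbt610.IsHom D D' ω) : W4c1extbt610.IsHom DR DR' (BC.map φ ω) := by
  have hmaps : ∀ z : BC φ P, z ∈ DR.Q → BC.map φ ω z ∈ DR'.Q := by
    intro z hz
    rw [hDR.Q_eq] at hz
    rw [hDR'.Q_eq]
    apply gens_subset_ker f D'.Q
    have hz' := ker_bcQuotMap_le f D.Q hz
    clear hz
    induction hz' using Submodule.span_induction with
    | mem x hx => exact Submodule.subset_span (map_gens f D D' ω hω x hx)
    | zero => rw [map_zero]; exact zero_mem _
    | add x y _ _ hx hy => rw [map_add]; exact add_mem hx hy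
    | smul c x _ hx => rw [map_smul]; exact Submodule.smul_mem _ c hx
  refine ⟨hmaps, ?_, ?_⟩
  · intro z
    induction z using BC.induction_on φ with
    | zero => simp only [map_zero]
    | tmul b x =>
      rw [hDR.F_tmul, BC.map_tmul, BC.map_tmul, hDR'.F_tmul, hω.comm_F]
    | add a b ha hb => rw [map_add, map_add, map_add, map_add, ha, hb]
  · intro q
    have hq' : (q : BC φ P) ∈ Submodule.span (WittVector p R) (gens f D.Q) := by
      apply ker_bcQuotMap_le f D.Q
      rw [← hDR.Q_eq]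
      exact q.2
    have key : ∀ z : BC φ P, z ∈ Submodule.span (WittVector p R) (gens f D.Q) →
        ∃ (h : z ∈ DR.Q), BC.map φ ω (DR.Vinv ⟨z, h⟩) = DR'.Vinv ⟨BC.map φ ω z, hmaps z h⟩ := by
      intro z hz
      induction hz using Submodule.span_induction with
      | mem x hx =>
        have hxQ : x ∈ DR.Q := by
          rw [hDR.Q_eq]
          exact gens_subset_ker f D.Q (Submodule.subset_span hx)
        refine ⟨hxQ, ?_⟩
        rcases hx with ⟨b, y, hy, rfl⟩ | ⟨b, x, rfl⟩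
        · rw [hDR.Vinv_tmul b ⟨y, hy⟩ hxQ, BC.map_tmul]
          have e : (⟨BC.map φ ω (BC.tmul φ b y), hmaps _ hxQ⟩ : DR'.Q) =
              ⟨BC.tmul φ b ((⟨ω y, hω.mapsTo y hy⟩ : D'.Q) : P'), by
                have := hmaps _ hxQ
                rwa [BC.map_tmul] at this⟩ := by
            apply Subtype.ext
            exact BC.map_tmul _ _ _ _
          rw [e, hDR'.Vinv_tmul b ⟨ω y, hω.mapsTo y hy⟩, hω.comm_Vinv ⟨y, hy⟩]
        · rw [hDR.Vinv_verschiebung_tmul b x hxQ, BC.map_tmul]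
          have e : (⟨BC.map φ ω (BC.tmul φ (WittVector.verschiebung b) x), hmaps _ hxQ⟩ : DR'.Q) =
              ⟨BC.tmul φ (WittVector.verschiebung b) (ω x), by
                have := hmaps _ hxQ
                rwa [BC.map_tmul] at this⟩ := by
            apply Subtype.ext
            exact BC.map_tmul _ _ _ _
          rw [e, hDR'.Vinv_verschiebung_tmul b (ω x), hω.comm_F]
      | zero =>
        refine ⟨DR.Q.zero_mem, ?_⟩
        have e0 : (⟨0, DR.Q.zero_mem⟩ : DR.Q) = 0 := rfl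
        have e1 : (⟨BC.map φ ω 0, hmaps 0 DR.Q.zero_mem⟩ : DR'.Q) = 0 := by
          apply Subtype.ext
          exact map_zero _
        rw [e0, e1, map_zero, map_zero, map_zero]
      | add x y _ _ hx hy =>
        obtain ⟨hxQ, ex⟩ := hx
        obtain ⟨hyQ, ey⟩ := hy
        refine ⟨DR.Q.add_mem hxQ hyQ, ?_⟩
        have e0 : (⟨x + y, DR.Q.add_mem hxQ hyQ⟩ : DR.Q) = ⟨x, hxQ⟩ + ⟨y, hyQ⟩ := rfl
        have e1 : (⟨BC.map φ ω (x + y), hmaps _ (DR.Q.add_mem hxQ hyQ)⟩ : DR'.Q) =
            ⟨BC.map φ ω x, hmaps x hxQ⟩ + ⟨BC.map φ ω y, hmaps y hyQ⟩ := by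
          apply Subtype.ext
          exact map_add _ _ _
        rw [e0, e1, map_add, map_add, map_add, ex, ey]
      | smul c x _ hx =>
        obtain ⟨hxQ, ex⟩ := hx
        refine ⟨DR.Q.smul_mem c hxQ, ?_⟩
        have e0 : (⟨c • x, DR.Q.smul_mem c hxQ⟩ : DR.Q) = c • ⟨x, hxQ⟩ := rfl
        have e1 : (⟨BC.map φ ω (c • x), hmaps _ (DR.Q.smul_mem c hxQ)⟩ : DR'.Q) =
            c • ⟨BC.map φ ω x, hmaps x hxQ⟩ := by
          apply Subtype.ext
          exact map_smul _ _ _
        rw [e0, e1, LinearMap.map_smulₛₗ DR.Vinv, LinearMap.map_smulₛₗ DR'.Vinv, map_smul, ex]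
    obtain ⟨h, e⟩ := key q hq'
    exact e

end HomBC

end Helper16.DispH
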