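import Groth.Agent.Lib.Helper16.DispH6

set_option autoImplicit false
universe u v v'

open Dieu TensorProduct WittVector Helper16.Disp

namespace Helper16.DispH

section Quot

variable {p : ℕ} [hp : Fact p.Prime] {S : Type u} [CommRing S] (𝔞 𝔪 : Ideal S)

theorem quot_sq_zero (h𝔞 : 𝔞 ≤ 𝔪) :
    ∀ a ∈ 𝔞.map (Ideal.Quotient.mk (𝔞 * 𝔪)), ∀ b ∈ 𝔞.map (Ideal.Quotient.mk (𝔞 * 𝔪)),
      a * b = 0 := by
  intro a ha b hb
  have h1 : a * b ∈ 𝔞.map (Ideal.Quotient.mk (𝔞 * 𝔪)) * 𝔞.map (Ideal.Quotient.mk (𝔞 * 𝔪)) :=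
    Ideal.mul_mem_mul ha hb
  rw [← Ideal.map_mul] at h1
  have h2 : (𝔞 * 𝔞).map (Ideal.Quotient.mk (𝔞 * 𝔪)) ≤ (𝔞 * 𝔪).map (Ideal.Quotient.mk (𝔞 * 𝔪)) :=
    Ideal.map_mono (Ideal.mul_mono_right h𝔞)
  have h3 := h2 h1
  rw [Ideal.map_quotient_self] at h3
  exact (Submodule.mem_bot _).mp h3

theorem quot_p_zero (h𝔪 : (p : S) ∈ 𝔪) :
    ∀ a ∈ 𝔞.map (Ideal.Quotient.mk (𝔞 * 𝔪)), ((p : ℕ) : S ⧸ 𝔞 * 𝔪) * a = 0 := by
  intro a ha
  have hp' : ((p : ℕ) : S ⧸ 𝔞 * 𝔪) ∈ 𝔪.map (Ideal.Quotient.mk (𝔞 * 𝔪)) := by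
    have := Ideal.mem_map_of_mem (Ideal.Quotient.mk (𝔞 * 𝔪)) h𝔪
    rwa [map_natCast] at this
  have h1 : ((p : ℕ) : S ⧸ 𝔞 * 𝔪) * a ∈
      𝔪.map (Ideal.Quotient.mk (𝔞 * 𝔪)) * 𝔞.map (Ideal.Quotient.mk (𝔞 * 𝔪)) :=
    Ideal.mul_mem_mul hp' ha
  rw [← Ideal.map_mul, mul_comm 𝔪 𝔞, Ideal.map_quotient_self] at h1
  exact (Submodule.mem_bot _).mp h1

end Quot

section Chain

variable {p : ℕ} [hp : Fact p.Prime] {S : Type u} [CommRing S]
variable {P : Type v} [AddCommGroup P] [Module (WittVector p S) P]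
variable {P' : Type v'} [AddCommGroup P'] [Module (WittVector p S) P']
variable (D : W4c1extbt610.Display3n p S P) (D' : W4c1extbt610.Display3n p S P')

theorem hom_eq_zero_chain (hD : IsDisplay D) (𝔪 : Ideal S) (h𝔪 : (p : S) ∈ 𝔪) :
    ∀ (n : ℕ) (𝔞 : Ideal S), 𝔞 ≤ 𝔪 → 𝔞 * 𝔪 ^ n = ⊥ →
      ∀ ω : P →ₗ[WittVector p S] P', W4c1extbt610.IsHom D D' ω →
        (∀ x : P, ω x ∈ WI (p := p) 𝔞 • (⊤ : Submodule (WittVector p S) P')) → ω = 0 := by
  intro n
  induction n with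
  | zero =>
    intro 𝔞 _ h0 ω _ hωJ
    rw [pow_zero, mul_one] at h0
    subst h0
    ext x
    have := hωJ x
    rw [WI_bot, Submodule.bot_smul] at this
    exact (Submodule.mem_bot _).mp this
  | succ n ih =>
    intro 𝔞 h𝔞 h0 ω hω hωJ
    obtain ⟨DR, hDR⟩ := exists_dispBaseChange (Ideal.Quotient.mk (𝔞 * 𝔪)) D
    obtain ⟨DR', hDR'⟩ := exists_dispBaseChange (Ideal.Quotient.mk (𝔞 * 𝔪)) D'
    have hDRd := isDisplay_baseChange (Ideal.Quotient.mk (𝔞 * 𝔪)) D hD DR hDR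
    have hωbar := isHom_baseChange (Ideal.Quotient.mk (𝔞 * 𝔪)) D D' DR hDR DR' hDR' ω hω
    have hJbar : ∀ z, BC.map (WittVector.map (Ideal.Quotient.mk (𝔞 * 𝔪)) :
          WittVector p S →+* WittVector p (S ⧸ 𝔞 * 𝔪)) ω z ∈
        WI (p := p) (𝔞.map (Ideal.Quotient.mk (𝔞 * 𝔪))) •
          (⊤ : Submodule (WittVector p (S ⧸ 𝔞 * 𝔪)) (BC (WittVector.map (Ideal.Quotient.mk (𝔞 * 𝔪)) :
          WittVector p S →+* WittVector p (S ⧸ 𝔞 * 𝔪)) P')) := by
      intro z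
      induction z using BC.induction_on (WittVector.map (Ideal.Quotient.mk (𝔞 * 𝔪)) :
          WittVector p S →+* WittVector p (S ⧸ 𝔞 * 𝔪)) with
      | zero => rw [map_zero]; exact zero_mem _
      | tmul b x =>
        rw [BC.map_tmul]
        have := tmul_mem_map_smul (WittVector.map (Ideal.Quotient.mk (𝔞 * 𝔪)) :
          WittVector p S →+* WittVector p (S ⧸ 𝔞 * 𝔪)) (WI (p := p) 𝔞) b (ω x) (hωJ x)
        refine Submodule.smul_mono_left ?_ this
        rw [Ideal.map_le_iff_le_comap]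
        intro y hy
        exact map_mem_WI (Ideal.Quotient.mk (𝔞 * 𝔪)) 𝔞 y hy
      | add a b ha hb => rw [map_add]; exact add_mem ha hb
    have hzero := special (𝔞.map (Ideal.Quotient.mk (𝔞 * 𝔪))) (quot_sq_zero 𝔞 𝔪 h𝔞)
      (quot_p_zero 𝔞 𝔪 h𝔪) DR DR' _ hJbar hDRd hωbar
    have hωc : ∀ x : P, ω x ∈ WI (p := p) (𝔞 * 𝔪) • (⊤ : Submodule (WittVector p S) P') := by
      intro x
      have h1 : BC.tmul (WittVector.map (Ideal.Quotient.mk (𝔞 * 𝔪)) :
          WittVector p S →+* WittVector p (S ⧸ 𝔞 * 𝔪)) 1 (ω x) = 0 := by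
        have := congrArg (fun φ => φ (BC.tmul (WittVector.map (Ideal.Quotient.mk (𝔞 * 𝔪)) :
          WittVector p S →+* WittVector p (S ⧸ 𝔞 * 𝔪)) 1 x)) hzero
        simpa only [BC.map_tmul, LinearMap.zero_apply] using this
      have h2 := mem_ker_smul_of_tmul_eq_zero (WittVector.map (Ideal.Quotient.mk (𝔞 * 𝔪)) :
          WittVector p S →+* WittVector p (S ⧸ 𝔞 * 𝔪))
        (WittVector.map_surjective _ Ideal.Quotient.mk_surjective) (ω x) h1
      rwa [ker_map_eq, Ideal.mk_ker] at h2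
    exact ih (𝔞 * 𝔪) Ideal.mul_le_right (by rw [mul_assoc, ← pow_succ']; exact h0) ω hω hωc

theorem isNilpotent_ker_sup {R : Type*} [CommRing R] (hp0 : IsNilpotent (p : S)) (f : S →+* R)
    (hker : IsNilpotent (RingHom.ker f)) :
    ∃ N : ℕ, (RingHom.ker f ⊔ Ideal.span {(p : S)}) ^ N = ⊥ := by
  obtain ⟨a, ha⟩ := hker
  obtain ⟨b, hb⟩ := hp0
  refine ⟨a + b, ?_⟩
  rw [eq_bot_iff]
  refine Ideal.sup_pow_add_le_pow_sup_pow.trans ?_
  rw [ha, Ideal.span_singleton_pow, hb]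
  simp

/-- **Faithfulness** of base change of displays along a nilpotent thickening. -/
theorem baseChange_injective {R : Type u} [CommRing R] (hp0 : IsNilpotent (p : S)) (f : S →+* R)
    (hf : Function.Surjective f) (hker : IsNilpotent (RingHom.ker f)) (hD : IsDisplay D)
    (ψ χ : P →ₗ[WittVector p S] P') (hψ : W4c1extbt610.IsHom D D' ψ)
    (hχ : W4c1extbt610.IsHom D D' χ)
    (h : BC.map (WittVector.map f : WittVector p S →+* WittVector p R) ψ =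
      BC.map (WittVector.map f : WittVector p S →+* WittVector p R) χ) : ψ = χ := by
  obtain ⟨N, hN⟩ := isNilpotent_ker_sup (p := p) hp0 f hker
  have hmem : (p : S) ∈ RingHom.ker f ⊔ Ideal.span {(p : S)} :=
    Ideal.mem_sup_right (Ideal.mem_span_singleton_self _)
  have key := hom_eq_zero_chain D D' hD _ hmem N (RingHom.ker f) le_sup_left
    (by rw [hN]; exact Ideal.mul_bot _) (ψ - χ) (isHom_sub D D' ψ χ hψ hχ) (by
      intro x
      have h1 : BC.tmul (WittVector.map f : WittVector p S →+* WittVector p R) 1 ((ψ - χ) x) =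
          0 := by
        have := congrArg (fun φ => φ (BC.tmul (WittVector.map f :
          WittVector p S →+* WittVector p R) 1 x)) h
        simp only [BC.map_tmul] at this
        rw [LinearMap.sub_apply, sub_eq_add_neg, BC.tmul_add, BC.tmul_neg, this, add_neg_cancel]
      have h2 := mem_ker_smul_of_tmul_eq_zero (WittVector.map f :
          WittVector p S →+* WittVector p R) (WittVector.map_surjective f hf) _ h1
      rwa [ker_map_eq] at h2)
  exact sub_eq_zero.mp key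

end Chain

end Helper16.DispH
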