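import Groth.Agent.Lib.Helper16.DispH7

set_option autoImplicit false
universe u v v' w w'

open Dieu TensorProduct WittVector Helper16.Disp

namespace Helper16.DispH

section LemP

variable {p : ℕ} [hp : Fact p.Prime] {S : Type u} [CommRing S]

theorem pow_mul_eq_zero_chain (𝔪 : Ideal S) (h𝔪 : (p : S) ∈ 𝔪) :
    ∀ (n : ℕ) (𝔞 : Ideal S), 𝔞 ≤ 𝔪 → 𝔞 * 𝔪 ^ n = ⊥ →
      ∀ x : WittVector p S, x ∈ WI (p := p) 𝔞 → (p : WittVector p S) ^ n * x = 0 := by
  intro n
  induction n with
  | zero =>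
    intro 𝔞 _ h0 x hx
    rw [pow_zero, mul_one] at h0
    subst h0
    rw [WI_bot] at hx
    rw [(Submodule.mem_bot _).mp hx, mul_zero]
  | succ n ih =>
    intro 𝔞 h𝔞 h0 x hx
    have h1 := map_mem_WI (Ideal.Quotient.mk (𝔞 * 𝔪)) 𝔞 x hx
    have h2 := natCast_mul_eq_zero' (𝔞.map (Ideal.Quotient.mk (𝔞 * 𝔪))) (quot_sq_zero 𝔞 𝔪 h𝔞)
      (quot_p_zero 𝔞 𝔪 h𝔪) _ h1
    have h3 : (p : WittVector p S) * x ∈ RingHom.ker (WittVector.map (Ideal.Quotient.mk (𝔞 * 𝔪)) :
        WittVector p S →+* WittVector p (S ⧸ 𝔞 * 𝔪)) := by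
      rw [RingHom.mem_ker, map_mul, map_natCast]
      exact h2
    rw [ker_map_eq, Ideal.mk_ker] at h3
    have h4 := ih (𝔞 * 𝔪) Ideal.mul_le_right (by rw [mul_assoc, ← pow_succ']; exact h0) _ h3
    rw [pow_succ, mul_assoc]
    exact h4

theorem exists_pow_mul_eq_zero {R : Type*} [CommRing R] (hp0 : IsNilpotent (p : S)) (f : S →+* R)
    (hker : IsNilpotent (RingHom.ker f)) :
    ∃ M : ℕ, ∀ x : WittVector p S,
      x ∈ RingHom.ker (WittVector.map f : WittVector p S →+* WittVector p R) →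
        (p : WittVector p S) ^ M * x = 0 := by
  obtain ⟨N, hN⟩ := isNilpotent_ker_sup (p := p) hp0 f hker
  have hmem : (p : S) ∈ RingHom.ker f ⊔ Ideal.span {(p : S)} :=
    Ideal.mem_sup_right (Ideal.mem_span_singleton_self _)
  refine ⟨N, fun x hx => ?_⟩
  rw [ker_map_eq] at hx
  exact pow_mul_eq_zero_chain _ hmem N (RingHom.ker f) le_sup_left
    (by rw [hN]; exact Ideal.mul_bot _) x hx

end LemP

section Lifting

variable {A : Type u} {B : Type v} [CommRing A] [CommRing B] (g : A →+* B)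
variable {P : Type w} [AddCommGroup P] [Module A P] {P' : Type w'} [AddCommGroup P'] [Module A P']

theorem smulB_eq_smulA (a : A) (z : Dieu.Res g ⊗[A] P') :
    ((g a • (show BC g P' from z) : BC g P') : Dieu.Res g ⊗[A] P') = a • z := by
  induction z using TensorProduct.induction_on with
  | zero =>
    have h1 : (g a • (0 : BC g P') : BC g P') = 0 := smul_zero (g a)
    have h2 : a • (0 : Dieu.Res g ⊗[A] P') = 0 := smul_zero a
    exact h1.trans h2.symm
  | tmul b x =>
    change BC.tmul g (g a * b.val) x = (a • b) ⊗ₜ[A] x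
    rfl
  | add z₁ z₂ h₁ h₂ =>
    have : (g a • (show BC g P' from (z₁ + z₂)) : BC g P') =
        g a • (show BC g P' from z₁) + g a • (show BC g P' from z₂) :=
      smul_add (g a) (show BC g P' from z₁) (show BC g P' from z₂)
    rw [smul_add, ← h₁, ← h₂]
    exact this

/-- `x ↦ 1 ⊗ x` as an `A`-linear map to the tensor product with its `A`-module structure. -/
noncomputable def iotaA : P' →ₗ[A] Dieu.Res g ⊗[A] P' :=
  TensorProduct.mk A (Dieu.Res g) P' (Dieu.Res.mk g 1)

theorem iotaA_surjective (hg : Function.Surjective g) :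
    Function.Surjective (iotaA g (P' := P')) := by
  intro z
  induction z using TensorProduct.induction_on with
  | zero => exact ⟨0, map_zero _⟩
  | tmul b x =>
    obtain ⟨a, ha⟩ := hg b.val
    refine ⟨a • x, ?_⟩
    change (Dieu.Res.mk g 1) ⊗ₜ[A] (a • x) = b ⊗ₜ[A] x
    rw [← TensorProduct.smul_tmul]
    congr 1
    apply Dieu.Res.ext
    rw [Dieu.Res.val_smul, Dieu.Res.val_mk, mul_one, ha]
  | add z₁ z₂ h₁ h₂ =>
    obtain ⟨x₁, e₁⟩ := h₁
    obtain ⟨x₂, e₂⟩ := h₂
    exact ⟨x₁ + x₂, by rw [map_add, e₁, e₂]⟩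

/-- lifting a `B`-linear map between base changes to an `A`-linear map, for projective `P`. -/
theorem exists_lift_linear [hP : Module.Projective A P] (hg : Function.Surjective g)
    (χ : BC g P →ₗ[B] BC g P') :
    ∃ α : P →ₗ[A] P', ∀ x : P, BC.tmul g 1 (α x) = χ (BC.tmul g 1 x) := by
  let κ : P →ₗ[A] Dieu.Res g ⊗[A] P' :=
    { toFun := fun x => (χ (BC.tmul g 1 x) : BC g P')
      map_add' := fun x y => by
        have : χ (BC.tmul g 1 (x + y)) = χ (BC.tmul g 1 x) + χ (BC.tmul g 1 y) := by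
          rw [BC.tmul_add, map_add]
        exact this
      map_smul' := fun a x => by
        have h1 : χ (BC.tmul g 1 (a • x)) = g a • χ (BC.tmul g 1 x) := by
          rw [← BC.tmul_apply_eq, BC.tmul_eq_smul_tmul_one, map_smul]
        rw [RingHom.id_apply]
        exact h1.trans (smulB_eq_smulA g a _) }
  obtain ⟨α, hα⟩ := Module.projective_lifting_property (iotaA g (P' := P')) κ
    (iotaA_surjective g hg)
  refine ⟨α, fun x => ?_⟩
  have := congrArg (fun φ => φ x) hα
  exact this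

end Lifting

end Helper16.DispH
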