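import Groth.Agent.Lib.Helper16.DispH8

set_option autoImplicit false
universe u v v'

open Dieu TensorProduct WittVector Helper16.Disp

namespace Helper16.DispH

section Part2

variable {p : ℕ} [hp : Fact p.Prime] {S R : Type u} [CommRing S] [CommRing R] (f : S →+* R)
variable {P : Type v} [AddCommGroup P] [Module (WittVector p S) P]
variable {P' : Type v'} [AddCommGroup P'] [Module (WittVector p S) P']

local notation "φ" => (WittVector.map f : WittVector p S →+* WittVector p R)

theorem ker_constantCoeff_comp_le :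
    RingHom.ker ((WittVector.constantCoeff : WittVector p R →+* R).comp φ) ≤
      RingHom.ker φ ⊔ W4c1extbt610.IV p S := by
  intro a ha
  rw [RingHom.mem_ker, RingHom.comp_apply] at ha
  have ha0 : f (a.coeff 0) = 0 := by
    have : (WittVector.map f a).coeff 0 = 0 := ha
    rwa [WittVector.map_coeff] at this
  rw [eq_teichmuller_add_verschiebung a]
  refine Submodule.add_mem_sup ?_ (W4c1extbt610.verschiebung_mem_IV p S _)
  rw [RingHom.mem_ker, map_teichmuller, ha0, teichmuller_zero]

theorem constantCoeff_comp_surjective (hf : Function.Surjective f) :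
    Function.Surjective ((WittVector.constantCoeff : WittVector p R →+* R).comp φ) := by
  intro r
  obtain ⟨s, rfl⟩ := hf r
  refine ⟨teichmuller p s, ?_⟩
  rw [RingHom.comp_apply, map_teichmuller]
  exact teichmuller_coeff_zero p (f s)

theorem mem_sup_of_bcQuotMap_eq_zero (hf : Function.Surjective f)
    (Q : Submodule (WittVector p S) P')
    (hIV : W4c1extbt610.IV p S • (⊤ : Submodule (WittVector p S) P') ≤ Q) (x' : P')
    (h : bcQuotMap f Q (BC.tmul φ 1 x') = 0) :
    x' ∈ Q ⊔ (RingHom.ker φ) • (⊤ : Submodule (WittVector p S) P') := by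
  rw [bcQuotMap_tmul, map_one] at h
  have h1 := mem_ker_smul_of_tmul_eq_zero _ (constantCoeff_comp_surjective f hf) (Q.mkQ x') h
  have h2 : (RingHom.ker ((WittVector.constantCoeff : WittVector p R →+* R).comp φ)) •
      (⊤ : Submodule (WittVector p S) (P' ⧸ Q)) =
      Submodule.map Q.mkQ ((RingHom.ker ((WittVector.constantCoeff :
        WittVector p R →+* R).comp φ)) • (⊤ : Submodule (WittVector p S) P')) := by
    rw [Submodule.map_smul'', Submodule.map_top, Submodule.range_mkQ]
  rw [h2] at h1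
  obtain ⟨z, hz, e⟩ := h1
  have hzx : x' - z ∈ Q := by
    rw [← Submodule.Quotient.mk_eq_zero, Submodule.Quotient.mk_sub, sub_eq_zero]
    exact e.symm
  have hz' : z ∈ Q ⊔ (RingHom.ker φ) • (⊤ : Submodule (WittVector p S) P') := by
    have h3 : z ∈ (RingHom.ker φ ⊔ W4c1extbt610.IV p S) •
        (⊤ : Submodule (WittVector p S) P') :=
      Submodule.smul_mono_left (ker_constantCoeff_comp_le f) hz
    rw [Submodule.sup_smul] at h3
    exact (sup_le le_sup_right (le_trans hIV le_sup_left)) h3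
  have e2 : x' = (x' - z) + z := by abel
  rw [e2]
  exact add_mem (Submodule.mem_sup_left hzx) hz'

variable (D : W4c1extbt610.Display3n p S P) (D' : W4c1extbt610.Display3n p S P')

/-- the cokernel of base change on homomorphisms of displays is `p`-torsion. -/
theorem exists_hom_lift (hp0 : IsNilpotent (p : S)) (hf : Function.Surjective f)
    (hker : IsNilpotent (RingHom.ker f))
    (DR : W4c1extbt610.Display3n p R (BC φ P)) (hDR : IsDispBaseChange f D DR)
    (DR' : W4c1extbt610.Display3n p R (BC φ P')) (hDR' : IsDispBaseChange f D' DR')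
    (χ : BC φ P →ₗ[WittVector p R] BC φ P') (hχ : W4c1extbt610.IsHom DR DR' χ) :
    ∃ (n : ℕ) (ψ : P →ₗ[WittVector p S] P'), W4c1extbt610.IsHom D D' ψ ∧
      BC.map φ ψ = ((p : WittVector p R) ^ n) • χ := by
  obtain ⟨M, hM⟩ := exists_pow_mul_eq_zero (p := p) hp0 f hker
  have hsurj : Function.Surjective φ := WittVector.map_surjective f hf
  haveI := D.projective
  obtain ⟨α, hα⟩ := exists_lift_linear φ hsurj χ
  have hmapα : BC.map φ α = χ := BC.ext φ (fun x => by rw [BC.map_tmul, hα])
  have hcJ : ∀ y : P', y ∈ (RingHom.ker φ) • (⊤ : Submodule (WittVector p S) P') →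
      ((p : WittVector p S) ^ M) • y = 0 := by
    intro y hy
    refine smul_smul_top_eq_bot (Ideal.span {(p : WittVector p S) ^ M}) (RingHom.ker φ) ?_ _
      (Ideal.mem_span_singleton_self _) y hy
    intro c hc b hb
    obtain ⟨r, rfl⟩ := Ideal.mem_span_singleton'.mp hc
    rw [mul_assoc, hM b hb, mul_zero]
  have hgen : ∀ y : P, y ∈ D.Q → BC.tmul φ 1 y ∈ DR.Q := by
    intro y hy
    rw [hDR.Q_eq]
    exact gens_subset_ker f D.Q (Submodule.subset_span (Or.inl ⟨1, y, hy, rfl⟩))
  have hβQ : ∀ y : P, y ∈ D.Q → (((p : WittVector p S) ^ M) • α) y ∈ D'.Q := by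
    intro y hy
    have h2 := hχ.mapsTo _ (hgen y hy)
    rw [← hα, hDR'.Q_eq, LinearMap.mem_ker] at h2
    have h3 := mem_sup_of_bcQuotMap_eq_zero f hf D'.Q D'.IV_smul_le (α y) h2
    obtain ⟨q, hq, j, hj, e⟩ := Submodule.mem_sup.mp h3
    rw [LinearMap.smul_apply, ← e, smul_add, hcJ j hj, add_zero]
    exact D'.Q.smul_mem _ hq
  have hmapβ : BC.map φ (((p : WittVector p S) ^ M) • α) = ((p : WittVector p R) ^ M) • χ := by
    rw [BCmap_smul, hmapα, map_pow, map_natCast]
  have hχ' : W4c1extbt610.IsHom DR DR' (((p : WittVector p R) ^ M) • χ) :=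
    isHom_smul DR DR' _ (frobenius_p_pow M) χ hχ
  have hβtmul : ∀ x : P, BC.tmul φ 1 ((((p : WittVector p S) ^ M) • α) x) =
      (((p : WittVector p R) ^ M) • χ) (BC.tmul φ 1 x) := by
    intro x
    rw [← hmapβ, BC.map_tmul]
  have hρ : ∀ y : D.Q, ((p : WittVector p S) ^ M) •
        D'.Vinv ⟨(((p : WittVector p S) ^ M) • α) y, hβQ y y.2⟩ =
      ((p : WittVector p S) ^ M) • (((p : WittVector p S) ^ M) • α) (D.Vinv y) := by
    intro y
    have hk : D'.Vinv ⟨(((p : WittVector p S) ^ M) • α) y, hβQ y y.2⟩ -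
        (((p : WittVector p S) ^ M) • α) (D.Vinv y) ∈
        (RingHom.ker φ) • (⊤ : Submodule (WittVector p S) P') := by
      apply mem_ker_smul_of_tmul_eq_zero φ hsurj
      rw [sub_eq_add_neg, BC.tmul_add, BC.tmul_neg, ← sub_eq_add_neg, sub_eq_zero]
      have hy1 : BC.tmul φ 1 (y : P) ∈ DR.Q := hgen y y.2
      have hy2 : BC.tmul φ 1 ((((p : WittVector p S) ^ M) • α) y) ∈ DR'.Q := by
        have := hχ'.mapsTo _ hy1
        rwa [← hβtmul] at this
      have e1 := hDR'.Vinv_tmul 1 ⟨(((p : WittVector p S) ^ M) • α) y, hβQ y y.2⟩ hy2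
      have e2 := hDR.Vinv_tmul 1 y hy1
      have e3 := hχ'.comm_Vinv ⟨BC.tmul φ 1 (y : P), hy1⟩
      rw [map_one] at e1 e2
      rw [← e1, hβtmul (D.Vinv y), ← e2, e3]
      congr 1
      apply Subtype.ext
      exact hβtmul y
    have := hcJ _ hk
    rwa [smul_sub, sub_eq_zero] at this
  have hψQ : ∀ y : P, y ∈ D.Q →
      (((p : WittVector p S) ^ M) • (((p : WittVector p S) ^ M) • α)) y ∈ D'.Q := by
    intro y hy
    rw [LinearMap.smul_apply]
    exact D'.Q.smul_mem _ (hβQ y hy)
  have hψ : W4c1extbt610.IsHom D D'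
      (((p : WittVector p S) ^ M) • (((p : WittVector p S) ^ M) • α)) := by
    refine isHom_of_comm_Vinv D D' _ hψQ ?_
    intro y
    have e : (⟨(((p : WittVector p S) ^ M) • (((p : WittVector p S) ^ M) • α)) y,
        hψQ y y.2⟩ : D'.Q) =
        ((p : WittVector p S) ^ M) • ⟨(((p : WittVector p S) ^ M) • α) y, hβQ y y.2⟩ := rfl
    rw [e, LinearMap.map_smulₛₗ, frobenius_p_pow, hρ y]
    rfl
  refine ⟨M + M, _, hψ, ?_⟩
  rw [BCmap_smul, hmapβ, map_pow, map_natCast, smul_smul, ← pow_add]

end Part2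

end Helper16.DispH
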