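import Groth.Agent.Lib.Helper16.DispH10

set_option autoImplicit false
universe u v

open Module

namespace Helper16.DispX

section Count

variable {I : Type*} [Fintype I] [DecidableEq I]

theorem card_filter_mem_powersetCard (a : I) (r : ℕ) :
    ((Finset.powersetCard (r + 1) (Finset.univ : Finset I)).filter (fun s => a ∈ s)).card =
      (Fintype.card I - 1).choose r := by
  have hU : a ∉ (Finset.univ : Finset I).erase a := Finset.notMem_erase a _
  have huniv : (Finset.univ : Finset I) = insert a ((Finset.univ : Finset I).erase a) :=
    (Finset.insert_erase (Finset.mem_univ a)).symm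
  have hcardU : ((Finset.univ : Finset I).erase a).card = Fintype.card I - 1 := by
    rw [Finset.card_erase_of_mem (Finset.mem_univ a), Finset.card_univ]
  rw [huniv, Finset.powersetCard_succ_insert hU, Finset.filter_union]
  have h1 : (Finset.powersetCard (r + 1) ((Finset.univ : Finset I).erase a)).filter
      (fun s => a ∈ s) = ∅ := by
    rw [Finset.filter_eq_empty_iff]
    intro s hs has
    rw [Finset.mem_powersetCard] at hs
    exact hU (hs.1 has)
  have h2 : ((Finset.powersetCard r ((Finset.univ : Finset I).erase a)).image (insert a)).filter
      (fun s => a ∈ s) =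
      (Finset.powersetCard r ((Finset.univ : Finset I).erase a)).image (insert a) := by
    rw [Finset.filter_eq_self]
    intro s hs
    obtain ⟨t, _, rfl⟩ := Finset.mem_image.mp hs
    exact Finset.mem_insert_self a t
  rw [h1, h2, Finset.empty_union, Finset.card_image_of_injOn, Finset.card_powersetCard, hcardU]
  intro s hs t ht hst
  have hs' := (Finset.mem_powersetCard.mp (Finset.mem_coe.mp hs)).1
  have ht' := (Finset.mem_powersetCard.mp (Finset.mem_coe.mp ht)).1
  have has : a ∉ s := fun h => hU (hs' h)
  have hat : a ∉ t := fun h => hU (ht' h)
  have := congrArg (fun u => Finset.erase u a) hst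
  simpa [Finset.erase_insert has, Finset.erase_insert hat] using this

theorem natCard_subtype_mem_powersetCard (a : I) (r : ℕ) :
    Nat.card {s : Set.powersetCard I (r + 1) // a ∈ s} = (Fintype.card I - 1).choose r := by
  rw [← card_filter_mem_powersetCard a r]
  have e : {s : Set.powersetCard I (r + 1) // a ∈ s} ≃
      ↥((Finset.powersetCard (r + 1) (Finset.univ : Finset I)).filter (fun s => a ∈ s)) :=
    { toFun := fun s => ⟨s.1.1, by
        rw [Finset.mem_filter, Finset.mem_powersetCard]
        exact ⟨⟨Finset.subset_univ _, s.1.2⟩, s.2⟩⟩
      invFun := fun s => ⟨⟨s.1, by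
        have := (Finset.mem_filter.mp s.2).1
        exact (Finset.mem_powersetCard.mp this).2⟩, (Finset.mem_filter.mp s.2).2⟩
      left_inv := fun s => rfl
      right_inv := fun s => rfl }
  rw [Nat.card_congr e, Nat.card_eq_fintype_card, Fintype.card_coe]

end Count

end Helper16.DispX
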