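import Groth.Agent.Lib.Helper16.DispX1
import Mathlib.LinearAlgebra.ExteriorPower.Basis

set_option autoImplicit false
universe u v

open Module

namespace Helper16.DispX

section CoordSub

variable {A : Type*} [CommRing A] {M : Type*} [AddCommGroup M] [Module A M]
variable {κ : Type*} (b : Basis κ A M) (I : Ideal A) (S : Set κ)

/-- The submodule of elements whose `b`-coordinates at the indices in `S` lie in `I`. -/
def coordSub : Submodule A M where
  carrier := {y | ∀ s ∈ S, b.repr y s ∈ I}
  add_mem' := by
    intro x y hx hy s hs
    rw [map_add, Finsupp.add_apply]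
    exact I.add_mem (hx s hs) (hy s hs)
  zero_mem' := by
    intro s _
    rw [map_zero, Finsupp.zero_apply]
    exact I.zero_mem
  smul_mem' := by
    intro c x hx s hs
    rw [map_smul, Finsupp.smul_apply, smul_eq_mul]
    exact I.mul_mem_left c (hx s hs)

theorem mem_coordSub {y : M} : y ∈ coordSub b I S ↔ ∀ s ∈ S, b.repr y s ∈ I := Iff.rfl

theorem basis_mem_coordSub_of_notMem {j : κ} (hj : j ∉ S) : b j ∈ coordSub b I S := by
  classical
  intro s hs
  have hne : j ≠ s := fun h => hj (h ▸ hs)
  rw [Basis.repr_self, Finsupp.single_apply, if_neg hne]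
  exact I.zero_mem

theorem smul_basis_mem_coordSub {c : A} (hc : c ∈ I) (j : κ) : c • b j ∈ coordSub b I S := by
  classical
  intro s _
  rw [map_smul, Finsupp.smul_apply, smul_eq_mul, Basis.repr_self, Finsupp.single_apply]
  split_ifs
  · rw [mul_one]; exact hc
  · rw [mul_zero]; exact I.zero_mem

theorem span_sup_smul_span_eq :
    Submodule.span A (b '' Sᶜ) ⊔ I • Submodule.span A (b '' S) = coordSub b I S := by
  classical
  apply le_antisymm
  · apply sup_le
    · rw [Submodule.span_le]
      rintro _ ⟨j, hj, rfl⟩
      exact basis_mem_coordSub_of_notMem b I S hj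
    · rw [Submodule.smul_le]
      intro c hc n _ s _
      rw [map_smul, Finsupp.smul_apply, smul_eq_mul]
      exact I.mul_mem_right _ hc
  · intro y hy
    rw [← b.linearCombination_repr y, Finsupp.linearCombination_apply, Finsupp.sum]
    apply Submodule.sum_mem
    intro i _
    by_cases hi : i ∈ S
    · exact Submodule.mem_sup_right (Submodule.smul_mem_smul (hy i hi)
        (Submodule.subset_span ⟨i, hi, rfl⟩))
    · exact Submodule.mem_sup_left (Submodule.smul_mem _ _
        (Submodule.subset_span ⟨i, hi, rfl⟩))

theorem isCompl_span_compl :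
    IsCompl (Submodule.span A (b '' Sᶜ)) (Submodule.span A (b '' S)) := by
  constructor
  · exact b.linearIndependent.disjoint_span_image disjoint_compl_left
  · rw [codisjoint_iff, ← Submodule.span_union, ← Set.image_union, Set.compl_union_self,
      Set.image_univ, b.span_eq]

/-- A basis of `span (b '' S)` indexed by `S`. -/
noncomputable def spanBasis : Basis S A (Submodule.span A (b '' S)) :=
  (Basis.span (b.linearIndependent.comp (fun s : S => (s : κ)) Subtype.val_injective)).map
    (LinearEquiv.ofEq _ _ (by
      congr 1
      ext x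
      constructor
      · rintro ⟨s, rfl⟩
        exact ⟨s.1, s.2, rfl⟩
      · rintro ⟨s, hs, rfl⟩
        exact ⟨⟨s, hs⟩, rfl⟩))

theorem free_span_image : Module.Free A (Submodule.span A (b '' S)) :=
  Module.Free.of_basis (spanBasis b S)

theorem finrank_span_image [Nontrivial A] :
    Module.finrank A (Submodule.span A (b '' S)) = Nat.card S :=
  Module.finrank_eq_nat_card_basis (spanBasis b S)

end CoordSub

section Det

variable {A : Type*} [CommRing A] {n : Type*} [Fintype n] [DecidableEq n]

theorem det_mem_of_column_mem (I : Ideal A) (N : Matrix n n A) (k : n)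
    (h : ∀ i, N i k ∈ I) : N.det ∈ I := by
  rw [Matrix.det_apply]
  apply Ideal.sum_mem
  intro σ _
  have : ∏ i, N (σ i) i ∈ I := Ideal.prod_mem I (Finset.mem_univ k) (h (σ k))
  rcases Int.units_eq_one_or (Equiv.Perm.sign σ) with h1 | h1
  · rw [h1, one_smul]; exact this
  · rw [h1, Units.neg_smul, one_smul]; exact I.neg_mem this

end Det

end Helper16.DispX
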