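import Groth.Agent.Lib.Helper16.DispX2

set_option autoImplicit false
universe u v

open Module

namespace Helper16.DispX

section Wedge

variable {A : Type*} [CommRing A] {M : Type*} [AddCommGroup M] [Module A M]
variable {ι : Type*} [LinearOrder ι] (b : Basis ι A M) (I : Ideal A) (a : ι) (n : ℕ)

/-- The span of the wedges of elements of `Q = {x | x_a ∈ I}`. -/
def wedgeSpan (Q : Submodule A M) : Submodule A (⋀[A]^n M) :=
  Submodule.span A (Set.range fun q : Fin n → Q => exteriorPower.ιMulti A n (fun i => (q i : M)))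

theorem ιMulti_mem_wedgeSpan (Q : Submodule A M) (v : Fin n → M) (hv : ∀ i, v i ∈ Q) :
    exteriorPower.ιMulti A n v ∈ wedgeSpan n Q :=
  Submodule.subset_span ⟨fun i => ⟨v i, hv i⟩, rfl⟩

theorem wedgeSpan_le_coordSub :
    wedgeSpan n (coordSub b I {a}) ≤
      coordSub (b.exteriorPower n) I {s : Set.powersetCard ι n | a ∈ s} := by
  classical
  rw [wedgeSpan, Submodule.span_le]
  rintro _ ⟨q, rfl⟩
  intro s hs
  rw [exteriorPower.basis_repr_apply, exteriorPower.ιMultiDual_apply_ιMulti]
  obtain ⟨k, hk⟩ := (Set.powersetCard.mem_range_ofFinEmbEquiv_symm_iff_mem s a).mpr hs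
  apply det_mem_of_column_mem I _ k
  intro i
  rw [Matrix.of_apply, hk, Basis.coord_apply]
  exact (q i).2 a rfl

theorem basis_mem_wedgeSpan (s : Set.powersetCard ι n) (hs : a ∉ s) :
    b.exteriorPower n s ∈ wedgeSpan n (coordSub b I {a}) := by
  rw [exteriorPower.basis_apply, exteriorPower.ιMulti_family]
  apply ιMulti_mem_wedgeSpan
  intro i
  apply basis_mem_coordSub_of_notMem
  intro h
  rw [Set.mem_singleton_iff] at h
  apply hs
  rw [← Set.powersetCard.mem_range_ofFinEmbEquiv_symm_iff_mem]
  exact ⟨i, h⟩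

theorem smul_basis_mem_wedgeSpan (s : Set.powersetCard ι n) (hs : a ∈ s) {c : A} (hc : c ∈ I) :
    c • b.exteriorPower n s ∈ wedgeSpan n (coordSub b I {a}) := by
  classical
  obtain ⟨k, hk⟩ := (Set.powersetCard.mem_range_ofFinEmbEquiv_symm_iff_mem s a).mpr hs
  rw [exteriorPower.basis_apply, exteriorPower.ιMulti_family]
  have h1 : c • exteriorPower.ιMulti A n (b ∘ (Set.powersetCard.ofFinEmbEquiv.symm s)) =
      exteriorPower.ιMulti A n (Function.update (b ∘ (Set.powersetCard.ofFinEmbEquiv.symm s)) k
        (c • b a)) := by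
    rw [AlternatingMap.map_update_smul]
    congr 2
    rw [eq_comm, Function.update_eq_self_iff, Function.comp_apply, hk]
  rw [h1]
  apply ιMulti_mem_wedgeSpan
  intro i
  by_cases hik : i = k
  · subst hik
    rw [Function.update_self]
    exact smul_basis_mem_coordSub b I {a} hc a
  · rw [Function.update_of_ne hik, Function.comp_apply]
    apply basis_mem_coordSub_of_notMem
    intro h
    rw [Set.mem_singleton_iff, ← hk] at h
    exact hik ((Set.powersetCard.ofFinEmbEquiv.symm s).injective h)

theorem wedgeSpan_eq_coordSub :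
    wedgeSpan n (coordSub b I {a}) =
      coordSub (b.exteriorPower n) I {s : Set.powersetCard ι n | a ∈ s} := by
  apply le_antisymm (wedgeSpan_le_coordSub b I a n)
  rw [← span_sup_smul_span_eq]
  apply sup_le
  · rw [Submodule.span_le]
    rintro _ ⟨s, hs, rfl⟩
    exact basis_mem_wedgeSpan b I a n s hs
  · rw [Submodule.smul_le]
    intro c hc y hy
    induction hy using Submodule.span_induction with
    | mem x hx =>
      obtain ⟨s, hs, rfl⟩ := hx
      exact smul_basis_mem_wedgeSpan b I a n s hs hc
    | zero => rw [smul_zero]; exact Submodule.zero_mem _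
    | add x y _ _ hx hy => rw [smul_add]; exact Submodule.add_mem _ hx hy
    | smul d x _ hx => rw [smul_comm]; exact Submodule.smul_mem _ _ hx

end Wedge

end Helper16.DispX
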