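import Groth.Agent.Lib.Helper16.DispX3

set_option autoImplicit false
universe u v

open Module

namespace Helper16.DispX

section Final

variable {A : Type*} [CommRing A] [Nontrivial A] {M : Type*} [AddCommGroup M] [Module A M]
  [Module.Finite A M]

theorem exists_basis_adapted (L T : Submodule A M) (hLT : IsCompl L T) (m : ℕ)
    [Module.Free A L] (hLr : Module.finrank A L = m) (e : T ≃ₗ[A] A) :
    ∃ (b : Basis (Fin (m + 1)) A M) (a : Fin (m + 1)),
      Submodule.span A (b '' {a}ᶜ) = L ∧ Submodule.span A (b '' {a}) = T := by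
  haveI : Module.Finite A L :=
    Module.Finite.of_surjective (Submodule.linearProjOfIsCompl L T hLT)
      (Submodule.linearProjOfIsCompl_surjective hLT)
  let bL : Basis (Fin m) A L := Module.finBasisOfFinrankEq A L hLr
  let bT : Basis (Fin 1) A T := (Basis.singleton (Fin 1) A).map e.symm
  let b₁ : Basis (Fin m ⊕ Fin 1) A M := (bL.prod bT).map (Submodule.prodEquivOfIsCompl L T hLT)
  let b : Basis (Fin (m + 1)) A M := b₁.reindex finSumFinEquiv
  have hb : ∀ x, b (finSumFinEquiv x) = b₁ x := by
    intro x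
    simp [b, Basis.reindex_apply]
  have hinl : ∀ i, b₁ (Sum.inl i) = (bL i : M) := by
    intro i
    simp [b₁, Submodule.coe_prodEquivOfIsCompl']
  have hinr : ∀ k, b₁ (Sum.inr k) = (bT k : M) := by
    intro k
    simp [b₁, Submodule.coe_prodEquivOfIsCompl']
  refine ⟨b, finSumFinEquiv (Sum.inr 0), ?_, ?_⟩
  · have hset : b '' {finSumFinEquiv (Sum.inr 0)}ᶜ = Set.range (L.subtype ∘ bL) := by
      ext x
      constructor
      · rintro ⟨j, hj, rfl⟩
        obtain ⟨y, rfl⟩ := finSumFinEquiv.surjective j
        cases y with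
        | inl i => exact ⟨i, by rw [hb, hinl]; rfl⟩
        | inr k =>
          exfalso
          apply hj
          have : k = 0 := Subsingleton.elim _ _
          subst this
          rfl
      · rintro ⟨i, rfl⟩
        refine ⟨finSumFinEquiv (Sum.inl i), ?_, by rw [hb, hinl]; rfl⟩
        intro h
        rw [Set.mem_singleton_iff] at h
        exact Sum.inl_ne_inr (finSumFinEquiv.injective h)
    rw [hset, Set.range_comp, ← Submodule.map_span, bL.span_eq, Submodule.map_subtype_top]
  · have hset : b '' {finSumFinEquiv (Sum.inr 0)} = Set.range (T.subtype ∘ bT) := by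
      ext x
      constructor
      · rintro ⟨j, hj, rfl⟩
        rw [Set.mem_singleton_iff] at hj
        subst hj
        exact ⟨0, by rw [hb, hinr]; rfl⟩
      · rintro ⟨k, rfl⟩
        have : k = 0 := Subsingleton.elim _ _
        subst this
        exact ⟨finSumFinEquiv (Sum.inr 0), rfl, by rw [hb, hinr]; rfl⟩
    rw [hset, Set.range_comp, ← Submodule.map_span, bT.span_eq, Submodule.map_subtype_top]

theorem exists_normal_wedgeSpan (I : Ideal A) (L T : Submodule A M) (hLT : IsCompl L T) (m : ℕ)
    [Module.Free A L] (hLr : Module.finrank A L = m) (e : T ≃ₗ[A] A)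
    (Q : Submodule A M) (hQ : Q = L ⊔ I • T) (r : ℕ) (hr : 1 ≤ r) :
    ∃ L' T' : Submodule A (⋀[A]^r M), IsCompl L' T' ∧ wedgeSpan r Q = L' ⊔ I • T' ∧
      Module.Free A T' ∧ Module.finrank A T' = m.choose (r - 1) := by
  classical
  obtain ⟨b, a, hL, hT⟩ := exists_basis_adapted L T hLT m hLr e
  have hQ' : Q = coordSub b I {a} := by
    rw [hQ, ← span_sup_smul_span_eq, hL, hT]
  obtain ⟨r', rfl⟩ : ∃ r', r = r' + 1 := ⟨r - 1, by omega⟩
  let S' : Set (Set.powersetCard (Fin (m + 1)) (r' + 1)) := {s | a ∈ s}
  refine ⟨Submodule.span A ((b.exteriorPower (r' + 1)) '' S'ᶜ),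
    Submodule.span A ((b.exteriorPower (r' + 1)) '' S'), isCompl_span_compl _ _, ?_,
    free_span_image _ _, ?_⟩
  · rw [hQ', wedgeSpan_eq_coordSub, span_sup_smul_span_eq]
  · rw [finrank_span_image, Nat.add_sub_cancel]
    have := natCard_subtype_mem_powersetCard a r'
    rw [Fintype.card_fin, Nat.add_sub_cancel] at this
    exact this

end Final

end Helper16.DispX
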