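import Groth.Agent.Lib.Helper16.DispX4

set_option autoImplicit false
universe u v

open Module

namespace Helper16.DispX

section Tw

variable {A : Type*} [CommRing A]

/-- `X` with `A` acting through `σ`. -/
@[nolint unusedArguments]
def Tw (_σ : A →+* A) (X : Type*) : Type _ := X

variable (σ : A →+* A) (X : Type*) [AddCommGroup X] [Module A X]

instance : AddCommGroup (Tw σ X) := inferInstanceAs (AddCommGroup X)

instance : Module A (Tw σ X) := Module.compHom X σ

theorem Tw.smul_def (c : A) (x : Tw σ X) : c • x = (σ c • (show X from x) : X) := rfl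

variable {M M' : Type*} [AddCommGroup M] [Module A M] [AddCommGroup M'] [Module A M'] (r : ℕ)

theorem comp_update_semi (Φ : M →ₛₗ[σ] M') [DecidableEq (Fin r)] (v : Fin r → M) (i : Fin r)
    (z : M) :
    (fun j => Φ (Function.update v i z j)) = Function.update (fun j => Φ (v j)) i (Φ z) := by
  ext j
  by_cases hj : j = i
  · subst hj; simp
  · simp [Function.update_of_ne hj]

theorem semiAlt_add (Φ : M →ₛₗ[σ] M') [DecidableEq (Fin r)] (v : Fin r → M) (i : Fin r)
    (x y : M) :
    exteriorPower.ιMulti A r (fun j => Φ (Function.update v i (x + y) j)) =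
      exteriorPower.ιMulti A r (fun j => Φ (Function.update v i x j)) +
        exteriorPower.ιMulti A r (fun j => Φ (Function.update v i y j)) := by
  rw [comp_update_semi, comp_update_semi, comp_update_semi, map_add]
  exact AlternatingMap.map_update_add _ _ _ _ _

theorem semiAlt_smul (Φ : M →ₛₗ[σ] M') [DecidableEq (Fin r)] (v : Fin r → M) (i : Fin r)
    (c : A) (x : M) :
    exteriorPower.ιMulti A r (fun j => Φ (Function.update v i (c • x) j)) =
      σ c • exteriorPower.ιMulti A r (fun j => Φ (Function.update v i x j)) := by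
  rw [comp_update_semi, comp_update_semi, LinearMap.map_smulₛₗ]
  exact AlternatingMap.map_update_smul _ _ _ _ _

/-- The alternating map `v ↦ Φ v₁ ∧ ⋯ ∧ Φ v_r` into the twisted exterior power. -/
noncomputable def semiAlt (Φ : M →ₛₗ[σ] M') : M [⋀^Fin r]→ₗ[A] Tw σ (⋀[A]^r M') :=
  { toFun := fun v => (exteriorPower.ιMulti A r (fun i => Φ (v i)) : ⋀[A]^r M')
    map_update_add' := fun v i x y => semiAlt_add σ r Φ v i x y
    map_update_smul' := fun v i c x => semiAlt_smul σ r Φ v i c x
    map_eq_zero_of_eq' := fun v i j hij hne =>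
      AlternatingMap.map_eq_zero_of_eq (exteriorPower.ιMulti A r) (fun i => Φ (v i))
        (congrArg Φ hij) hne }

theorem semiAlt_apply (Φ : M →ₛₗ[σ] M') (v : Fin r → M) :
    semiAlt σ r Φ v = (exteriorPower.ιMulti A r (fun i => Φ (v i)) : ⋀[A]^r M') := rfl

/-- The exterior power of a semilinear map. -/
noncomputable def semiExt (Φ : M →ₛₗ[σ] M') : ⋀[A]^r M →ₛₗ[σ] ⋀[A]^r M' :=
  { toFun := fun y => (exteriorPower.alternatingMapLinearEquiv (semiAlt σ r Φ) y : Tw σ (⋀[A]^r M'))
    map_add' := fun x y => map_add (exteriorPower.alternatingMapLinearEquiv (semiAlt σ r Φ)) x y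
    map_smul' := fun c y =>
      map_smul (exteriorPower.alternatingMapLinearEquiv (semiAlt σ r Φ)) c y }

theorem semiExt_ιMulti (Φ : M →ₛₗ[σ] M') (v : Fin r → M) :
    semiExt σ r Φ (exteriorPower.ιMulti A r v) = exteriorPower.ιMulti A r (fun i => Φ (v i)) :=
  exteriorPower.alternatingMapLinearEquiv_apply_ιMulti (semiAlt σ r Φ) v

theorem semiExt_ext {N : Type*} [AddCommGroup N] [Module A N]
    (f g : ⋀[A]^r M →ₛₗ[σ] N)
    (h : ∀ v : Fin r → M, f (exteriorPower.ιMulti A r v) = g (exteriorPower.ιMulti A r v)) :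
    f = g := by
  apply LinearMap.ext_on (exteriorPower.ιMulti_span A r M)
  rintro _ ⟨v, rfl⟩
  exact h v

end Tw

end Helper16.DispX
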