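import Groth.Agent.Lib.Helper16.DispX5

set_option autoImplicit false
universe u v

open Module Helper16.Disp

namespace Helper16.DispX

section Mk

variable {p : ℕ} [Fact p.Prime] {R : Type u} [CommRing R]
variable {N : Type v} [AddCommGroup N] [Module (WittVector p R) N]

local notation "σR" => (WittVector.frobenius : WittVector p R →+* WittVector p R)

variable (e : N →ₗ[WittVector p R] N) (he : IsIdempotentElem e)
  (Ψ : N →ₛₗ[(WittVector.frobenius : WittVector p R →+* WittVector p R)] N)

/-- `Q = range e ⊔ I • ker e`. -/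
noncomputable def Qe : Submodule (WittVector p R) N :=
  LinearMap.range e ⊔ W4c1extbt610.IV p R • LinearMap.ker e

include he in
theorem e_e (x : N) : e (e x) = e x := LinearMap.congr_fun he x

include he in
theorem e_sub (x : N) : e (x - e x) = 0 := by
  rw [map_sub, e_e e he, sub_self]

include he in
theorem mem_Qe_iff (x : N) :
    x ∈ Qe e ↔ x - e x ∈ W4c1extbt610.IV p R • (⊤ : Submodule (WittVector p R) N) := by
  constructor
  · rw [Qe, Submodule.mem_sup]
    rintro ⟨l, ⟨l', rfl⟩, y, hy, rfl⟩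
    have hy0 : e y = 0 := Submodule.smul_le_right hy
    rw [map_add, e_e e he, hy0, add_zero, add_sub_cancel_left]
    exact Submodule.smul_mono le_rfl le_top hy
  · intro h
    have hx : x = e x + (x - e x) := by abel
    rw [hx]
    refine add_mem (Submodule.mem_sup_left ⟨x, rfl⟩) (Submodule.mem_sup_right ?_)
    have hz : x - e x = ((LinearMap.id : N →ₗ[WittVector p R] N) - e) (x - e x) := by
      rw [LinearMap.sub_apply, LinearMap.id_apply, e_sub e he, sub_zero]
    rw [hz]
    have h2 := Submodule.mem_map_of_mem (f := LinearMap.id - e) h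
    rw [Submodule.map_smul''] at h2
    refine Submodule.smul_mono le_rfl ?_ h2
    rintro _ ⟨n, _, rfl⟩
    show e (((LinearMap.id : N →ₗ[WittVector p R] N) - e) n) = 0
    rw [LinearMap.sub_apply, LinearMap.id_apply, e_sub e he]

theorem range_le_Qe : LinearMap.range e ≤ Qe e := le_sup_left

include he in
theorem IV_smul_le_Qe :
    W4c1extbt610.IV p R • (⊤ : Submodule (WittVector p R) N) ≤ Qe e := by
  intro x hx
  rw [mem_Qe_iff e he]
  refine sub_mem hx ?_
  have h2 := Submodule.mem_map_of_mem (f := e) hx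
  rw [Submodule.map_smul''] at h2
  exact Submodule.smul_mono le_rfl le_top h2

variable [Module.Projective (WittVector p R) N]

/-- the bi-semilinear map `(i, z) ↦ V⁻¹ i • Ψ z`. -/
noncomputable def bilΨ : W4c1extbt610.IV p R →ₛₗ[σR] N →ₛₗ[σR] N :=
  LinearMap.mk₂'ₛₗ σR σR (fun i z => vinvI i • Ψ z)
    (fun i₁ i₂ z => by rw [map_add, add_smul])
    (fun c i z => by rw [LinearMap.map_smulₛₗ, smul_eq_mul, mul_smul])
    (fun i z₁ z₂ => by rw [map_add, smul_add])
    (fun c i z => by rw [LinearMap.map_smulₛₗ, smul_comm])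

theorem bilΨ_apply (i : W4c1extbt610.IV p R) (z : N) : bilΨ Ψ i z = vinvI i • Ψ z := rfl

/-- `Ψ / V` on `I • N`. -/
noncomputable def VdivΨ :
    (W4c1extbt610.IV p R • (⊤ : Submodule (WittVector p R) N) :
      Submodule (WittVector p R) N) →ₛₗ[σR] N :=
  haveI : Module.Flat (WittVector p R) N := Module.Flat.of_projective
  vdiv (W4c1extbt610.IV p R) σR (bilΨ Ψ)

theorem VdivΨ_smul (w : WittVector p R) (z : N)
    (h : WittVector.verschiebung w • z ∈
      W4c1extbt610.IV p R • (⊤ : Submodule (WittVector p R) N)) :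
    VdivΨ Ψ ⟨WittVector.verschiebung w • z, h⟩ = w • Ψ z := by
  haveI : Module.Flat (WittVector p R) N := Module.Flat.of_projective
  have := vdiv_smul (W4c1extbt610.IV p R) σR (bilΨ Ψ)
    ⟨WittVector.verschiebung w, W4c1extbt610.verschiebung_mem_IV p R w⟩ z h
  rw [bilΨ_apply, vinvI_verschiebung] at this
  exact this

/-- `Q → I • N`, `x ↦ x - e x`. -/
noncomputable def tPartE : Qe e →ₗ[WittVector p R]
    (W4c1extbt610.IV p R • (⊤ : Submodule (WittVector p R) N) :
      Submodule (WittVector p R) N) :=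
  LinearMap.codRestrict _ (((LinearMap.id : N →ₗ[WittVector p R] N) - e).comp (Qe e).subtype)
    (fun z => (mem_Qe_iff e he z.1).mp z.2)

/-- `V⁻¹`. -/
noncomputable def VinvE : Qe e →ₛₗ[σR] N :=
  (Ψ.comp e).comp (Qe e).subtype + (VdivΨ Ψ).comp (tPartE e he)

theorem VinvE_apply (x : N) (hx : x ∈ Qe e) :
    VinvE e he Ψ ⟨x, hx⟩ = Ψ (e x) + VdivΨ Ψ ⟨x - e x, (mem_Qe_iff e he x).mp hx⟩ := rfl

/-- `F`. -/
noncomputable def FE : N →ₛₗ[σR] N :=
  Ψ.comp ((p : WittVector p R) • e + ((LinearMap.id : N →ₗ[WittVector p R] N) - e))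

theorem FE_apply (x : N) : FE e Ψ x = (p : WittVector p R) • Ψ (e x) + Ψ (x - e x) := by
  rw [FE, LinearMap.comp_apply, LinearMap.add_apply, LinearMap.smul_apply, LinearMap.sub_apply,
    LinearMap.id_apply, map_add, LinearMap.map_smulₛₗ, map_natCast]

theorem VinvE_of_mem_range (x : N) (hx : x ∈ LinearMap.range e) :
    VinvE e he Ψ ⟨x, range_le_Qe e hx⟩ = Ψ x := by
  obtain ⟨y, rfl⟩ := hx
  rw [VinvE_apply]
  have h0 : (⟨e y - e (e y), (mem_Qe_iff e he (e y)).mp (range_le_Qe e ⟨y, rfl⟩)⟩ :
      (W4c1extbt610.IV p R • (⊤ : Submodule (WittVector p R) N) :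
        Submodule (WittVector p R) N)) = 0 := by
    apply Subtype.ext
    show e y - e (e y) = 0
    rw [e_e e he, sub_self]
  rw [h0, map_zero, add_zero, e_e e he]

theorem VinvE_verschiebung_smul (w : WittVector p R) (x : N) :
    VinvE e he Ψ ⟨WittVector.verschiebung w • x,
      IV_smul_le_Qe e he (Submodule.smul_mem_smul (W4c1extbt610.verschiebung_mem_IV p R w)
        Submodule.mem_top)⟩ = w • FE e Ψ x := by
  rw [VinvE_apply, FE_apply]
  have h1 : (⟨WittVector.verschiebung w • x - e (WittVector.verschiebung w • x),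
      (mem_Qe_iff e he _).mp (IV_smul_le_Qe e he (Submodule.smul_mem_smul
        (W4c1extbt610.verschiebung_mem_IV p R w) Submodule.mem_top))⟩ :
      (W4c1extbt610.IV p R • (⊤ : Submodule (WittVector p R) N) :
        Submodule (WittVector p R) N)) =
      ⟨WittVector.verschiebung w • (x - e x), Submodule.smul_mem_smul
        (W4c1extbt610.verschiebung_mem_IV p R w) Submodule.mem_top⟩ := by
    apply Subtype.ext
    show WittVector.verschiebung w • x - e (WittVector.verschiebung w • x) =
      WittVector.verschiebung w • (x - e x)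
    rw [map_smul, smul_sub]
  rw [h1, VdivΨ_smul, map_smul, LinearMap.map_smulₛₗ, WittVector.frobenius_verschiebung,
    smul_add, smul_smul]

theorem FE_of_mem_ker (z : N) (hz : e z = 0) : FE e Ψ z = Ψ z := by
  rw [FE_apply, hz, map_zero, smul_zero, zero_add, sub_zero]

theorem span_range_VinvE (hΨ : Submodule.span (WittVector p R) (Set.range Ψ) = ⊤) :
    Submodule.span (WittVector p R) (Set.range (VinvE e he Ψ)) = ⊤ := by
  rw [eq_top_iff, ← hΨ, Submodule.span_le]
  rintro _ ⟨x, rfl⟩
  have hx : x = e x + (x - e x) := by abel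
  rw [hx, map_add]
  refine add_mem (Submodule.subset_span ⟨⟨e x, range_le_Qe e ⟨x, rfl⟩⟩, ?_⟩)
    (Submodule.subset_span ⟨⟨WittVector.verschiebung (1 : WittVector p R) • (x - e x),
      IV_smul_le_Qe e he (Submodule.smul_mem_smul (W4c1extbt610.verschiebung_mem_IV p R 1)
        Submodule.mem_top)⟩, ?_⟩)
  · exact VinvE_of_mem_range e he Ψ (e x) ⟨x, rfl⟩
  · rw [VinvE_verschiebung_smul, one_smul, FE_of_mem_ker e Ψ _ (e_sub e he x)]

variable [Module.Finite (WittVector p R) N]

/-- The 3n-display on `N` with normal decomposition `range e ⊕ ker e` and `Ψ`. -/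
noncomputable def mkDisplay (hΨ : Submodule.span (WittVector p R) (Set.range Ψ) = ⊤) :
    W4c1extbt610.Display3n p R N :=
  { Q := Qe e
    F := FE e Ψ
    Vinv := VinvE e he Ψ
    finite := inferInstance
    projective := inferInstance
    IV_smul_le := IV_smul_le_Qe e he
    exists_normal := ⟨LinearMap.range e, LinearMap.ker e, LinearMap.IsIdempotentElem.isCompl he, rfl⟩
    span_range_Vinv := span_range_VinvE e he Ψ hΨ
    Vinv_verschiebung_smul := VinvE_verschiebung_smul e he Ψ }

end Mk

end Helper16.DispX
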