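import Groth.Agent.Lib.Helper16.DispX6

set_option autoImplicit false
universe u v

open Module

namespace Helper16.DispX

section WedgeLemmas

variable {A : Type*} [CommRing A] {M : Type*} [AddCommGroup M] [Module A M] {r : ℕ}

theorem ιMulti_eq_smul_update (v : Fin r → M) (j : Fin r) (c : A) (x : M) (h : v j = c • x) :
    exteriorPower.ιMulti A r v = c • exteriorPower.ιMulti A r (Function.update v j x) := by
  rw [← AlternatingMap.map_update_smul, ← h, Function.update_eq_self]

theorem ιMulti_eq_zero_of_two (v : Fin r → M) (j j' : Fin r) (hne : j ≠ j') (c c' : A) (x : M)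
    (hj : v j = c • x) (hj' : v j' = c' • x) : exteriorPower.ιMulti A r v = 0 := by
  rw [ιMulti_eq_smul_update v j c x hj,
    ιMulti_eq_smul_update (Function.update v j x) j' c' x
      (by rw [Function.update_of_ne hne.symm]; exact hj')]
  have h0 : exteriorPower.ιMulti A r (Function.update (Function.update v j x) j' x) = 0 := by
    apply AlternatingMap.map_eq_zero_of_eq _ _ (i := j) (j := j') _ hne
    rw [Function.update_self, Function.update_of_ne hne, Function.update_self]
  rw [h0, smul_zero, smul_zero]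

theorem trichotomy (PL PT : Fin r → Prop) (h : ∀ i, PL i ∨ PT i) :
    (∀ i, PL i) ∨ (∃ j, PT j ∧ ∀ i, i ≠ j → PL i) ∨ (∃ j j', j ≠ j' ∧ PT j ∧ PT j') := by
  by_cases hA : ∀ i, PL i
  · exact Or.inl hA
  · push_neg at hA
    obtain ⟨j, hj⟩ := hA
    have hTj : PT j := (h j).resolve_left hj
    by_cases hB : ∀ i, i ≠ j → PL i
    · exact Or.inr (Or.inl ⟨j, hTj, hB⟩)
    · push_neg at hB
      obtain ⟨j', hne, hj'⟩ := hB
      exact Or.inr (Or.inr ⟨j, j', hne.symm, hTj, (h j').resolve_left hj'⟩)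

theorem wedgeSpan_eq_map (Q : Submodule A M) :
    wedgeSpan r Q = Submodule.map (exteriorPower.map r Q.subtype) ⊤ := by
  rw [← exteriorPower.ιMulti_span, Submodule.map_span, wedgeSpan]
  congr 1
  ext x
  constructor
  · rintro ⟨q, rfl⟩
    exact ⟨exteriorPower.ιMulti A r q, ⟨q, rfl⟩, by rw [exteriorPower.map_apply_ιMulti]; rfl⟩
  · rintro ⟨_, ⟨q, rfl⟩, rfl⟩
    exact ⟨q, by rw [exteriorPower.map_apply_ιMulti]; rfl⟩

theorem wedgeSpan_le_of_gen (Q : Submodule A M) (G : Set Q) (hG : Submodule.span A G = ⊤)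
    (N' : Submodule A (⋀[A]^r M))
    (h : ∀ g : Fin r → Q, (∀ i, g i ∈ G) → exteriorPower.ιMulti A r (fun i => (g i : M)) ∈ N') :
    wedgeSpan r Q ≤ N' := by
  rw [wedgeSpan_eq_map, ← exteriorPower.ιMulti_span_of_span A r Q hG, Submodule.map_span,
    Submodule.span_le]
  rintro _ ⟨_, ⟨g, hg, rfl⟩, rfl⟩
  rw [exteriorPower.map_apply_ιMulti]
  exact h g (fun i => hg ⟨i, rfl⟩)

theorem top_le_of_gen (G : Set M) (hG : Submodule.span A G = ⊤)
    (N' : Submodule A (⋀[A]^r M))
    (h : ∀ v : Fin r → M, (∀ i, v i ∈ G) → exteriorPower.ιMulti A r v ∈ N') :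
    ⊤ ≤ N' := by
  rw [← exteriorPower.ιMulti_span_of_span A r M hG, Submodule.span_le]
  rintro _ ⟨v, hv, rfl⟩
  exact h v (fun i => hv ⟨i, rfl⟩)

theorem semilinear_ext_of_gen {σ : A →+* A} {N : Type*} [AddCommGroup N] [Module A N]
    (G : Set M) (hG : Submodule.span A G = ⊤) (f g : ⋀[A]^r M →ₛₗ[σ] N)
    (h : ∀ v : Fin r → M, (∀ i, v i ∈ G) →
      f (exteriorPower.ιMulti A r v) = g (exteriorPower.ιMulti A r v)) :
    f = g := by
  apply LinearMap.ext_on (exteriorPower.ιMulti_span_of_span A r M hG)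
  rintro _ ⟨v, hv, rfl⟩
  exact h v (fun i => hv ⟨i, rfl⟩)

theorem projective_extPow [Module.Projective A M] (r : ℕ) : Module.Projective A (⋀[A]^r M) := by
  obtain ⟨s, hs⟩ := (Module.projective_def' (R := A) (P := M)).mp inferInstance
  refine Module.Projective.of_split (exteriorPower.map r s)
    (exteriorPower.map r (Finsupp.linearCombination A id)) ?_
  rw [← exteriorPower.map_comp, hs, exteriorPower.map_id]

theorem isIdempotentElem_map (f : M →ₗ[A] M) (hf : IsIdempotentElem f) (r : ℕ) :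
    IsIdempotentElem (exteriorPower.map r f) := by
  show exteriorPower.map r f * exteriorPower.map r f = exteriorPower.map r f
  rw [Module.End.mul_eq_comp, ← exteriorPower.map_comp, ← Module.End.mul_eq_comp, hf.eq]

end WedgeLemmas

end Helper16.DispX
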