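import Groth.Agent.Lib.Helper16.DispX7

set_option autoImplicit false
universe u v

open Module Helper16.Disp

namespace Helper16.DispX

attribute [local instance] projective_extPow

section Ext

variable {p : ℕ} [Fact p.Prime] {R : Type u} [CommRing R]
variable {P : Type v} [AddCommGroup P] [Module (WittVector p R) P]

local notation "σR" => (WittVector.frobenius : WittVector p R →+* WittVector p R)

variable (D : W4c1extbt610.Display3n p R P) {L T : Submodule (WittVector p R) P}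
  (hLT : IsCompl L T) (hQ : D.Q = L ⊔ W4c1extbt610.IV p R • T)
  (t₀ : P) (ht₀ : t₀ ∈ T) (hT : ∀ t ∈ T, ∃ c : WittVector p R, t = c • t₀)

include hQ in
theorem L_le_Q : L ≤ D.Q := by rw [hQ]; exact le_sup_left

include hQ in
theorem IT_le_Q : W4c1extbt610.IV p R • T ≤ D.Q := by rw [hQ]; exact le_sup_right

include hT in
theorem mem_IT (y : P) (hy : y ∈ W4c1extbt610.IV p R • T) :
    ∃ c ∈ W4c1extbt610.IV p R, y = c • t₀ := by
  refine Submodule.smul_induction_on hy ?_ ?_
  · intro c hc t ht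
    obtain ⟨a, rfl⟩ := hT t ht
    exact ⟨c * a, Ideal.mul_mem_right _ _ hc, (mul_smul _ _ _).symm⟩
  · rintro x y ⟨c, hc, rfl⟩ ⟨c', hc', rfl⟩
    exact ⟨c + c', add_mem hc hc', (add_smul _ _ _).symm⟩

include hQ hT in
theorem mem_Q_decomp (q : P) (hq : q ∈ D.Q) :
    ∃ l ∈ L, ∃ c ∈ W4c1extbt610.IV p R, q = l + c • t₀ := by
  rw [hQ, Submodule.mem_sup] at hq
  obtain ⟨l, hl, y, hy, rfl⟩ := hq
  obtain ⟨c, hc, rfl⟩ := mem_IT t₀ hT y hy
  exact ⟨l, hl, c, hc, rfl⟩

theorem Vinv_congr {x y : P} (hx : x ∈ D.Q) (hy : y ∈ D.Q) (h : x = y) :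
    D.Vinv ⟨x, hx⟩ = D.Vinv ⟨y, hy⟩ := by
  subst h; rfl

theorem Vinv_of_eq_smul (q : D.Q) (w : WittVector p R) (x : P)
    (h : (q : P) = WittVector.verschiebung w • x) : D.Vinv q = w • D.F x := by
  rw [← D.Vinv_verschiebung_smul w x]
  congr 1
  exact Subtype.ext h

/-- `Φ = V⁻¹ ∘ pr_L + F ∘ pr_T`. -/
noncomputable def PhiX : P →ₛₗ[σR] P :=
  lPart D hLT (L_le_Q D hQ) + D.F.comp (T.projection L hLT.symm)

theorem PhiX_of_mem_L (l : P) (hl : l ∈ L) :
    PhiX D hLT hQ l = D.Vinv ⟨l, L_le_Q D hQ hl⟩ := by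
  rw [PhiX, LinearMap.add_apply, lPart_apply, LinearMap.comp_apply,
    Submodule.projection_apply_of_mem_right hLT.symm hl, map_zero, add_zero]
  apply Vinv_congr
  rw [Submodule.coe_projectionOnto_apply, Submodule.projection_apply_of_mem_left hLT hl]

theorem PhiX_of_mem_T (t : P) (ht : t ∈ T) : PhiX D hLT hQ t = D.F t := by
  rw [PhiX, LinearMap.add_apply, lPart_apply, LinearMap.comp_apply,
    Submodule.projection_apply_of_mem_left hLT.symm ht]
  have h0 : D.Vinv ⟨(L.projectionOnto T hLT t : P),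
      L_le_Q D hQ (L.projectionOnto T hLT t).2⟩ = 0 := by
    rw [Vinv_congr D _ (D.Q.zero_mem) (by
      rw [Submodule.coe_projectionOnto_apply, Submodule.projection_apply_of_mem_right hLT ht])]
    exact map_zero D.Vinv
  rw [h0, zero_add]

include ht₀ hT in
theorem span_range_PhiX :
    Submodule.span (WittVector p R) (Set.range (PhiX D hLT hQ)) = ⊤ := by
  rw [eq_top_iff, ← D.span_range_Vinv, Submodule.span_le]
  rintro _ ⟨q, rfl⟩
  obtain ⟨l, hl, c, hc, hq⟩ := mem_Q_decomp D hQ t₀ hT q.1 q.2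
  obtain ⟨w, rfl⟩ := exists_verschiebung_of_mem_IV c hc
  have h1 : D.Vinv q = PhiX D hLT hQ l + w • PhiX D hLT hQ t₀ := by
    rw [PhiX_of_mem_L D hLT hQ l hl, PhiX_of_mem_T D hLT hQ t₀ ht₀,
      ← D.Vinv_verschiebung_smul w t₀, ← map_add]
    congr 1
    exact Subtype.ext hq
  rw [SetLike.mem_coe, h1]
  exact add_mem (Submodule.subset_span ⟨l, rfl⟩)
    (Submodule.smul_mem _ _ (Submodule.subset_span ⟨t₀, rfl⟩))

variable (r : ℕ)

/-- `e₁ = ⋀^r pr_L`. -/
noncomputable def eX : ⋀[WittVector p R]^r P →ₗ[WittVector p R] ⋀[WittVector p R]^r P :=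
  exteriorPower.map r (L.projection T hLT)

theorem eX_idem : IsIdempotentElem (eX hLT r) :=
  isIdempotentElem_map _ (Submodule.isIdempotentElem_projection hLT) r

theorem eX_ιMulti (v : Fin r → P) :
    eX hLT r (exteriorPower.ιMulti (WittVector p R) r v) =
      exteriorPower.ιMulti (WittVector p R) r (fun i => L.projection T hLT (v i)) := by
  rw [eX, exteriorPower.map_apply_ιMulti]
  rfl

/-- `Ψ = ⋀^r Φ`. -/
noncomputable def PsiX : ⋀[WittVector p R]^r P →ₛₗ[σR] ⋀[WittVector p R]^r P :=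
  semiExt σR r (PhiX D hLT hQ)

theorem PsiX_ιMulti (v : Fin r → P) :
    PsiX D hLT hQ r (exteriorPower.ιMulti (WittVector p R) r v) =
      exteriorPower.ιMulti (WittVector p R) r (fun i => PhiX D hLT hQ (v i)) :=
  semiExt_ιMulti _ _ _ _

include ht₀ hT in
theorem span_range_PsiX :
    Submodule.span (WittVector p R) (Set.range (PsiX D hLT hQ r)) = ⊤ := by
  rw [eq_top_iff]
  apply top_le_of_gen (Set.range (PhiX D hLT hQ)) (span_range_PhiX D hLT hQ t₀ ht₀ hT)
  intro v hv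
  choose x hx using hv
  apply Submodule.subset_span
  refine ⟨exteriorPower.ιMulti (WittVector p R) r x, ?_⟩
  rw [PsiX_ιMulti]
  congr 1
  funext i
  exact hx i

include hLT hT in
theorem span_Gset :
    Submodule.span (WittVector p R) {x : P | x ∈ L ∨ x = t₀} = ⊤ := by
  rw [eq_top_iff, ← hLT.sup_eq_top]
  apply sup_le
  · intro l hl
    exact Submodule.subset_span (Or.inl hl)
  · intro t ht
    obtain ⟨c, rfl⟩ := hT t ht
    exact Submodule.smul_mem _ _ (Submodule.subset_span (Or.inr rfl))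

/-- generators of `Q`. -/
def GQ (L : Submodule (WittVector p R) P) (t₀ : P) : Set D.Q :=
  {q | (q : P) ∈ L ∨ ∃ c ∈ W4c1extbt610.IV p R, (q : P) = c • t₀}

include hQ ht₀ hT in
theorem span_GQ : Submodule.span (WittVector p R) (GQ D L t₀) = ⊤ := by
  rw [eq_top_iff]
  rintro q -
  obtain ⟨l, hl, c, hc, hq⟩ := mem_Q_decomp D hQ t₀ hT q.1 q.2
  have hct : c • t₀ ∈ D.Q := IT_le_Q D hQ (Submodule.smul_mem_smul hc ht₀)
  have : q = ⟨l, L_le_Q D hQ hl⟩ + ⟨c • t₀, hct⟩ := Subtype.ext hq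
  rw [this]
  exact add_mem (Submodule.subset_span (Or.inl hl))
    (Submodule.subset_span (Or.inr ⟨c, hc, rfl⟩))

include hQ ht₀ hT in
theorem wedgeSpan_le_Qe : wedgeSpan r D.Q ≤ Qe (eX hLT r) := by
  apply wedgeSpan_le_of_gen D.Q (GQ D L t₀) (span_GQ D hQ t₀ ht₀ hT)
  intro g hg
  rcases trichotomy (fun i => (g i : P) ∈ L)
    (fun i => ∃ c ∈ W4c1extbt610.IV p R, (g i : P) = c • t₀) hg with
    hA | ⟨j, ⟨c, hc, hj⟩, hB⟩ | ⟨j, j', hne, ⟨c, hc, hj⟩, ⟨c', hc', hj'⟩⟩
  · apply range_le_Qe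
    refine ⟨exteriorPower.ιMulti (WittVector p R) r (fun i => (g i : P)), ?_⟩
    rw [eX_ιMulti]
    congr 1
    funext i
    exact Submodule.projection_apply_of_mem_left hLT (hA i)
  · rw [ιMulti_eq_smul_update _ j c t₀ hj]
    apply Submodule.mem_sup_right
    apply Submodule.smul_mem_smul hc
    rw [LinearMap.mem_ker, eX_ιMulti]
    apply AlternatingMap.map_coord_zero (i := j)
    rw [Function.update_self]
    exact Submodule.projection_apply_of_mem_right hLT ht₀
  · rw [ιMulti_eq_zero_of_two _ j j' hne c c' t₀ hj hj']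
    exact zero_mem _

include hLT hQ ht₀ hT in
theorem IV_top_le_wedgeSpan :
    W4c1extbt610.IV p R • (⊤ : Submodule (WittVector p R) (⋀[WittVector p R]^r P)) ≤
      wedgeSpan r D.Q := by
  rw [Submodule.smul_le]
  intro c hc y _
  have h : ⊤ ≤ Submodule.comap
      (LinearMap.lsmul (WittVector p R) (⋀[WittVector p R]^r P) c) (wedgeSpan r D.Q) := by
    apply top_le_of_gen {x : P | x ∈ L ∨ x = t₀} (span_Gset hLT t₀ hT)
    intro v hv
    rw [Submodule.mem_comap, LinearMap.lsmul_apply]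
    rcases trichotomy (fun i => v i ∈ L) (fun i => v i = t₀) hv with
      hA | ⟨j, hj, hB⟩ | ⟨j, j', hne, hj, hj'⟩
    · exact Submodule.smul_mem _ _ (ιMulti_mem_wedgeSpan _ _ _ (fun i => L_le_Q D hQ (hA i)))
    · have h1 : c • exteriorPower.ιMulti (WittVector p R) r v =
          exteriorPower.ιMulti (WittVector p R) r (Function.update v j (c • t₀)) := by
        rw [AlternatingMap.map_update_smul, ← hj, Function.update_eq_self]
      rw [h1]
      apply ιMulti_mem_wedgeSpan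
      intro i
      by_cases hi : i = j
      · subst hi
        rw [Function.update_self]
        exact IT_le_Q D hQ (Submodule.smul_mem_smul hc ht₀)
      · rw [Function.update_of_ne hi]
        exact L_le_Q D hQ (hB i hi)
    · rw [AlternatingMap.map_eq_zero_of_eq _ v (hj.trans hj'.symm) hne, smul_zero]
      exact zero_mem _
  exact h Submodule.mem_top

include hQ ht₀ hT in
theorem Qe_le_wedgeSpan : Qe (eX hLT r) ≤ wedgeSpan r D.Q := by
  apply sup_le
  · rw [LinearMap.range_eq_map, ← exteriorPower.ιMulti_span, Submodule.map_span,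
      Submodule.span_le]
    rintro _ ⟨_, ⟨v, rfl⟩, rfl⟩
    rw [SetLike.mem_coe, eX_ιMulti]
    exact ιMulti_mem_wedgeSpan _ _ _
      (fun i => L_le_Q D hQ (Submodule.projection_apply_mem hLT (v i)))
  · exact le_trans (Submodule.smul_mono le_rfl le_top) (IV_top_le_wedgeSpan D hLT hQ t₀ ht₀ hT r)

include hQ ht₀ hT in
theorem Qe_eq_wedgeSpan : Qe (eX hLT r) = wedgeSpan r D.Q :=
  le_antisymm (Qe_le_wedgeSpan D hLT hQ t₀ ht₀ hT r) (wedgeSpan_le_Qe D hLT hQ t₀ ht₀ hT r)

end Ext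

end Helper16.DispX
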