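import Groth.Agent.Lib.Helper16.DispX8

set_option autoImplicit false
universe u v

open Module Helper16.Disp

namespace Helper16.DispX

attribute [local instance] projective_extPow

section Ext

variable {p : ℕ} [Fact p.Prime] {R : Type u} [CommRing R]
variable {P : Type v} [AddCommGroup P] [Module (WittVector p R) P]
  [Module.Projective (WittVector p R) P]

local notation "σR" => (WittVector.frobenius : WittVector p R →+* WittVector p R)

variable (D : W4c1extbt610.Display3n p R P) {L T : Submodule (WittVector p R) P}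
  (hLT : IsCompl L T) (hQ : D.Q = L ⊔ W4c1extbt610.IV p R • T)
  (t₀ : P) (ht₀ : t₀ ∈ T) (hT : ∀ t ∈ T, ∃ c : WittVector p R, t = c • t₀)
  (r : ℕ)

theorem VinvE_congr {N : Type*} [AddCommGroup N] [Module (WittVector p R) N]
    [Module.Projective (WittVector p R) N]
    (e : N →ₗ[WittVector p R] N) (he : IsIdempotentElem e)
    (Ψ : N →ₛₗ[(WittVector.frobenius : WittVector p R →+* WittVector p R)] N)
    {x y : N} (hx : x ∈ Qe e) (hy : y ∈ Qe e) (h : x = y) :
    VinvE e he Ψ ⟨x, hx⟩ = VinvE e he Ψ ⟨y, hy⟩ := by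
  subst h; rfl

/-- The Vinv of the exterior power display. -/
noncomputable def VX : Qe (eX hLT r) →ₛₗ[σR] ⋀[WittVector p R]^r P :=
  VinvE (eX hLT r) (eX_idem hLT r) (PsiX D hLT hQ r)

include hQ ht₀ hT in
theorem map_subtype_mem_Qe (y : ⋀[WittVector p R]^r D.Q) :
    exteriorPower.map r D.Q.subtype y ∈ Qe (eX hLT r) := by
  apply wedgeSpan_le_Qe D hLT hQ t₀ ht₀ hT r
  rw [wedgeSpan_eq_map]
  exact ⟨y, Submodule.mem_top, rfl⟩

/-- `A₁ = V⁻¹_E ∘ ⋀^r(Q ↪ P)`. -/
noncomputable def A1 : ⋀[WittVector p R]^r D.Q →ₛₗ[σR] ⋀[WittVector p R]^r P :=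
  (VX D hLT hQ r).comp
    (LinearMap.codRestrict (Qe (eX hLT r)) (exteriorPower.map r D.Q.subtype)
      (map_subtype_mem_Qe D hLT hQ t₀ ht₀ hT r))

theorem A1_ιMulti (g : Fin r → D.Q)
    (hg : exteriorPower.ιMulti (WittVector p R) r (fun i => (g i : P)) ∈ Qe (eX hLT r)) :
    A1 D hLT hQ t₀ ht₀ hT r (exteriorPower.ιMulti (WittVector p R) r g) =
      VX D hLT hQ r ⟨exteriorPower.ιMulti (WittVector p R) r (fun i => (g i : P)), hg⟩ := by
  rw [A1, LinearMap.comp_apply]
  apply VinvE_congr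
  show exteriorPower.map r D.Q.subtype (exteriorPower.ιMulti (WittVector p R) r g) = _
  rw [exteriorPower.map_apply_ιMulti]
  rfl

theorem A1_eq : A1 D hLT hQ t₀ ht₀ hT r = semiExt σR r D.Vinv := by
  apply semilinear_ext_of_gen (GQ D L t₀) (span_GQ D hQ t₀ ht₀ hT)
  intro g hg
  have hmem : exteriorPower.ιMulti (WittVector p R) r (fun i => (g i : P)) ∈ Qe (eX hLT r) := by
    have := map_subtype_mem_Qe D hLT hQ t₀ ht₀ hT r (exteriorPower.ιMulti (WittVector p R) r g)
    rw [exteriorPower.map_apply_ιMulti] at this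
    exact this
  rw [A1_ιMulti D hLT hQ t₀ ht₀ hT r g hmem, semiExt_ιMulti]
  rcases trichotomy (fun i => (g i : P) ∈ L)
    (fun i => ∃ c ∈ W4c1extbt610.IV p R, (g i : P) = c • t₀) hg with
    hA | ⟨j, ⟨c, hc, hj⟩, hB⟩ | ⟨j, j', hne, ⟨c, hc, hj⟩, ⟨c', hc', hj'⟩⟩
  · -- all in `L`
    have hrange : exteriorPower.ιMulti (WittVector p R) r (fun i => (g i : P)) ∈
        LinearMap.range (eX hLT r) := by
      refine ⟨exteriorPower.ιMulti (WittVector p R) r (fun i => (g i : P)), ?_⟩
      rw [eX_ιMulti]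
      congr 1
      funext i
      exact Submodule.projection_apply_of_mem_left hLT (hA i)
    rw [VX]
    refine (VinvE_of_mem_range (eX hLT r) (eX_idem hLT r) (PsiX D hLT hQ r) _ hrange).trans ?_
    rw [PsiX_ιMulti]
    congr 1
    funext i
    exact PhiX_of_mem_L D hLT hQ _ (hA i)
  · -- exactly one slot in `I t₀`
    obtain ⟨w, rfl⟩ := exists_verschiebung_of_mem_IV c hc
    have hz : eX hLT r (exteriorPower.ιMulti (WittVector p R) r
        (Function.update (fun i => (g i : P)) j t₀)) = 0 := by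
      rw [eX_ιMulti]
      apply AlternatingMap.map_coord_zero (i := j)
      rw [Function.update_self]
      exact Submodule.projection_apply_of_mem_right hLT ht₀
    have h1 := ιMulti_eq_smul_update (fun i => (g i : P)) j (WittVector.verschiebung w) t₀ hj
    rw [VX]
    refine (VinvE_congr (eX hLT r) (eX_idem hLT r) (PsiX D hLT hQ r) hmem
      (IV_smul_le_Qe (eX hLT r) (eX_idem hLT r) (Submodule.smul_mem_smul
        (W4c1extbt610.verschiebung_mem_IV p R w) Submodule.mem_top)) h1).trans ?_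
    rw [VinvE_verschiebung_smul, FE_of_mem_ker _ _ _ hz, PsiX_ιMulti,
      ιMulti_eq_smul_update (fun i => D.Vinv (g i)) j w (D.F t₀)
        (Vinv_of_eq_smul D (g j) w t₀ hj)]
    congr 2
    funext i
    by_cases hi : i = j
    · subst hi
      rw [Function.update_self, Function.update_self]
      exact PhiX_of_mem_T D hLT hQ t₀ ht₀
    · rw [Function.update_of_ne hi, Function.update_of_ne hi]
      exact PhiX_of_mem_L D hLT hQ _ (hB i hi)
  · -- two slots in `I t₀`
    obtain ⟨w, rfl⟩ := exists_verschiebung_of_mem_IV c hc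
    obtain ⟨w', rfl⟩ := exists_verschiebung_of_mem_IV c' hc'
    have h0 := ιMulti_eq_zero_of_two (fun i => (g i : P)) j j' hne _ _ t₀ hj hj'
    rw [VX]
    refine (VinvE_congr (eX hLT r) (eX_idem hLT r) (PsiX D hLT hQ r) hmem
      (zero_mem _) h0).trans ?_
    rw [ιMulti_eq_zero_of_two (fun i => D.Vinv (g i)) j j' hne w w' (D.F t₀)
      (Vinv_of_eq_smul D (g j) w t₀ hj) (Vinv_of_eq_smul D (g j') w' t₀ hj')]
    exact map_zero _

variable [Module.Finite (WittVector p R) P]

/-- The exterior power 3n-display. -/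
noncomputable def extDisplay : W4c1extbt610.Display3n p R (⋀[WittVector p R]^r P) :=
  mkDisplay (eX hLT r) (eX_idem hLT r) (PsiX D hLT hQ r)
    (span_range_PsiX D hLT hQ t₀ ht₀ hT r)

theorem isExtPow_extDisplay :
    W4c1extbt610.IsExtPow D r (extDisplay D hLT hQ t₀ ht₀ hT r) := by
  refine ⟨Qe_eq_wedgeSpan D hLT hQ t₀ ht₀ hT r, ?_⟩
  intro q hq
  have h1 := LinearMap.congr_fun (A1_eq D hLT hQ t₀ ht₀ hT r)
    (exteriorPower.ιMulti (WittVector p R) r q)
  rw [A1_ιMulti D hLT hQ t₀ ht₀ hT r q hq, semiExt_ιMulti] at h1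
  exact h1

end Ext

section Unique

variable {p : ℕ} [Fact p.Prime] {R : Type u} [CommRing R]
variable {P : Type v} [AddCommGroup P] [Module (WittVector p R) P]
variable (D : W4c1extbt610.Display3n p R P) (r : ℕ)

theorem extPow_unique (E E' : W4c1extbt610.Display3n p R (⋀[WittVector p R]^r P))
    (hE : W4c1extbt610.IsExtPow D r E) (hE' : W4c1extbt610.IsExtPow D r E') : E' = E := by
  obtain ⟨Q, F, Vinv, h1, h2, h3, h4, h5, h6⟩ := E
  obtain ⟨Q', F', Vinv', h1', h2', h3', h4', h5', h6'⟩ := E'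
  have hQ : Q' = Q := hE'.1.trans hE.1.symm
  subst hQ
  have hQs : Q' = Submodule.span (WittVector p R)
      (Set.range fun q : Fin r → D.Q =>
        exteriorPower.ιMulti (WittVector p R) r (fun i => (q i : P))) := hE.1
  have hV : Vinv' = Vinv := by
    apply LinearMap.ext
    rintro ⟨z, hz⟩
    have hz' : z ∈ Submodule.span (WittVector p R)
      (Set.range fun q : Fin r → D.Q =>
        exteriorPower.ιMulti (WittVector p R) r (fun i => (q i : P))) := hQs ▸ hz
    have key : ∀ hz : z ∈ Q', Vinv' ⟨z, hz⟩ = Vinv ⟨z, hz⟩ := by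
      clear hz
      induction hz' using Submodule.span_induction with
      | mem z hzg =>
        intro hz
        obtain ⟨q, rfl⟩ := hzg
        exact (hE'.2 q hz).trans (hE.2 q hz).symm
      | zero =>
        intro hz
        have e : (⟨0, hz⟩ : Q') = 0 := rfl
        rw [e, map_zero, map_zero]
      | add x y hx hy ex ey =>
        intro hz
        have kx : x ∈ Q' := hQs ▸ hx
        have ky : y ∈ Q' := hQs ▸ hy
        have e : (⟨x + y, hz⟩ : Q') = ⟨x, kx⟩ + ⟨y, ky⟩ := rfl
        rw [e, map_add, map_add, ex kx, ey ky]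
      | smul c x hx ex =>
        intro hz
        have kx : x ∈ Q' := hQs ▸ hx
        have e : (⟨c • x, hz⟩ : Q') = c • ⟨x, kx⟩ := rfl
        rw [e, LinearMap.map_smulₛₗ, LinearMap.map_smulₛₗ, ex kx]
    exact key hz
  subst hV
  have hF : F' = F := by
    apply LinearMap.ext
    intro x
    have a := h6 1 x
    have a' := h6' 1 x
    rw [one_smul] at a a'
    exact a'.symm.trans a
  subst hF
  rfl

end Unique

end Helper16.DispX
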