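import Mathlib

set_option autoImplicit false

universe u

namespace Helper16.EJ

open WeierstrassCurve

variable {B : Type u} [CommRing B]

/-- the normal form `y² + xy = x³ - 36 J x - J`. -/
def Wt (J : B) : WeierstrassCurve B := ⟨1, 0, 0, -36 * J, -J⟩

theorem key_identity (W : WeierstrassCurve B) :
    W.b₄ * W.c₄ ^ 2 - (W.b₂ * W.b₄ - 18 * W.b₆) * W.b₂ * W.c₄ + 6 * (W.b₂ * W.b₄ - 18 * W.b₆) ^ 2
      + 72 * W.Δ = 0 := by
  simp only [WeierstrassCurve.b₂, WeierstrassCurve.b₄, WeierstrassCurve.b₆, WeierstrassCurve.b₈,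
    WeierstrassCurve.c₄, WeierstrassCurve.Δ]
  ring

theorem rho_identity (W : WeierstrassCurve B) :
    W.c₆ + W.b₂ * W.c₄ = 12 * (W.b₂ * W.b₄ - 18 * W.b₆) := by
  simp only [WeierstrassCurve.b₂, WeierstrassCurve.b₄, WeierstrassCurve.b₆,
    WeierstrassCurve.c₄, WeierstrassCurve.c₆]
  ring

/-- uniqueness of `a₆` from `c₆` and `Δ`. -/
theorem a6_unique (J x c ic : B) (hc : c * ic = 1) (hcdef : c = -1 - 1728 * J)
    (h864 : 864 * (x + J) = 0)
    (hD : (x + J) * (c - 432 * (x + J)) = 0) : x = -J := by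
  have h1 : (x + J) * c ^ 2 = 0 := by
    linear_combination (c + 432 * (x + J)) * hD + 216 * (x + J) ^ 2 * h864
  have h2 : x + J = 0 := by
    calc x + J = (x + J) * c ^ 2 * ic ^ 2 := by
          linear_combination (-(x + J)) * (c * ic + 1) * hc
      _ = 0 := by rw [h1, zero_mul]
  linear_combination h2

end Helper16.EJ
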