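import Groth.Agent.Lib.Helper16.EJ1

set_option autoImplicit false

universe u

namespace Helper16.EJ

open WeierstrassCurve

variable {B : Type u} [CommRing B]

set_option maxHeartbeats 1600000 in
theorem normal_form (W : WeierstrassCurve B) (i4 i6 iΔ J s : B)
    (h4 : W.c₄ * i4 = 1) (h6 : W.c₆ * i6 = 1) (hΔ : W.Δ * iΔ = 1)
    (hJ : (iΔ * W.c₄ ^ 3 - 1728) * J = 1)
    (hs : s ^ 2 + W.a₁ * s + (-W.a₂ + 3 * (W.b₂ * W.b₄ - 18 * W.b₆) * i4) = 0) :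
    ∃ C : WeierstrassCurve.VariableChange B, C • W = Wt J := by
  have hρ := rho_identity W
  have hkey := key_identity W
  have hcrel := W.c_relation
  have hb2 : W.b₂ = W.a₁ ^ 2 + 4 * W.a₂ := rfl
  have hb4 : W.b₄ = 2 * W.a₄ + W.a₁ * W.a₃ := rfl
  -- J = Δ i6²
  have h1 : W.c₆ ^ 2 * J = W.Δ := by
    linear_combination W.Δ * hJ + J * hcrel - (J * W.c₄ ^ 3) * hΔ
  have hJ' : J = W.Δ * i6 ^ 2 := by
    calc J = (W.c₆ * i6) ^ 2 * J := by rw [h6]; ring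
      _ = (W.c₆ ^ 2 * J) * i6 ^ 2 := by ring
      _ = W.Δ * i6 ^ 2 := by rw [h1]
  have hu2 : (W.a₁ + 2 * s) ^ 2 = -W.c₆ * i4 := by
    linear_combination 4 * hs + i4 * hρ - W.b₂ * h4 - hb2
  have huv : (W.a₁ + 2 * s) * ((W.a₁ + 2 * s) * (-W.c₄ * i6)) = 1 := by
    linear_combination (-W.c₄ * i6) * hu2 + (W.c₆ * i6) * h4 + h6
  obtain ⟨u, hu⟩ : ∃ u : B, u = W.a₁ + 2 * s := ⟨_, rfl⟩
  obtain ⟨v, hv⟩ : ∃ v : B, v = u * (-W.c₄ * i6) := ⟨_, rfl⟩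
  rw [← hu] at hu2 huv
  rw [← hv] at huv
  obtain ⟨r, hr⟩ : ∃ r : B, r = -(W.b₂ * W.b₄ - 18 * W.b₆) * i4 := ⟨_, rfl⟩
  obtain ⟨N, hN⟩ : ∃ N : B, N = W.a₄ - s * W.a₃ + 2 * r * W.a₂ - r * s * W.a₁ + 3 * r ^ 2 :=
    ⟨_, rfl⟩
  obtain ⟨t, ht⟩ : ∃ t : B, t = (N + 36 * u ^ 4 * J) * v := ⟨_, rfl⟩
  have hu4J : u ^ 4 * J = W.Δ * i4 ^ 2 := by
    rw [hJ']
    linear_combination (W.Δ * i6 ^ 2 * (u ^ 2 - W.c₆ * i4)) * hu2
      + (W.Δ * i4 ^ 2 * (W.c₆ * i6 + 1)) * h6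
  have hkey' : W.b₄ + r * W.b₂ + 6 * r ^ 2 + 72 * W.Δ * i4 ^ 2 = 0 := by
    rw [hr]
    linear_combination i4 ^ 2 * hkey
      + (-W.b₄ * (W.c₄ * i4 + 1) + (W.b₂ * W.b₄ - 18 * W.b₆) * i4 * W.b₂) * h4
  have hv2 : v ^ 2 = -W.c₄ * i6 := by
    rw [hv]
    linear_combination (W.c₄ ^ 2 * i6 ^ 2) * hu2 + (-W.c₄ * i6 * (W.c₆ * i6)) * h4
      + (-W.c₄ * i6) * h6
  let uU : Bˣ := ⟨u, v, huv, by rw [mul_comm]; exact huv⟩
  refine ⟨⟨uU, r, s, t⟩, ?_⟩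
  have hvU : ((uU⁻¹ : Bˣ) : B) = v := rfl
  -- the first four coefficients
  have e1 : v * (W.a₁ + 2 * s) = 1 := by rw [← hu, mul_comm]; exact huv
  have e2 : v ^ 2 * (W.a₂ - s * W.a₁ + 3 * r - s ^ 2) = 0 := by
    have : W.a₂ - s * W.a₁ + 3 * r - s ^ 2 = 0 := by rw [hr]; linear_combination -hs
    rw [this, mul_zero]
  have hX : W.a₃ + r * W.a₁ + 2 * t = 0 := by
    have huX : u * (W.a₃ + r * W.a₁ + 2 * t) = 0 := by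
      rw [ht, hN, hu]
      rw [hu] at huv hu4J
      linear_combination (2 * (W.a₄ - s * W.a₃ + 2 * r * W.a₂ - r * s * W.a₁ + 3 * r ^ 2
        + 36 * (W.a₁ + 2 * s) ^ 4 * J)) * huv + 72 * hu4J + hkey' - hb4 - r * hb2
    calc W.a₃ + r * W.a₁ + 2 * t = v * (u * (W.a₃ + r * W.a₁ + 2 * t)) := by
          linear_combination (-(W.a₃ + r * W.a₁ + 2 * t)) * huv
      _ = 0 := by rw [huX, mul_zero]
  have e3 : v ^ 3 * (W.a₃ + r * W.a₁ + 2 * t) = 0 := by rw [hX, mul_zero]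
  have e4 : v ^ 4 * (W.a₄ - s * W.a₃ + 2 * r * W.a₂ - (t + r * s) * W.a₁ + 3 * r ^ 2 - 2 * s * t)
      = -36 * J := by
    have hin : W.a₄ - s * W.a₃ + 2 * r * W.a₂ - (t + r * s) * W.a₁ + 3 * r ^ 2 - 2 * s * t
        = -36 * u ^ 4 * J := by
      rw [ht, hu]
      rw [hu] at huv
      rw [hN]
      linear_combination (-(W.a₄ - s * W.a₃ + 2 * r * W.a₂ - r * s * W.a₁ + 3 * r ^ 2
        + 36 * (W.a₁ + 2 * s) ^ 4 * J)) * huv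
    rw [hin]
    linear_combination (-36 * J * ((u * v) ^ 3 + (u * v) ^ 2 + (u * v) + 1)) * huv
  -- set up the transformed curve
  obtain ⟨W', hW'⟩ : ∃ W' : WeierstrassCurve B, W' = (⟨uU, r, s, t⟩ : VariableChange B) • W :=
    ⟨_, rfl⟩
  rw [← hW']
  have f1 : W'.a₁ = 1 := by rw [hW', variableChange_a₁]; exact e1
  have f2 : W'.a₂ = 0 := by rw [hW', variableChange_a₂]; exact e2
  have f3 : W'.a₃ = 0 := by rw [hW', variableChange_a₃]; exact e3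
  have f4 : W'.a₄ = -36 * J := by rw [hW', variableChange_a₄]; exact e4
  have hc6 : W'.c₆ = v ^ 6 * W.c₆ := by rw [hW', variableChange_c₆]; rfl
  have hΔ' : W'.Δ = v ^ 12 * W.Δ := by rw [hW', variableChange_Δ]; rfl
  have hc6' : W'.c₆ = -1 + 72 * (-36 * J) - 864 * W'.a₆ := by
    simp only [WeierstrassCurve.c₆, WeierstrassCurve.b₂, WeierstrassCurve.b₄,
      WeierstrassCurve.b₆, f1, f2, f3, f4]
    ring
  have hΔ'' : W'.Δ = -(W'.a₆ - (-36 * J) ^ 2) - 64 * (-36 * J) ^ 3 - 432 * W'.a₆ ^ 2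
      + 72 * (-36 * J) * W'.a₆ := by
    simp only [WeierstrassCurve.Δ, WeierstrassCurve.b₂, WeierstrassCurve.b₄,
      WeierstrassCurve.b₆, WeierstrassCurve.b₈, f1, f2, f3, f4]
    ring
  have hc1 : 1 + 1728 * J = W.c₄ ^ 3 * i6 ^ 2 := by
    rw [hJ']
    linear_combination (i6 ^ 2) * hcrel + (-(W.c₆ * i6 + 1)) * h6
  have hv6 : v ^ 6 * W.c₆ = -(W.c₄ ^ 3 * i6 ^ 2) := by
    linear_combination (W.c₆ * (v ^ 4 + v ^ 2 * (-W.c₄ * i6) + (-W.c₄ * i6) ^ 2)) * hv2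
      + (-(W.c₄ ^ 3 * i6 ^ 2)) * h6
  have hv12 : v ^ 12 * W.Δ = W.c₄ ^ 6 * i6 ^ 6 * W.Δ := by
    have : v ^ 12 = (v ^ 2) ^ 6 := by ring
    rw [this, hv2]
    ring
  have hc : (-1 - 1728 * J) * (-W.c₆ ^ 2 * i4 ^ 3) = 1 := by
    calc (-1 - 1728 * J) * (-W.c₆ ^ 2 * i4 ^ 3) = (1 + 1728 * J) * (W.c₆ ^ 2 * i4 ^ 3) := by ring
      _ = (W.c₄ * i4) ^ 3 * (W.c₆ * i6) ^ 2 := by rw [hc1]; ring
      _ = 1 := by rw [h4, h6]; ring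
  have h864 : 864 * (W'.a₆ + J) = 0 := by
    linear_combination hc6' - hc6 - hv6 - hc1
  have hDJ : J * (1 + 1728 * J) ^ 2 = v ^ 12 * W.Δ := by
    rw [hv12, hc1, hJ']
    ring
  have hD : (W'.a₆ + J) * ((-1 - 1728 * J) - 432 * (W'.a₆ + J)) = 0 := by
    linear_combination -hΔ'' + hΔ' - hDJ
  have f6 : W'.a₆ = -J := a6_unique J W'.a₆ (-1 - 1728 * J) (-W.c₆ ^ 2 * i4 ^ 3) hc rfl h864 hD
  unfold Wt
  ext
  · exact f1
  · exact f2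
  · exact f3
  · exact f4
  · exact f6

end Helper16.EJ
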