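import Groth.Agent.Lib.Helper16.EJ2

set_option autoImplicit false

universe u

namespace Helper16.EJ

open WeierstrassCurve Polynomial

variable {A : Type u} [CommRing A]

/-- the standard étale pair of the quadratic cover `X² + a₁ X + e`, whose discriminant `D` is
inverted. -/
noncomputable def pairOf (a1 e : A) : StandardEtalePair A where
  f := X ^ 2 + (C a1 * X + C e)
  monic_f := monic_X_pow_add (lt_of_le_of_lt degree_linear_le (by norm_num))
  g := C (a1 ^ 2 - 4 * e)
  cond := ⟨derivative (X ^ 2 + (C a1 * X + C e)), -4, 1, by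
    simp only [derivative_add, derivative_X_pow, derivative_mul, derivative_C, derivative_X,
      map_sub, map_mul, map_pow]
    simp only [Nat.cast_ofNat, Nat.add_one_sub_one, pow_one, zero_mul, mul_one, zero_add, add_zero,
      map_ofNat]
    ring⟩

theorem pairOf_root (a1 e : A) :
    (pairOf a1 e).X ^ 2 + algebraMap A _ a1 * (pairOf a1 e).X + algebraMap A _ e = 0 := by
  have h : aeval (pairOf a1 e).X (X ^ 2 + (C a1 * X + C e) : A[X]) = 0 :=
    (pairOf a1 e).hasMap_X.1
  rw [map_add, map_pow, aeval_X, map_add, map_mul, aeval_C, aeval_X, aeval_C] at h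
  linear_combination h

/-- primes lift to the quadratic cover when the discriminant is a unit. -/
theorem pairOf_prime (a1 e : A) (hD : IsUnit (a1 ^ 2 - 4 * e)) (p : PrimeSpectrum A) :
    p ∈ Set.range (PrimeSpectrum.comap (algebraMap A (pairOf a1 e).Ring)) := by
  let κ := p.asIdeal.ResidueField
  let L := AlgebraicClosure κ
  letI algL : Algebra A L := ((algebraMap κ L).comp (algebraMap A κ)).toAlgebra
  have hmapL : ∀ a : A, algebraMap A L a = algebraMap κ L (algebraMap A κ a) := fun _ => rfl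
  -- a root
  have hdeg : ((pairOf a1 e).f.map (algebraMap A L)).degree ≠ 0 := by
    have hfmap : (pairOf a1 e).f.map (algebraMap A L) =
        X ^ 2 + (C (algebraMap A L a1) * X + C (algebraMap A L e)) := by
      show (X ^ 2 + (C a1 * X + C e) : A[X]).map _ = _
      simp only [Polynomial.map_add, Polynomial.map_pow, Polynomial.map_X, Polynomial.map_mul,
        Polynomial.map_C]
    rw [hfmap, degree_add_eq_left_of_degree_lt, degree_X_pow]
    · norm_num
    · rw [degree_X_pow]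
      exact lt_of_le_of_lt degree_linear_le (by norm_num)
  obtain ⟨x, hx⟩ := IsAlgClosed.exists_root _ hdeg
  have hmap : (pairOf a1 e).HasMap x := by
    refine ⟨?_, ?_⟩
    · rw [aeval_def, ← eval_map]
      exact hx
    · show IsUnit (aeval x (C (a1 ^ 2 - 4 * e)))
      rw [aeval_C]
      exact hD.map _
  let φ := (pairOf a1 e).lift x hmap
  have hker : (RingHom.ker φ.toRingHom).IsPrime := RingHom.ker_isPrime _
  refine ⟨⟨RingHom.ker φ.toRingHom, hker⟩, ?_⟩
  apply PrimeSpectrum.ext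
  show Ideal.comap (algebraMap A (pairOf a1 e).Ring) (RingHom.ker φ.toRingHom) = p.asIdeal
  ext a
  rw [Ideal.mem_comap, RingHom.mem_ker]
  show φ (algebraMap A _ a) = 0 ↔ _
  rw [φ.commutes, hmapL, map_eq_zero_iff _ (algebraMap κ L).injective,
    Ideal.algebraMap_residueField_eq_zero]

theorem exists_etale_normal_form (W : WeierstrassCurve A) [W.IsElliptic] (J : A)
    (hJ : (W.j - 1728) * J = 1) (hj : IsUnit W.j) (p : PrimeSpectrum A) :
    ∃ (B : Type u) (_ : CommRing B) (_ : Algebra A B), Algebra.Etale A B ∧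
      p ∈ Set.range (PrimeSpectrum.comap (algebraMap A B)) ∧
      ∃ C : VariableChange B, C • (W.map (algebraMap A B)) = Wt (algebraMap A B J) := by
  obtain ⟨iΔ, hiΔ⟩ : ∃ iΔ : A, iΔ = ((W.Δ'⁻¹ : Aˣ) : A) := ⟨_, rfl⟩
  have hΔ : W.Δ * iΔ = 1 := by
    rw [hiΔ, ← W.coe_Δ']
    exact Units.mul_inv _
  have hjdef : W.j = iΔ * W.c₄ ^ 3 := by rw [hiΔ]; rfl
  have hcrel := W.c_relation
  -- c₄ is a unit
  have hc4 : IsUnit W.c₄ := by
    have h1 : IsUnit (W.c₄ ^ 3) := by
      have : W.c₄ ^ 3 = W.Δ * W.j := by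
        rw [hjdef]
        linear_combination (-W.c₄ ^ 3) * hΔ
      rw [this]
      exact (IsUnit.of_mul_eq_one _ hΔ).mul hj
    exact (isUnit_pow_iff (by norm_num)).mp h1
  have hc6 : IsUnit W.c₆ := by
    have h1 : IsUnit (W.c₆ ^ 2) := by
      have : W.c₆ ^ 2 = W.Δ * (W.j - 1728) := by
        rw [hjdef]
        linear_combination (-W.c₄ ^ 3) * hΔ + hcrel
      rw [this]
      exact (IsUnit.of_mul_eq_one _ hΔ).mul (IsUnit.of_mul_eq_one _ hJ)
    exact (isUnit_pow_iff (by norm_num)).mp h1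
  obtain ⟨i4, h4⟩ := hc4.exists_right_inv
  obtain ⟨i6, h6⟩ := hc6.exists_right_inv
  have hρ := rho_identity W
  have hb2 : W.b₂ = W.a₁ ^ 2 + 4 * W.a₂ := rfl
  obtain ⟨e, he⟩ : ∃ e : A, e = -W.a₂ + 3 * (W.b₂ * W.b₄ - 18 * W.b₆) * i4 := ⟨_, rfl⟩
  have hD : (W.a₁ ^ 2 - 4 * e) * (-W.c₄ * i6) = 1 := by
    have : W.a₁ ^ 2 - 4 * e = -W.c₆ * i4 := by
      rw [he]
      linear_combination i4 * hρ - W.b₂ * h4 - hb2
    rw [this]
    linear_combination (W.c₆ * i6) * h4 + h6
  refine ⟨(pairOf W.a₁ e).Ring, inferInstance, inferInstance, inferInstance,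
    pairOf_prime W.a₁ e (IsUnit.of_mul_eq_one _ hD) p, ?_⟩
  set φ := algebraMap A (pairOf W.a₁ e).Ring with hφ
  apply normal_form (W.map φ) (φ i4) (φ i6) (φ iΔ) (φ J) (pairOf W.a₁ e).X
  · rw [map_c₄, ← map_mul, h4, map_one]
  · rw [map_c₆, ← map_mul, h6, map_one]
  · rw [map_Δ, ← map_mul, hΔ, map_one]
  · rw [map_c₄, ← map_pow, ← map_mul, ← map_ofNat φ 1728, ← map_sub, ← map_mul, ← hjdef, hJ,
      map_one]
  · have h := pairOf_root W.a₁ e
    rw [map_b₂, map_b₄, map_b₆]
    show (pairOf W.a₁ e).X ^ 2 + φ W.a₁ * (pairOf W.a₁ e).X + (-φ W.a₂ + 3 * (φ W.b₂ * φ W.b₄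
      - 18 * φ W.b₆) * φ i4) = 0
    have he' := congrArg φ he
    simp only [map_add, map_neg, map_mul, map_sub, map_ofNat] at he'
    rw [← he']
    linear_combination h

theorem Wt_map {B : Type u} [CommRing B] (f : A →+* B) (J : A) : (Wt J).map f = Wt (f J) := by
  unfold Wt
  ext
  · simp [WeierstrassCurve.map]
  · simp [WeierstrassCurve.map]
  · simp [WeierstrassCurve.map]
  · show f (-36 * J) = -36 * f J
    rw [map_mul, map_neg, map_ofNat]
  · simp [WeierstrassCurve.map]

end Helper16.EJ
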