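import Mathlib
import Groth.Prelude.Def_EtBCD
import Groth.Agent.S6669

set_option autoImplicit false

universe u

namespace Groth.Agent.Lib.Helper16.EtD

open CategoryTheory CategoryTheory.Limits AlgebraicGeometry Opposite Functor
open Groth.Agent.S6669

variable {X S Y T W Z : Scheme.{u}}

/-- `pushToPushPull` on components. -/
lemma pushToPushPull_app {X S X' S' : Scheme.{u}} (f : X ⟶ S) (g : S' ⟶ S) (f' : X' ⟶ S')
    (g' : X' ⟶ X) (w : g' ≫ f = f' ≫ g) (F : EtCoh.Ab X) :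
    (EtBC.pushToPushPull f g f' g' w).app F =
      (EtCoh.push f).map ((EtCoh.pullPushAdj g').unit.app F) ≫
        (sq f g f' g' w).hom.app ((EtCoh.pull g').obj F) := by
  simp [EtBC.pushToPushPull]
  rfl

/-- the comparison `(k ≫ e)⁻¹ ≅ e⁻¹ ⋙ k⁻¹` on abelian sheaves. -/
noncomputable def thetaSh (e : Y ⟶ T) (k : Z ⟶ Y) :
    EtCoh.pull (k ≫ e) ≅ EtCoh.pull e ⋙ EtCoh.pull k :=
  (conjugateIsoEquiv ((EtCoh.pullPushAdj e).comp (EtCoh.pullPushAdj k))
    (EtCoh.pullPushAdj (k ≫ e))).symm (EtCoh.pushComp e k)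

lemma thetaSh_unit (e : Y ⟶ T) (k : Z ⟶ Y) (F : EtCoh.Ab T) :
    (EtCoh.pullPushAdj (k ≫ e)).unit.app F ≫ (EtCoh.push (k ≫ e)).map ((thetaSh e k).hom.app F) =
      ((EtCoh.pullPushAdj e).unit.app F ≫
        (EtCoh.push e).map ((EtCoh.pullPushAdj k).unit.app ((EtCoh.pull e).obj F))) ≫
        (EtCoh.pushComp e k).hom.app ((EtCoh.pull k).obj ((EtCoh.pull e).obj F)) := by
  have h := unit_conjugateEquiv ((EtCoh.pullPushAdj e).comp (EtCoh.pullPushAdj k))
    (EtCoh.pullPushAdj (k ≫ e)) (thetaSh e k).hom F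
  have h2 : conjugateEquiv ((EtCoh.pullPushAdj e).comp (EtCoh.pullPushAdj k))
      (EtCoh.pullPushAdj (k ≫ e)) (thetaSh e k).hom = (EtCoh.pushComp e k).hom := by
    simp [thetaSh, conjugateIsoEquiv]
  rw [h2] at h
  rw [← h, Adjunction.comp_unit_app]
  rfl

/-- **sheaf-level vertical composition** of `pushToPushPull`. -/
theorem pushToPushPull_vcomp (f : X ⟶ S) (g : T ⟶ S) (h : Y ⟶ X) (e : Y ⟶ T) (i : W ⟶ X)
    (j : Z ⟶ W) (k : Z ⟶ Y) (w : e ≫ g = h ≫ f) (w' : k ≫ h = j ≫ i)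
    (w'' : (k ≫ e) ≫ g = j ≫ (i ≫ f)) (F : EtCoh.Ab T) :
    (EtBC.pushToPushPull g (i ≫ f) j (k ≫ e) w'').app F ≫
        (EtCoh.pushComp f i).inv.app ((EtCoh.push j).obj ((EtCoh.pull (k ≫ e)).obj F)) ≫
        (EtCoh.push f).map ((EtCoh.push i).map ((EtCoh.push j).map ((thetaSh e k).hom.app F))) =
      (EtBC.pushToPushPull g f h e w).app F ≫
        (EtCoh.push f).map ((EtBC.pushToPushPull h i j k w').app ((EtCoh.pull e).obj F)) := by
  rw [pushToPushPull_app, pushToPushPull_app, pushToPushPull_app]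
  have n1 := (sq g (i ≫ f) j (k ≫ e) w'').hom.naturality ((thetaSh e k).hom.app F)
  have n2 := (EtCoh.pushComp f i).inv.naturality ((EtCoh.push j).map ((thetaSh e k).hom.app F))
  have n3 := (sq g f h e w).hom.naturality
    ((EtCoh.pullPushAdj k).unit.app ((EtCoh.pull e).obj F))
  have hv := sq_vcomp_app f g h e i j k w w' w'' ((EtCoh.pull k).obj ((EtCoh.pull e).obj F))
  have hu := congrArg (fun t => (EtCoh.push g).map t) (thetaSh_unit e k F)
  dsimp only [Functor.comp_obj, Functor.comp_map] at n1 n2 n3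
  simp only [Functor.map_comp] at hu
  simp only [Category.assoc, Functor.map_comp]
  rw [← n2, ← reassoc_of% n1, reassoc_of% hu, hv]
  simp only [Category.assoc, ← Functor.map_comp_assoc, Iso.hom_inv_id_app]
  simp only [Functor.map_comp, Category.assoc]
  rw [← reassoc_of% n3]
  simp

end Groth.Agent.Lib.Helper16.EtD
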