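import Mathlib
import Groth.Prelude.Def_EtBCD
import Groth.Agent.Lib.Helper16.EtD1

set_option autoImplicit false

universe u

namespace Groth.Agent.Lib.Helper16.EtD

open CategoryTheory CategoryTheory.Limits AlgebraicGeometry Opposite Functor

variable {X S Y T W Z : Scheme.{u}}

local notation "HQ" => HomotopyCategory.quotient _ (ComplexShape.up ℤ)

/-- component of `mapHomotopyCategoryCompIso (Iso.refl _)`. -/
lemma compIso_refl_inv_app {V₁ V₂ V₃ : Type*} [Category V₁] [Category V₂] [Category V₃]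
    [Preadditive V₁] [Preadditive V₂] [Preadditive V₃] (F : V₁ ⥤ V₂) (G : V₂ ⥤ V₃)
    [F.Additive] [G.Additive] (M : HomotopyCategory V₁ (ComplexShape.up ℤ)) :
    (Functor.mapHomotopyCategoryCompIso (Iso.refl (F ⋙ G)) (ComplexShape.up ℤ)).inv.app M =
      𝟙 _ := by
  obtain ⟨C⟩ := M
  change (HomotopyCategory.quotient V₃ (ComplexShape.up ℤ)).map
    ((NatTrans.mapHomologicalComplex (Iso.refl (F ⋙ G)).inv (ComplexShape.up ℤ)).app C) = 𝟙 _
  have : (NatTrans.mapHomologicalComplex (Iso.refl (F ⋙ G)).inv (ComplexShape.up ℤ)).app C =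
      𝟙 _ := by
    ext n
    simp
  rw [this]
  exact CategoryTheory.Functor.map_id _ _

/-- `pushToPushPullH` on a complex. -/
lemma pushToPushPullH_app {X S X' S' : Scheme.{u}} (f : X ⟶ S) (g : S' ⟶ S) (f' : X' ⟶ S')
    (g' : X' ⟶ X) (w : g' ≫ f = f' ≫ g) (C : CochainComplex (EtCoh.Ab X) ℤ) :
    (EtBC.pushToPushPullH f g f' g' w).app
        ((HomotopyCategory.quotient (EtCoh.Ab X) (ComplexShape.up ℤ)).obj C) =
      (HomotopyCategory.quotient (EtCoh.Ab S) (ComplexShape.up ℤ)).map
        ((NatTrans.mapHomologicalComplex (EtBC.pushToPushPull f g f' g' w)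
          (ComplexShape.up ℤ)).app C) := by
  unfold EtBC.pushToPushPullH
  rw [NatTrans.comp_app, NatTrans.comp_app, whiskerLeft_app, compIso_refl_inv_app,
    compIso_refl_inv_app]
  erw [Category.comp_id]
  rfl

end Groth.Agent.Lib.Helper16.EtD
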