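import Mathlib
import Groth.Prelude.Def_EtBCD
import Groth.Agent.Lib.Helper16.EtD2

set_option autoImplicit false

universe u

namespace Groth.Agent.Lib.Helper16.EtD

open CategoryTheory CategoryTheory.Limits AlgebraicGeometry Opposite Functor

variable {X S Y T W Z : Scheme.{u}}

/-- K-level comparison `(push (i ≫ f))ₖ ≅ (push i)ₖ ⋙ (push f)ₖ`. -/
noncomputable def kappa (f : X ⟶ S) (i : W ⟶ X) :
    (EtCoh.push (i ≫ f)).mapHomotopyCategory (ComplexShape.up ℤ) ≅
      (EtCoh.push i).mapHomotopyCategory (ComplexShape.up ℤ) ⋙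
        (EtCoh.push f).mapHomotopyCategory (ComplexShape.up ℤ) :=
  (Functor.mapHomotopyCategoryCompIso (EtCoh.pushComp f i) (ComplexShape.up ℤ)).symm

lemma kappa_hom_app (f : X ⟶ S) (i : W ⟶ X) (C : CochainComplex (EtCoh.Ab W) ℤ) :
    (kappa f i).hom.app ((HomotopyCategory.quotient _ _).obj C) =
      (HomotopyCategory.quotient _ _).map
        ((NatTrans.mapHomologicalComplex (EtCoh.pushComp f i).inv (ComplexShape.up ℤ)).app C) :=
  rfl

/-- K-level comparison `(pull (k ≫ e))ₖ ≅ (pull e)ₖ ⋙ (pull k)ₖ`. -/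
noncomputable def thetaK (e : Y ⟶ T) (k : Z ⟶ Y) :
    (EtCoh.pull (k ≫ e)).mapHomotopyCategory (ComplexShape.up ℤ) ≅
      (EtCoh.pull e).mapHomotopyCategory (ComplexShape.up ℤ) ⋙
        (EtCoh.pull k).mapHomotopyCategory (ComplexShape.up ℤ) :=
  (Functor.mapHomotopyCategoryCompIso (thetaSh e k).symm (ComplexShape.up ℤ)).symm

lemma thetaK_hom_app (e : Y ⟶ T) (k : Z ⟶ Y) (C : CochainComplex (EtCoh.Ab T) ℤ) :
    (thetaK e k).hom.app ((HomotopyCategory.quotient _ _).obj C) =
      (HomotopyCategory.quotient _ _).map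
        ((NatTrans.mapHomologicalComplex (thetaSh e k).hom (ComplexShape.up ℤ)).app C) :=
  rfl

/-- complex-level vertical composition. -/
lemma vcompC (f : X ⟶ S) (g : T ⟶ S) (h : Y ⟶ X) (e : Y ⟶ T) (i : W ⟶ X)
    (j : Z ⟶ W) (k : Z ⟶ Y) (w : e ≫ g = h ≫ f) (w' : k ≫ h = j ≫ i)
    (w'' : (k ≫ e) ≫ g = j ≫ (i ≫ f)) (C : CochainComplex (EtCoh.Ab T) ℤ) :
    (NatTrans.mapHomologicalComplex (EtBC.pushToPushPull g (i ≫ f) j (k ≫ e) w'')
        (ComplexShape.up ℤ)).app C ≫
      (NatTrans.mapHomologicalComplex (EtCoh.pushComp f i).inv (ComplexShape.up ℤ)).app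
        (((EtCoh.push j).mapHomologicalComplex _).obj
          (((EtCoh.pull (k ≫ e)).mapHomologicalComplex _).obj C)) ≫
      ((EtCoh.push f).mapHomologicalComplex _).map (((EtCoh.push i).mapHomologicalComplex _).map
        (((EtCoh.push j).mapHomologicalComplex _).map
          ((NatTrans.mapHomologicalComplex (thetaSh e k).hom (ComplexShape.up ℤ)).app C))) =
    (NatTrans.mapHomologicalComplex (EtBC.pushToPushPull g f h e w) (ComplexShape.up ℤ)).app C ≫
      ((EtCoh.push f).mapHomologicalComplex _).map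
        ((NatTrans.mapHomologicalComplex (EtBC.pushToPushPull h i j k w')
          (ComplexShape.up ℤ)).app (((EtCoh.pull e).mapHomologicalComplex _).obj C)) := by
  refine HomologicalComplex.hom_ext _ _ (fun n => ?_)
  exact pushToPushPull_vcomp f g h e i j k w w' w'' (C.X n)

/-- **K-level vertical composition** of `pushToPushPullH`. -/
theorem pushToPushPullH_vcomp (f : X ⟶ S) (g : T ⟶ S) (h : Y ⟶ X) (e : Y ⟶ T) (i : W ⟶ X)
    (j : Z ⟶ W) (k : Z ⟶ Y) (w : e ≫ g = h ≫ f) (w' : k ≫ h = j ≫ i)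
    (w'' : (k ≫ e) ≫ g = j ≫ (i ≫ f))
    (M : HomotopyCategory (EtCoh.Ab T) (ComplexShape.up ℤ)) :
    (EtBC.pushToPushPullH g (i ≫ f) j (k ≫ e) w'').app M ≫
        (kappa f i).hom.app (((EtCoh.push j).mapHomotopyCategory _).obj
          (((EtCoh.pull (k ≫ e)).mapHomotopyCategory _).obj M)) ≫
        ((EtCoh.push f).mapHomotopyCategory _).map (((EtCoh.push i).mapHomotopyCategory _).map
          (((EtCoh.push j).mapHomotopyCategory _).map ((thetaK e k).hom.app M))) =
      (EtBC.pushToPushPullH g f h e w).app M ≫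
        ((EtCoh.push f).mapHomotopyCategory _).map
          ((EtBC.pushToPushPullH h i j k w').app (((EtCoh.pull e).mapHomotopyCategory _).obj M)) := by
  obtain ⟨C⟩ := M
  have h1 := pushToPushPullH_app g (i ≫ f) j (k ≫ e) w'' C
  have h2 := pushToPushPullH_app g f h e w C
  have h3 := pushToPushPullH_app h i j k w' (((EtCoh.pull e).mapHomologicalComplex _).obj C)
  have hv := congrArg (fun t => (HomotopyCategory.quotient (EtCoh.Ab S) (ComplexShape.up ℤ)).map t)
    (vcompC f g h e i j k w w' w'' C)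
  have e1 := (HomotopyCategory.quotient (EtCoh.Ab S) (ComplexShape.up ℤ)).map_comp
    ((NatTrans.mapHomologicalComplex (EtBC.pushToPushPull g (i ≫ f) j (k ≫ e) w'')
        (ComplexShape.up ℤ)).app C)
    ((NatTrans.mapHomologicalComplex (EtCoh.pushComp f i).inv (ComplexShape.up ℤ)).app
        (((EtCoh.push j).mapHomologicalComplex _).obj
          (((EtCoh.pull (k ≫ e)).mapHomologicalComplex _).obj C)) ≫
      ((EtCoh.push f).mapHomologicalComplex _).map (((EtCoh.push i).mapHomologicalComplex _).map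
        (((EtCoh.push j).mapHomologicalComplex _).map
          ((NatTrans.mapHomologicalComplex (thetaSh e k).hom (ComplexShape.up ℤ)).app C))))
  have e2 := (HomotopyCategory.quotient (EtCoh.Ab S) (ComplexShape.up ℤ)).map_comp
    ((NatTrans.mapHomologicalComplex (EtCoh.pushComp f i).inv (ComplexShape.up ℤ)).app
        (((EtCoh.push j).mapHomologicalComplex _).obj
          (((EtCoh.pull (k ≫ e)).mapHomologicalComplex _).obj C)))
    (((EtCoh.push f).mapHomologicalComplex _).map (((EtCoh.push i).mapHomologicalComplex _).map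
        (((EtCoh.push j).mapHomologicalComplex _).map
          ((NatTrans.mapHomologicalComplex (thetaSh e k).hom (ComplexShape.up ℤ)).app C))))
  have e3 := (HomotopyCategory.quotient (EtCoh.Ab S) (ComplexShape.up ℤ)).map_comp
    ((NatTrans.mapHomologicalComplex (EtBC.pushToPushPull g f h e w) (ComplexShape.up ℤ)).app C)
    (((EtCoh.push f).mapHomologicalComplex _).map
        ((NatTrans.mapHomologicalComplex (EtBC.pushToPushPull h i j k w')
          (ComplexShape.up ℤ)).app (((EtCoh.pull e).mapHomologicalComplex _).obj C)))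
  refine Eq.trans ?_ ((e1.trans (congrArg₂ (· ≫ ·) rfl e2)).symm.trans (hv.trans e3)) |>.trans ?_
  · exact congrArg₂ (· ≫ ·) h1 rfl
  · refine (congrArg₂ (· ≫ ·) h2 ?_).symm
    exact congrArg (fun t => ((EtCoh.push f).mapHomotopyCategory _).map t) h3

end Groth.Agent.Lib.Helper16.EtD
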