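import Mathlib

set_option autoImplicit false

namespace Groth.Agent.Lib.Helper16.KanAdj

open CategoryTheory Functor

section Desc

variable {C D H : Type*} [Category C] [Category D] [Category H]

/-- constructor for left Kan extensions from a `desc` with factorisation and uniqueness. -/
lemma isLeftKanExtension_of_desc (F' : D ⥤ H) {L : C ⥤ D} {F : C ⥤ H} (α : F ⟶ L ⋙ F')
    (desc : ∀ (G : D ⥤ H) (_ : F ⟶ L ⋙ G), F' ⟶ G)
    (fac : ∀ (G : D ⥤ H) (β : F ⟶ L ⋙ G), α ≫ whiskerLeft L (desc G β) = β)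
    (uniq : ∀ (G : D ⥤ H) (γ₁ γ₂ : F' ⟶ G),
      α ≫ whiskerLeft L γ₁ = α ≫ whiskerLeft L γ₂ → γ₁ = γ₂) :
    F'.IsLeftKanExtension α := by
  refine ⟨⟨Limits.IsInitial.ofUniqueHom
    (fun y => StructuredArrow.homMk (desc y.right y.hom) (fac y.right y.hom)) ?_⟩⟩
  intro y m
  apply StructuredArrow.hom_ext
  apply uniq
  have h1 := StructuredArrow.w m
  have h2 := fac y.right y.hom
  exact h1.trans h2.symm

end Desc

section Main

variable {KX KW DX DW E : Type*} [Category KX] [Category KW] [Category DX] [Category DW]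
  [Category E]
  {QX : KX ⥤ DX} {QW : KW ⥤ DW} {Lk : KX ⥤ KW} {Fk : KW ⥤ KX} (adjK : Lk ⊣ Fk)
  {LD : DX ⥤ DW} {R : DW ⥤ DX} (adjD : LD ⊣ R) (e : QX ⋙ LD ≅ Lk ⋙ QW)

/-- the mate `Fk ⋙ QX ⟶ QW ⋙ R` of `e` under the two adjunctions. -/
def mate : Fk ⋙ QX ⟶ QW ⋙ R where
  app M := (adjD.homEquiv _ _) (e.hom.app (Fk.obj M) ≫ QW.map (adjK.counit.app M))
  naturality M M' m := by
    dsimp
    rw [← Adjunction.homEquiv_naturality_left, ← Adjunction.homEquiv_naturality_right]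
    congr 1
    have h1 := e.hom.naturality (Fk.map m)
    have h2 := adjK.counit.naturality m
    dsimp at h1 h2
    rw [reassoc_of% h1, ← QW.map_comp, h2, QW.map_comp, Category.assoc]

lemma mate_app (M : KW) : (mate adjK adjD e).app M =
    adjD.unit.app (QX.obj (Fk.obj M)) ≫
      R.map (e.hom.app (Fk.obj M) ≫ QW.map (adjK.counit.app M)) := by
  dsimp [mate]
  rw [Adjunction.homEquiv_unit]

variable {H₀ : KX ⥤ E} {R₁ : DX ⥤ E} (α₁ : H₀ ⟶ QX ⋙ R₁)

/-- the unit exhibiting `R ⋙ R₁` as a left Kan extension of `Fk ⋙ H₀` along `QW`. -/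
def compUnit : Fk ⋙ H₀ ⟶ QW ⋙ R ⋙ R₁ :=
  whiskerLeft Fk α₁ ≫ (Functor.associator _ _ _).inv ≫ whiskerRight (mate adjK adjD e) R₁ ≫
    (Functor.associator _ _ _).hom

lemma compUnit_app (M : KW) : (compUnit adjK adjD e α₁).app M =
    α₁.app (Fk.obj M) ≫ R₁.map ((mate adjK adjD e).app M) := by
  simp [compUnit]

end Main

end Groth.Agent.Lib.Helper16.KanAdj
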