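import Mathlib
import Groth.Agent.Lib.Helper16.KanAdj1

set_option autoImplicit false

namespace Groth.Agent.Lib.Helper16.KanAdj

open CategoryTheory Functor

section Main

variable {KX KW DX DW E : Type*} [Category KX] [Category KW] [Category DX] [Category DW]
  [Category E]
  {QX : KX ⥤ DX} {QW : KW ⥤ DW} {Lk : KX ⥤ KW} {Fk : KW ⥤ KX} (adjK : Lk ⊣ Fk)
  {LD : DX ⥤ DW} {R : DW ⥤ DX} (adjD : LD ⊣ R) (e : QX ⋙ LD ≅ Lk ⋙ QW)
  {H₀ : KX ⥤ E} {R₁ : DX ⥤ E} (α₁ : H₀ ⟶ QX ⋙ R₁)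

/-- transpose of `β` to a transformation `H₀ ⟶ QX ⋙ LD ⋙ G`. -/
def betaTilde {G : DW ⥤ E} (β : Fk ⋙ H₀ ⟶ QW ⋙ G) : H₀ ⟶ QX ⋙ LD ⋙ G where
  app N := H₀.map (adjK.unit.app N) ≫ β.app (Lk.obj N) ≫ G.map (e.inv.app N)
  naturality N N' n := by
    have h1 := adjK.unit.naturality n
    have h2 := β.naturality (Lk.map n)
    have h3 := e.inv.naturality n
    dsimp at h1 h2 h3 ⊢
    rw [← H₀.map_comp_assoc, h1, H₀.map_comp_assoc, reassoc_of% h2, Category.assoc,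
      Category.assoc, ← G.map_comp, ← G.map_comp, h3]

/-- from `ψ : R₁ ⟶ LD ⋙ G` to `R ⋙ R₁ ⟶ G`. -/
def ofPsi {G : DW ⥤ E} (ψ : R₁ ⟶ LD ⋙ G) : R ⋙ R₁ ⟶ G where
  app M := ψ.app (R.obj M) ≫ G.map (adjD.counit.app M)
  naturality M M' m := by
    have h1 := ψ.naturality (R.map m)
    have h2 := adjD.counit.naturality m
    dsimp at h1 h2 ⊢
    rw [reassoc_of% h1, ← G.map_comp, h2, G.map_comp, Category.assoc]

/-- from `φ : R ⋙ R₁ ⟶ G` to `R₁ ⟶ LD ⋙ G`. -/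
def toPsi {G : DW ⥤ E} (φ : R ⋙ R₁ ⟶ G) : R₁ ⟶ LD ⋙ G where
  app N := R₁.map (adjD.unit.app N) ≫ φ.app (LD.obj N)
  naturality N N' n := by
    have h1 := adjD.unit.naturality n
    have h2 := φ.naturality (LD.map n)
    dsimp at h1 h2 ⊢
    rw [← R₁.map_comp_assoc, h1, R₁.map_comp_assoc, h2, Category.assoc]

lemma ofPsi_toPsi {G : DW ⥤ E} (φ : R ⋙ R₁ ⟶ G) : ofPsi adjD (toPsi adjD φ) = φ := by
  ext M
  have h2 := φ.naturality (adjD.counit.app M)
  dsimp [ofPsi, toPsi] at h2 ⊢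
  rw [Category.assoc, ← h2, ← R₁.map_comp_assoc, adjD.right_triangle_components,
    R₁.map_id, Category.id_comp]

variable [R₁.IsLeftKanExtension α₁]

/-- the descent morphism. -/
noncomputable def descComp (G : DW ⥤ E) (β : Fk ⋙ H₀ ⟶ QW ⋙ G) : R ⋙ R₁ ⟶ G :=
  ofPsi adjD (R₁.descOfIsLeftKanExtension α₁ (LD ⋙ G) (betaTilde adjK e β))

lemma descComp_fac (G : DW ⥤ E) (β : Fk ⋙ H₀ ⟶ QW ⋙ G) :
    compUnit adjK adjD e α₁ ≫ whiskerLeft QW (descComp adjK adjD e α₁ G β) = β := by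
  ext M
  set ψ := R₁.descOfIsLeftKanExtension α₁ (LD ⋙ G) (betaTilde adjK e β) with hψ
  have hfac : ∀ N, α₁.app N ≫ ψ.app (QX.obj N) = (betaTilde adjK e β).app N := fun N =>
    R₁.descOfIsLeftKanExtension_fac_app α₁ (LD ⋙ G) (betaTilde adjK e β) N
  have h1 := ψ.naturality ((mate adjK adjD e).app M)
  have h3 := β.naturality (adjK.counit.app M)
  have h4 : LD.map ((mate adjK adjD e).app M) ≫ adjD.counit.app (QW.obj M) =
      e.hom.app (Fk.obj M) ≫ QW.map (adjK.counit.app M) := by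
    have := (adjD.homEquiv _ _).symm_apply_apply
      (e.hom.app (Fk.obj M) ≫ QW.map (adjK.counit.app M))
    rw [Adjunction.homEquiv_counit] at this
    exact this
  rw [NatTrans.comp_app, compUnit_app, whiskerLeft_app]
  dsimp [descComp, ofPsi] at h1 h3 ⊢
  rw [← hψ, Category.assoc, reassoc_of% h1, reassoc_of% (hfac (Fk.obj M))]
  dsimp [betaTilde]
  simp only [Category.assoc, ← G.map_comp]
  rw [h4, Iso.inv_hom_id_app_assoc, ← h3, ← H₀.map_comp_assoc, adjK.right_triangle_components,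
    H₀.map_id, Category.id_comp]

lemma descComp_uniq (G : DW ⥤ E) (γ₁ γ₂ : R ⋙ R₁ ⟶ G)
    (h : compUnit adjK adjD e α₁ ≫ whiskerLeft QW γ₁ =
      compUnit adjK adjD e α₁ ≫ whiskerLeft QW γ₂) : γ₁ = γ₂ := by
  rw [← ofPsi_toPsi adjD γ₁, ← ofPsi_toPsi adjD γ₂]
  congr 1
  apply R₁.hom_ext_of_isLeftKanExtension α₁
  ext N
  -- key: the composite `QX η_K ≫ mate (Lk N) = η_D ≫ R e`
  have key : QX.map (adjK.unit.app N) ≫ (mate adjK adjD e).app (Lk.obj N) =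
      adjD.unit.app (QX.obj N) ≫ R.map (e.hom.app N) := by
    rw [mate_app]
    have h1 := adjD.unit.naturality (QX.map (adjK.unit.app N))
    have h2 := e.hom.naturality (adjK.unit.app N)
    dsimp at h1 h2
    rw [reassoc_of% h1, ← R.map_comp, reassoc_of% h2, ← QW.map_comp,
      adjK.left_triangle_components, QW.map_id, Category.comp_id]
  have h5 := α₁.naturality (adjK.unit.app N)
  dsimp at h5
  have hside : ∀ γ : R ⋙ R₁ ⟶ G,
      H₀.map (adjK.unit.app N) ≫ (compUnit adjK adjD e α₁ ≫ whiskerLeft QW γ).app (Lk.obj N) =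
      α₁.app N ≫ R₁.map (adjD.unit.app (QX.obj N) ≫ R.map (e.hom.app N)) ≫
        γ.app (QW.obj (Lk.obj N)) := by
    intro γ
    rw [NatTrans.comp_app, compUnit_app, whiskerLeft_app, Category.assoc, reassoc_of% h5,
      ← R₁.map_comp_assoc, key]
  have hN : α₁.app N ≫ R₁.map (adjD.unit.app (QX.obj N) ≫ R.map (e.hom.app N)) ≫
        γ₁.app (QW.obj (Lk.obj N)) =
      α₁.app N ≫ R₁.map (adjD.unit.app (QX.obj N) ≫ R.map (e.hom.app N)) ≫
        γ₂.app (QW.obj (Lk.obj N)) := by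
    rw [← hside γ₁, ← hside γ₂, h]
  have h6 : ∀ γ : R ⋙ R₁ ⟶ G, (toPsi adjD γ).app (QX.obj N) =
      (R₁.map (adjD.unit.app (QX.obj N) ≫ R.map (e.hom.app N)) ≫ γ.app (QW.obj (Lk.obj N))) ≫
        G.map (e.inv.app N) := by
    intro γ
    have h7 := γ.naturality (e.inv.app N)
    dsimp [toPsi] at h7 ⊢
    rw [Category.assoc, ← h7, R₁.map_comp, Category.assoc, ← R₁.map_comp_assoc (R.map _),
      ← R.map_comp, Iso.hom_inv_id_app]
    simp
  simp only [NatTrans.comp_app, whiskerLeft_app]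
  rw [h6 γ₁, h6 γ₂]
  simp only [Category.assoc] at hN ⊢
  rw [reassoc_of% hN]

/-- **Main lemma**: if `(R₁, α₁)` is a left Kan extension of `H₀` along `QX`, `LD ⊣ R`,
`Lk ⊣ Fk` and `QX ⋙ LD ≅ Lk ⋙ QW`, then `R ⋙ R₁` is a left Kan extension of `Fk ⋙ H₀` along `QW`.-/
theorem isLeftKanExtension_comp : (R ⋙ R₁).IsLeftKanExtension (compUnit adjK adjD e α₁) :=
  isLeftKanExtension_of_desc _ _ (descComp adjK adjD e α₁) (descComp_fac adjK adjD e α₁)
    (descComp_uniq adjK adjD e α₁)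

end Main

end Groth.Agent.Lib.Helper16.KanAdj
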