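import Mathlib
import Groth.Agent.Lib.Helper16.KanAdj2

set_option autoImplicit false

namespace Groth.Agent.Lib.Helper16.KanAdj

open CategoryTheory Functor

section Loc

variable {C D : Type*} [Category C] [Category D] (L : C ⥤ D) (W : MorphismProperty C)
  [L.IsLocalization W]

include W in
/-- a localization functor is its own left Kan extension along itself (via the identity). -/
lemma isLeftKanExtension_id_of_isLocalization :
    (𝟭 D).IsLeftKanExtension L.rightUnitor.inv := by
  refine isLeftKanExtension_of_desc _ _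
    (fun G β => Localization.liftNatTrans L W L (L ⋙ G) (𝟭 D) G β) ?_ ?_
  · intro G β
    ext X
    simp
  · intro G γ₁ γ₂ h
    apply Localization.natTrans_ext L W
    intro X
    have := NatTrans.congr_app h X
    simpa using this

end Loc

section Comp

variable {KX KW DX DW E : Type*} [Category KX] [Category KW] [Category DX] [Category DW]
  [Category E]
  {QX : KX ⥤ DX} {QW : KW ⥤ DW} {Lk : KX ⥤ KW} {Fk : KW ⥤ KX} (adjK : Lk ⊣ Fk)
  {LD : DX ⥤ DW} {R : DW ⥤ DX} (adjD : LD ⊣ R) (e : QX ⋙ LD ≅ Lk ⋙ QW)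
  {H₀ : KX ⥤ E} {R₁ : DX ⥤ E} (α₁ : H₀ ⟶ QX ⋙ R₁)
  (αR : Fk ⋙ QX ⟶ QW ⋙ R)

/-- the standard unit of a composite of derived functors. -/
def stdUnit : Fk ⋙ H₀ ⟶ QW ⋙ R ⋙ R₁ :=
  whiskerLeft Fk α₁ ≫ (Functor.associator _ _ _).inv ≫ whiskerRight αR R₁ ≫
    (Functor.associator _ _ _).hom

lemma stdUnit_app (M : KW) : (stdUnit α₁ αR).app M =
    α₁.app (Fk.obj M) ≫ R₁.map (αR.app M) := by
  simp [stdUnit]

include adjK adjD e in
/-- `(R, mate)` is a left Kan extension. -/
lemma isLeftKanExtension_mate [(𝟭 DX).IsLeftKanExtension QX.rightUnitor.inv] :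
    R.IsLeftKanExtension (mate adjK adjD e) := by
  haveI h := isLeftKanExtension_comp adjK adjD e (H₀ := QX) (R₁ := 𝟭 DX) QX.rightUnitor.inv
  have comm : compUnit adjK adjD e QX.rightUnitor.inv ≫ whiskerLeft QW R.rightUnitor.hom =
      mate adjK adjD e := by
    ext M
    rw [NatTrans.comp_app, compUnit_app]
    simp
  exact isLeftKanExtension_of_iso R.rightUnitor (compUnit adjK adjD e QX.rightUnitor.inv)
    (mate adjK adjD e) comm

include adjK adjD e in
/-- **Composition of derived functors**: if `R` is a left Kan extension of `Fk ⋙ QX` along `QW`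
(with any unit `αR`), `R` has a left adjoint `LD` lifting a left adjoint `Lk` of `Fk`, and
`(R₁, α₁)` is a left Kan extension of `H₀` along `QX`, then `(R ⋙ R₁, stdUnit)` is a left Kan
extension of `Fk ⋙ H₀` along `QW`. -/
theorem isLeftKanExtension_stdUnit [(𝟭 DX).IsLeftKanExtension QX.rightUnitor.inv]
    [R.IsLeftKanExtension αR] [R₁.IsLeftKanExtension α₁] :
    (R ⋙ R₁).IsLeftKanExtension (stdUnit α₁ αR) := by
  have hm := isLeftKanExtension_mate adjK adjD e
  let τ : R ≅ R := leftKanExtensionUnique R αR R (mate adjK adjD e)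
  have hτ : ∀ M, αR.app M ≫ τ.hom.app (QW.obj M) = (mate adjK adjD e).app M := fun M => by
    have := R.descOfIsLeftKanExtension_fac_app αR R ((Iso.refl _).hom ≫ mate adjK adjD e) M
    simpa [τ, leftKanExtensionUnique, leftKanExtensionUniqueOfIso] using this
  have h := isLeftKanExtension_comp adjK adjD e α₁
  refine (isLeftKanExtension_iff_of_iso (isoWhiskerRight τ R₁) (stdUnit α₁ αR)
    (compUnit adjK adjD e α₁) ?_).mpr h
  ext M
  rw [NatTrans.comp_app, compUnit_app, stdUnit_app, whiskerLeft_app, isoWhiskerRight_hom,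
    whiskerRight_app, Category.assoc, ← R₁.map_comp, hτ]

end Comp

end Groth.Agent.Lib.Helper16.KanAdj
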