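import Mathlib

set_option autoImplicit false

namespace Groth.Agent.Lib.Helper16.KanAdj

open CategoryTheory Functor

section HAdj

variable {V W : Type*} [Category V] [Category W] [Preadditive V] [Preadditive W]
  {L : V ⥤ W} {F : W ⥤ V} [L.Additive] [F.Additive] (adj : L ⊣ F)
  {ι : Type*} (c : ComplexShape ι)

/-- termwise unit on complexes. -/
def unitC (K : HomologicalComplex V c) :
    K ⟶ (F.mapHomologicalComplex c).obj ((L.mapHomologicalComplex c).obj K) where
  f n := adj.unit.app (K.X n)
  comm' i j _ := by
    have := adj.unit.naturality (K.d i j)
    dsimp at this ⊢
    exact this.symm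

/-- termwise counit on complexes. -/
def counitC (K : HomologicalComplex W c) :
    (L.mapHomologicalComplex c).obj ((F.mapHomologicalComplex c).obj K) ⟶ K where
  f n := adj.counit.app (K.X n)
  comm' i j _ := by
    have := adj.counit.naturality (K.d i j)
    dsimp at this ⊢
    exact this.symm

lemma unitC_naturality {K K' : HomologicalComplex V c} (f : K ⟶ K') :
    f ≫ unitC adj c K' =
      unitC adj c K ≫ (F.mapHomologicalComplex c).map ((L.mapHomologicalComplex c).map f) := by
  ext n
  have := adj.unit.naturality (f.f n)
  dsimp [unitC] at this ⊢
  exact this

lemma counitC_naturality {K K' : HomologicalComplex W c} (f : K ⟶ K') :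
    (L.mapHomologicalComplex c).map ((F.mapHomologicalComplex c).map f) ≫ counitC adj c K' =
      counitC adj c K ≫ f := by
  ext n
  have := adj.counit.naturality (f.f n)
  dsimp [counitC] at this ⊢
  exact this

/-- the adjunction induced on homotopy categories. -/
noncomputable def mapHomotopyCategoryAdj :
    L.mapHomotopyCategory c ⊣ F.mapHomotopyCategory c :=
  Adjunction.mkOfUnitCounit
    { unit :=
        { app := fun K => (HomotopyCategory.quotient V c).map (unitC adj c K.as)
          naturality := by
            rintro ⟨K⟩ ⟨K'⟩ ⟨f⟩
            change (HomotopyCategory.quotient V c).map f ≫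
              (HomotopyCategory.quotient V c).map (unitC adj c K') =
              (HomotopyCategory.quotient V c).map (unitC adj c K) ≫
                (HomotopyCategory.quotient V c).map
                  ((F.mapHomologicalComplex c).map ((L.mapHomologicalComplex c).map f))
            rw [← Functor.map_comp, ← Functor.map_comp, unitC_naturality] }
      counit :=
        { app := fun K => (HomotopyCategory.quotient W c).map (counitC adj c K.as)
          naturality := by
            rintro ⟨K⟩ ⟨K'⟩ ⟨f⟩
            change (HomotopyCategory.quotient W c).map
                  ((L.mapHomologicalComplex c).map ((F.mapHomologicalComplex c).map f)) ≫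
              (HomotopyCategory.quotient W c).map (counitC adj c K') =
              (HomotopyCategory.quotient W c).map (counitC adj c K) ≫
                (HomotopyCategory.quotient W c).map f
            rw [← Functor.map_comp, ← Functor.map_comp, counitC_naturality] }
      left_triangle := by
        ext ⟨K⟩
        change ((HomotopyCategory.quotient W c).map
            ((L.mapHomologicalComplex c).map (unitC adj c K)) ≫ 𝟙 _ ≫
            (HomotopyCategory.quotient W c).map (counitC adj c _)) = 𝟙 _
        rw [Category.id_comp, ← Functor.map_comp]
        have : (L.mapHomologicalComplex c).map (unitC adj c K) ≫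
            counitC adj c ((L.mapHomologicalComplex c).obj K) = 𝟙 _ := by
          ext n
          dsimp [unitC, counitC]
          exact adj.left_triangle_components (K.X n)
        rw [this]
        exact CategoryTheory.Functor.map_id _ _
      right_triangle := by
        ext ⟨K⟩
        change ((HomotopyCategory.quotient V c).map (unitC adj c _) ≫ 𝟙 _ ≫
            (HomotopyCategory.quotient V c).map
              ((F.mapHomologicalComplex c).map (counitC adj c K))) = 𝟙 _
        rw [Category.id_comp, ← Functor.map_comp]
        have : unitC adj c ((F.mapHomologicalComplex c).obj K) ≫
            (F.mapHomologicalComplex c).map (counitC adj c K) = 𝟙 _ := by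
          ext n
          dsimp [unitC, counitC]
          exact adj.right_triangle_components (K.X n)
        rw [this]
        exact CategoryTheory.Functor.map_id _ _ }

lemma mapHomotopyCategoryAdj_unit_app (K : HomologicalComplex V c) :
    (mapHomotopyCategoryAdj adj c).unit.app ((HomotopyCategory.quotient V c).obj K) =
      (HomotopyCategory.quotient V c).map (unitC adj c K) := rfl

lemma mapHomotopyCategoryAdj_counit_app (K : HomologicalComplex W c) :
    (mapHomotopyCategoryAdj adj c).counit.app ((HomotopyCategory.quotient W c).obj K) =
      (HomotopyCategory.quotient W c).map (counitC adj c K) := rfl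

end HAdj

end Groth.Agent.Lib.Helper16.KanAdj
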