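import Mathlib
import Groth.Prelude.Def_EtBCD
import Groth.Agent.Lib.Helper16.EtD3
import Groth.Agent.Lib.Helper16.KanAdj3
import Groth.Agent.Lib.Helper16.KanAdj4
import Groth.Agent.Lib.Helper16.BCAbs

set_option autoImplicit false

universe u

namespace Groth.Agent.Lib.Helper16.EtD

open CategoryTheory CategoryTheory.Limits AlgebraicGeometry Opposite Functor
open Groth.Agent.Lib.Helper16.KanAdj

attribute [local instance] HasDerivedCategory.standard

variable {X S Y T W Z : Scheme.{u}}

/-- the unit of the derived direct image. -/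
noncomputable abbrev unitOf (f : X ⟶ S) [DCoh.HasRpushEt X f] :
    DCoh.pushEtKh X f ⟶ DerivedCategory.Qh ⋙ DCoh.RpushEt X f :=
  (DCoh.pushEtKh X f).totalRightDerivedUnit DerivedCategory.Qh
    (HomotopyCategory.quasiIso (EtCoh.Ab X) (ComplexShape.up ℤ))

instance (f : X ⟶ S) [DCoh.HasRpushEt X f] :
    (DCoh.RpushEt X f).IsLeftKanExtension (unitOf f) :=
  Functor.IsRightDerivedFunctor.isLeftKanExtension _ _
    (HomotopyCategory.quasiIso (EtCoh.Ab X) (ComplexShape.up ℤ))

section Square

variable {X S X' S' : Scheme.{u}} (f : X ⟶ S) (g : S' ⟶ S) (f' : X' ⟶ S') (g' : X' ⟶ X)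
  (w : g' ≫ f = f' ≫ g)
  [PreservesFiniteLimits (EtCoh.pull g')] [DCoh.HasRpushEt X f] [DCoh.HasRpushEt X' f']
  [DCoh.HasRpushEt S' g]

lemma bcUnit_app (M : HomotopyCategory (EtCoh.Ab X) (ComplexShape.up ℤ)) :
    (EtBC.bcUnit f g f' g' w).app M =
      DerivedCategory.Qh.map ((EtBC.pushToPushPullH f g f' g' w).app M) ≫
        (unitOf g).app (((EtCoh.push f').mapHomotopyCategory _).obj
          (((EtCoh.pull g').mapHomotopyCategory _).obj M)) ≫
        (DCoh.RpushEt S' g).map ((unitOf f').app (((EtCoh.pull g').mapHomotopyCategory _).obj M)) ≫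
        (DCoh.RpushEt S' g).map ((DCoh.RpushEt X' f').map
          ((EtCoh.pull g').mapDerivedCategoryFactorsh.inv.app M)) := by
  simp [EtBC.bcUnit]

lemma bcAdj_fac (M : HomotopyCategory (EtCoh.Ab X) (ComplexShape.up ℤ)) :
    (unitOf f).app M ≫ (EtBC.bcAdj f g f' g' w).app (DerivedCategory.Qh.obj M) =
      DerivedCategory.Qh.map ((EtBC.pushToPushPullH f g f' g' w).app M) ≫
        (unitOf g).app (((EtCoh.push f').mapHomotopyCategory _).obj
          (((EtCoh.pull g').mapHomotopyCategory _).obj M)) ≫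
        (DCoh.RpushEt S' g).map ((unitOf f').app (((EtCoh.pull g').mapHomotopyCategory _).obj M)) ≫
        (DCoh.RpushEt S' g).map ((DCoh.RpushEt X' f').map
          ((EtCoh.pull g').mapDerivedCategoryFactorsh.inv.app M)) := by
  rw [← bcUnit_app]
  exact Functor.rightDerived_fac_app _ _ _ _ _ M

end Square

end Groth.Agent.Lib.Helper16.EtD
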