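import Mathlib
import Groth.Prelude.Def_EtBCD
import Groth.Agent.Lib.Helper16.EtD4

set_option autoImplicit false

universe u

namespace Groth.Agent.Lib.Helper16.EtD

open CategoryTheory CategoryTheory.Limits AlgebraicGeometry Opposite Functor
open Groth.Agent.Lib.Helper16.KanAdj

attribute [local instance] HasDerivedCategory.standard

variable {X S Y T W Z : Scheme.{u}}

section Comp

variable (f : X ⟶ S) (i : W ⟶ X) [PreservesFiniteLimits (EtCoh.pull i)]
  [DCoh.HasRpushEt X f] [DCoh.HasRpushEt W i] [DCoh.HasRpushEt W (i ≫ f)]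
  (adj₂ : EtBC.pullD i ⊣ DCoh.RpushEt W i)

include adj₂ in
/-- `Ri_* ⋙ Rf_*` is a right derived functor of `i_* ⋙ f_*` (given a left adjoint of `Ri_*`). -/
theorem isLKE_comp :
    (DCoh.RpushEt W i ⋙ DCoh.RpushEt X f).IsLeftKanExtension
      (stdUnit (Fk := (EtCoh.push i).mapHomotopyCategory (ComplexShape.up ℤ))
        (unitOf f) (unitOf i)) := by
  haveI : (𝟭 (DCoh.DEt X)).IsLeftKanExtension
      (DerivedCategory.Qh (C := EtCoh.Ab X)).rightUnitor.inv :=
    isLeftKanExtension_id_of_isLocalization DerivedCategory.Qh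
      (HomotopyCategory.quasiIso (EtCoh.Ab X) (ComplexShape.up ℤ))
  exact isLeftKanExtension_stdUnit
    (mapHomotopyCategoryAdj (EtCoh.pullPushAdj i) (ComplexShape.up ℤ)) adj₂
    (EtCoh.pull i).mapDerivedCategoryFactorsh (unitOf f) (unitOf i)

/-- the comparison isomorphism `Ri_* ⋙ Rf_* ≅ R(i ≫ f)_*`. -/
noncomputable def rho : DCoh.RpushEt W i ⋙ DCoh.RpushEt X f ≅ DCoh.RpushEt W (i ≫ f) :=
  haveI := isLKE_comp f i adj₂
  (leftKanExtensionUniqueOfIso (DCoh.RpushEt W (i ≫ f)) (unitOf (i ≫ f))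
    (isoWhiskerRight (kappa f i) DerivedCategory.Qh ≪≫ Functor.associator _ _ _)
    (DCoh.RpushEt W i ⋙ DCoh.RpushEt X f)
    (stdUnit (Fk := (EtCoh.push i).mapHomotopyCategory (ComplexShape.up ℤ))
      (unitOf f) (unitOf i))).symm

lemma rho_inv_fac (N : HomotopyCategory (EtCoh.Ab W) (ComplexShape.up ℤ)) :
    (unitOf (i ≫ f)).app N ≫ (rho f i adj₂).inv.app (DerivedCategory.Qh.obj N) =
      DerivedCategory.Qh.map ((kappa f i).hom.app N) ≫
        (unitOf f).app (((EtCoh.push i).mapHomotopyCategory _).obj N) ≫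
        (DCoh.RpushEt X f).map ((unitOf i).app N) := by
  haveI := isLKE_comp f i adj₂
  have := (DCoh.RpushEt W (i ≫ f)).descOfIsLeftKanExtension_fac_app (unitOf (i ≫ f))
    (DCoh.RpushEt W i ⋙ DCoh.RpushEt X f)
    ((isoWhiskerRight (kappa f i) DerivedCategory.Qh ≪≫ Functor.associator _ _ _).hom ≫
      stdUnit (Fk := (EtCoh.push i).mapHomotopyCategory (ComplexShape.up ℤ))
        (unitOf f) (unitOf i)) N
  rw [NatTrans.comp_app, stdUnit_app] at this
  simpa [rho, leftKanExtensionUniqueOfIso] using this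

end Comp

section Theta

variable (e : Y ⟶ T) (k : Z ⟶ Y) [PreservesFiniteLimits (EtCoh.pull e)]
  [PreservesFiniteLimits (EtCoh.pull k)] [PreservesFiniteLimits (EtCoh.pull (k ≫ e))]

/-- the comparison `(k ≫ e)⁻¹ ≅ e⁻¹ ⋙ k⁻¹` on derived categories. -/
noncomputable def thetaD : EtBC.pullD (k ≫ e) ≅ EtBC.pullD e ⋙ EtBC.pullD k :=
  Localization.liftNatIso DerivedCategory.Qh
    (HomotopyCategory.quasiIso (EtCoh.Ab T) (ComplexShape.up ℤ))
    ((EtCoh.pull (k ≫ e)).mapHomotopyCategory (ComplexShape.up ℤ) ⋙ DerivedCategory.Qh)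
    (((EtCoh.pull e).mapHomotopyCategory (ComplexShape.up ℤ) ⋙ DerivedCategory.Qh) ⋙
      EtBC.pullD k)
    (EtBC.pullD (k ≫ e)) (EtBC.pullD e ⋙ EtBC.pullD k)
    (isoWhiskerRight (thetaK e k) DerivedCategory.Qh ≪≫ Functor.associator _ _ _ ≪≫
      isoWhiskerLeft _ (EtCoh.pull k).mapDerivedCategoryFactorsh.symm ≪≫
      (Functor.associator _ _ _).symm)

lemma thetaD_fac (M : HomotopyCategory (EtCoh.Ab T) (ComplexShape.up ℤ)) :
    (EtCoh.pull (k ≫ e)).mapDerivedCategoryFactorsh.inv.app M ≫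
        (thetaD e k).hom.app (DerivedCategory.Qh.obj M) =
      DerivedCategory.Qh.map ((thetaK e k).hom.app M) ≫
        (EtCoh.pull k).mapDerivedCategoryFactorsh.inv.app
          (((EtCoh.pull e).mapHomotopyCategory _).obj M) ≫
        (EtBC.pullD k).map ((EtCoh.pull e).mapDerivedCategoryFactorsh.inv.app M) := by
  simp [thetaD, Localization.liftNatIso, Localization.Lifting.iso]

end Theta

end Groth.Agent.Lib.Helper16.EtD
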