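import Groth.Prelude.Def_W4bk4goldsch45p2
import Mathlib.LinearAlgebra.Matrix.Determinant.Basic
import Mathlib.RingTheory.Valuation.ValuationSubring
import Mathlib.RingTheory.LaurentSeries

/-!
# Values at a place: `evalP` as a ring homomorphism, determinants; order of `dt` (helper16)
-/

set_option autoImplicit false

namespace Groth.Agent.Lib.Helper16.EvalP

open FunFld WithZero LocRes

variable {k K : Type*} [Field k] [Field K] [Algebra k K] (P : Place k K)

lemma evalP_coe (y : P.O) : evalP P (y : K) = IsLocalRing.residue P.O y := by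
  unfold evalP
  rw [dif_pos ((Valuation.mem_valuationSubring_iff P.1 _).mp y.2)]

lemma evalP_of_le {z : K} (hz : P.1 z ≤ 1) :
    evalP P z = IsLocalRing.residue P.O ⟨z, (Valuation.mem_valuationSubring_iff P.1 z).mpr hz⟩ := by
  unfold evalP
  rw [dif_pos hz]

lemma evalP_eq_zero_iff {z : K} (hz : P.1 z ≤ 1) : evalP P z = 0 ↔ P.1 z < 1 := by
  rw [evalP_of_le P hz, IsLocalRing.residue_eq_zero_iff, Valuation.mem_maximalIdeal_iff]

lemma evalP_ne_zero_iff {z : K} (hz : P.1 z ≤ 1) : evalP P z ≠ 0 ↔ P.1 z = 1 := by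
  rw [Ne, evalP_eq_zero_iff P hz, not_lt]
  exact ⟨fun h => le_antisymm hz h, fun h => h.ge⟩

lemma evalP_det {N : ℕ} (M : Matrix (Fin N) (Fin N) K) (hM : ∀ i j, P.1 (M i j) ≤ 1) :
    P.1 M.det ≤ 1 ∧ evalP P M.det = (Matrix.of fun i j => evalP P (M i j)).det := by
  let MO : Matrix (Fin N) (Fin N) P.O :=
    Matrix.of fun i j => ⟨M i j, (Valuation.mem_valuationSubring_iff P.1 _).mpr (hM i j)⟩
  have h1 : M = (P.O.subtype).mapMatrix MO := by
    ext i j; rfl
  have h2 : M.det = ((MO.det : P.O) : K) := by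
    rw [h1, ← RingHom.map_det]; rfl
  refine ⟨?_, ?_⟩
  · rw [h2]
    exact (Valuation.mem_valuationSubring_iff P.1 _).mp (MO.det).2
  · rw [h2, evalP_coe, RingHom.map_det]
    congr 1
    ext i j
    show IsLocalRing.residue P.O (MO i j) = evalP P (M i j)
    rw [evalP_of_le P (hM i j)]
    rfl

end Groth.Agent.Lib.Helper16.EvalP
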