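import Mathlib
import Groth.Prelude.Def_FrobAlg
import Groth.Prelude.Def_W4c1imperftorsorsPerf

set_option autoImplicit false

open TensorProduct

namespace Helper16.FPF

universe u

section EM

variable {R : Type u} [CommRing R]

/-- `R` as a module over itself through an endomorphism. -/
def EM (_f : R →+* R) : Type u := R

instance (f : R →+* R) : CommRing (EM f) := inferInstanceAs (CommRing R)

/-- the identity of underlying rings -/
def EM.of (f : R →+* R) : R ≃+* EM f := RingEquiv.refl R

instance (f : R →+* R) : Algebra R (EM f) := ((EM.of f : R →+* EM f).comp f).toAlgebra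

theorem EM.algebraMap_apply (f : R →+* R) (a : R) : algebraMap R (EM f) a = EM.of f (f a) := rfl

theorem EM.smul_def (f : R →+* R) (a : R) (x : EM f) : a • x = EM.of f (f a) * x := by
  rw [Algebra.smul_def]
  rfl

theorem EM.smul_of (f : R →+* R) (a : R) (x : R) : a • EM.of f x = EM.of f (f a * x) := by
  rw [EM.smul_def, map_mul]

/-- transitivity of projectivity for endomorphism modules -/
theorem projective_comp (f g : R →+* R) [Module.Projective R (EM f)] [Module.Projective R (EM g)] :
    Module.Projective R (EM (g.comp f)) := by
  classical
  obtain ⟨s, hs⟩ := Module.projective_def'.mp (inferInstance : Module.Projective R (EM g))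
  -- the inclusion
  let i : EM (g.comp f) →ₗ[R] (EM g →₀ EM f) :=
    { toFun := fun x => (s ((EM.of g) ((EM.of (g.comp f)).symm x))).mapRange (EM.of f) (map_zero _)
      map_add' := fun x y => by
        ext j
        simp only [map_add, Finsupp.mapRange_apply, Finsupp.add_apply]
      map_smul' := fun a x => by
        ext j
        have h1 : (EM.of g) ((EM.of (g.comp f)).symm (a • x)) =
            (f a) • (EM.of g) ((EM.of (g.comp f)).symm x) := by
          rw [EM.smul_def, EM.smul_def]
          rfl
        rw [h1, map_smul, Finsupp.mapRange_apply, Finsupp.smul_apply, RingHom.id_apply,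
          Finsupp.smul_apply, Finsupp.mapRange_apply, smul_eq_mul, EM.smul_of] }
  let π : (EM g →₀ EM f) →ₗ[R] EM (g.comp f) :=
    { toFun := fun v => (EM.of (g.comp f)) ((EM.of g).symm
        (Finsupp.linearCombination R id (v.mapRange (EM.of f).symm (map_zero _))))
      map_add' := fun v w => by
        have : (v + w).mapRange (EM.of f).symm (map_zero _) =
            v.mapRange (EM.of f).symm (map_zero _) + w.mapRange (EM.of f).symm (map_zero _) := by
          ext j
          simp only [Finsupp.mapRange_apply, Finsupp.add_apply, map_add]
        rw [this, map_add, map_add, map_add]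
      map_smul' := fun a v => by
        have : (a • v).mapRange (EM.of f).symm (map_zero _) =
            (f a) • v.mapRange (EM.of f).symm (map_zero _) := by
          ext j
          simp only [Finsupp.mapRange_apply, Finsupp.smul_apply, smul_eq_mul]
          rw [EM.smul_def, map_mul, RingEquiv.symm_apply_apply]
        rw [this, map_smul, RingHom.id_apply, EM.smul_def, EM.smul_def]
        rfl }
  have hπi : π.comp i = LinearMap.id := by
    ext x
    show (EM.of (g.comp f)) ((EM.of g).symm (Finsupp.linearCombination R id
      (((s ((EM.of g) ((EM.of (g.comp f)).symm x))).mapRange (EM.of f) (map_zero _)).mapRange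
        (EM.of f).symm (map_zero _)))) = x
    have h2 : ((s ((EM.of g) ((EM.of (g.comp f)).symm x))).mapRange (EM.of f) (map_zero _)).mapRange
        (EM.of f).symm (map_zero _) = s ((EM.of g) ((EM.of (g.comp f)).symm x)) := by
      ext j
      simp only [Finsupp.mapRange_apply, RingEquiv.symm_apply_apply]
    rw [h2]
    have h3 := LinearMap.congr_fun hs ((EM.of g) ((EM.of (g.comp f)).symm x))
    rw [LinearMap.comp_apply, LinearMap.id_apply] at h3
    rw [h3, RingEquiv.symm_apply_apply, RingEquiv.apply_symm_apply]
  haveI : Module.Projective R (EM g →₀ EM f) :=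
    Module.Projective.of_equiv (finsuppLequivDFinsupp R).symm
  exact Module.Projective.of_split i π hπi

end EM

section JointInj

variable {R : Type u} [CommRing R] {P : Type*} [AddCommGroup P] [Module R P]
variable {M : Type*} [AddCommGroup M] [Module R M] {ι : Type*} {N : ι → Type*}
variable [∀ i, AddCommGroup (N i)] [∀ i, Module R (N i)]

/-- tensoring a jointly injective family with a projective module keeps it jointly injective. -/
theorem eq_zero_of_lTensor_eq_zero [Module.Projective R P] (e : ∀ i, M →ₗ[R] N i)
    (he : ∀ m : M, (∀ i, e i m = 0) → m = 0) (y : P ⊗[R] M)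
    (hy : ∀ i, (e i).lTensor P y = 0) : y = 0 := by
  classical
  obtain ⟨s, hs⟩ := Module.projective_def'.mp (inferInstance : Module.Projective R P)
  have hinj : Function.Injective (s.rTensor M) := by
    have : ((Finsupp.linearCombination R id).rTensor M).comp (s.rTensor M) = LinearMap.id := by
      rw [← LinearMap.rTensor_comp, hs, LinearMap.rTensor_id]
    exact Function.LeftInverse.injective (g := (Finsupp.linearCombination R id).rTensor M)
      (fun z => LinearMap.congr_fun this z)
  apply hinj
  rw [map_zero]
  apply (TensorProduct.finsuppScalarLeft R M P).injective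
  rw [map_zero]
  -- naturality
  have hnat : ∀ (i : ι) (z : (P →₀ R) ⊗[R] M) (j : P),
      TensorProduct.finsuppScalarLeft R (N i) P ((e i).lTensor (P →₀ R) z) j =
        e i (TensorProduct.finsuppScalarLeft R M P z j) := by
    intro i z j
    induction z using TensorProduct.induction_on with
    | zero => simp
    | tmul q m =>
      rw [LinearMap.lTensor_tmul, TensorProduct.finsuppScalarLeft_apply_tmul_apply,
        TensorProduct.finsuppScalarLeft_apply_tmul_apply, map_smul]
    | add z z' ih ih' => simp only [map_add, Finsupp.add_apply, ih, ih']
  ext j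
  rw [Finsupp.zero_apply]
  apply he
  intro i
  rw [← hnat i (s.rTensor M y) j]
  have hcomm : (e i).lTensor (P →₀ R) (s.rTensor M y) = s.rTensor (N i) ((e i).lTensor P y) := by
    rw [← LinearMap.comp_apply, ← LinearMap.comp_apply, LinearMap.lTensor_comp_rTensor,
      LinearMap.rTensor_comp_lTensor]
  rw [hcomm, hy i, map_zero, map_zero, Finsupp.zero_apply]

end JointInj

end Helper16.FPF
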