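import Groth.Agent.Lib.Helper16.FPF1

set_option autoImplicit false

open TensorProduct

namespace Helper16.FPF

universe u

section Frob

variable (p : ℕ) [Fact p.Prime] (R : Type u) [CommRing R] [CharP R p]

/-- `R` as an `R`-algebra through the `k`-th iterate of Frobenius. -/
abbrev FP (k : ℕ) : Type u := EM (iterateFrobenius R p k)

theorem iterateFrobenius_succ_comp (k : ℕ) :
    iterateFrobenius R p (k + 1) = (frobenius R p).comp (iterateFrobenius R p k) := by
  ext x
  simp only [RingHom.comp_apply, iterateFrobenius_def, frobenius_def, pow_succ, pow_mul]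

/-- the Frobenius twist of the prelude is `EM frobenius`. -/
def twistEquiv : FrobAlg.Twist p R ≃ₗ[R] EM (frobenius R p) where
  toFun x := EM.of _ ((FrobAlg.toTwist p R).symm x)
  invFun y := FrobAlg.toTwist p R ((EM.of _).symm y)
  map_add' _ _ := rfl
  map_smul' a x := by
    rw [Algebra.smul_def, FrobAlg.algebraMap_twist, RingHom.id_apply, EM.smul_def]
    rfl
  left_inv _ := rfl
  right_inv _ := rfl

/-- `EM (iterateFrobenius 0)` is `R`. -/
def fpZeroEquiv : R ≃ₗ[R] FP p R 0 where
  toFun x := EM.of _ x
  invFun y := (EM.of _).symm y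
  map_add' _ _ := rfl
  map_smul' a x := by
    rw [RingHom.id_apply, EM.smul_of, smul_eq_mul]
    congr 2
    simp [iterateFrobenius_def]
  left_inv _ := rfl
  right_inv _ := rfl

theorem projective_FP [Module.Projective R (FrobAlg.Twist p R)] (k : ℕ) :
    Module.Projective R (FP p R k) := by
  haveI : Module.Projective R (EM (frobenius R p)) :=
    Module.Projective.of_equiv (twistEquiv p R)
  induction k with
  | zero => exact Module.Projective.of_equiv (fpZeroEquiv p R)
  | succ k ih =>
    haveI := ih
    have := projective_comp (iterateFrobenius R p k) (frobenius R p)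
    unfold FP
    rw [iterateFrobenius_succ_comp]
    exact this

/-- transition maps -/
def tau (k l : ℕ) (h : k ≤ l) : FP p R k →ₗ[R] FP p R l where
  toFun x := EM.of _ (iterateFrobenius R p (l - k) ((EM.of _).symm x))
  map_add' x y := by rw [map_add, map_add, map_add]
  map_smul' a x := by
    rw [RingHom.id_apply, EM.smul_def, EM.smul_def, map_mul, RingEquiv.symm_apply_apply, map_mul,
      map_mul]
    congr 2
    rw [← iterateFrobenius_add_apply, Nat.sub_add_cancel h]

theorem tau_of (k l : ℕ) (h : k ≤ l) (x : R) :
    tau p R k l h (EM.of _ x) = EM.of _ (iterateFrobenius R p (l - k) x) := rfl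

end Frob

section PC

variable (p : ℕ) [Fact p.Prime] (R : Type u) [CommRing R] [CharP R p]

/-- the algebra structure of the perfect closure -/
noncomputable def algPC : Algebra R (PerfectClosure R p) := (PerfectClosure.of R p).toAlgebra

attribute [local instance] algPC

theorem algebraMap_PC (a : R) : algebraMap R (PerfectClosure R p) a = PerfectClosure.of R p a := rfl

/-- the `k`-th structure map `r ↦ r^{1/p^k}`. -/
noncomputable def u (k : ℕ) : R →+* PerfectClosure R p :=
  ((iterateFrobeniusEquiv (PerfectClosure R p) p k).symm : PerfectClosure R p →+*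
    PerfectClosure R p).comp (PerfectClosure.of R p)

theorem u_apply (k : ℕ) (x : R) :
    u p R k x = (iterateFrobeniusEquiv (PerfectClosure R p) p k).symm (PerfectClosure.of R p x) :=
  rfl

theorem frob_u (k : ℕ) (x : R) :
    iterateFrobeniusEquiv (PerfectClosure R p) p k (u p R k x) = PerfectClosure.of R p x := by
  rw [u_apply, RingEquiv.apply_symm_apply]

theorem u_mk (k : ℕ) (x : R) : u p R k x = PerfectClosure.mk R p (k, x) := by
  apply (iterateFrobeniusEquiv (PerfectClosure R p) p k).injective
  rw [frob_u, coe_iterateFrobeniusEquiv, coe_iterateFrobenius, PerfectClosure.iterate_frobenius_mk]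

theorem u_pow (k : ℕ) (a : R) : u p R k (iterateFrobenius R p k a) = PerfectClosure.of R p a := by
  apply (iterateFrobeniusEquiv (PerfectClosure R p) p k).injective
  rw [frob_u, iterateFrobenius_def, map_pow, iterateFrobeniusEquiv_def]

theorem u_shift (k l : ℕ) (h : k ≤ l) (x : R) :
    u p R l (iterateFrobenius R p (l - k) x) = u p R k x := by
  apply (iterateFrobeniusEquiv (PerfectClosure R p) p l).injective
  rw [frob_u]
  conv_rhs => rw [← Nat.sub_add_cancel h, iterateFrobeniusEquiv_add_apply, frob_u]
  rw [iterateFrobenius_def, map_pow, iterateFrobeniusEquiv_def]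

theorem exists_u (r : PerfectClosure R p) : ∃ (k : ℕ) (x : R), u p R k x = r := by
  induction r using PerfectClosure.induction_on with
  | _ x => exact ⟨x.1, x.2, u_mk p R x.1 x.2⟩

theorem u_eq_zero (k : ℕ) (w : R) (h : u p R k w = 0) : ∃ m, iterateFrobenius R p m w = 0 := by
  have h1 : PerfectClosure.of R p w = 0 := by rw [← frob_u p R k, h, map_zero]
  rw [PerfectClosure.of_apply, PerfectClosure.zero_def, PerfectClosure.mk_eq_iff] at h1
  obtain ⟨z, hz⟩ := h1
  refine ⟨z, ?_⟩
  simp only [zero_add] at hz
  rw [coe_iterateFrobenius, hz, ← coe_iterateFrobenius, map_zero]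

theorem u_eq_one (k : ℕ) (w : R) (h : u p R k w = 1) : ∃ m, iterateFrobenius R p m w = 1 := by
  have h1 : PerfectClosure.of R p w = 1 := by rw [← frob_u p R k, h, map_one]
  rw [PerfectClosure.of_apply, PerfectClosure.one_def, PerfectClosure.mk_eq_iff] at h1
  obtain ⟨z, hz⟩ := h1
  refine ⟨z, ?_⟩
  simp only [zero_add] at hz
  rw [coe_iterateFrobenius, hz, ← coe_iterateFrobenius, map_one]

/-- the linear maps `FP k → R^perf`. -/
noncomputable def iota (k : ℕ) : FP p R k →ₗ[R] PerfectClosure R p where
  toFun x := u p R k ((EM.of _).symm x)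
  map_add' x y := by rw [map_add, map_add]
  map_smul' a x := by
    rw [RingHom.id_apply, EM.smul_def, map_mul, RingEquiv.symm_apply_apply, map_mul, u_pow,
      Algebra.smul_def, algebraMap_PC]

theorem iota_of (k : ℕ) (x : R) : iota p R k (EM.of _ x) = u p R k x := rfl

theorem iota_tau (k l : ℕ) (h : k ≤ l) : (iota p R l).comp (tau p R k l h) = iota p R k := by
  ext x
  obtain ⟨x, rfl⟩ := (EM.of (iterateFrobenius R p k)).surjective x
  rw [LinearMap.comp_apply, tau_of, iota_of, iota_of, u_shift p R k l h]

end PC

end Helper16.FPF
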