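import Groth.Agent.Lib.Helper16.FPF2

set_option autoImplicit false

open TensorProduct

namespace Helper16.FPF

universe u

section Gen

variable {R : Type u} [CommRing R]

theorem rid_rTensor {P Q : Type*} [AddCommGroup P] [Module R P] [AddCommGroup Q] [Module R Q]
    (f : P →ₗ[R] Q) (y : P ⊗[R] R) :
    TensorProduct.rid R Q (f.rTensor R y) = f (TensorProduct.rid R P y) := by
  induction y using TensorProduct.induction_on with
  | zero => simp
  | tmul x a => simp
  | add y y' ih ih' => simp only [map_add, ih, ih']

end Gen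

section PC

variable (p : ℕ) [Fact p.Prime] (R : Type u) [CommRing R] [CharP R p]

attribute [local instance] algPC

theorem exists_rep (M : Type*) [AddCommGroup M] [Module R M] (z : PerfectClosure R p ⊗[R] M) :
    ∃ (k : ℕ) (zk : FP p R k ⊗[R] M), (iota p R k).rTensor M zk = z := by
  induction z using TensorProduct.induction_on with
  | zero => exact ⟨0, 0, map_zero _⟩
  | tmul r m =>
    obtain ⟨k, x, rfl⟩ := exists_u p R r
    exact ⟨k, (EM.of _ x) ⊗ₜ m, by rw [LinearMap.rTensor_tmul, iota_of]⟩
  | add z z' ih ih' =>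
    obtain ⟨k, zk, rfl⟩ := ih
    obtain ⟨k', zk', rfl⟩ := ih'
    refine ⟨max k k', (tau p R k _ (le_max_left _ _)).rTensor M zk +
      (tau p R k' _ (le_max_right _ _)).rTensor M zk', ?_⟩
    rw [map_add, ← LinearMap.comp_apply, ← LinearMap.comp_apply, ← LinearMap.rTensor_comp,
      ← LinearMap.rTensor_comp, iota_tau, iota_tau]

theorem frob_mem (m : Ideal R) (r : R) (hr : r ∈ m) (j : ℕ) : iterateFrobenius R p j r ∈ m := by
  rw [iterateFrobenius_def]
  exact Ideal.pow_mem_of_mem m hr _ (pow_pos (Fact.out : p.Prime).pos j)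

theorem flat_PC [Module.Projective R (FrobAlg.Twist p R)] :
    Module.Flat R (PerfectClosure R p) := by
  rw [Module.Flat.iff_lTensor_injective']
  intro I
  rw [injective_iff_map_eq_zero]
  intro z hz
  obtain ⟨k, zk, rfl⟩ := exists_rep p R I z
  have h1 : (iota p R k).rTensor R ((I.subtype).lTensor (FP p R k) zk) = 0 := by
    rw [← LinearMap.comp_apply, LinearMap.rTensor_comp_lTensor, ← LinearMap.lTensor_comp_rTensor,
      LinearMap.comp_apply]
    exact hz
  have h2 : iota p R k (TensorProduct.rid R (FP p R k) ((I.subtype).lTensor (FP p R k) zk)) = 0 := by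
    rw [← rid_rTensor, h1, map_zero]
  obtain ⟨x, hx⟩ := (EM.of (iterateFrobenius R p k)).surjective
    (TensorProduct.rid R (FP p R k) ((I.subtype).lTensor (FP p R k) zk))
  rw [← hx, iota_of] at h2
  obtain ⟨m, hm⟩ := u_eq_zero p R k x h2
  have hkl : k ≤ k + m := Nat.le_add_right k m
  have h3 : tau p R k (k + m) hkl
      (TensorProduct.rid R (FP p R k) ((I.subtype).lTensor (FP p R k) zk)) = 0 := by
    rw [← hx, tau_of, Nat.add_sub_cancel_left, hm, map_zero]
  rw [← rid_rTensor, LinearEquiv.map_eq_zero_iff, ← LinearMap.comp_apply,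
    LinearMap.rTensor_comp_lTensor, ← LinearMap.lTensor_comp_rTensor, LinearMap.comp_apply] at h3
  haveI := projective_FP p R (k + m)
  have h4 : (tau p R k (k + m) hkl).rTensor I zk = 0 := by
    apply Module.Flat.lTensor_preserves_injective_linearMap (M := FP p R (k + m)) I.subtype
      (Submodule.subtype_injective I)
    rw [h3, map_zero]
  rw [← iota_tau p R k (k + m) hkl, LinearMap.rTensor_comp, LinearMap.comp_apply, h4, map_zero]

theorem mem_smul_top (m : Ideal R) (y : PerfectClosure R p)
    (hy : y ∈ m • (⊤ : Submodule R (PerfectClosure R p))) :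
    ∃ (k : ℕ) (r : R), r ∈ m ∧ u p R k r = y := by
  refine Submodule.smul_induction_on hy ?_ ?_
  · intro a ha x _
    obtain ⟨k, x, rfl⟩ := exists_u p R x
    refine ⟨k, iterateFrobenius R p k a * x, m.mul_mem_right _ (frob_mem p R m a ha k), ?_⟩
    rw [map_mul, u_pow, Algebra.smul_def, algebraMap_PC]
  · intro y y' ih ih'
    obtain ⟨k, r, hr, rfl⟩ := ih
    obtain ⟨k', r', hr', rfl⟩ := ih'
    refine ⟨max k k', iterateFrobenius R p (max k k' - k) r +
      iterateFrobenius R p (max k k' - k') r', ?_, ?_⟩
    · exact m.add_mem (frob_mem p R m r hr _) (frob_mem p R m r' hr' _)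
    · rw [map_add, u_shift p R k _ (le_max_left _ _), u_shift p R k' _ (le_max_right _ _)]

theorem faithfullyFlat_PC [Module.Projective R (FrobAlg.Twist p R)] :
    Module.FaithfullyFlat R (PerfectClosure R p) := by
  refine @Module.FaithfullyFlat.mk _ _ _ _ _ (flat_PC p R) ?_
  intro m hm htop
  have h1 : (1 : PerfectClosure R p) ∈ m • (⊤ : Submodule R (PerfectClosure R p)) := by
    rw [htop]; trivial
  obtain ⟨k, r, hr, hu⟩ := mem_smul_top p R m 1 h1
  obtain ⟨z, hz⟩ := u_eq_one p R k r hu
  apply hm.ne_top
  rw [Ideal.eq_top_iff_one, ← hz]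
  exact frob_mem p R m r hr z

theorem of_faithfullyFlat [Module.Projective R (FrobAlg.Twist p R)] :
    (PerfectClosure.of R p).FaithfullyFlat := by
  have := faithfullyFlat_PC p R
  rw [← RingHom.faithfullyFlat_algebraMap_iff] at this
  exact this

theorem u_faithfullyFlat [Module.Projective R (FrobAlg.Twist p R)] (k : ℕ) :
    (u p R k).FaithfullyFlat :=
  RingHom.FaithfullyFlat.stableUnderComposition _ _ (of_faithfullyFlat p R)
    (RingHom.FaithfullyFlat.of_bijective (RingEquiv.bijective _))

theorem iota_rTensor_injective [Module.Projective R (FrobAlg.Twist p R)] (k : ℕ)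
    (N : Type*) [AddCommGroup N] [Module R N] :
    Function.Injective ((iota p R k).rTensor N) := by
  letI algS : Algebra (FP p R k) (PerfectClosure R p) :=
    ((u p R k).comp ((EM.of (iterateFrobenius R p k)).symm : FP p R k →+* R)).toAlgebra
  haveI : IsScalarTower R (FP p R k) (PerfectClosure R p) :=
    IsScalarTower.of_algebraMap_eq (fun a => by
      show PerfectClosure.of R p a = u p R k ((EM.of _).symm (algebraMap R (FP p R k) a))
      rw [EM.algebraMap_apply, RingEquiv.symm_apply_apply, u_pow])
  haveI : Module.FaithfullyFlat (FP p R k) (PerfectClosure R p) := by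
    rw [← RingHom.faithfullyFlat_algebraMap_iff]
    show ((u p R k).comp _).FaithfullyFlat
    exact RingHom.FaithfullyFlat.stableUnderComposition _ _
      (RingHom.FaithfullyFlat.of_bijective (RingEquiv.bijective _)) (u_faithfullyFlat p R k)
  have hmk := Module.FaithfullyFlat.tensorProduct_mk_injective (A := FP p R k)
    (B := PerfectClosure R p) (FP p R k ⊗[R] N)
  have hfun : ∀ y : FP p R k ⊗[R] N, (iota p R k).rTensor N y =
      TensorProduct.AlgebraTensorModule.cancelBaseChange R (FP p R k) (FP p R k)
        (PerfectClosure R p) N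
        (TensorProduct.mk (FP p R k) (PerfectClosure R p) (FP p R k ⊗[R] N) 1 y) := by
    intro y
    induction y using TensorProduct.induction_on with
    | zero => simp
    | tmul s n =>
      rw [LinearMap.rTensor_tmul, TensorProduct.mk_apply,
        TensorProduct.AlgebraTensorModule.cancelBaseChange_tmul]
      congr 1
      rw [Algebra.smul_def, mul_one]
      rfl
    | add y y' ih ih' => rw [map_add, map_add, map_add, ih, ih']
  intro y y' h
  rw [hfun, hfun] at h
  exact hmk ((TensorProduct.AlgebraTensorModule.cancelBaseChange R (FP p R k) (FP p R k)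
        (PerfectClosure R p) N).injective h)

theorem main_inj [Module.Projective R (FrobAlg.Twist p R)] {M : Type*} [AddCommGroup M]
    [Module R M] {ι : Type*} {N : ι → Type*} [∀ i, AddCommGroup (N i)] [∀ i, Module R (N i)]
    (e : ∀ i, M →ₗ[R] N i) (he : ∀ m : M, (∀ i, e i m = 0) → m = 0) :
    Function.Injective (LinearMap.pi fun i => (e i).lTensor (PerfectClosure R p)) := by
  rw [injective_iff_map_eq_zero]
  intro z hz
  obtain ⟨k, zk, rfl⟩ := exists_rep p R M z
  haveI := projective_FP p R k
  have : zk = 0 := by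
    apply eq_zero_of_lTensor_eq_zero e he zk
    intro i
    apply iota_rTensor_injective p R k (N i)
    rw [map_zero, ← LinearMap.comp_apply, LinearMap.rTensor_comp_lTensor,
      ← LinearMap.lTensor_comp_rTensor, LinearMap.comp_apply]
    exact congr_fun hz i
  rw [this, map_zero]

end PC

end Helper16.FPF
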