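import Mathlib

set_option autoImplicit false

universe u

namespace Groth.Agent.Lib.Helper16.FinInjHT

open IsLocalRing

/-- (HT) adic topology condition for a finite injective extension of a Noetherian local ring -/
theorem htop_of_finite_injective {O : Type u} [CommRing O] [IsLocalRing O] [IsNoetherianRing O]
    {A' : Type u} [CommRing A'] (φ : O →+* A') (hfin : φ.Finite) (hinj : Function.Injective φ)
    (N : ℕ) : ∃ s : Finset (MaximalSpectrum A' × ℕ),
      ⨅ p ∈ s, Ideal.comap ((algebraMap A' (Localization.AtPrime p.1.asIdeal)).comp φ)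
        (IsLocalRing.maximalIdeal (Localization.AtPrime p.1.asIdeal) ^ p.2) ≤
          IsLocalRing.maximalIdeal O ^ N := by
  classical
  letI : Algebra O A' := φ.toAlgebra
  haveI : Module.Finite O A' := hfin
  haveI : Algebra.IsIntegral O A' := Algebra.IsIntegral.of_finite O A'
  haveI : IsNoetherianRing A' := IsNoetherianRing.of_finite O A'
  have hφ : algebraMap O A' = φ := rfl
  -- primes containing 𝔪A' are maximal
  have hP : ∀ 𝔮 : Ideal A', 𝔮.IsPrime → (maximalIdeal O).map φ ≤ 𝔮 → 𝔮.IsMaximal := by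
    intro 𝔮 h𝔮 hle
    have h1 : maximalIdeal O ≤ 𝔮.comap (algebraMap O A') := Ideal.map_le_iff_le_comap.mp hle
    have h2 : 𝔮.comap (algebraMap O A') = maximalIdeal O :=
      ((maximalIdeal.isMaximal O).eq_of_le (Ideal.comap_ne_top _ h𝔮.ne_top) h1).symm
    exact Ideal.isMaximal_of_isIntegral_of_isMaximal_comap 𝔮 (h2 ▸ maximalIdeal.isMaximal O)
  -- each maximal ideal contains 𝔪A'
  have hmax_le : ∀ 𝔫 : Ideal A', 𝔫.IsMaximal → (maximalIdeal O).map φ ≤ 𝔫 := by
    intro 𝔫 h𝔫
    have h1 : (𝔫.comap (algebraMap O A')).IsMaximal :=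
      Ideal.isMaximal_comap_of_isIntegral_of_isMaximal 𝔫
    have h2 : 𝔫.comap (algebraMap O A') = maximalIdeal O := IsLocalRing.eq_maximalIdeal h1
    rw [Ideal.map_le_iff_le_comap]
    exact h2.ge
  -- finiteness of the maximal spectrum
  have hfinset : {𝔫 : Ideal A' | 𝔫.IsMaximal}.Finite := by
    refine (Ideal.finite_minimalPrimes_of_isNoetherianRing A' ((maximalIdeal O).map φ)).subset ?_
    intro 𝔫 (h𝔫 : 𝔫.IsMaximal)
    refine ⟨⟨h𝔫.isPrime, hmax_le 𝔫 h𝔫⟩, ?_⟩
    rintro 𝔮 ⟨h𝔮, hle⟩ h𝔮𝔫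
    exact ((hP 𝔮 h𝔮 hle).eq_of_le h𝔫.ne_top h𝔮𝔫).ge
  haveI : Finite (MaximalSpectrum A') := by
    haveI := hfinset.to_subtype
    exact Finite.of_injective
      (fun 𝔫 : MaximalSpectrum A' =>
        (⟨𝔫.asIdeal, 𝔫.isMaximal⟩ : {𝔫 : Ideal A' | 𝔫.IsMaximal}))
      (fun a b h => MaximalSpectrum.ext (congrArg Subtype.val h))
  haveI := Fintype.ofFinite (MaximalSpectrum A')
  -- Artin-Rees
  obtain ⟨c, hc⟩ := Ideal.exists_pow_inf_eq_pow_smul (maximalIdeal O)
    (LinearMap.range (Algebra.linearMap O A'))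
  -- local statement
  have hloc : ∀ 𝔫 : MaximalSpectrum A', ∃ m : ℕ,
      maximalIdeal (Localization.AtPrime 𝔫.asIdeal) ^ m ≤
        (((maximalIdeal O) ^ (N + c)).map φ).map
          (algebraMap A' (Localization.AtPrime 𝔫.asIdeal)) := by
    intro 𝔫
    have hrad : maximalIdeal (Localization.AtPrime 𝔫.asIdeal) ≤
        ((((maximalIdeal O) ^ (N + c)).map φ).map
          (algebraMap A' (Localization.AtPrime 𝔫.asIdeal))).radical := by
      rw [Ideal.radical_eq_sInf]
      refine le_sInf ?_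
      rintro 𝔮 ⟨hle, h𝔮⟩
      have h𝔮' : (𝔮.comap (algebraMap A' (Localization.AtPrime 𝔫.asIdeal))).IsPrime :=
        Ideal.comap_isPrime _ _
      have hK𝔮 : ((maximalIdeal O) ^ (N + c)).map φ ≤
          𝔮.comap (algebraMap A' (Localization.AtPrime 𝔫.asIdeal)) :=
        Ideal.map_le_iff_le_comap.mp hle
      have h𝔪𝔮 : (maximalIdeal O).map φ ≤
          𝔮.comap (algebraMap A' (Localization.AtPrime 𝔫.asIdeal)) := by
        rw [Ideal.map_le_iff_le_comap]
        intro a ha
        have : φ (a ^ (N + c)) ∈ 𝔮.comap (algebraMap A' (Localization.AtPrime 𝔫.asIdeal)) :=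
          hK𝔮 (Ideal.mem_map_of_mem φ (Ideal.pow_mem_pow ha (N + c)))
        rw [map_pow] at this
        exact h𝔮'.mem_of_pow_mem (N + c) this
      have hmax := hP _ h𝔮' h𝔪𝔮
      have hle𝔫 : 𝔮.comap (algebraMap A' (Localization.AtPrime 𝔫.asIdeal)) ≤ 𝔫.asIdeal := by
        have h3 : 𝔮 ≤ maximalIdeal (Localization.AtPrime 𝔫.asIdeal) :=
          IsLocalRing.le_maximalIdeal h𝔮.ne_top
        calc 𝔮.comap (algebraMap A' (Localization.AtPrime 𝔫.asIdeal))
            ≤ (maximalIdeal (Localization.AtPrime 𝔫.asIdeal)).comap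
                (algebraMap A' (Localization.AtPrime 𝔫.asIdeal)) := Ideal.comap_mono h3
          _ = 𝔫.asIdeal := Localization.AtPrime.under_maximalIdeal
      have heq : 𝔮.comap (algebraMap A' (Localization.AtPrime 𝔫.asIdeal)) = 𝔫.asIdeal :=
        hmax.eq_of_le 𝔫.isMaximal.ne_top hle𝔫
      have h4 : maximalIdeal (Localization.AtPrime 𝔫.asIdeal) =
          Ideal.map (algebraMap A' (Localization.AtPrime 𝔫.asIdeal)) 𝔫.asIdeal :=
        Localization.AtPrime.map_eq_maximalIdeal.symm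
      rw [h4]
      have h5 : Ideal.map (algebraMap A' (Localization.AtPrime 𝔫.asIdeal))
          (𝔮.comap (algebraMap A' (Localization.AtPrime 𝔫.asIdeal))) ≤ 𝔮 := Ideal.map_comap_le
      rw [heq] at h5
      exact h5
    obtain ⟨m, hm⟩ := Ideal.exists_radical_pow_le_of_fg
      ((((maximalIdeal O) ^ (N + c)).map φ).map
          (algebraMap A' (Localization.AtPrime 𝔫.asIdeal))) (IsNoetherian.noetherian _)
    exact ⟨m, (Ideal.pow_right_mono hrad m).trans hm⟩
  choose mfun hmfun using hloc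
  refine ⟨Finset.univ.image (fun 𝔫 => (𝔫, mfun 𝔫)), ?_⟩
  intro a ha
  simp only [Submodule.mem_iInf] at ha
  -- φ a ∈ K
  have haK : φ a ∈ ((maximalIdeal O) ^ (N + c)).map φ := by
    apply Ideal.mem_of_localization_maximal
    intro P hP'
    have h1 := ha ((⟨P, hP'⟩ : MaximalSpectrum A'), mfun ⟨P, hP'⟩)
      (Finset.mem_image_of_mem _ (Finset.mem_univ _))
    exact hmfun ⟨P, hP'⟩ h1
  have h2 : φ a ∈ ((maximalIdeal O) ^ (N + c) • ⊤ : Submodule O A') := by
    rw [Ideal.smul_top_eq_map]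
    exact haK
  have h3 : φ a ∈ ((maximalIdeal O) ^ (N + c) • ⊤ : Submodule O A') ⊓
      LinearMap.range (Algebra.linearMap O A') := ⟨h2, ⟨a, rfl⟩⟩
  rw [hc (N + c) (by omega)] at h3
  have h4 : φ a ∈ (maximalIdeal O) ^ N • LinearMap.range (Algebra.linearMap O A') := by
    have : N + c - c = N := by omega
    rw [this] at h3
    exact Submodule.smul_mono le_rfl inf_le_right h3
  rw [LinearMap.range_eq_map, ← Submodule.map_smul''] at h4
  obtain ⟨a', ha', haa'⟩ := h4
  have h5 : a' = a := hinj haa'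
  rw [← h5]
  refine Submodule.smul_induction_on ha' (fun r hr x _ => ?_) (fun x y hx hy => Ideal.add_mem _ hx hy)
  rw [smul_eq_mul]
  exact Ideal.mul_mem_right _ _ hr

end Groth.Agent.Lib.Helper16.FinInjHT
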