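import Mathlib

/-!
# Restriction to an affine open of an affine scheme is flat (sub-lemma R5 for helper94)
-/

universe u

open AlgebraicGeometry CategoryTheory Opposite TopologicalSpace

namespace Groth.Agent.Lib.Helper16.FlatRes

theorem flat_restrict_le {X : Scheme.{u}} {U V : X.Opens} (hU : IsAffineOpen U)
    (hV : IsAffineOpen V) (h : V ≤ U) : (X.presheaf.map (homOfLE h).op).hom.Flat := by
  have h1 := HasRingHomProperty.appLE (P := @Flat) (𝟙 X) inferInstance ⟨U, hU⟩ ⟨V, hV⟩
    (by simpa using h)
  have h2 : (𝟙 X : X ⟶ X).appLE U V (by simpa using h) = X.presheaf.map (homOfLE h).op := by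
    simp only [Scheme.Hom.appLE, Scheme.Hom.id_app, Category.id_comp]
    rfl
  rwa [h2] at h1

theorem flat_restrict_affine {X : Scheme.{u}} [IsAffine X] (V : X.Opens) (hV : IsAffineOpen V) :
    (X.presheaf.map (homOfLE (le_top : V ≤ ⊤)).op).hom.Flat :=
  flat_restrict_le (isAffineOpen_top X) hV le_top

end Groth.Agent.Lib.Helper16.FlatRes
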