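import Mathlib
import Groth.Prelude.Def_RegImm

/-!
# A finite free algebra with a square finite presentation is syntomic

If `S` is an `R`-algebra which is free of finite positive rank as an `R`-module and has a
presentation with `m` generators and `m` relations, then `R → S` is syntomic (in the prelude's
sense: flat, finitely presented, fibres local complete intersections) and faithfully flat.
-/

set_option autoImplicit false
universe u

namespace Helper16.FrobSynt

open TensorProduct

theorem syntomic_of_free_of_presentation {R S : Type u} [CommRing R] [CommRing S] [Algebra R S]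
    {m : ℕ} {ι : Type*} [Finite ι] [Nonempty ι]
    (P : Algebra.Presentation R S (Fin m) (Fin m)) (e : S ≃ₗ[R] (ι →₀ R)) :
    Synt.IsSyntomic R S ∧ Module.FaithfullyFlat R S := by
  have : Module.Free R S := Module.Free.of_equiv e.symm
  have : Module.Finite R S := Module.Finite.equiv e.symm
  have hFP : Algebra.FinitePresentation R S := P.finitePresentation_of_isFinite
  have hFF : Module.FaithfullyFlat R S := Module.FaithfullyFlat.of_linearEquiv _ _ e
  refine ⟨⟨inferInstance, hFP, fun q => ?_⟩, hFF⟩
  refine ⟨inferInstance, fun 𝔓 => ⟨1, ?_, ?_⟩⟩
  · intro h1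
    exact 𝔓.2.ne_top ((Ideal.eq_top_iff_one _).mpr h1)
  · set κ := q.asIdeal.ResidueField with hκ
    set F := q.asIdeal.Fiber S with hF
    by_cases hsub : Subsingleton (Localization.Away (1 : F))
    · exact Or.inl hsub
    · right
      let P' : Algebra.Presentation κ F (Fin m) (Fin m) := P.baseChange κ
      let eL : F ≃ₐ[F] Localization.Away (1 : F) := IsLocalization.atOne F _
      let eLκ : F ≃ₐ[κ] Localization.Away (1 : F) := eL.restrictScalars κ
      refine ⟨m, m, le_rfl, eLκ.toAlgHom.comp (MvPolynomial.aeval P'.val), P'.relation, ?_, ?_, ?_⟩
      · intro x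
        obtain ⟨y, hy⟩ := P'.aeval_val_surjective (eLκ.symm x)
        exact ⟨y, by simp [hy]⟩
      · rw [P'.span_range_relation_eq_ker, P'.ker_eq_ker_aeval_val]
        ext x
        simp only [RingHom.mem_ker, AlgHom.toRingHom_eq_coe, RingHom.coe_coe, AlgHom.coe_comp,
          Function.comp_apply]
        exact (map_eq_zero_iff eLκ eLκ.injective)
      · rw [← ringKrullDim_eq_of_ringEquiv eL.toRingEquiv]
        have : Module.Finite κ F := inferInstance
        have : IsArtinianRing F := IsArtinianRing.of_finite κ F
        have : Nontrivial F := by
          by_contra hn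
          rw [not_nontrivial_iff_subsingleton] at hn
          exact hsub (eL.symm.toEquiv.subsingleton)
        simp only [Nat.sub_self, Nat.cast_zero]
        exact ringKrullDimZero_iff_ringKrullDim_eq_zero.mp inferInstance

end Helper16.FrobSynt
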