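import Mathlib

/-!
# The `p`-th power endomorphism of a polynomial ring: presentation and freeness

`φ : A[T_1..T_m] → A[T_1..T_m]`, `T_i ↦ T_i ^ p`.  We put the resulting algebra structure on a type
synonym `Tgt φ`, give a presentation with `m` generators and `m` relations `Y_i ^ p - T_i`, and show
that `Tgt φ` is free with basis the monomials `T^e`, `0 ≤ e_i < p`.
-/

set_option autoImplicit false
universe u

namespace Helper16.FrobSynt

open MvPolynomial

variable {A : Type u} [CommRing A] {m : ℕ}

/-- The target copy of the polynomial ring, as an algebra over the source via `φ`. -/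
def Tgt (_φ : MvPolynomial (Fin m) A →ₐ[A] MvPolynomial (Fin m) A) : Type u :=
  MvPolynomial (Fin m) A

variable (φ : MvPolynomial (Fin m) A →ₐ[A] MvPolynomial (Fin m) A)

noncomputable instance : CommRing (Tgt φ) := inferInstanceAs (CommRing (MvPolynomial (Fin m) A))

noncomputable instance instAlgTgt : Algebra (MvPolynomial (Fin m) A) (Tgt φ) :=
  φ.toRingHom.toAlgebra

noncomputable instance instAlgATgt : Algebra A (Tgt φ) :=
  inferInstanceAs (Algebra A (MvPolynomial (Fin m) A))

/-- The identity, as a ring isomorphism to the synonym. -/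
noncomputable def toT : MvPolynomial (Fin m) A ≃+* Tgt φ := RingEquiv.refl _

/-- The identity, as an `A`-algebra isomorphism to the synonym. -/
noncomputable def toTA : MvPolynomial (Fin m) A ≃ₐ[A] Tgt φ := AlgEquiv.refl

lemma toTA_apply (x) : toTA φ x = toT φ x := rfl

lemma algebraMap_Tgt (r : MvPolynomial (Fin m) A) :
    algebraMap (MvPolynomial (Fin m) A) (Tgt φ) r = toT φ (φ r) := rfl

lemma algebraMap_A_Tgt (a : A) : algebraMap A (Tgt φ) a = toT φ (C a) := rfl

instance : IsScalarTower A (MvPolynomial (Fin m) A) (Tgt φ) :=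
  IsScalarTower.of_algebraMap_eq (fun a => by
    rw [algebraMap_Tgt, algebraMap_A_Tgt]
    congr 1
    exact (φ.commutes a).symm)

lemma smul_Tgt (r : MvPolynomial (Fin m) A) (t : Tgt φ) :
    r • t = toT φ (φ r) * t := by
  rw [Algebra.smul_def, algebraMap_Tgt]

variable {φ} {p : ℕ}

lemma phi_monomial (hφ : ∀ i : Fin m, φ (X i) = X i ^ p) (q : Fin m →₀ ℕ) (a : A) :
    φ (monomial q a) = monomial (p • q) a := by
  have h1 : φ = aeval (fun i => (X i : MvPolynomial (Fin m) A) ^ p) := by
    apply MvPolynomial.algHom_ext
    intro i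
    rw [hφ, aeval_X]
  rw [h1, aeval_monomial, monomial_eq, Finsupp.prod_fintype _ _ (fun i => by simp),
    Finsupp.prod_fintype _ _ (fun i => by simp)]
  congr 1
  apply Finset.prod_congr rfl
  intro i _
  rw [← pow_mul]
  simp

/-! ### The presentation -/

/-- the generators `T_i` of the target -/
noncomputable def gval (φ : MvPolynomial (Fin m) A →ₐ[A] MvPolynomial (Fin m) A) :
    Fin m → Tgt φ := fun i => toT φ (X i)

lemma aeval_gval_map (x : MvPolynomial (Fin m) A) :
    aeval (R := MvPolynomial (Fin m) A) (gval φ) (map (C : A →+* MvPolynomial (Fin m) A) x)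
      = toT φ x := by
  induction x using MvPolynomial.induction_on with
  | C a =>
    rw [map_C, aeval_C, algebraMap_Tgt]
    congr 1
    exact φ.commutes a
  | add f g hf hg => rw [map_add, map_add, hf, hg, map_add]
  | mul_X f i hf => rw [map_mul, map_mul, hf, map_X, aeval_X, map_mul]; rfl

lemma aeval_gval_surjective :
    Function.Surjective (aeval (R := MvPolynomial (Fin m) A) (gval φ)) := fun t =>
  ⟨map (C : A →+* MvPolynomial (Fin m) A) ((toT φ).symm t), by
    rw [aeval_gval_map, RingEquiv.apply_symm_apply]⟩

/-- the relations `Y_i ^ p - T_i` -/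
noncomputable def grel (p m : ℕ) (A : Type u) [CommRing A] :
    Fin m → MvPolynomial (Fin m) (MvPolynomial (Fin m) A) :=
  fun i => X i ^ p - C (X i)

lemma ker_aeval_gval (hφ : ∀ i : Fin m, φ (X i) = X i ^ p) :
    Ideal.span (Set.range (grel p m A))
      = RingHom.ker (aeval (R := MvPolynomial (Fin m) A) (gval φ)) := by
  set I := Ideal.span (Set.range (grel p m A)) with hI
  apply le_antisymm
  · rw [hI, Ideal.span_le]
    rintro _ ⟨i, rfl⟩
    simp only [SetLike.mem_coe, RingHom.mem_ker, grel, map_sub, map_pow, aeval_X, aeval_C,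
      algebraMap_Tgt, hφ]
    simp [gval]
  · -- the inverse map
    let ψ0 : MvPolynomial (Fin m) A →+* (MvPolynomial (Fin m) (MvPolynomial (Fin m) A) ⧸ I) :=
      eval₂Hom ((Ideal.Quotient.mk I).comp ((C : MvPolynomial (Fin m) A →+* _).comp C))
        (fun i => Ideal.Quotient.mk I (X i))
    let ψ : Tgt φ →+* (MvPolynomial (Fin m) (MvPolynomial (Fin m) A) ⧸ I) :=
      ψ0.comp (toT φ).symm.toRingHom
    have hrel : ∀ i : Fin m, (Ideal.Quotient.mk I) (X i ^ p) = (Ideal.Quotient.mk I) (C (X i)) := by
      intro i
      rw [Ideal.Quotient.eq]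
      exact Ideal.subset_span ⟨i, rfl⟩
    have h1 : ψ0.comp φ.toRingHom = (Ideal.Quotient.mk I).comp C := by
      apply MvPolynomial.ringHom_ext
      · intro a
        simp only [RingHom.coe_comp, Function.comp_apply, AlgHom.toRingHom_eq_coe,
          RingHom.coe_coe]
        rw [show (C a : MvPolynomial (Fin m) A) = algebraMap A _ a from rfl, φ.commutes]
        simp [ψ0]
      · intro i
        simp only [RingHom.coe_comp, Function.comp_apply, AlgHom.toRingHom_eq_coe,
          RingHom.coe_coe, hφ, map_pow]
        rw [← hrel]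
        simp [ψ0]
    have h2 : ψ.comp (aeval (R := MvPolynomial (Fin m) A) (gval φ)).toRingHom
        = Ideal.Quotient.mk I := by
      apply MvPolynomial.ringHom_ext
      · intro r
        have := RingHom.congr_fun h1 r
        simp only [RingHom.coe_comp, Function.comp_apply, AlgHom.toRingHom_eq_coe,
          RingHom.coe_coe] at this
        simp only [RingHom.coe_comp, Function.comp_apply, AlgHom.toRingHom_eq_coe,
          RingHom.coe_coe, aeval_C, algebraMap_Tgt, ψ, RingEquiv.toRingHom_eq_coe,
          RingEquiv.symm_apply_apply]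
        exact this
      · intro i
        simp only [RingHom.coe_comp, Function.comp_apply, AlgHom.toRingHom_eq_coe,
          RingHom.coe_coe, aeval_X, ψ, RingEquiv.toRingHom_eq_coe, gval,
          RingEquiv.symm_apply_apply]
        simp [ψ0]
    intro f hf
    rw [RingHom.mem_ker] at hf
    have := RingHom.congr_fun h2 f
    simp only [RingHom.coe_comp, Function.comp_apply, AlgHom.toRingHom_eq_coe,
      RingHom.coe_coe, hf, map_zero] at this
    exact Ideal.Quotient.eq_zero_iff_mem.mp this.symm

/-- The presentation of `Tgt φ` over the polynomial ring with generators `T_i` and relations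
`Y_i ^ p - T_i`. -/
noncomputable def presentation (hφ : ∀ i : Fin m, φ (X i) = X i ^ p) :
    Algebra.Presentation (MvPolynomial (Fin m) A) (Tgt φ) (Fin m) (Fin m) where
  __ := Algebra.Generators.ofSurjective (gval φ) aeval_gval_surjective
  relation := grel p m A
  span_range_relation_eq_ker := by
    rw [Algebra.Generators.ker_eq_ker_aeval_val]
    exact ker_aeval_gval hφ

end Helper16.FrobSynt
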