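import Mathlib
import Groth.Agent.Lib.Helper16.FrobSynt2

/-!
# Freeness of the polynomial ring over itself via `T_i ↦ T_i ^ p`
-/

set_option autoImplicit false
universe u

namespace Helper16.FrobSynt

open MvPolynomial

variable {A : Type u} [CommRing A] {m : ℕ}

/-- exponent vector attached to `e : Fin m → Fin p` -/
noncomputable def expo {p : ℕ} (e : Fin m → Fin p) : Fin m →₀ ℕ :=
  Finsupp.equivFunOnFinite.symm (fun i => (e i : ℕ))

@[simp] lemma expo_apply {p : ℕ} (e : Fin m → Fin p) (i : Fin m) : expo e i = (e i : ℕ) := rfl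

/-- `(e, q) ↦ p • q + e` -/
noncomputable def idx (p m : ℕ) : (Σ _ : (Fin m → Fin p), (Fin m →₀ ℕ)) → (Fin m →₀ ℕ) :=
  fun x => p • x.2 + expo x.1

lemma idx_apply (p m : ℕ) (x : Σ _ : (Fin m → Fin p), (Fin m →₀ ℕ)) (i : Fin m) :
    idx p m x i = p * x.2 i + (x.1 i : ℕ) := by
  simp [idx]

lemma idx_bijective {p : ℕ} (hp : 0 < p) : Function.Bijective (idx p m) := by
  constructor
  · rintro ⟨e, q⟩ ⟨e', q'⟩ h
    have h' : ∀ i, p * q i + (e i : ℕ) = p * q' i + (e' i : ℕ) := by
      intro i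
      have := DFunLike.congr_fun h i
      rwa [idx_apply, idx_apply] at this
    have he : e = e' := by
      funext i
      apply Fin.ext
      have := congrArg (· % p) (h' i)
      simpa [Nat.mul_add_mod, Nat.mod_eq_of_lt (e i).2, Nat.mod_eq_of_lt (e' i).2] using this
    have hq : q = q' := by
      ext i
      have := congrArg (· / p) (h' i)
      simpa [Nat.mul_add_div hp, Nat.div_eq_of_lt (e i).2, Nat.div_eq_of_lt (e' i).2] using this
    subst he; subst hq; rfl
  · intro b
    refine ⟨⟨fun i => ⟨b i % p, Nat.mod_lt _ hp⟩, b.mapRange (· / p) (Nat.zero_div p)⟩, ?_⟩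
    ext i
    rw [idx_apply]
    simp only [Finsupp.mapRange_apply]
    exact Nat.div_add_mod (b i) p

variable (φ : MvPolynomial (Fin m) A →ₐ[A] MvPolynomial (Fin m) A) (p : ℕ)

/-- The candidate basis map. -/
noncomputable def Fmap :
    ((Fin m → Fin p) →₀ MvPolynomial (Fin m) A) →ₗ[MvPolynomial (Fin m) A] Tgt φ :=
  Finsupp.linearCombination _ (fun e => toT φ (monomial (expo e) (1 : A)))

variable {φ} {p}

lemma Fmap_single (hφ : ∀ i : Fin m, φ (X i) = X i ^ p) (e : Fin m → Fin p) (q : Fin m →₀ ℕ)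
    (a : A) :
    Fmap φ p (Finsupp.single e (monomial q a)) = toT φ (monomial (idx p m ⟨e, q⟩) a) := by
  rw [Fmap, Finsupp.linearCombination_single, smul_Tgt, phi_monomial hφ, ← map_mul,
    monomial_mul, mul_one]
  rfl

/-- `Tgt φ` is free over the polynomial ring on the monomials `T^e`, `e_i < p`. -/
theorem Fmap_bijective (hp : 0 < p) (hφ : ∀ i : Fin m, φ (X i) = X i ^ p) :
    Function.Bijective (Fmap φ p) := by
  classical
  let bS : Module.Basis (Σ _ : (Fin m → Fin p), (Fin m →₀ ℕ)) A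
      ((Fin m → Fin p) →₀ MvPolynomial (Fin m) A) :=
    Finsupp.basis (fun _ : (Fin m → Fin p) => MvPolynomial.basisMonomials (Fin m) A)
  let bT : Module.Basis (Fin m →₀ ℕ) A (Tgt φ) :=
    (MvPolynomial.basisMonomials (Fin m) A).map (toTA φ).toLinearEquiv
  let σe : (Σ _ : (Fin m → Fin p), (Fin m →₀ ℕ)) ≃ (Fin m →₀ ℕ) :=
    Equiv.ofBijective (idx p m) (idx_bijective hp)
  have key : (Fmap φ p).restrictScalars A = (bS.equiv bT σe).toLinearMap := by
    apply bS.ext
    rintro ⟨e, q⟩
    rw [LinearMap.restrictScalars_apply, LinearEquiv.coe_coe, Module.Basis.equiv_apply]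
    simp only [bS, bT, Finsupp.coe_basis, MvPolynomial.coe_basisMonomials, Module.Basis.map_apply,
      AlgEquiv.toLinearEquiv_apply, toTA_apply]
    rw [Fmap_single hφ]
    rfl
  have hfun : ⇑(Fmap φ p) = ⇑(bS.equiv bT σe) := by
    funext x
    exact LinearMap.congr_fun key x
  rw [hfun]
  exact (bS.equiv bT σe).bijective

/-- The resulting linear equivalence. -/
noncomputable def freeEquiv (hp : 0 < p) (hφ : ∀ i : Fin m, φ (X i) = X i ^ p) :
    Tgt φ ≃ₗ[MvPolynomial (Fin m) A] ((Fin m → Fin p) →₀ MvPolynomial (Fin m) A) :=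
  (LinearEquiv.ofBijective (Fmap φ p) (Fmap_bijective hp hφ)).symm

end Helper16.FrobSynt
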