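import Groth.Agent.Lib.Helper74.FtSub
import Groth.Agent.Lib.Helper21.MLImage
import Groth.Agent.Lib.Helper2.DCohFP
import Groth.Agent.Lib.Helper2.QCohLim
import Groth.Agent.Lib.Helper45.FTDict2
set_option autoImplicit false
universe u
open CategoryTheory CategoryTheory.Limits AlgebraicGeometry TopologicalSpace Opposite
open Groth.Agent.Lib.Helper74.FtSub
noncomputable section

namespace Groth.Agent.Lib.Helper16.FtSubD1

theorem isFiniteType_biprod {Y : Scheme.{u}} (A B : Y.Modules)
    (hA : SheafOfModules.IsFiniteType (R := Y.ringCatSheaf) A)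
    (hB : SheafOfModules.IsFiniteType (R := Y.ringCatSheaf) B) :
    SheafOfModules.IsFiniteType (R := Y.ringCatSheaf) (A ⊞ B) := by
  have hS : (ShortComplex.mk (biprod.inl : A ⟶ A ⊞ B) (biprod.snd : A ⊞ B ⟶ B)
      (by simp)).ShortExact :=
    (ShortComplex.Splitting.ofHasBinaryBiproduct A B).shortExact
  haveI := hA
  haveI := hB
  exact Groth.Agent.Lib.Helper45.FTDict.isFiniteType_of_shortExact Y.sheaf hS

theorem isDirected_ftSub {Y : Scheme.{u}} (F : Y.Modules) [F.IsQuasicoherent] :
    IsDirected (FtSub F) (· ≤ ·) := by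
  constructor
  intro a b
  haveI := a.qcoh
  haveI := b.qcoh
  haveI : (a.E ⊞ b.E).IsQuasicoherent := Groth.Agent.Lib.Helper2.KerSec.isQuasicoherent_biprod a.E b.E
  let g : a.E ⊞ b.E ⟶ F := biprod.desc a.ι b.ι
  have hq : ((imageSubobject g : Subobject F) : Y.Modules).IsQuasicoherent :=
    Groth.Agent.Lib.Helper21.MLImage.isQuasicoherent_imageSubobject g
  have hft : SheafOfModules.IsFiniteType (R := Y.ringCatSheaf)
      ((imageSubobject g : Subobject F) : Y.Modules) :=
    Groth.Agent.Lib.Helper2.DCohFP.isFiniteType_of_epi (factorThruImageSubobject g)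
      (isFiniteType_biprod a.E b.E a.ft b.ft)
  let c : FtSub F := ⟨((imageSubobject g : Subobject F) : Y.Modules), (imageSubobject g).arrow,
    inferInstance, hq, hft⟩
  refine ⟨c, ⟨biprod.inl ≫ factorThruImageSubobject g, ?_⟩, ⟨biprod.inr ≫ factorThruImageSubobject g, ?_⟩⟩
  · change (biprod.inl ≫ factorThruImageSubobject g) ≫ (imageSubobject g).arrow = a.ι
    rw [Category.assoc, imageSubobject_arrow_comp, biprod.inl_desc]
  · change (biprod.inr ≫ factorThruImageSubobject g) ≫ (imageSubobject g).arrow = b.ι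
    rw [Category.assoc, imageSubobject_arrow_comp, biprod.inr_desc]

theorem isFiniteType_of_isZero {Y : Scheme.{u}} (E : Y.Modules) (hE : IsZero E) :
    SheafOfModules.IsFiniteType (R := Y.ringCatSheaf) E := by
  have hid : 𝟙 E = 0 := hE.eq_of_src _ _
  have hsub : ∀ (W : Y.Opens) (x : E.val.obj (op W)), x = 0 := by
    intro W x
    have h := congrArg (fun f : E ⟶ E => f.val.app (op W) x) hid
    exact h
  refine Groth.Agent.Lib.Helper45.FTDict.isFiniteType_of_ft Y.sheaf E ?_
  intro W₀
  refine ⟨⊤, GrothendieckTopology.top_mem _ _, fun U g _ => ⟨0, Fin.elim0, ?_⟩⟩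
  intro V g' t
  refine ⟨⊤, GrothendieckTopology.top_mem _ _, fun W h _ => ⟨Fin.elim0, ?_⟩⟩
  rw [Finset.univ_eq_empty, Finset.sum_empty]
  exact hsub W _

theorem nonempty_ftSub {Y : Scheme.{u}} (F : Y.Modules) : Nonempty (FtSub F) := by
  let E : Y.Modules := SheafOfModules.free (R := Y.ringCatSheaf) PEmpty.{u+1}
  have hid : 𝟙 E = 0 := E.freeHomEquiv.injective (funext fun i => i.elim)
  have hzero : IsZero E := (IsZero.iff_id_eq_zero E).mpr hid
  have hq : E.IsQuasicoherent := inferInstance
  exact ⟨⟨E, 0, hzero.mono _, hq, isFiniteType_of_isZero E hzero⟩⟩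

end Groth.Agent.Lib.Helper16.FtSubD1
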