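import Mathlib

/-!
# Characters of the additive group: coefficient criterion

`IsExpSeq c` : `c 0 = 1` and `C(m+n,m) c (m+n) = c m * c n`.

* `formalChar_iff` : a power series `χ` has constant term one and `χ(X+Y) = χ(X) χ(Y)`
  iff its coefficient sequence is an exponential sequence.
* `polyChar_iff` : the same for polynomials (`Polynomial.aeval` into `MvPolynomial (Fin 2) A`).
* `isExpSeq_iff_exp` : over a `ℚ`-algebra exponential sequences are `a ^ n / n!`.
-/

namespace Groth.Agent.Lib.Helper16.GaChar

variable {A : Type*} [CommRing A]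

/-- Exponential sequences: `c 0 = 1` and `C(m+n,m) c (m+n) = c m * c n`. -/
def IsExpSeq (c : ℕ → A) : Prop :=
  c 0 = 1 ∧ ∀ m n, ((m + n).choose m : A) * c (m + n) = c m * c n

theorem formalChar_iff (χ : PowerSeries A) :
    (PowerSeries.constantCoeff χ = 1 ∧
      PowerSeries.subst (MvPowerSeries.X 0 + MvPowerSeries.X 1 : MvPowerSeries (Fin 2) A) χ =
        PowerSeries.subst (MvPowerSeries.X 0 : MvPowerSeries (Fin 2) A) χ *
          PowerSeries.subst (MvPowerSeries.X 1 : MvPowerSeries (Fin 2) A) χ) ↔
      IsExpSeq (fun n => PowerSeries.coeff n χ) := by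
  unfold IsExpSeq
  show _ ↔ (PowerSeries.coeff 0 χ = 1 ∧ _)
  rw [PowerSeries.coeff_zero_eq_constantCoeff_apply]
  refine and_congr_right fun _ => ?_
  constructor
  · intro h m n
    have := congrArg (MvPowerSeries.coeff (Finsupp.single 0 m + Finsupp.single 1 n)) h
    rw [PowerSeries.coeff_subst_X_zero_add_X_one,
      PowerSeries.coeff_subst_X_zero_subst_mul_X_one] at this
    simpa using this
  · intro h
    ext e
    rw [PowerSeries.coeff_subst_X_zero_add_X_one,
      PowerSeries.coeff_subst_X_zero_subst_mul_X_one]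
    exact h (e 0) (e 1)

theorem polyChar_iff (f : Polynomial A) :
    (f.eval 0 = 1 ∧
      Polynomial.aeval (MvPolynomial.X 0 + MvPolynomial.X 1 : MvPolynomial (Fin 2) A) f =
        Polynomial.aeval (MvPolynomial.X 0 : MvPolynomial (Fin 2) A) f *
          Polynomial.aeval (MvPolynomial.X 1 : MvPolynomial (Fin 2) A) f) ↔
      IsExpSeq f.coeff := by
  have key := formalChar_iff (f : PowerSeries A)
  have h0 : PowerSeries.constantCoeff (f : PowerSeries A) = f.eval 0 := by
    rw [← PowerSeries.coeff_zero_eq_constantCoeff_apply, Polynomial.coeff_coe,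
      Polynomial.coeff_zero_eq_eval_zero]
  have hs : ∀ (a : MvPolynomial (Fin 2) A),
      MvPolynomial.constantCoeff a = 0 →
      PowerSeries.subst (a : MvPowerSeries (Fin 2) A) (f : PowerSeries A) =
        ((Polynomial.aeval a f : MvPolynomial (Fin 2) A) : MvPowerSeries (Fin 2) A) := by
    intro a ha
    rw [PowerSeries.subst_coe (PowerSeries.HasSubst.of_constantCoeff_zero (by
      rw [MvPolynomial.constantCoeff_eq] at ha
      rw [← MvPowerSeries.coeff_zero_eq_constantCoeff_apply, MvPolynomial.coeff_coe, ha]))]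
    have := Polynomial.aeval_algHom_apply
      (MvPolynomial.coeToMvPowerSeries.algHom (σ := Fin 2) (R := A) A) a f
    simpa using this
  have e1 := hs (MvPolynomial.X 0 + MvPolynomial.X 1) (by simp)
  have e2 := hs (MvPolynomial.X 0) (by simp)
  have e3 := hs (MvPolynomial.X 1) (by simp)
  simp only [MvPolynomial.coe_add, MvPolynomial.coe_X] at e1 e2 e3
  rw [e1, e2, e3, h0, ← MvPolynomial.coe_mul, MvPolynomial.coe_inj] at key
  rw [key]
  simp only [Polynomial.coeff_coe]

section Rat

variable [Algebra ℚ A]

theorem isExpSeq_iff_exp (c : ℕ → A) :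
    IsExpSeq c ↔ ∃ a : A, ∀ n, c n = a ^ n * algebraMap ℚ A (1 / (n.factorial : ℚ)) := by
  constructor
  · rintro ⟨h0, h⟩
    refine ⟨c 1, fun n => ?_⟩
    induction n with
    | zero => simp [h0]
    | succ n ih =>
      have h1 := h n 1
      rw [Nat.choose_succ_self_right, ih] at h1
      have hunit : algebraMap ℚ A ((n + 1 : ℕ) : ℚ) * algebraMap ℚ A (1 / ((n + 1 : ℕ) : ℚ)) = 1 := by
        rw [← map_mul, mul_one_div_cancel (by exact_mod_cast Nat.succ_ne_zero n), map_one]
      have hf : algebraMap ℚ A (1 / ((n + 1).factorial : ℚ)) =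
          algebraMap ℚ A (1 / ((n + 1 : ℕ) : ℚ)) * algebraMap ℚ A (1 / (n.factorial : ℚ)) := by
        rw [← map_mul]
        congr 1
        rw [Nat.factorial_succ]
        push_cast
        field_simp
      rw [map_natCast] at hunit
      calc c (n + 1) = (((n + 1 : ℕ) : A) * algebraMap ℚ A (1 / ((n + 1 : ℕ) : ℚ))) * c (n + 1) := by
            rw [hunit, one_mul]
        _ = algebraMap ℚ A (1 / ((n + 1 : ℕ) : ℚ)) * (((n + 1 : ℕ) : A) * c (n + 1)) := by ring
        _ = _ := by rw [h1, hf, pow_succ]; ring
  · rintro ⟨a, ha⟩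
    refine ⟨by simp [ha], fun m n => ?_⟩
    rw [ha, ha, ha]
    have : ((m + n).choose m : A) * algebraMap ℚ A (1 / ((m + n).factorial : ℚ)) =
        algebraMap ℚ A (1 / (m.factorial : ℚ)) * algebraMap ℚ A (1 / (n.factorial : ℚ)) := by
      rw [← map_natCast (algebraMap ℚ A), ← map_mul, ← map_mul]
      congr 1
      have := Nat.add_choose_mul_factorial_mul_factorial m n
      rw [← Nat.choose_symm_add] at this
      have h2 : (((m + n).choose m : ℕ) : ℚ) * m.factorial * n.factorial = (m + n).factorial := by
        exact_mod_cast this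
      have hm : (m.factorial : ℚ) ≠ 0 := by exact_mod_cast m.factorial_ne_zero
      have hn : (n.factorial : ℚ) ≠ 0 := by exact_mod_cast n.factorial_ne_zero
      have hmn : ((m + n).factorial : ℚ) ≠ 0 := by exact_mod_cast (m + n).factorial_ne_zero
      field_simp
      linarith
    calc ((m + n).choose m : A) * (a ^ (m + n) * algebraMap ℚ A (1 / ((m + n).factorial : ℚ)))
        = a ^ (m + n) * (((m + n).choose m : A) * algebraMap ℚ A (1 / ((m + n).factorial : ℚ))) := by
          ring
      _ = _ := by rw [this, pow_add]; ring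

end Rat

end Groth.Agent.Lib.Helper16.GaChar
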