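import Groth.Agent.Lib.Helper16.Lazard7

/-!
# Lazard's lemma modulo an ideal `K`
-/

namespace Groth.Agent.Lib.Helper16.Lazard

open MvPolynomial

variable {R : Type*} [CommRing R]

theorem map_dc {S : Type*} [CommRing S] (π : R →+* S) (n i : ℕ) :
    π (dc n i : R) = (dc n i : S) := by
  unfold dc
  rw [map_sub, map_sub, map_natCast, apply_ite π, apply_ite π, map_one, map_zero]

variable (p : ℕ) [hp : Fact p.Prime] [CharP R p]

theorem charP_quotient_of_ne_top (K : Ideal R) (hK : K ≠ ⊤) : CharP (R ⧸ K) p := by
  apply CharP.quotient' p K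
  intro x hx
  by_contra hne
  apply hK
  have hnd : ¬ p ∣ x := fun h => hne ((CharP.cast_eq_zero_iff R p x).mpr h)
  obtain ⟨u, hu⟩ := exists_inv_of_not_dvd (R := R) p x hnd
  rw [Ideal.eq_top_iff_one, ← hu]
  exact K.mul_mem_left u hx

/-- The homogeneous Lazard lemma modulo `K`. -/
theorem hom_mod (J K : Ideal R) (n : ℕ) (hn : 1 ≤ n) (a : ℕ → R)
    (hs : ∀ i ≤ n, a i - a (n - i) ∈ K)
    (hc : ∀ i j k, i + j + k = n →
      a i * (((j + k).choose j : ℕ) : R) + (if i = 0 then a j else 0)
        - a (i + j) * (((i + j).choose i : ℕ) : R) - (if k = 0 then a i else 0) ∈ K)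
    (haJ : ∀ i ≤ n, a i ∈ J) :
    ∃ g ∈ J, ∃ r ∈ J, ∃ e : ℕ, (r = 0 ∨ n = p ^ (e + 1)) ∧
      ∀ i ≤ n, a i - (g * dc n i + r * ((sc p e i : ℕ) : R)) ∈ K := by
  by_cases hK : K = ⊤
  · refine ⟨0, J.zero_mem, 0, J.zero_mem, 0, Or.inl rfl, fun i _ => ?_⟩
    rw [hK]; exact Submodule.mem_top
  haveI := charP_quotient_of_ne_top p K hK
  set π := Ideal.Quotient.mk K with hπ
  have hcoc : IsCoc n (fun i => π (a i)) := by
    constructor
    · intro i hi
      exact Ideal.Quotient.eq.mpr (hs i hi)
    · intro i j k hijk
      have := Ideal.Quotient.eq_zero_iff_mem.mpr (hc i j k hijk)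
      rw [map_sub, map_sub, map_add, map_mul, map_mul, map_natCast, map_natCast,
        apply_ite π, apply_ite π, map_zero] at this
      exact this
  obtain ⟨g', hg', r', hr', e, hdisj, hform⟩ := hom p (J.map π) n hn _ hcoc
    (fun i hi => Ideal.mem_map_of_mem π (haJ i hi))
  obtain ⟨g, hg, rfl⟩ := (Ideal.mem_map_iff_of_surjective π Ideal.Quotient.mk_surjective).mp hg'
  by_cases hr0 : r' = 0
  · refine ⟨g, hg, 0, J.zero_mem, e, Or.inl rfl, fun i hi => ?_⟩
    rw [← Ideal.Quotient.eq_zero_iff_mem, map_sub, map_add, map_mul, map_mul, map_natCast,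
      map_dc, map_zero, zero_mul, add_zero, sub_eq_zero]
    have := hform i hi
    rw [hr0, zero_mul, add_zero] at this
    exact this
  · obtain ⟨r, hr, rfl⟩ := (Ideal.mem_map_iff_of_surjective π Ideal.Quotient.mk_surjective).mp hr'
    have hpow : n = p ^ (e + 1) := by
      rcases hdisj with h | h
      · exact absurd h hr0
      · exact h
    refine ⟨g, hg, r, hr, e, Or.inr hpow, fun i hi => ?_⟩
    rw [← Ideal.Quotient.eq_zero_iff_mem, map_sub, map_add, map_mul, map_mul, map_natCast,
      map_dc, sub_eq_zero]
    exact hform i hi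

theorem forward_mod (J K : Ideal R) (F : MvPolynomial (Fin 2) R)
    (hs : ∀ i j, cf F i j - cf F j i ∈ K)
    (hc : ∀ i j k, cf F i (j + k) * (((j + k).choose j : ℕ) : R) + (if i = 0 then cf F j k else 0)
        - cf F (i + j) k * (((i + j).choose i : ℕ) : R) - (if k = 0 then cf F i j else 0) ∈ K)
    (hJ : ∀ i j, cf F i j ∈ J) :
    ∃ (G : Polynomial R) (N : ℕ) (r : ℕ → R), (∀ n, G.coeff n ∈ J) ∧ (∀ e, r e ∈ J) ∧
      ∀ i j, cf F i j - cf (Phi p G N r) i j ∈ K := by
  classical
  have hp2 : 2 ≤ p := hp.out.two_le
  set D := F.totalDegree with hD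
  have H : ∀ n, ∃ g ∈ J, ∃ r ∈ J, ∃ e : ℕ, (D < n → g = 0 ∧ r = 0) ∧ (r = 0 ∨ n = p ^ (e + 1)) ∧
      ∀ i ≤ n, cf F i (n - i) - (g * dc n i + r * ((sc p e i : ℕ) : R)) ∈ K := by
    intro n
    by_cases hn : D < n
    · refine ⟨0, J.zero_mem, 0, J.zero_mem, 0, fun _ => ⟨rfl, rfl⟩, Or.inl rfl, ?_⟩
      intro i hi
      rw [cf_eq_zero_of_totalDegree_lt F i (n - i) (by omega)]
      simp
    · rcases Nat.eq_zero_or_pos n with h0 | h0
      · subst h0
        refine ⟨- cf F 0 0, J.neg_mem (hJ 0 0), 0, J.zero_mem, 0, fun h => absurd h hn,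
          Or.inl rfl, ?_⟩
        intro i hi
        have : i = 0 := by omega
        subst this
        simp [dc]
      · obtain ⟨g, hg, r, hr, e, hdisj, hform⟩ :=
          hom_mod p J K n h0 (fun i => cf F i (n - i))
            (fun i hi => by
              have e1 : n - (n - i) = i := by omega
              show cf F i (n - i) - cf F (n - i) (n - (n - i)) ∈ K
              rw [e1]; exact hs _ _)
            (fun i j k hijk => by
              show cf F i (n - i) * _ + (if i = 0 then cf F j (n - j) else 0)
                - cf F (i + j) (n - (i + j)) * _ - (if k = 0 then cf F i (n - i) else 0) ∈ K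
              have := hc i j k
              have e1 : n - i = j + k := by omega
              have e2 : n - (i + j) = k := by omega
              rw [e1, e2]
              by_cases hi : i = 0
              · by_cases hk : k = 0
                · subst hi; subst hk
                  have e3 : n - j = 0 := by omega
                  rw [e3]
                  simpa using this
                · subst hi
                  have e3 : n - j = k := by omega
                  rw [e3]
                  simp only [hk, if_true, if_false] at this ⊢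
                  exact this
              · by_cases hk : k = 0
                · subst hk
                  simp only [hi, if_true, if_false, add_zero] at this ⊢
                  exact this
                · simp only [hi, hk, if_false] at this ⊢
                  exact this)
            (fun i _ => hJ _ _)
        exact ⟨g, hg, r, hr, e, fun h => absurd h hn, hdisj, hform⟩
  choose g hg r hr e hbig hdisj hform using H
  have hGc : ∀ n, (∑ m ∈ Finset.range (D + 1), Polynomial.monomial m (g m)).coeff n = g n := by
    intro n
    rw [Polynomial.finset_sum_coeff]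
    simp only [Polynomial.coeff_monomial]
    rw [Finset.sum_ite_eq']
    split_ifs with h
    · rfl
    · rw [Finset.mem_range] at h
      exact ((hbig n (by omega)).1).symm
  refine ⟨∑ m ∈ Finset.range (D + 1), Polynomial.monomial m (g m), D + 1,
    fun e' => r (p ^ (e' + 1)), ?_, fun e' => hr _, ?_⟩
  · intro n
    rw [hGc]
    exact hg n
  · intro i j
    rw [cf_Phi, hGc]
    have h1 := hform (i + j) i (by omega)
    have e1 : i + j - i = j := by omega
    rw [e1] at h1
    convert h1 using 3
    by_cases hr0 : r (i + j) = 0
    · rw [hr0, zero_mul]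
      apply Finset.sum_eq_zero
      intro e' _
      split_ifs with h
      · rw [← h, hr0, zero_mul]
      · rw [mul_zero]
    · have hpow : i + j = p ^ (e (i + j) + 1) := by
        rcases hdisj (i + j) with h | h
        · exact absurd h hr0
        · exact h
      have hnD : ¬ D < i + j := fun h => hr0 (hbig _ h).2
      rw [Finset.sum_eq_single (e (i + j))]
      · rw [if_pos hpow, ← hpow]
      · intro e' _ hne
        rw [if_neg, mul_zero]
        intro h
        apply hne
        have h2 : p ^ (e' + 1) = p ^ (e (i + j) + 1) := h.symm.trans hpow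
        have := Nat.pow_right_injective hp2 h2
        omega
      · intro h
        exfalso
        apply h
        rw [Finset.mem_range]
        have : e (i + j) + 1 < p ^ (e (i + j) + 1) := Nat.lt_pow_self (by omega)
        omega

end Groth.Agent.Lib.Helper16.Lazard
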