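import Groth.Agent.Lib.Helper71.AddChar
import Groth.Agent.Lib.Helper16.Lazard8

/-!
# The truncated exponential and its failure to be additive

`ex(αu) ex(αv) = ex(α(u+v)) - α^p S(u,v) + α^(p+1) T`.
-/

namespace Groth.Agent.Lib.Helper16.GaExt

open Finset Groth.Agent.Lib.Helper71.AddChar

variable (p : ℕ) [hp : Fact p.Prime] {A : Type*} [CommRing A] [CharP A p]

/-- `S(u,v) = Σ_{0<l<p} (C(p,l)/p) u^l v^(p-l)` -/
noncomputable def Sval (u v : A) : A :=
  ∑ l ∈ Finset.Ioo 0 p, ((p.choose l / p : ℕ) : A) * u ^ l * v ^ (p - l)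

/-- inverse factorials -/
noncomputable def cinv (A : Type*) [CommRing A] (i : ℕ) : A := Ring.inverse (i.factorial : A)

theorem wilson : ((p - 1).factorial : A) = -1 := by
  have h := (ZMod.wilsons_lemma p : ((p - 1).factorial : ZMod p) = -1)
  have h2 : (((p - 1).factorial + 1 : ℕ) : ZMod p) = 0 := by
    push_cast; rw [h]; ring
  have h3 : p ∣ (p - 1).factorial + 1 := (ZMod.natCast_eq_zero_iff _ _).mp h2
  have h4 : (((p - 1).factorial + 1 : ℕ) : A) = 0 := (CharP.cast_eq_zero_iff A p _).mpr h3
  push_cast at h4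
  exact eq_neg_of_add_eq_zero_left h4

theorem cinv_mul {i : ℕ} (hi : i < p) : cinv A i * (i.factorial : A) = 1 :=
  Ring.inverse_mul_cancel _ (isUnit_fact p hi)

theorem wilson_coeff {i : ℕ} (h0 : 0 < i) (hi : i < p) :
    cinv A i * cinv A (p - i) = - ((p.choose i / p : ℕ) : A) := by
  have hpp : p.Prime := hp.out
  have hnat : (p.choose i / p) * i.factorial * (p - i).factorial = (p - 1).factorial := by
    have h1 := Nat.choose_mul_factorial_mul_factorial hi.le
    have h2 := Nat.mul_factorial_pred hpp.pos.ne'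
    have h3 : p * (p.choose i / p) = p.choose i :=
      Nat.mul_div_cancel' (hpp.dvd_choose_self h0.ne' hi)
    set q := p.choose i / p with hq
    apply Nat.eq_of_mul_eq_mul_left hpp.pos
    calc p * (q * i.factorial * (p - i).factorial)
        = (p * q) * i.factorial * (p - i).factorial := by ring
      _ = p.choose i * i.factorial * (p - i).factorial := by rw [h3]
      _ = p.factorial := h1
      _ = p * (p - 1).factorial := h2.symm
  have hA : ((p.choose i / p : ℕ) : A) * (i.factorial : A) * ((p - i).factorial : A) = -1 := by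
    rw [← Nat.cast_mul, ← Nat.cast_mul, hnat, wilson p]
  have h1 := cinv_mul p (A := A) hi
  have h2 := cinv_mul p (A := A) (i := p - i) (by omega)
  calc cinv A i * cinv A (p - i)
      = - (((p.choose i / p : ℕ) : A) * (i.factorial : A) * ((p - i).factorial : A)) *
          (cinv A i * cinv A (p - i)) := by rw [hA]; ring
    _ = - ((p.choose i / p : ℕ) : A) * ((cinv A i * (i.factorial : A)) *
          (cinv A (p - i) * ((p - i).factorial : A))) := by ring
    _ = _ := by rw [h1, h2]; ring

/-- the polynomial `Σ_{i<p} (u^i / i!) X^i` -/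
noncomputable def pu (u : A) : Polynomial A :=
  ∑ i ∈ range p, Polynomial.C (cinv A i * u ^ i) * Polynomial.X ^ i

omit hp [CharP A p] in
theorem pu_coeff (u : A) (k : ℕ) :
    (pu p u).coeff k = if k < p then cinv A k * u ^ k else 0 := by
  unfold pu
  rw [Polynomial.finset_sum_coeff]
  simp only [Polynomial.coeff_C_mul_X_pow]
  rw [Finset.sum_ite_eq]
  simp only [Finset.mem_range]

omit hp [CharP A p] in
theorem pu_eval (α u : A) : (pu p u).eval α = ex p (α * u) := by
  unfold pu ex
  rw [Polynomial.eval_finset_sum]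
  refine Finset.sum_congr rfl fun i _ => ?_
  rw [Polynomial.eval_mul, Polynomial.eval_C, Polynomial.eval_pow, Polynomial.eval_X, mul_pow]
  unfold cinv
  ring

omit [CharP A p] in
theorem pu_natDegree (u : A) : (pu p u).natDegree < p := by
  have h1 : (pu p u).natDegree ≤ p - 1 := by
    unfold pu
    apply Polynomial.natDegree_sum_le_of_forall_le
    intro i hi
    refine (Polynomial.natDegree_C_mul_X_pow_le _ _).trans ?_
    have := Finset.mem_range.mp hi
    omega
  have := hp.out.pos
  omega

theorem coeff_mul_lt (u v : A) (k : ℕ) (hk : k < p) :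
    (pu p u * pu p v).coeff k = cinv A k * (u + v) ^ k := by
  rw [Polynomial.coeff_mul, Finset.Nat.sum_antidiagonal_eq_sum_range_succ_mk, add_pow,
    Finset.mul_sum]
  refine Finset.sum_congr rfl fun i hi => ?_
  have hik : i ≤ k := by
    have := Finset.mem_range.mp hi
    omega
  rw [pu_coeff, pu_coeff, if_pos (by omega), if_pos (by omega)]
  have h1 := inv_fact_mul_choose p (S := A) (i := i) (j := k - i) (by omega)
  have e : i + (k - i) = k := by omega
  rw [e] at h1
  unfold cinv
  calc Ring.inverse (i.factorial : A) * u ^ i * (Ring.inverse ((k - i).factorial : A) * v ^ (k - i))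
      = (Ring.inverse (i.factorial : A) * Ring.inverse ((k - i).factorial : A)) *
          (u ^ i * v ^ (k - i)) := by ring
    _ = _ := by rw [← h1]; ring

theorem coeff_mul_p (u v : A) : (pu p u * pu p v).coeff p = - Sval p u v := by
  have hpp : p.Prime := hp.out
  rw [Polynomial.coeff_mul, Finset.Nat.sum_antidiagonal_eq_sum_range_succ_mk]
  have hsub : Finset.Ioo 0 p ⊆ range p.succ := by
    intro i hi
    rw [Finset.mem_Ioo] at hi
    rw [Finset.mem_range]
    omega
  rw [← Finset.sum_subset hsub]
  · unfold Sval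
    rw [← Finset.sum_neg_distrib]
    refine Finset.sum_congr rfl fun i hi => ?_
    rw [Finset.mem_Ioo] at hi
    rw [pu_coeff, pu_coeff, if_pos hi.2, if_pos (by omega)]
    calc cinv A i * u ^ i * (cinv A (p - i) * v ^ (p - i))
        = (cinv A i * cinv A (p - i)) * (u ^ i * v ^ (p - i)) := by ring
      _ = _ := by rw [wilson_coeff p hi.1 hi.2]; ring
  · intro i hi hni
    rw [Finset.mem_range] at hi
    rw [Finset.mem_Ioo] at hni
    have : i = 0 ∨ i = p := by omega
    rcases this with h | h
    · rw [h, pu_coeff, pu_coeff, Nat.sub_zero, if_neg (lt_irrefl p), mul_zero]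
    · rw [h, pu_coeff, if_neg (lt_irrefl p), zero_mul]

/-- the basic identity -/
theorem ex_mul_ex (α u v : A) : ∃ T : A,
    ex p (α * u) * ex p (α * v) = ex p (α * (u + v)) - α ^ p * Sval p u v + α ^ (p + 1) * T := by
  have hdeg : (pu p u * pu p v).natDegree < p + 1 + (p - 1) := by
    have : (pu p u * pu p v).natDegree ≤ (pu p u).natDegree + (pu p v).natDegree :=
      Polynomial.natDegree_mul_le
    have h1 := pu_natDegree p u
    have h2 := pu_natDegree p v
    omega
  refine ⟨∑ k ∈ range (p - 1), (pu p u * pu p v).coeff (p + 1 + k) * α ^ k, ?_⟩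
  rw [← pu_eval, ← pu_eval, ← Polynomial.eval_mul, Polynomial.eval_eq_sum_range' hdeg,
    Finset.sum_range_add, Finset.sum_range_succ]
  have e1 : ∑ k ∈ range p, (pu p u * pu p v).coeff k * α ^ k = ex p (α * (u + v)) := by
    unfold ex
    refine Finset.sum_congr rfl fun k hk => ?_
    rw [coeff_mul_lt p u v k (Finset.mem_range.mp hk), mul_pow]
    unfold cinv
    ring
  have e3 : ∑ k ∈ range (p - 1), (pu p u * pu p v).coeff (p + 1 + k) * α ^ (p + 1 + k) =
      α ^ (p + 1) * ∑ k ∈ range (p - 1), (pu p u * pu p v).coeff (p + 1 + k) * α ^ k := by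
    rw [Finset.mul_sum]
    refine Finset.sum_congr rfl fun k _ => ?_
    rw [pow_add]; ring
  rw [e1, e3, coeff_mul_p]
  ring

omit [CharP A p] in
theorem ex_sub_one (w : A) : ∃ T : A, ex p w = 1 + w * T := by
  refine ⟨∑ j ∈ range (p - 1), cinv A (j + 1) * w ^ j, ?_⟩
  unfold ex
  have hp1 : p = (p - 1) + 1 := by
    have := hp.out.pos
    omega
  conv_lhs => rw [hp1, Finset.sum_range_succ']
  rw [Nat.factorial_zero, Nat.cast_one, Ring.inverse_one, pow_zero, mul_one, add_comm,
    Finset.mul_sum]
  congr 1
  refine Finset.sum_congr rfl fun j _ => ?_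
  unfold cinv
  rw [pow_succ]; ring

end Groth.Agent.Lib.Helper16.GaExt
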