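import Groth.Agent.Lib.Helper16.GaExt1

/-!
# Ideals of polynomials with coefficients in an ideal, and the relation `u(X) u(Y) m ≡ u(X+Y)`
-/

namespace Groth.Agent.Lib.Helper16.GaExt

open MvPolynomial Groth.Agent.Lib.Helper71.AddChar Groth.Agent.Lib.Helper16.Lazard

variable {R : Type*} [CommRing R]

/-- polynomials with coefficients in `I` -/
noncomputable def cI (σ : Type*) (I : Ideal R) : Ideal (MvPolynomial σ R) :=
  Ideal.map (C : R →+* MvPolynomial σ R) I

theorem mem_cI_iff {σ : Type*} {I : Ideal R} {f : MvPolynomial σ R} :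
    f ∈ cI σ I ↔ ∀ m, coeff m f ∈ I := mem_map_C_iff

theorem cI_mono {σ : Type*} {I J : Ideal R} (h : I ≤ J) : cI σ I ≤ cI σ J := Ideal.map_mono h

theorem cI_mul {σ : Type*} (I J : Ideal R) : cI σ I * cI σ J = cI σ (I * J) :=
  (Ideal.map_mul _ I J).symm

theorem C_mem_cI {σ : Type*} {I : Ideal R} {r : R} (hr : r ∈ I) : (C r : MvPolynomial σ R) ∈ cI σ I :=
  Ideal.mem_map_of_mem _ hr

theorem aeval_mem_cI {σ τ : Type*} (I : Ideal R) (v : σ → MvPolynomial τ R) {x : MvPolynomial σ R}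
    (hx : x ∈ cI σ I) : aeval v x ∈ cI τ I := by
  have h1 : Ideal.map ((aeval v : MvPolynomial σ R →ₐ[R] MvPolynomial τ R) : MvPolynomial σ R →+*
      MvPolynomial τ R) (cI σ I) = cI τ I := by
    unfold cI
    rw [Ideal.map_map]
    congr 1
    ext r
    simp
  rw [← h1]
  exact Ideal.mem_map_of_mem _ hx

theorem paeval_mem_cI {τ : Type*} (I : Ideal R) (z : MvPolynomial τ R) {G : Polynomial R}
    (hG : ∀ n, G.coeff n ∈ I) : Polynomial.aeval z G ∈ cI τ I := by
  have h0 : G ∈ Ideal.map (Polynomial.C : R →+* Polynomial R) I := Ideal.mem_map_C_iff.mpr hG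
  have h1 : Ideal.map ((Polynomial.aeval z : Polynomial R →ₐ[R] MvPolynomial τ R) : Polynomial R →+*
      MvPolynomial τ R) (Ideal.map (Polynomial.C : R →+* Polynomial R) I) = cI τ I := by
    unfold cI
    rw [Ideal.map_map]
    congr 1
    ext r
    simp
  rw [← h1]
  exact Ideal.mem_map_of_mem _ h0

/-- `∏ (1 + x_i) ≡ 1 + Σ x_i` modulo the square of an ideal containing the `x_i` -/
theorem prod_one_add_sub {A ι : Type*} [CommRing A] (𝔍 : Ideal A) (s : Finset ι) (x : ι → A)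
    (hx : ∀ i ∈ s, x i ∈ 𝔍) : ∏ i ∈ s, (1 + x i) - (1 + ∑ i ∈ s, x i) ∈ 𝔍 * 𝔍 := by
  classical
  induction s using Finset.induction_on with
  | empty => simp
  | insert a s ha ih =>
    have h1 := ih (fun i hi => hx i (Finset.mem_insert_of_mem hi))
    have ha' : x a ∈ 𝔍 := hx a (Finset.mem_insert_self a s)
    have hs : ∑ i ∈ s, x i ∈ 𝔍 := Ideal.sum_mem _ (fun i hi => hx i (Finset.mem_insert_of_mem hi))
    rw [Finset.prod_insert ha, Finset.sum_insert ha]
    have : (1 + x a) * ∏ i ∈ s, (1 + x i) - (1 + (x a + ∑ i ∈ s, x i)) =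
        (1 + x a) * (∏ i ∈ s, (1 + x i) - (1 + ∑ i ∈ s, x i)) + x a * ∑ i ∈ s, x i := by ring
    rw [this]
    exact Ideal.add_mem _ (Ideal.mul_mem_left _ _ h1) (Ideal.mul_mem_mul ha' hs)

theorem mul_sub_one_mem {A : Type*} [CommRing A] (𝔍 : Ideal A) {x y : A} (hx : x - 1 ∈ 𝔍)
    (hy : y - 1 ∈ 𝔍) : x * y - 1 ∈ 𝔍 := by
  have : x * y - 1 = (x - 1) * y + (y - 1) := by ring
  rw [this]
  exact Ideal.add_mem _ (Ideal.mul_mem_right _ _ hx) hy

theorem prod_sub_one_mem {A ι : Type*} [CommRing A] (𝔍 : Ideal A) (s : Finset ι) (x : ι → A)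
    (hx : ∀ i ∈ s, x i - 1 ∈ 𝔍) : ∏ i ∈ s, x i - 1 ∈ 𝔍 := by
  classical
  induction s using Finset.induction_on with
  | empty => simp
  | insert a s ha ih =>
    rw [Finset.prod_insert ha]
    exact mul_sub_one_mem 𝔍 (hx a (Finset.mem_insert_self a s))
      (ih (fun i hi => hx i (Finset.mem_insert_of_mem hi)))

/-- `u(X) u(Y) m ≡ u(X+Y)` modulo `K` -/
def Rel (K : Ideal R) (u : Polynomial R) (m : MvPolynomial (Fin 2) R) : Prop :=
  Polynomial.aeval (X 0 : MvPolynomial (Fin 2) R) u *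
    Polynomial.aeval (X 1 : MvPolynomial (Fin 2) R) u * m
    - Polynomial.aeval (X 0 + X 1 : MvPolynomial (Fin 2) R) u ∈ cI (Fin 2) K

theorem Rel.one (K : Ideal R) : Rel K 1 1 := by
  unfold Rel
  simp

theorem Rel.mul {K : Ideal R} {u₁ u₂ : Polynomial R} {m₁ m₂ : MvPolynomial (Fin 2) R}
    (h₁ : Rel K u₁ m₁) (h₂ : Rel K u₂ m₂) : Rel K (u₁ * u₂) (m₁ * m₂) := by
  unfold Rel at *
  rw [map_mul, map_mul, map_mul]
  set a₁ := Polynomial.aeval (X 0 : MvPolynomial (Fin 2) R) u₁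
  set b₁ := Polynomial.aeval (X 1 : MvPolynomial (Fin 2) R) u₁
  set c₁ := Polynomial.aeval (X 0 + X 1 : MvPolynomial (Fin 2) R) u₁
  set a₂ := Polynomial.aeval (X 0 : MvPolynomial (Fin 2) R) u₂
  set b₂ := Polynomial.aeval (X 1 : MvPolynomial (Fin 2) R) u₂
  set c₂ := Polynomial.aeval (X 0 + X 1 : MvPolynomial (Fin 2) R) u₂
  have : a₁ * a₂ * (b₁ * b₂) * (m₁ * m₂) - c₁ * c₂ =
      (a₁ * b₁ * m₁ - c₁) * (a₂ * b₂ * m₂) + c₁ * (a₂ * b₂ * m₂ - c₂) := by ring
  rw [this]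
  exact Ideal.add_mem _ (Ideal.mul_mem_right _ _ h₁) (Ideal.mul_mem_left _ _ h₂)

theorem Rel.prod {K : Ideal R} {ι : Type*} (s : Finset ι) (u : ι → Polynomial R)
    (m : ι → MvPolynomial (Fin 2) R) (h : ∀ i ∈ s, Rel K (u i) (m i)) :
    Rel K (∏ i ∈ s, u i) (∏ i ∈ s, m i) := by
  classical
  induction s using Finset.induction_on with
  | empty => simpa using Rel.one K
  | insert a s ha ih =>
    rw [Finset.prod_insert ha, Finset.prod_insert ha]
    exact (h a (Finset.mem_insert_self a s)).mul (ih (fun i hi => h i (Finset.mem_insert_of_mem hi)))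

theorem Rel.congr {K : Ideal R} {u : Polynomial R} {m m' : MvPolynomial (Fin 2) R}
    (h : Rel K u m) (hm : m' - m ∈ cI (Fin 2) K) : Rel K u m' := by
  unfold Rel at *
  set a := Polynomial.aeval (X 0 : MvPolynomial (Fin 2) R) u
  set b := Polynomial.aeval (X 1 : MvPolynomial (Fin 2) R) u
  set c := Polynomial.aeval (X 0 + X 1 : MvPolynomial (Fin 2) R) u
  have : a * b * m' - c = (a * b * m - c) + a * b * (m' - m) := by ring
  rw [this]
  exact Ideal.add_mem _ h (Ideal.mul_mem_left _ _ hm)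

/-- the relation for `1 + G` -/
theorem Rel.one_add (I K : Ideal R) (hIK : I * I ≤ K) (G : Polynomial R) (hG : ∀ n, G.coeff n ∈ I) :
    Rel K (1 + G) (1 + (Polynomial.aeval (X 0 + X 1 : MvPolynomial (Fin 2) R) G
      - Polynomial.aeval (X 0 : MvPolynomial (Fin 2) R) G
      - Polynomial.aeval (X 1 : MvPolynomial (Fin 2) R) G)) := by
  unfold Rel
  rw [map_add, map_add, map_add, map_one, map_one, map_one]
  have hX := paeval_mem_cI I (X 0 : MvPolynomial (Fin 2) R) hG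
  have hY := paeval_mem_cI I (X 1 : MvPolynomial (Fin 2) R) hG
  have hS := paeval_mem_cI I (X 0 + X 1 : MvPolynomial (Fin 2) R) hG
  set gX := Polynomial.aeval (X 0 : MvPolynomial (Fin 2) R) G
  set gY := Polynomial.aeval (X 1 : MvPolynomial (Fin 2) R) G
  set gS := Polynomial.aeval (X 0 + X 1 : MvPolynomial (Fin 2) R) G
  have : (1 + gX) * (1 + gY) * (1 + (gS - gX - gY)) - (1 + gS) =
      gX * gY + (gX + gY + gX * gY) * (gS - gX - gY) := by ring
  rw [this]
  apply cI_mono hIK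
  rw [← cI_mul]
  refine Ideal.add_mem _ (Ideal.mul_mem_mul hX hY) (Ideal.mul_mem_mul ?_ ?_)
  · exact Ideal.add_mem _ (Ideal.add_mem _ hX hY) (Ideal.mul_mem_left _ _ hY)
  · exact Ideal.sub_mem _ (Ideal.sub_mem _ hS hX) hY

end Groth.Agent.Lib.Helper16.GaExt
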