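import Groth.Agent.Lib.Helper16.GaExt2

/-!
# The approximation step for extensions of `G_a` by `G_m`
-/

namespace Groth.Agent.Lib.Helper16.GaExt

open MvPolynomial Groth.Agent.Lib.Helper71.AddChar Groth.Agent.Lib.Helper16.Lazard

variable {R : Type*} [CommRing R] (p : ℕ) [hp : Fact p.Prime] [CharP R p]

omit hp [CharP R p] in
theorem Sval_eq_aeval (q : ℕ) :
    Sval p ((X 0 : MvPolynomial (Fin 2) R) ^ q) (X 1 ^ q) =
      aeval ![(X 0 : MvPolynomial (Fin 2) R) ^ q, X 1 ^ q] (Spoly R p) := by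
  unfold Sval Spoly
  rw [map_sum]
  refine Finset.sum_congr rfl fun l _ => ?_
  rw [map_mul, map_mul, map_pow, map_pow, aeval_C, aeval_X, aeval_X, algebraMap_eq, map_natCast]
  simp only [Matrix.cons_val_zero, Matrix.cons_val_one]

theorem Rel.E (I 𝔟 : Ideal R) (hI𝔟 : I ≤ 𝔟) (a : R) (ha : a ∈ 𝔟) (hr : a ^ p ∈ I) (e : ℕ) :
    Rel (I * 𝔟) (E p a e) (1 + C (a ^ p) *
      aeval ![(X 0 : MvPolynomial (Fin 2) R) ^ p ^ e, X 1 ^ p ^ e] (Spoly R p)) := by
  unfold Rel
  rw [aeval_E, aeval_E, aeval_E, add_pow_char_pow, ← Sval_eq_aeval]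
  simp only [algebraMap_eq]
  set α : MvPolynomial (Fin 2) R := C a with hαdef
  set u : MvPolynomial (Fin 2) R := X 0 ^ p ^ e
  set v : MvPolynomial (Fin 2) R := X 1 ^ p ^ e
  set S := Sval p u v
  obtain ⟨T, hW⟩ := ex_mul_ex p α u v
  obtain ⟨T', hT'⟩ := ex_sub_one p (α * (u + v))
  have hα : α ^ p = C (a ^ p) := (map_pow C a p).symm
  have hW' : ex p (α * u) * ex p (α * v) =
      ex p (α * (u + v)) - C (a ^ p) * S + C (a ^ p) * α * T := by
    rw [hW, pow_succ, hα]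
  have key : ex p (α * u) * ex p (α * v) * (1 + C (a ^ p) * S) - ex p (α * (u + v)) =
      C (a ^ p * a) * (S * (u + v) * T') - C (a ^ p * a ^ p) * S ^ 2 +
        C (a ^ p * a) * (T * (1 + C (a ^ p) * S)) := by
    rw [map_mul, map_mul, ← hαdef]
    linear_combination (1 + C (a ^ p) * S) * hW' + (C (a ^ p) * S) * hT'
  rw [key]
  have h1 : (C (a ^ p * a) : MvPolynomial (Fin 2) R) ∈ cI (Fin 2) (I * 𝔟) :=
    C_mem_cI (Ideal.mul_mem_mul hr ha)
  have h2 : (C (a ^ p * a ^ p) : MvPolynomial (Fin 2) R) ∈ cI (Fin 2) (I * 𝔟) :=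
    C_mem_cI (Ideal.mul_mem_mul hr (hI𝔟 hr))
  exact Ideal.add_mem _ (Ideal.sub_mem _ (Ideal.mul_mem_right _ _ h1) (Ideal.mul_mem_right _ _ h2))
    (Ideal.mul_mem_right _ _ h1)

omit [CharP R p] in
theorem E_sub_one_mem (𝔟 : Ideal R) (a : R) (ha : a ∈ 𝔟) (e : ℕ) :
    E p a e - 1 ∈ Ideal.map (Polynomial.C : R →+* Polynomial R) 𝔟 := by
  rw [E_def, Finset.range_eq_Ico, Finset.sum_eq_sum_Ico_succ_bot hp.out.pos]
  have h0 : Polynomial.C (Ring.inverse ((Nat.factorial 0 : ℕ) : R) * a ^ 0) *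
      Polynomial.X ^ (0 * p ^ e) = 1 := by simp
  rw [h0, add_sub_cancel_left]
  refine Ideal.sum_mem _ fun j hj => ?_
  have hj1 : 0 < j := by
    have := (Finset.mem_Ico.mp hj).1
    omega
  exact Ideal.mul_mem_right _ _ (Ideal.mem_map_of_mem _
    (𝔟.mul_mem_left _ (Ideal.pow_mem_of_mem 𝔟 ha _ hj1)))

omit hp [CharP R p] in
theorem isUnit_of_sub_one_mem (𝔟 : Ideal R) (hnil : ∀ y ∈ 𝔟, IsNilpotent y) (f : Polynomial R)
    (hf : f - 1 ∈ Ideal.map (Polynomial.C : R →+* Polynomial R) 𝔟) : IsUnit f := by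
  have h1 : IsNilpotent (f - 1) := by
    rw [Polynomial.isNilpotent_iff]
    intro i
    exact hnil _ (Ideal.mem_map_C_iff.mp hf i)
  have := h1.isUnit_add_one
  simpa using this

/-- The approximation step. -/
theorem step (I 𝔟 : Ideal R) (hI𝔟 : I ≤ 𝔟) (hroot : ∀ x ∈ I, ∃ y ∈ 𝔟, y ^ p = x)
    (hnil : ∀ y ∈ 𝔟, IsNilpotent y)
    (h : MvPolynomial (Fin 2) R) (hh : h - 1 ∈ cI (Fin 2) I)
    (hsymm : aeval ![(X 1 : MvPolynomial (Fin 2) R), X 0] h = h)
    (hcoc : aeval ![(X 1 : MvPolynomial (Fin 3) R), X 2] h *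
        aeval ![(X 0 : MvPolynomial (Fin 3) R), X 1 + X 2] h =
      aeval ![(X 0 + X 1 : MvPolynomial (Fin 3) R), X 2] h *
        aeval ![(X 0 : MvPolynomial (Fin 3) R), X 1] h) :
    ∃ f g : Polynomial R, f * g = 1 ∧
      h * Polynomial.aeval (X 0 : MvPolynomial (Fin 2) R) f *
        Polynomial.aeval (X 1 : MvPolynomial (Fin 2) R) f *
        Polynomial.aeval (X 0 + X 1 : MvPolynomial (Fin 2) R) g - 1 ∈ cI (Fin 2) (I * 𝔟) := by
  classical
  set F := h - 1 with hFdef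
  have hhF : h = 1 + F := by rw [hFdef]; ring
  have hII : I * I ≤ I * 𝔟 := Ideal.mul_mono_right hI𝔟
  -- symmetric
  have hsF : aeval ![(X 1 : MvPolynomial (Fin 2) R), X 0] F = F := by
    rw [hFdef, map_sub, map_one, hsymm]
  have hs : ∀ i j, cf F i j - cf F j i ∈ I * 𝔟 := by
    intro i j
    rw [(symm_iff F).mp hsF i j, sub_self]
    exact Ideal.zero_mem _
  -- additive cocycle modulo I * I
  have hc : ∀ i j k, cf F i (j + k) * (((j + k).choose j : ℕ) : R) +
      (if i = 0 then cf F j k else 0) - cf F (i + j) k * (((i + j).choose i : ℕ) : R) -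
      (if k = 0 then cf F i j else 0) ∈ I * 𝔟 := by
    intro i j k
    have hb := aeval_mem_cI I ![(X 0 : MvPolynomial (Fin 3) R), X 1 + X 2] hh
    have hcc := aeval_mem_cI I ![(X 1 : MvPolynomial (Fin 3) R), X 2] hh
    have hd := aeval_mem_cI I ![(X 0 + X 1 : MvPolynomial (Fin 3) R), X 2] hh
    have he := aeval_mem_cI I ![(X 0 : MvPolynomial (Fin 3) R), X 1] hh
    have hcoc' := hcoc
    rw [hhF] at hcoc'
    simp only [map_add, map_one] at hcoc'
    have hB : aeval ![(X 0 : MvPolynomial (Fin 3) R), X 1 + X 2] F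
        + aeval ![(X 1 : MvPolynomial (Fin 3) R), X 2] F
        - aeval ![(X 0 + X 1 : MvPolynomial (Fin 3) R), X 2] F
        - aeval ![(X 0 : MvPolynomial (Fin 3) R), X 1] F =
        aeval ![(X 0 + X 1 : MvPolynomial (Fin 3) R), X 2] F *
          aeval ![(X 0 : MvPolynomial (Fin 3) R), X 1] F -
        aeval ![(X 1 : MvPolynomial (Fin 3) R), X 2] F *
          aeval ![(X 0 : MvPolynomial (Fin 3) R), X 1 + X 2] F := by
      linear_combination hcoc'
    have hmem : aeval ![(X 0 : MvPolynomial (Fin 3) R), X 1 + X 2] F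
        + aeval ![(X 1 : MvPolynomial (Fin 3) R), X 2] F
        - aeval ![(X 0 + X 1 : MvPolynomial (Fin 3) R), X 2] F
        - aeval ![(X 0 : MvPolynomial (Fin 3) R), X 1] F ∈ cI (Fin 3) (I * 𝔟) := by
      rw [hB]
      apply cI_mono hII
      rw [← cI_mul]
      exact Ideal.sub_mem _ (Ideal.mul_mem_mul hd he) (Ideal.mul_mem_mul hcc hb)
    have := mem_cI_iff.mp hmem (s3 i j k)
    rw [coeff_sub, coeff_sub, coeff_add, coeff_b, coeff_c, coeff_d, coeff_e] at this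
    exact this
  have hJ : ∀ i j, cf F i j ∈ I := fun i j => mem_cI_iff.mp hh _
  obtain ⟨G, N, r, hG, hr, hFP⟩ := forward_mod p I (I * 𝔟) F hs hc hJ
  have hFP' : F - Phi p G N r ∈ cI (Fin 2) (I * 𝔟) := by
    rw [mem_cI_iff]
    intro m
    rw [← s2_eta m, coeff_sub]
    exact hFP _ _
  -- roots
  have hroot' : ∀ e, ∃ y ∈ 𝔟, y ^ p = r e := fun e => hroot _ (hr e)
  choose a ha hap using hroot'
  set f : Polynomial R := (1 + G) * ∏ e ∈ Finset.range N, E p (a e) e with hfdef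
  have hfunit : IsUnit f := by
    apply isUnit_of_sub_one_mem 𝔟 hnil
    apply mul_sub_one_mem
    · rw [add_sub_cancel_left, Ideal.mem_map_C_iff]
      exact fun n => hI𝔟 (hG n)
    · apply prod_sub_one_mem
      intro e _
      exact E_sub_one_mem p 𝔟 (a e) (ha e) e
  obtain ⟨g, hfg⟩ := hfunit.exists_right_inv
  refine ⟨f, g, hfg, ?_⟩
  -- the relation for f
  set δG := Polynomial.aeval (X 0 + X 1 : MvPolynomial (Fin 2) R) G
      - Polynomial.aeval (X 0 : MvPolynomial (Fin 2) R) G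
      - Polynomial.aeval (X 1 : MvPolynomial (Fin 2) R) G with hδG
  set x : ℕ → MvPolynomial (Fin 2) R := fun e => C (r e) *
      aeval ![(X 0 : MvPolynomial (Fin 2) R) ^ p ^ e, X 1 ^ p ^ e] (Spoly R p) with hx
  have hrel1 : Rel (I * 𝔟) (1 + G) (1 + δG) := Rel.one_add I (I * 𝔟) hII G hG
  have hrel2 : Rel (I * 𝔟) (∏ e ∈ Finset.range N, E p (a e) e)
      (∏ e ∈ Finset.range N, (1 + x e)) := by
    apply Rel.prod
    intro e _
    have := Rel.E p I 𝔟 hI𝔟 (a e) (ha e) (by rw [hap e]; exact hr e) e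
    rw [hap e] at this
    exact this
  have hrel : Rel (I * 𝔟) f ((1 + δG) * ∏ e ∈ Finset.range N, (1 + x e)) := hrel1.mul hrel2
  have hδmem : δG ∈ cI (Fin 2) I :=
    Ideal.sub_mem _ (Ideal.sub_mem _ (paeval_mem_cI I _ hG) (paeval_mem_cI I _ hG))
      (paeval_mem_cI I _ hG)
  have hxmem : ∀ e ∈ Finset.range N, x e ∈ cI (Fin 2) I :=
    fun e _ => Ideal.mul_mem_right _ _ (C_mem_cI (hr e))
  have hPhi : Phi p G N r = δG + ∑ e ∈ Finset.range N, x e := rfl
  have hm : h - (1 + δG) * ∏ e ∈ Finset.range N, (1 + x e) ∈ cI (Fin 2) (I * 𝔟) := by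
    have h1 := prod_one_add_sub (cI (Fin 2) I) (Finset.range N) x hxmem
    have hsum : ∑ e ∈ Finset.range N, x e ∈ cI (Fin 2) I := Ideal.sum_mem _ hxmem
    have : h - (1 + δG) * ∏ e ∈ Finset.range N, (1 + x e) =
        (F - Phi p G N r) - (1 + δG) * (∏ e ∈ Finset.range N, (1 + x e)
          - (1 + ∑ e ∈ Finset.range N, x e)) - δG * ∑ e ∈ Finset.range N, x e := by
      rw [hPhi, hhF]; ring
    rw [this]
    refine Ideal.sub_mem _ (Ideal.sub_mem _ hFP' ?_) ?_
    · apply cI_mono hII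
      rw [← cI_mul]
      exact Ideal.mul_mem_left _ _ h1
    · apply cI_mono hII
      rw [← cI_mul]
      exact Ideal.mul_mem_mul hδmem hsum
  have hrel' : Rel (I * 𝔟) f h := hrel.congr hm
  unfold Rel at hrel'
  have hgS : Polynomial.aeval (X 0 + X 1 : MvPolynomial (Fin 2) R) f *
      Polynomial.aeval (X 0 + X 1 : MvPolynomial (Fin 2) R) g = 1 := by
    rw [← map_mul, hfg, map_one]
  have : h * Polynomial.aeval (X 0 : MvPolynomial (Fin 2) R) f *
        Polynomial.aeval (X 1 : MvPolynomial (Fin 2) R) f *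
        Polynomial.aeval (X 0 + X 1 : MvPolynomial (Fin 2) R) g - 1 =
      Polynomial.aeval (X 0 + X 1 : MvPolynomial (Fin 2) R) g *
        (Polynomial.aeval (X 0 : MvPolynomial (Fin 2) R) f *
          Polynomial.aeval (X 1 : MvPolynomial (Fin 2) R) f * h
          - Polynomial.aeval (X 0 + X 1 : MvPolynomial (Fin 2) R) f) := by
    linear_combination hgS
  rw [this]
  exact Ideal.mul_mem_left _ _ hrel'

end Groth.Agent.Lib.Helper16.GaExt
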