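import Groth.Agent.Lib.Helper16.GaExt3

/-!
# Splitting of extensions of `G_a` by `G_m` over a semiperfect ring of characteristic `p`
-/

namespace Groth.Agent.Lib.Helper16.GaExt

open MvPolynomial Groth.Agent.Lib.Helper16.Lazard

variable {R : Type*} [CommRing R]

theorem aeval_paeval {σ τ : Type*} (v : σ → MvPolynomial τ R) (z : MvPolynomial σ R)
    (f : Polynomial R) : aeval v (Polynomial.aeval z f) = Polynomial.aeval (aeval v z) f :=
  (Polynomial.aeval_algHom_apply (aeval v) z f).symm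

theorem twist_symm (h : MvPolynomial (Fin 2) R) (f g : Polynomial R)
    (hsymm : aeval ![(X 1 : MvPolynomial (Fin 2) R), X 0] h = h) :
    aeval ![(X 1 : MvPolynomial (Fin 2) R), X 0]
      (h * Polynomial.aeval (X 0 : MvPolynomial (Fin 2) R) f *
        Polynomial.aeval (X 1 : MvPolynomial (Fin 2) R) f *
        Polynomial.aeval (X 0 + X 1 : MvPolynomial (Fin 2) R) g) =
      h * Polynomial.aeval (X 0 : MvPolynomial (Fin 2) R) f *
        Polynomial.aeval (X 1 : MvPolynomial (Fin 2) R) f *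
        Polynomial.aeval (X 0 + X 1 : MvPolynomial (Fin 2) R) g := by
  rw [map_mul, map_mul, map_mul, hsymm, aeval_paeval, aeval_paeval, aeval_paeval, map_add,
    aeval_X, aeval_X]
  simp only [Matrix.cons_val_zero, Matrix.cons_val_one]
  rw [add_comm (X 1 : MvPolynomial (Fin 2) R) (X 0)]
  ring

theorem twist_coc (h : MvPolynomial (Fin 2) R) (f g : Polynomial R) (hfg : f * g = 1)
    (hcoc : aeval ![(X 1 : MvPolynomial (Fin 3) R), X 2] h *
        aeval ![(X 0 : MvPolynomial (Fin 3) R), X 1 + X 2] h =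
      aeval ![(X 0 + X 1 : MvPolynomial (Fin 3) R), X 2] h *
        aeval ![(X 0 : MvPolynomial (Fin 3) R), X 1] h) :
    aeval ![(X 1 : MvPolynomial (Fin 3) R), X 2]
        (h * Polynomial.aeval (X 0 : MvPolynomial (Fin 2) R) f *
          Polynomial.aeval (X 1 : MvPolynomial (Fin 2) R) f *
          Polynomial.aeval (X 0 + X 1 : MvPolynomial (Fin 2) R) g) *
      aeval ![(X 0 : MvPolynomial (Fin 3) R), X 1 + X 2]
        (h * Polynomial.aeval (X 0 : MvPolynomial (Fin 2) R) f *
          Polynomial.aeval (X 1 : MvPolynomial (Fin 2) R) f *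
          Polynomial.aeval (X 0 + X 1 : MvPolynomial (Fin 2) R) g) =
    aeval ![(X 0 + X 1 : MvPolynomial (Fin 3) R), X 2]
        (h * Polynomial.aeval (X 0 : MvPolynomial (Fin 2) R) f *
          Polynomial.aeval (X 1 : MvPolynomial (Fin 2) R) f *
          Polynomial.aeval (X 0 + X 1 : MvPolynomial (Fin 2) R) g) *
      aeval ![(X 0 : MvPolynomial (Fin 3) R), X 1]
        (h * Polynomial.aeval (X 0 : MvPolynomial (Fin 2) R) f *
          Polynomial.aeval (X 1 : MvPolynomial (Fin 2) R) f *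
          Polynomial.aeval (X 0 + X 1 : MvPolynomial (Fin 2) R) g) := by
  simp only [map_mul, aeval_paeval, map_add, aeval_X, Matrix.cons_val_zero, Matrix.cons_val_one]
  rw [← add_assoc (X 0 : MvPolynomial (Fin 3) R) (X 1) (X 2)]
  have h1 : Polynomial.aeval (X 1 + X 2 : MvPolynomial (Fin 3) R) f *
      Polynomial.aeval (X 1 + X 2 : MvPolynomial (Fin 3) R) g = 1 := by
    rw [← map_mul, hfg, map_one]
  have h2 : Polynomial.aeval (X 0 + X 1 : MvPolynomial (Fin 3) R) f *
      Polynomial.aeval (X 0 + X 1 : MvPolynomial (Fin 3) R) g = 1 := by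
    rw [← map_mul, hfg, map_one]
  set A := Polynomial.aeval (X 0 : MvPolynomial (Fin 3) R) f
  set B := Polynomial.aeval (X 1 : MvPolynomial (Fin 3) R) f
  set Cc := Polynomial.aeval (X 2 : MvPolynomial (Fin 3) R) f
  set gXYZ := Polynomial.aeval (X 0 + X 1 + X 2 : MvPolynomial (Fin 3) R) g
  set c := aeval ![(X 1 : MvPolynomial (Fin 3) R), X 2] h
  set b := aeval ![(X 0 : MvPolynomial (Fin 3) R), X 1 + X 2] h
  set d := aeval ![(X 0 + X 1 : MvPolynomial (Fin 3) R), X 2] h
  set e := aeval ![(X 0 : MvPolynomial (Fin 3) R), X 1] h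
  linear_combination (A * B * Cc * gXYZ * c * b) * h1 + (A * B * Cc * gXYZ) * hcoc
    - (A * B * Cc * gXYZ * d * e) * h2

theorem span_pow_eq_bot (T : Finset R) (m : ℕ) (h : ∀ x ∈ T, x ^ m = 0) :
    (Ideal.span (T : Set R)) ^ (T.card * m + 1) = ⊥ := by
  classical
  induction T using Finset.induction_on with
  | empty => simp
  | insert a T ha ih =>
    rw [Finset.card_insert_of_notMem ha, Finset.coe_insert, Ideal.span_insert, eq_bot_iff]
    have e1 : (T.card + 1) * m + 1 = m + (T.card * m + 1) := by ring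
    rw [e1]
    refine Ideal.sup_pow_add_le_pow_sup_pow.trans ?_
    rw [ih (fun x hx => h x (Finset.mem_insert_of_mem hx)), Ideal.span_singleton_pow,
      h a (Finset.mem_insert_self a T)]
    simp

theorem bern (p j : ℕ) : p ^ (j + 1) + j * p ^ j ≤ p * (p + 1) ^ j := by
  induction j with
  | zero => simp
  | succ j ih =>
    have h1 : (p + 1) * (p ^ (j + 1) + j * p ^ j) =
        p ^ (j + 1 + 1) + (j + 1) * p ^ (j + 1) + j * p ^ j := by ring
    have h2 : (p + 1) * (p ^ (j + 1) + j * p ^ j) ≤ (p + 1) * (p * (p + 1) ^ j) :=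
      Nat.mul_le_mul_left _ ih
    have h3 : (p + 1) * (p * (p + 1) ^ j) = p * (p + 1) ^ (j + 1) := by ring
    omega

theorem exists_big (p s M : ℕ) (hp : 0 < p) : ∃ j, s * (M * p ^ j) + 1 ≤ (p + 1) ^ j := by
  refine ⟨p * s * M, ?_⟩
  have h := bern p (p * s * M)
  generalize hj : p * s * M = j at h
  have h1 : p * (p ^ j + s * (M * p ^ j)) = p ^ (j + 1) + j * p ^ j := by rw [← hj]; ring
  have h2 : p * (p ^ j + s * (M * p ^ j)) ≤ p * (p + 1) ^ j := h1 ▸ h
  have h3 := Nat.le_of_mul_le_mul_left h2 hp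
  have h4 : 1 ≤ p ^ j := Nat.one_le_pow _ _ hp
  omega

section main

variable (p : ℕ) [hp : Fact p.Prime] [CharP R p] (hF : Function.Surjective (frobenius R p))

/-- a compatible system of `p`-power roots -/
noncomputable def rt (x : R) : ℕ → R
  | 0 => x
  | k + 1 => Classical.choose (hF (rt x k))

theorem rt_succ_pow (x : R) (k : ℕ) : (rt p hF x (k + 1)) ^ p = rt p hF x k := by
  have := Classical.choose_spec (hF (rt p hF x k))
  rw [frobenius_def] at this
  exact this

theorem rt_pow (x : R) (k : ℕ) : (rt p hF x k) ^ (p ^ k) = x := by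
  induction k with
  | zero => simp [rt]
  | succ k ih => rw [pow_succ', pow_mul, rt_succ_pow, ih]

/-- the ideal generated by the `p^k`-th roots of the elements of `C₀` -/
noncomputable def ak (C₀ : Finset R) (k : ℕ) : Ideal R :=
  Ideal.span ((fun x => rt p hF x k) '' (C₀ : Set R))

theorem ak_map (C₀ : Finset R) (k : ℕ) :
    Ideal.map (frobenius R p) (ak p hF C₀ (k + 1)) = ak p hF C₀ k := by
  unfold ak
  rw [Ideal.map_span, Set.image_image]
  congr 1
  apply Set.image_congr
  intro x _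
  rw [frobenius_def, rt_succ_pow]

theorem ak_le_pow (C₀ : Finset R) (k : ℕ) : ak p hF C₀ k ≤ (ak p hF C₀ (k + 1)) ^ p := by
  unfold ak
  rw [Ideal.span_le]
  rintro _ ⟨x, hx, rfl⟩
  simp only
  rw [← rt_succ_pow p hF x k]
  exact Ideal.pow_mem_pow (Ideal.subset_span (Set.mem_image_of_mem _ hx)) p

theorem ak_le_succ (C₀ : Finset R) (k : ℕ) : ak p hF C₀ k ≤ ak p hF C₀ (k + 1) :=
  (ak_le_pow p hF C₀ k).trans (Ideal.pow_le_self hp.out.ne_zero)

theorem ak_root (C₀ : Finset R) (k n : ℕ) :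
    ∀ x ∈ (ak p hF C₀ k) ^ n, ∃ y ∈ (ak p hF C₀ (k + 1)) ^ n, y ^ p = x := by
  intro x hx
  rw [← ak_map p hF C₀ k, ← Ideal.map_pow] at hx
  obtain ⟨y, hy, hyx⟩ := (Ideal.mem_map_iff_of_surjective _ hF).mp hx
  exact ⟨y, hy, by rw [← frobenius_def]; exact hyx⟩

theorem ak_pow_eq_bot (C₀ : Finset R) (M : ℕ) (hM : ∀ x ∈ C₀, x ^ M = 0) (k : ℕ) :
    (ak p hF C₀ k) ^ (C₀.card * (M * p ^ k) + 1) = ⊥ := by
  classical
  have h1 := span_pow_eq_bot (C₀.image (fun x => rt p hF x k)) (M * p ^ k) (by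
    intro y hy
    obtain ⟨x, hx, rfl⟩ := Finset.mem_image.mp hy
    rw [mul_comm, pow_mul, rt_pow, hM x hx])
  rw [Finset.coe_image] at h1
  rw [eq_bot_iff, ← h1]
  apply Ideal.pow_le_pow_right
  have := Finset.card_image_le (s := C₀) (f := fun x => rt p hF x k)
  exact Nat.add_le_add_right (Nat.mul_le_mul_right _ this) 1

include hF in
theorem main (h : MvPolynomial (Fin 2) R) (hu : IsUnit h)
    (h0 : aeval ![(X 0 : MvPolynomial (Fin 2) R), 0] h = 1)
    (hsymm : aeval ![(X 1 : MvPolynomial (Fin 2) R), X 0] h = h)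
    (hcoc : aeval ![(X 1 : MvPolynomial (Fin 3) R), X 2] h *
        aeval ![(X 0 : MvPolynomial (Fin 3) R), X 1 + X 2] h =
      aeval ![(X 0 + X 1 : MvPolynomial (Fin 3) R), X 2] h *
        aeval ![(X 0 : MvPolynomial (Fin 3) R), X 1] h) :
    ∃ f : Polynomial R, IsUnit f ∧
      Polynomial.aeval (X 0 + X 1 : MvPolynomial (Fin 2) R) f =
        Polynomial.aeval (X 0 : MvPolynomial (Fin 2) R) f *
          Polynomial.aeval (X 1 : MvPolynomial (Fin 2) R) f * h := by
  classical
  have hconst : coeff 0 h = 1 := by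
    have := congrArg (aeval (fun _ : Fin 2 => (0 : R))) h0
    rw [← AlgHom.comp_apply, comp_aeval] at this
    have hv : (fun i => (aeval (fun _ : Fin 2 => (0 : R)))
        (![(X 0 : MvPolynomial (Fin 2) R), 0] i)) = fun _ => 0 := by
      funext i
      fin_cases i <;> simp
    rw [hv, aeval_zero', map_one] at this
    simpa [constantCoeff_eq] using this
  set C₀ : Finset R := (h - 1).support.image (fun d => coeff d (h - 1)) with hC₀
  have hnilC : ∀ x ∈ C₀, IsNilpotent x := by
    intro x hx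
    obtain ⟨d, _, rfl⟩ := Finset.mem_image.mp hx
    by_cases hd : d = 0
    · rw [hd, coeff_sub, hconst, coeff_one, if_pos rfl, sub_self]
      exact IsNilpotent.zero
    · rw [coeff_sub, coeff_one, if_neg (Ne.symm hd), sub_zero]
      exact (isUnit_iff.mp hu).2 d hd
  obtain ⟨M, hM⟩ : ∃ M, ∀ x ∈ C₀, x ^ M = 0 := by
    have : ∀ x ∈ C₀, ∃ n, x ^ n = 0 := hnilC
    choose! n hn using this
    exact ⟨C₀.sup n, fun x hx => pow_eq_zero_of_le (Finset.le_sup hx) (hn x hx)⟩
  have hnil : ∀ k, ∀ y ∈ ak p hF C₀ k, IsNilpotent y := by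
    intro k y hy
    refine ⟨C₀.card * (M * p ^ k) + 1, ?_⟩
    have := Ideal.pow_mem_pow hy (C₀.card * (M * p ^ k) + 1)
    rw [ak_pow_eq_bot p hF C₀ M hM k] at this
    exact this
  have inv : ∀ j, ∃ f g : Polynomial R, f * g = 1 ∧
      h * Polynomial.aeval (X 0 : MvPolynomial (Fin 2) R) f *
        Polynomial.aeval (X 1 : MvPolynomial (Fin 2) R) f *
        Polynomial.aeval (X 0 + X 1 : MvPolynomial (Fin 2) R) g - 1 ∈
        cI (Fin 2) ((ak p hF C₀ j) ^ ((p + 1) ^ j)) := by
    intro j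
    induction j with
    | zero =>
      refine ⟨1, 1, one_mul 1, ?_⟩
      simp only [map_one, mul_one, pow_zero, pow_one]
      rw [mem_cI_iff]
      intro m
      by_cases hm : coeff m (h - 1) = 0
      · rw [hm]; exact zero_mem _
      · apply Ideal.subset_span
        have hmem0 : coeff m (h - 1) ∈ (C₀ : Set R) := by
          rw [Finset.mem_coe, hC₀, Finset.mem_image]
          exact ⟨m, mem_support_iff.mpr hm, rfl⟩
        exact Set.mem_image_of_mem (fun x => rt p hF x 0) hmem0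
    | succ j ih =>
      obtain ⟨f, g, hfg, hmem⟩ := ih
      have hs' := twist_symm h f g hsymm
      have hc' := twist_coc h f g hfg hcoc
      have he0 : (p + 1) ^ j ≠ 0 := pow_ne_zero _ (Nat.succ_ne_zero p)
      obtain ⟨f', g', hfg', hmem'⟩ := step p ((ak p hF C₀ j) ^ ((p + 1) ^ j))
        ((ak p hF C₀ (j + 1)) ^ ((p + 1) ^ j))
        (Ideal.pow_right_mono (ak_le_succ p hF C₀ j) _) (ak_root p hF C₀ j _)
        (fun y hy => hnil (j + 1) y (Ideal.pow_le_self he0 hy)) _ hmem hs' hc'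
      refine ⟨f * f', g * g', by rw [mul_mul_mul_comm, hfg, hfg', one_mul], ?_⟩
      have hle : (ak p hF C₀ j) ^ ((p + 1) ^ j) * (ak p hF C₀ (j + 1)) ^ ((p + 1) ^ j) ≤
          (ak p hF C₀ (j + 1)) ^ ((p + 1) ^ (j + 1)) := by
        calc (ak p hF C₀ j) ^ ((p + 1) ^ j) * (ak p hF C₀ (j + 1)) ^ ((p + 1) ^ j)
            ≤ ((ak p hF C₀ (j + 1)) ^ p) ^ ((p + 1) ^ j) * (ak p hF C₀ (j + 1)) ^ ((p + 1) ^ j) :=
              Ideal.mul_mono_left (Ideal.pow_right_mono (ak_le_pow p hF C₀ j) _)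
          _ = (ak p hF C₀ (j + 1)) ^ ((p + 1) ^ (j + 1)) := by
              rw [← pow_mul, ← pow_add, pow_succ (p + 1) j]
              congr 1
              ring
      have heq : h * Polynomial.aeval (X 0 : MvPolynomial (Fin 2) R) (f * f') *
          Polynomial.aeval (X 1 : MvPolynomial (Fin 2) R) (f * f') *
          Polynomial.aeval (X 0 + X 1 : MvPolynomial (Fin 2) R) (g * g') =
          (h * Polynomial.aeval (X 0 : MvPolynomial (Fin 2) R) f *
            Polynomial.aeval (X 1 : MvPolynomial (Fin 2) R) f *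
            Polynomial.aeval (X 0 + X 1 : MvPolynomial (Fin 2) R) g) *
          Polynomial.aeval (X 0 : MvPolynomial (Fin 2) R) f' *
          Polynomial.aeval (X 1 : MvPolynomial (Fin 2) R) f' *
          Polynomial.aeval (X 0 + X 1 : MvPolynomial (Fin 2) R) g' := by
        simp only [map_mul]
        ring
      rw [heq]
      exact cI_mono hle hmem'
  obtain ⟨j, hj⟩ := exists_big p C₀.card M hp.out.pos
  obtain ⟨f, g, hfg, hmem⟩ := inv j
  have hbot : (ak p hF C₀ j) ^ ((p + 1) ^ j) = ⊥ := by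
    rw [eq_bot_iff, ← ak_pow_eq_bot p hF C₀ M hM j]
    exact Ideal.pow_le_pow_right hj
  rw [hbot] at hmem
  have hcI : cI (Fin 2) (⊥ : Ideal R) = ⊥ := by
    unfold cI
    exact Ideal.map_bot
  rw [hcI, Ideal.mem_bot, sub_eq_zero] at hmem
  have hgS : Polynomial.aeval (X 0 + X 1 : MvPolynomial (Fin 2) R) f *
      Polynomial.aeval (X 0 + X 1 : MvPolynomial (Fin 2) R) g = 1 := by
    rw [← map_mul, hfg, map_one]
  refine ⟨f, IsUnit.of_mul_eq_one g hfg, ?_⟩
  linear_combination (Polynomial.aeval (X 0 : MvPolynomial (Fin 2) R) f *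
          Polynomial.aeval (X 1 : MvPolynomial (Fin 2) R) f * h) * hgS
    - (Polynomial.aeval (X 0 + X 1 : MvPolynomial (Fin 2) R) f) * hmem

end main

end Groth.Agent.Lib.Helper16.GaExt
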