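import Groth.Prelude.Def_Neron
import Mathlib.AlgebraicGeometry.Morphisms.Flat
import Mathlib.AlgebraicGeometry.Morphisms.ClosedImmersion
import Mathlib.AlgebraicGeometry.IdealSheaf.Basic

/-!
# Schematic density of the generic fibre of a flat scheme (helper16)

* `inl_injective_of_isPushout`: in a pushout square of commutative rings with one leg flat and the
  other injective, the coprojection from the flat side is injective.
* `app_fst_injective`, `ker_fst_eq_bot`: for `iX : X ⟶ S` flat, `f : T ⟶ S` with `S`, `T` affine and
  `Γ(S) → Γ(T)` injective, the projection `X ×_S T ⟶ X` is schematically dominant.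
* `isIso_of_fst_factors`: a closed immersion into `X` through which `X ×_S T ⟶ X` factors is an iso.
* `eq_of_genericFibre_map_eq`: morphisms from a flat `R`-scheme to a separated one are determined by
  the generic fibre (`R` a domain).
* `exists_lift_of_genericFibre`: a morphism from a flat `R`-scheme `Y` to `X` whose generic fibre
  factors through the generic fibre of a closed subscheme `G ⟶ X` factors through `G`.
-/

set_option autoImplicit false
universe u
open CategoryTheory CategoryTheory.Limits AlgebraicGeometry

namespace Groth.Agent.Lib.Helper16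

lemma inl_injective_of_isPushout {R A B P : CommRingCat.{u}} {f : R ⟶ A} {g : R ⟶ B}
    {inl : A ⟶ P} {inr : B ⟶ P}
    (h : IsPushout f g inl inr) (hf : f.hom.Flat) (hg : Function.Injective g.hom) :
    Function.Injective inl.hom := by
  algebraize [f.hom, g.hom]
  have h' := CommRingCat.isPushout_tensorProduct R A B
  have h2 : IsPushout f g (CommRingCat.ofHom Algebra.TensorProduct.includeLeftRingHom)
    (CommRingCat.ofHom (Algebra.TensorProduct.includeRight (R := R) (A := A) (B := B)).toRingHom) := h'
  let e := h.isoIsPushout _ _ h2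
  have he : inl ≫ e.hom = CommRingCat.ofHom Algebra.TensorProduct.includeLeftRingHom :=
    h.inl_isoIsPushout_hom _ _ h2
  have hinj : Function.Injective
      (Algebra.TensorProduct.includeLeftRingHom (R := R) (A := A) (B := B)) :=
    Algebra.TensorProduct.includeLeft_injective (S := R) hg
  have : Function.Injective (inl ≫ e.hom).hom := by rw [he]; exact hinj
  rw [CommRingCat.hom_comp] at this
  exact Function.Injective.of_comp this

theorem app_fst_injective {X S T : Scheme.{u}} (iX : X ⟶ S) (f : T ⟶ S) [IsAffine S] [IsAffine T]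
    [Flat iX] (hf : Function.Injective f.appTop.hom) (U : X.Opens) (hU : IsAffineOpen U) :
    Function.Injective ((pullback.fst iX f).app U).hom := by
  have H : IsPullback (pullback.fst iX f) (pullback.snd iX f) iX f := IsPullback.of_hasPullback iX f
  have hUST : (⊤ : T.Opens) ≤ f ⁻¹ᵁ ⊤ := le_of_eq rfl
  have hUSX : U ≤ iX ⁻¹ᵁ ⊤ := fun _ _ => trivial
  have hUY : (pullback.fst iX f) ⁻¹ᵁ U =
      (pullback.fst iX f) ⁻¹ᵁ U ⊓ (pullback.snd iX f) ⁻¹ᵁ ⊤ := by
    simp
  have h1 := isIso_pushoutSection_of_isAffineOpen H hUST hUSX hUY (isAffineOpen_top S)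
    (isAffineOpen_top T) hU
  rw [isIso_pushoutSection_iff] at h1
  have h2 := inl_injective_of_isPushout h1
    (Scheme.Hom.flat_appLE iX (isAffineOpen_top S) hU hUSX) ?_
  · rwa [Scheme.Hom.app_eq_appLE]
  · have : Scheme.Hom.appLE f ⊤ ⊤ hUST = f.appTop := Scheme.Hom.appLE_eq_app f
    rw [this]; exact hf

theorem ker_fst_eq_bot {X S T : Scheme.{u}} (iX : X ⟶ S) (f : T ⟶ S) [IsAffine S] [IsAffine T]
    [Flat iX] (hf : Function.Injective f.appTop.hom) : (pullback.fst iX f).ker = ⊥ := by
  refine le_bot_iff.mp fun U => ?_
  refine (Scheme.Hom.ideal_ker_le _ U).trans ?_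
  rw [(RingHom.injective_iff_ker_eq_bot _).mp (app_fst_injective iX f hf U.1 U.2)]
  exact le_refl _

/-- A closed immersion through which the (flat-base-changed) schematically dominant map factors is
an isomorphism. -/
theorem isIso_of_fst_factors {X S T Z : Scheme.{u}} (iX : X ⟶ S) (f : T ⟶ S) [IsAffine S]
    [IsAffine T] [Flat iX] (hf : Function.Injective f.appTop.hom) (i : Z ⟶ X) [IsClosedImmersion i]
    (l : pullback iX f ⟶ Z) (hl : l ≫ i = pullback.fst iX f) : IsIso i := by
  rw [IsClosedImmersion.isIso_iff_ker_eq_bot]
  refine le_bot_iff.mp ?_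
  rw [← ker_fst_eq_bot iX f hf, ← hl]
  exact Scheme.Hom.le_ker_comp l i

theorem genPt_appTop_injective (R : Type u) [CommRing R] [IsDomain R] :
    Function.Injective (Neron.genPt R).appTop.hom := by
  have h0 : Function.Injective (CommRingCat.ofHom (algebraMap R (FractionRing R))).hom :=
    IsFractionRing.injective R (FractionRing R)
  have h1 := Scheme.ΓSpecIso_naturality (CommRingCat.ofHom (algebraMap R (FractionRing R)))
  have h2 : Function.Injective
      ((Spec.map (CommRingCat.ofHom (algebraMap R (FractionRing R)))).appTop ≫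
        (Scheme.ΓSpecIso _).hom).hom := by
    rw [h1, CommRingCat.hom_comp]
    exact h0.comp (ConcreteCategory.bijective_of_isIso (Scheme.ΓSpecIso _).hom).1
  rw [CommRingCat.hom_comp] at h2
  exact Function.Injective.of_comp h2

theorem genericFibre_map_left_fst (R : Type u) [CommRing R] [IsDomain R]
    {X Y : Over (Spec (CommRingCat.of R))} (f : X ⟶ Y) :
    ((Neron.genericFibre R).map f).left ≫ pullback.fst Y.hom (Neron.genPt R) =
      pullback.fst X.hom (Neron.genPt R) ≫ f.left := by
  simp only [Over.pullback_map_left, Over.pullback_obj_left]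
  rw [pullback.lift_fst]

theorem fst_comp_eq (R : Type u) [CommRing R] [IsDomain R]
    (X Y : Over (Spec (CommRingCat.of R))) (f g : X ⟶ Y)
    (h : (Neron.genericFibre R).map f = (Neron.genericFibre R).map g) :
    pullback.fst X.hom (Neron.genPt R) ≫ f.left = pullback.fst X.hom (Neron.genPt R) ≫ g.left := by
  rw [← genericFibre_map_left_fst, ← genericFibre_map_left_fst, h]

/-- Morphisms from a flat `R`-scheme to a separated `R`-scheme are determined by their generic
fibres (`R` a domain). -/
theorem eq_of_genericFibre_map_eq (R : Type u) [CommRing R] [IsDomain R]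
    (X Y : Over (Spec (CommRingCat.of R))) [Flat X.hom] [IsSeparated Y.hom] (f g : X ⟶ Y)
    (h : (Neron.genericFibre R).map f = (Neron.genericFibre R).map g) : f = g := by
  have h1 := fst_comp_eq R X Y f g h
  let XK : Over (Spec (CommRingCat.of R)) := Over.mk (pullback.fst X.hom (Neron.genPt R) ≫ X.hom)
  let pK : XK ⟶ X := Over.homMk (pullback.fst X.hom (Neron.genPt R)) rfl
  have h2 : pK ≫ f = pK ≫ g := by
    ext1
    exact h1
  have h3 : (equalizer.lift pK h2).left ≫ (equalizer.ι f g).left =
      pullback.fst X.hom (Neron.genPt R) := by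
    rw [← Over.comp_left, equalizer.lift_ι]
    rfl
  have := isIso_of_fst_factors X.hom (Neron.genPt R) (genPt_appTop_injective R)
    (equalizer.ι f g).left (equalizer.lift pK h2).left h3
  have : IsIso (equalizer.ι f g) := by
    rw [← isIso_iff_of_reflects_iso _ (Over.forget _)]
    exact this
  rw [← cancel_epi (equalizer.ι f g)]
  exact equalizer.condition f g

end Groth.Agent.Lib.Helper16
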