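import Groth.Agent.Lib.Helper16.GenFibre

/-!
# Lifting through closed subschemes along the generic fibre (helper16)
-/

set_option autoImplicit false
universe u
open CategoryTheory CategoryTheory.Limits AlgebraicGeometry

namespace Groth.Agent.Lib.Helper16

/-- A morphism `u : Y ⟶ X` from a flat `R`-scheme whose generic fibre factors through the generic
fibre of a closed subscheme `i : G ⟶ X` factors through `G`. -/
theorem exists_lift_of_genericFibre (R : Type u) [CommRing R] [IsDomain R]
    (Y X G : Over (Spec (CommRingCat.of R))) [Flat Y.hom] (i : G ⟶ X) [IsClosedImmersion i.left]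
    (u : Y ⟶ X) (v : (Neron.genericFibre R).obj Y ⟶ (Neron.genericFibre R).obj G)
    (hu : (Neron.genericFibre R).map u = v ≫ (Neron.genericFibre R).map i) :
    ∃ w : Y ⟶ G, w ≫ i = u := by
  have hcond : pullback.fst Y.hom (Neron.genPt R) ≫ u.left =
      (v.left ≫ pullback.fst G.hom (Neron.genPt R)) ≫ i.left := by
    rw [← genericFibre_map_left_fst, hu, Over.comp_left, Category.assoc, Category.assoc,
      genericFibre_map_left_fst]
  let l : pullback Y.hom (Neron.genPt R) ⟶ pullback u.left i.left :=
    pullback.lift (pullback.fst Y.hom (Neron.genPt R))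
      (v.left ≫ pullback.fst G.hom (Neron.genPt R)) hcond
  have hl : l ≫ pullback.fst u.left i.left = pullback.fst Y.hom (Neron.genPt R) :=
    pullback.lift_fst _ _ _
  have hiso : IsIso (pullback.fst u.left i.left) :=
    isIso_of_fst_factors Y.hom (Neron.genPt R) (genPt_appTop_injective R)
      (pullback.fst u.left i.left) l hl
  have hw0 : (inv (pullback.fst u.left i.left) ≫ pullback.snd u.left i.left) ≫ i.left = u.left := by
    rw [Category.assoc, ← pullback.condition, IsIso.inv_hom_id_assoc]
  refine ⟨Over.homMk (inv (pullback.fst u.left i.left) ≫ pullback.snd u.left i.left) ?_, ?_⟩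
  · rw [← Over.w i, ← Category.assoc, hw0, Over.w u]
  · ext1
    exact hw0

end Groth.Agent.Lib.Helper16
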