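import Mathlib

set_option autoImplicit false
universe u

open DirectSum

namespace Helper16.GrNak

section Basics

variable {R : Type u} [CommRing R] {σ : Type u} [SetLike σ R] [AddSubmonoidClass σ R]
  (𝒜 : ℤ → σ) [GradedRing 𝒜]
variable {M : Type u} [AddCommGroup M] [Module R M]
  {τ : Type u} [SetLike τ M] [AddSubmonoidClass τ M] (ℳ : ℤ → τ) [DirectSum.Decomposition ℳ]
  [SetLike.GradedSMul 𝒜 ℳ]

/-- components of `r • x` for homogeneous `x`. -/
theorem comp_smul_of_mem {x : M} {e : ℤ} (hx : x ∈ ℳ e) (r : R) (d : ℤ) :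
    (decompose ℳ (r • x) d : M) = (decompose 𝒜 r (d - e) : R) • x := by
  classical
  have hr := DirectSum.sum_support_decompose 𝒜 r
  conv_lhs => rw [← hr, Finset.sum_smul, decompose_sum]
  rw [DFinsupp.finset_sum_apply, AddSubmonoidClass.coe_finset_sum]
  have hterm : ∀ a ∈ (decompose 𝒜 r).support,
      ((decompose ℳ ((decompose 𝒜 r a : R) • x)) d : M) =
        if a = d - e then (decompose 𝒜 r a : R) • x else 0 := by
    intro a _
    have hmem : (decompose 𝒜 r a : R) • x ∈ ℳ (a + e) := by
      have := SetLike.GradedSMul.smul_mem (A := 𝒜) (B := ℳ) (decompose 𝒜 r a).2 hx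
      simpa using this
    split_ifs with h
    · have : a + e = d := by omega
      rw [← this]
      exact decompose_of_mem_same ℳ hmem
    · have : a + e ≠ d := by omega
      exact decompose_of_mem_ne ℳ hmem this
  rw [Finset.sum_congr rfl hterm, Finset.sum_ite_eq']
  split_ifs with h
  · rfl
  · rw [DFinsupp.notMem_support_iff] at h
    rw [h]
    simp

theorem comp_add (x y : M) (d : ℤ) :
    (decompose ℳ (x + y) d : M) = (decompose ℳ x d : M) + (decompose ℳ y d : M) := by
  rw [decompose_add, DirectSum.add_apply, AddMemClass.coe_add]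

theorem comp_sum {ι : Type*} (s : Finset ι) (f : ι → M) (d : ℤ) :
    (decompose ℳ (∑ i ∈ s, f i) d : M) = ∑ i ∈ s, (decompose ℳ (f i) d : M) := by
  rw [decompose_sum, DFinsupp.finset_sum_apply, AddSubmonoidClass.coe_finset_sum]

theorem eq_zero_of_comp_eq_zero (x : M) (h : ∀ d, (decompose ℳ x d : M) = 0) : x = 0 := by
  apply (decompose ℳ).injective
  rw [decompose_zero]
  ext d
  rw [h d]
  rfl

end Basics

end Helper16.GrNak
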