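import Groth.Agent.Lib.Helper16.GrNak1

set_option autoImplicit false
universe u

open DirectSum

namespace Helper16.GrNak

section Main

variable {k : Type u} [Field k] {R : Type u} [CommRing R] [Algebra k R]
  {σ : Type u} [SetLike σ R] [AddSubmonoidClass σ R] (𝒜 : ℤ → σ) [GradedRing 𝒜]

/-- the irrelevant ideal: elements with vanishing degree-zero component -/
def irr (hneg : ∀ i : ℤ, i < 0 → ∀ x ∈ 𝒜 i, x = 0) : Ideal R where
  carrier := {t | (decompose 𝒜 t 0 : R) = 0}
  add_mem' := by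
    intro a b ha hb
    change (decompose 𝒜 (a + b) 0 : R) = 0
    rw [comp_add, ha, hb, add_zero]
  zero_mem' := by
    change (decompose 𝒜 (0 : R) 0 : R) = 0
    rw [decompose_zero]
    rfl
  smul_mem' := by
    classical
    intro a t ht
    change (decompose 𝒜 (a • t) 0 : R) = 0
    have hsum := DirectSum.sum_support_decompose 𝒜 t
    conv_lhs => rw [← hsum, Finset.smul_sum, comp_sum]
    apply Finset.sum_eq_zero
    intro j _
    rw [comp_smul_of_mem 𝒜 𝒜 (decompose 𝒜 t j).2 a 0]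
    rcases lt_trichotomy j 0 with hj | hj | hj
    · rw [hneg j hj _ (decompose 𝒜 t j).2, smul_zero]
    · subst hj
      have : (decompose 𝒜 t 0 : R) = 0 := ht
      rw [this, smul_zero]
    · rw [hneg (0 - j) (by omega) _ (decompose 𝒜 a (0 - j)).2, zero_smul]

theorem mem_irr (hneg : ∀ i : ℤ, i < 0 → ∀ x ∈ 𝒜 i, x = 0) (t : R) :
    t ∈ irr 𝒜 hneg ↔ (decompose 𝒜 t 0 : R) = 0 := Iff.rfl

/-- `(t * y)_e = 0` for `t` in the irrelevant ideal and `y` of degree `e`. -/
theorem comp_mul_of_mem_irr (hneg : ∀ i : ℤ, i < 0 → ∀ x ∈ 𝒜 i, x = 0) {t y : R} {e : ℤ}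
    (ht : t ∈ irr 𝒜 hneg) (hy : y ∈ 𝒜 e) : (decompose 𝒜 (t * y) e : R) = 0 := by
  have := comp_smul_of_mem 𝒜 𝒜 hy t e
  rw [smul_eq_mul] at this
  rw [this, sub_self, (mem_irr 𝒜 hneg t).mp ht, zero_smul]

variable {M : Type u} [AddCommGroup M] [Module R M]
  {τ : Type u} [SetLike τ M] [AddSubmonoidClass τ M] (ℳ : ℤ → τ) [DirectSum.Decomposition ℳ]
  [SetLike.GradedSMul 𝒜 ℳ]

/-- the degree-`d` part of a relation among homogeneous elements is a relation. -/
theorem rel_comp {n : ℕ} (g : Fin n → M) (deg : Fin n → ℤ) (hg : ∀ i, g i ∈ ℳ (deg i))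
    (c : Fin n → R) (hc : ∑ i, c i • g i = 0) (d : ℤ) :
    ∑ i, (decompose 𝒜 (c i) (d - deg i) : R) • g i = 0 := by
  have h := congrArg (fun x => (decompose ℳ x d : M)) hc
  simp only at h
  rw [comp_sum] at h
  rw [decompose_zero] at h
  have h' : ∑ i, (decompose 𝒜 (c i) (d - deg i) : R) • g i =
      ∑ i, (decompose ℳ (c i • g i) d : M) := by
    apply Finset.sum_congr rfl
    intro i _
    rw [comp_smul_of_mem 𝒜 ℳ (hg i)]
  rw [h', h]
  rfl

theorem exists_homogeneous_gens [Module.Finite R M] :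
    ∃ (n : ℕ) (g : Fin n → M), (∀ i, SetLike.IsHomogeneousElem ℳ (g i)) ∧
      Submodule.span R (Set.range g) = ⊤ := by
  classical
  obtain ⟨s, hs⟩ := (Module.Finite.fg_top : (⊤ : Submodule R M).FG)
  -- all homogeneous components of the generators
  let T : Finset M := s.biUnion fun x => (decompose ℳ x).support.image fun j => (decompose ℳ x j : M)
  have hT : ∀ y ∈ T, SetLike.IsHomogeneousElem ℳ y := by
    intro y hy
    simp only [T, Finset.mem_biUnion, Finset.mem_image] at hy
    obtain ⟨x, _, j, _, rfl⟩ := hy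
    exact ⟨j, (decompose ℳ x j).2⟩
  have hspan : Submodule.span R (T : Set M) = ⊤ := by
    rw [eq_top_iff, ← hs, Submodule.span_le]
    intro x hx
    rw [← DirectSum.sum_support_decompose ℳ x]
    apply Submodule.sum_mem
    intro j hj
    apply Submodule.subset_span
    simp only [T, Finset.coe_biUnion, Finset.coe_image, Set.mem_iUnion, Set.mem_image]
    exact ⟨x, hx, j, hj, rfl⟩
  refine ⟨T.card, fun i => (T.equivFin.symm i : M), fun i => hT _ (T.equivFin.symm i).2, ?_⟩
  rw [← hspan]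
  congr 1
  ext y
  constructor
  · rintro ⟨i, rfl⟩
    exact (T.equivFin.symm i).2
  · intro hy
    exact ⟨T.equivFin ⟨y, hy⟩, by simp⟩

end Main

end Helper16.GrNak
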