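import Groth.Agent.Lib.Helper16.GrNak2

set_option autoImplicit false
universe u

open DirectSum

namespace Helper16.GrNak

section Main

variable {k : Type u} [Field k] {R : Type u} [CommRing R] [Algebra k R]
  {σ : Type u} [SetLike σ R] [AddSubmonoidClass σ R] (𝒜 : ℤ → σ) [GradedRing 𝒜]
variable {M : Type u} [AddCommGroup M] [Module R M]
  {τ : Type u} [SetLike τ M] [AddSubmonoidClass τ M] (ℳ : ℤ → τ) [DirectSum.Decomposition ℳ]
  [SetLike.GradedSMul 𝒜 ℳ]

/-- in a minimal homogeneous generating family every relation has coefficients in the irrelevant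
ideal -/
theorem coeff_mem_irr (hneg : ∀ i : ℤ, i < 0 → ∀ x ∈ 𝒜 i, x = 0)
    (h0 : ∀ x ∈ 𝒜 0, ∃ c : k, algebraMap k R c = x)
    (n : ℕ) (g : Fin n → M) (deg : Fin n → ℤ) (hg : ∀ i, g i ∈ ℳ (deg i))
    (hspan : Submodule.span R (Set.range g) = ⊤)
    (hmin : ∀ m < n, ¬ ∃ g' : Fin m → M, (∀ i, SetLike.IsHomogeneousElem ℳ (g' i)) ∧
      Submodule.span R (Set.range g') = ⊤)
    (c : Fin n → R) (hc : ∑ i, c i • g i = 0) (i0 : Fin n) : c i0 ∈ irr 𝒜 hneg := by
  by_contra hne
  rw [mem_irr] at hne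
  cases n with
  | zero => exact i0.elim0
  | succ n' =>
    have hrel := rel_comp 𝒜 ℳ g deg hg c hc (deg i0)
    set u : R := (decompose 𝒜 (c i0) 0 : R) with hu
    obtain ⟨c₀, hc₀⟩ := h0 u (decompose 𝒜 (c i0) 0).2
    have hc₀ne : c₀ ≠ 0 := by
      rintro rfl
      rw [map_zero] at hc₀
      exact hne hc₀.symm
    have hunit : IsUnit u := by
      rw [← hc₀]
      exact (IsUnit.mk0 c₀ hc₀ne).map (algebraMap k R)
    obtain ⟨v, hv⟩ := hunit.exists_left_inv
    rw [Fin.sum_univ_succAbove _ i0, sub_self] at hrel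
    have hgi0 : g i0 ∈ Submodule.span R (Set.range (g ∘ i0.succAbove)) := by
      have h1 : u • g i0 = -∑ j, (decompose 𝒜 (c (i0.succAbove j)) (deg i0 - deg (i0.succAbove j)) : R) •
          g (i0.succAbove j) := eq_neg_of_add_eq_zero_left hrel
      have h2 : g i0 = v • (u • g i0) := by rw [smul_smul, hv, one_smul]
      rw [h2, h1]
      apply Submodule.smul_mem
      apply Submodule.neg_mem
      apply Submodule.sum_mem
      intro j _
      apply Submodule.smul_mem
      exact Submodule.subset_span ⟨j, rfl⟩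
    apply hmin n' (Nat.lt_succ_self n')
    refine ⟨g ∘ i0.succAbove, fun j => ⟨deg (i0.succAbove j), hg _⟩, ?_⟩
    rw [eq_top_iff, ← hspan, Submodule.span_le]
    rintro _ ⟨i, rfl⟩
    by_cases hi : i = i0
    · rw [hi]; exact hgi0
    · obtain ⟨j, rfl⟩ := Fin.exists_succAbove_eq hi
      exact Submodule.subset_span ⟨j, rfl⟩

theorem linearIndependent_of_projective (hneg : ∀ i : ℤ, i < 0 → ∀ x ∈ 𝒜 i, x = 0)
    (h0 : ∀ x ∈ 𝒜 0, ∃ c : k, algebraMap k R c = x) [Module.Projective R M]
    (n : ℕ) (g : Fin n → M) (deg : Fin n → ℤ) (hg : ∀ i, g i ∈ ℳ (deg i))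
    (hspan : Submodule.span R (Set.range g) = ⊤)
    (hmin : ∀ m < n, ¬ ∃ g' : Fin m → M, (∀ i, SetLike.IsHomogeneousElem ℳ (g' i)) ∧
      Submodule.span R (Set.range g') = ⊤) :
    LinearIndependent R g := by
  classical
  set φ : (Fin n → R) →ₗ[R] M := Fintype.linearCombination R g with hφ
  have hφapp : ∀ c : Fin n → R, φ c = ∑ i, c i • g i := fun c =>
    Fintype.linearCombination_apply R g c
  have hsurj : Function.Surjective φ := by
    rw [← LinearMap.range_eq_top, hφ, Fintype.range_linearCombination, hspan]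
  obtain ⟨s, hs⟩ := Module.projective_lifting_property φ LinearMap.id hsurj
  have hs' : ∀ m, φ (s m) = m := fun m => LinearMap.congr_fun hs m
  set π : (Fin n → R) →ₗ[R] (Fin n → R) := LinearMap.id - s ∘ₗ φ with hπ
  have hπK : ∀ x, π x ∈ LinearMap.ker φ := by
    intro x
    rw [LinearMap.mem_ker, hπ, LinearMap.sub_apply, map_sub, LinearMap.comp_apply, hs']
    simp
  have hπid : ∀ x ∈ LinearMap.ker φ, π x = x := by
    intro x hx
    rw [LinearMap.mem_ker] at hx
    rw [hπ, LinearMap.sub_apply, LinearMap.comp_apply, hx, map_zero]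
    simp
  have hKfg : (LinearMap.ker φ).FG := by
    have : LinearMap.ker φ = Submodule.map π ⊤ := by
      ext x
      constructor
      · intro hx
        exact ⟨x, Submodule.mem_top, hπid x hx⟩
      · rintro ⟨y, -, rfl⟩
        exact hπK y
    rw [this]
    exact Submodule.FG.map π Module.Finite.fg_top
  have hKle : LinearMap.ker φ ≤ irr 𝒜 hneg • LinearMap.ker φ := by
    intro x hx
    have hxrel : ∑ i, x i • g i = 0 := by
      rw [← hφapp]; exact hx
    rw [← hπid x hx, LinearMap.pi_apply_eq_sum_univ π x]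
    apply Submodule.sum_mem
    intro i _
    exact Submodule.smul_mem_smul
      (coeff_mem_irr 𝒜 ℳ hneg h0 n g deg hg hspan hmin x hxrel i) (hπK _)
  obtain ⟨r, hr1, hr0⟩ :=
    Submodule.exists_sub_one_mem_and_smul_eq_zero_of_fg_of_le_smul (irr 𝒜 hneg) _ hKfg hKle
  rw [Fintype.linearIndependent_iff]
  intro c hc i
  apply eq_zero_of_comp_eq_zero 𝒜
  intro j
  have hrel := rel_comp 𝒜 ℳ g deg hg c hc (j + deg i)
  have hmemK : (fun i' => (decompose 𝒜 (c i') (j + deg i - deg i') : R)) ∈ LinearMap.ker φ := by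
    rw [LinearMap.mem_ker, hφapp]
    exact hrel
  have h1 := congrFun (hr0 _ hmemK) i
  simp only [Pi.smul_apply, smul_eq_mul, Pi.zero_apply] at h1
  have ej : j + deg i - deg i = j := by ring
  rw [ej] at h1
  set y : R := (decompose 𝒜 (c i) j : R) with hy
  have hymem : y ∈ 𝒜 j := (decompose 𝒜 (c i) j).2
  have h2 : (r - 1) * y + y = 0 := by
    have : (r - 1) * y + y = r * y := by ring
    rw [this]
    exact h1
  have h3 := congrArg (fun z => (decompose 𝒜 z j : R)) h2
  simp only at h3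
  rw [comp_add, comp_mul_of_mem_irr 𝒜 hneg hr1 hymem, decompose_of_mem_same 𝒜 hymem, zero_add,
    decompose_zero] at h3
  exact h3

theorem main (hneg : ∀ i : ℤ, i < 0 → ∀ x ∈ 𝒜 i, x = 0)
    (h0 : ∀ x ∈ 𝒜 0, ∃ c : k, algebraMap k R c = x) [Module.Finite R M] :
    Module.Projective R M ↔
      ∃ (ι : Type u) (b : Module.Basis ι R M), ∀ i : ι, SetLike.IsHomogeneousElem ℳ (b i) := by
  classical
  constructor
  · intro hproj
    have hex := exists_homogeneous_gens (R := R) ℳ
    obtain ⟨n, ⟨g, hg, hspan⟩, hmin⟩ : ∃ n, (∃ g : Fin n → M,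
        (∀ i, SetLike.IsHomogeneousElem ℳ (g i)) ∧ Submodule.span R (Set.range g) = ⊤) ∧
        ∀ m < n, ¬ ∃ g' : Fin m → M, (∀ i, SetLike.IsHomogeneousElem ℳ (g' i)) ∧
          Submodule.span R (Set.range g') = ⊤ :=
      ⟨Nat.find hex, Nat.find_spec hex, fun m hm => Nat.find_min hex hm⟩
    choose deg hdeg using hg
    have hli := linearIndependent_of_projective 𝒜 ℳ hneg h0 n g deg hdeg hspan hmin
    let b : Module.Basis (Fin n) R M := Module.Basis.mk hli (by rw [hspan])
    refine ⟨ULift.{u} (Fin n), b.reindex Equiv.ulift.symm, ?_⟩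
    intro i
    rw [Module.Basis.reindex_apply, Module.Basis.mk_apply]
    exact ⟨deg _, hdeg _⟩
  · rintro ⟨ι, b, -⟩
    exact Module.Projective.of_basis b

end Main

end Helper16.GrNak
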