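import Groth.Prelude.Def_W4c2conddiscmodels
import Mathlib.Data.Rat.Lemmas
import Mathlib.Data.List.Range
import Mathlib.Algebra.BigOperators.Intervals
import Mathlib.Tactic

/-!
# Continuants of Hirzebruch–Jung continued fractions and multiplicity vectors (helper16)
-/

set_option autoImplicit false

namespace Groth.Agent.Lib.Helper16.HJ

open HJFrac Finset

/-- Numerator and denominator of `[b 1, …, b l]` (continuants), by peeling off `b 1`. -/
def cont : ℕ → (ℕ → ℤ) → ℤ × ℤ
  | 0, _ => (1, 0)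
  | l + 1, b => (b 1 * (cont l fun i => b (i + 1)).1 - (cont l fun i => b (i + 1)).2,
      (cont l fun i => b (i + 1)).1)

lemma cont_zero (b : ℕ → ℤ) : cont 0 b = (1, 0) := rfl

lemma cont_succ (l : ℕ) (b : ℕ → ℤ) :
    cont (l + 1) b = (b 1 * (cont l fun i => b (i + 1)).1 - (cont l fun i => b (i + 1)).2,
      (cont l fun i => b (i + 1)).1) := rfl

lemma list_succ (l : ℕ) (b : ℕ → ℤ) :
    ((List.range (l + 1)).map fun i => b (i + 1)) =
      b 1 :: ((List.range l).map fun i => (fun j => b (j + 1)) (i + 1)) := by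
  rw [List.range_succ_eq_map, List.map_cons, List.map_map]
  rfl

/-- The continuants are positive, decreasing, coprime, and compute the continued fraction. -/
lemma cont_spec : ∀ (l : ℕ) (b : ℕ → ℤ), (∀ i, 1 ≤ i → i ≤ l → 2 ≤ b i) →
    (cont l b).2 < (cont l b).1 ∧ 0 ≤ (cont l b).2 ∧ IsCoprime (cont l b).1 (cont l b).2 ∧
      hjVal ((List.range l).map fun i => b (i + 1)) = ((cont l b).1 : ℚ) / ((cont l b).2 : ℚ)
  | 0, b, _ => by
    refine ⟨by simp [cont], by simp [cont], by simp [cont, isCoprime_one_left], ?_⟩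
    simp [cont, hjVal]
  | l + 1, b, hb => by
    have ih := cont_spec l (fun i => b (i + 1)) (fun i h1 h2 => hb (i + 1) (by omega) (by omega))
    obtain ⟨h1, h2, h3, h4⟩ := ih
    have hb1 := hb 1 le_rfl (by omega)
    set N' := (cont l fun i => b (i + 1)).1 with hN'
    set D' := (cont l fun i => b (i + 1)).2 with hD'
    rw [cont_succ]
    refine ⟨?_, by show 0 ≤ N'; omega, ?_, ?_⟩
    · show N' < b 1 * N' - D'
      nlinarith
    · show IsCoprime (b 1 * N' - D') N'
      have : IsCoprime D' N' := h3.symm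
      have h5 : IsCoprime (-D' + b 1 * N') N' := (this.neg_left).add_mul_right_left (b 1)
      convert h5 using 1
      ring
    · rw [list_succ]
      show (b 1 : ℚ) - (hjVal ((List.range l).map fun i => (fun j => b (j + 1)) (i + 1)))⁻¹ = _
      rw [h4, inv_div]
      have hN0 : (N' : ℚ) ≠ 0 := by
        have : (0 : ℤ) < N' := by omega
        exact_mod_cast this.ne'
      show (b 1 : ℚ) - (D' : ℚ) / (N' : ℚ) = ((b 1 * N' - D' : ℤ) : ℚ) / (N' : ℚ)
      push_cast
      field_simp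

/-- The invariant: `N μ₁ - D μ₀ = μ_{l+1}`. -/
lemma cont_mul_sub : ∀ (l : ℕ) (b : ℕ → ℤ) (μ : ℕ → ℤ),
    (∀ i, 1 ≤ i → i ≤ l → b i * μ i = μ (i - 1) + μ (i + 1)) →
    (cont l b).1 * μ 1 - (cont l b).2 * μ 0 = μ (l + 1)
  | 0, b, μ, _ => by simp [cont]
  | l + 1, b, μ, h => by
    have ih := cont_mul_sub l (fun i => b (i + 1)) (fun i => μ (i + 1))
      (fun i h1 h2 => by
        have := h (i + 1) (by omega) (by omega)
        rw [Nat.add_sub_cancel] at this
        rw [show i - 1 + 1 = i by omega]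
        exact this)
    have h1 := h 1 le_rfl (by omega)
    rw [cont_succ]
    simp only at ih ⊢
    have h2 : μ (1 + 1) = b 1 * μ 1 - μ 0 := by
      have : μ (1 - 1) = μ 0 := rfl
      rw [this] at h1
      linarith
    rw [show l + 1 + 1 = l + 1 + 1 from rfl] 
    have ih' : (cont l fun i => b (i + 1)).1 * μ 2 - (cont l fun i => b (i + 1)).2 * μ 1 =
        μ (l + 2) := ih
    have h2' : μ 2 = b 1 * μ 1 - μ 0 := h2
    rw [← ih', h2']
    ring

/-- The telescoping sum. -/
lemma sum_inv_mul : ∀ (l : ℕ) (b : ℕ → ℤ) (μ : ℕ → ℤ),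
    (∀ i, 1 ≤ i → i ≤ l → b i * μ i = μ (i - 1) + μ (i + 1)) → (∀ i, i ≤ l + 1 → 0 < μ i) →
    (μ (l + 1) : ℚ) * ∑ i ∈ Finset.range (l + 1), 1 / ((μ i : ℚ) * (μ (i + 1) : ℚ)) =
      ((cont l b).1 : ℚ) / (μ 0 : ℚ)
  | 0, b, μ, _, hpos => by
    have h0 : (μ 0 : ℚ) ≠ 0 := by have := hpos 0 (by omega); exact_mod_cast this.ne'
    have h1 : (μ 1 : ℚ) ≠ 0 := by have := hpos 1 (by omega); exact_mod_cast this.ne'
    simp [cont]
    field_simp
  | l + 1, b, μ, h, hpos => by
    have hrec : ∀ i, 1 ≤ i → i ≤ l → (fun i => b (i + 1)) i * (fun i => μ (i + 1)) i =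
        (fun i => μ (i + 1)) (i - 1) + (fun i => μ (i + 1)) (i + 1) := by
      intro i h1 h2
      have := h (i + 1) (by omega) (by omega)
      rw [Nat.add_sub_cancel] at this
      show b (i + 1) * μ (i + 1) = μ (i - 1 + 1) + μ (i + 1 + 1)
      rw [show i - 1 + 1 = i by omega]
      exact this
    have ih := sum_inv_mul l (fun i => b (i + 1)) (fun i => μ (i + 1)) hrec
      (fun i hi => hpos (i + 1) (by omega))
    have hinv := cont_mul_sub (l + 1) b μ h
    rw [cont_succ] at hinv ⊢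
    simp only at ih hinv ⊢
    set N' := (cont l fun i => b (i + 1)).1 with hN'
    set D' := (cont l fun i => b (i + 1)).2 with hD'
    have h0 : (μ 0 : ℚ) ≠ 0 := by have := hpos 0 (by omega); exact_mod_cast this.ne'
    have h1 : (μ 1 : ℚ) ≠ 0 := by have := hpos 1 (by omega); exact_mod_cast this.ne'
    have hl : (μ (l + 1 + 1) : ℚ) ≠ 0 := by
      have := hpos (l + 1 + 1) le_rfl; exact_mod_cast this.ne'
    rw [Finset.sum_range_succ', mul_add]
    have ih' : (μ (l + 1 + 1) : ℚ) * ∑ i ∈ Finset.range (l + 1),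
        1 / ((μ (i + 1) : ℚ) * (μ (i + 1 + 1) : ℚ)) = (N' : ℚ) / (μ 1 : ℚ) := ih
    rw [ih']
    have hinv' : ((b 1 * N' - D' : ℤ) : ℚ) * μ 1 - (N' : ℚ) * μ 0 = μ (l + 1 + 1) := by
      exact_mod_cast hinv
    rw [← hinv']
    push_cast
    field_simp
    ring

end Groth.Agent.Lib.Helper16.HJ
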