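import Mathlib
import Groth.Prelude.Def_HTop3
import Groth.Agent.Lib.Helper16.AlmostBlowUp3

/-!
# An h sheaf turns an abstract blow up square into a cartesian square
-/

set_option autoImplicit false
universe w u
open CategoryTheory CategoryTheory.Limits AlgebraicGeometry TopologicalSpace Opposite

namespace Groth.Agent.Lib.Helper16.AlmostBlowUp

open AlgebraicGeometry.Scheme.IdealSheafData Groth.Agent.Lib.Helper82
open Groth.Agent.Lib.Helper16.HCoverProper

/-- Over an open on which `f` restricts to a monomorphism, a point of `X ×_Y X` lies on the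
diagonal. -/
theorem mem_range_diagonal_of_mono {X Y : Scheme.{u}} (f : X ⟶ Y) (U : Y.Opens)
    [Mono (f ∣_ U)] (x : ↑(pullback f f)) (hx : (pullback.fst f f ≫ f) x ∈ U) :
    x ∈ Set.range (pullback.diagonal f) := by
  let PO : (pullback f f).Opens := (pullback.fst f f ≫ f) ⁻¹ᵁ U
  have hxPO : x ∈ PO := hx
  have hmem : ∀ z : (PO : Scheme.{u}), (pullback.fst f f ≫ f) (PO.ι z) ∈ U := fun z => z.2
  have hr₁ : Set.range (PO.ι ≫ pullback.fst f f) ⊆ Set.range (f ⁻¹ᵁ U).ι := by
    rintro _ ⟨z, rfl⟩
    rw [Scheme.Opens.range_ι]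
    change f ((PO.ι ≫ pullback.fst f f) z) ∈ U
    rw [← Scheme.Hom.comp_apply, Category.assoc, Scheme.Hom.comp_apply]
    exact hmem z
  have hr₂ : Set.range (PO.ι ≫ pullback.snd f f) ⊆ Set.range (f ⁻¹ᵁ U).ι := by
    rintro _ ⟨z, rfl⟩
    rw [Scheme.Opens.range_ι]
    change f ((PO.ι ≫ pullback.snd f f) z) ∈ U
    rw [← Scheme.Hom.comp_apply, Category.assoc, ← pullback.condition, Scheme.Hom.comp_apply]
    exact hmem z
  let g₁ : (PO : Scheme.{u}) ⟶ (f ⁻¹ᵁ U : Scheme.{u}) :=
    IsOpenImmersion.lift (f ⁻¹ᵁ U).ι (PO.ι ≫ pullback.fst f f) hr₁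
  let g₂ : (PO : Scheme.{u}) ⟶ (f ⁻¹ᵁ U : Scheme.{u}) :=
    IsOpenImmersion.lift (f ⁻¹ᵁ U).ι (PO.ι ≫ pullback.snd f f) hr₂
  have hg₁ : g₁ ≫ (f ⁻¹ᵁ U).ι = PO.ι ≫ pullback.fst f f := IsOpenImmersion.lift_fac _ _ _
  have hg₂ : g₂ ≫ (f ⁻¹ᵁ U).ι = PO.ι ≫ pullback.snd f f := IsOpenImmersion.lift_fac _ _ _
  have h12 : g₁ ≫ (f ∣_ U) = g₂ ≫ (f ∣_ U) := by
    rw [← cancel_mono U.ι, Category.assoc, Category.assoc, morphismRestrict_ι,
      ← Category.assoc, ← Category.assoc, hg₁, hg₂, Category.assoc, Category.assoc,
      pullback.condition]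
  have hg : g₁ = g₂ := (cancel_mono (f ∣_ U)).1 h12
  have hf : PO.ι ≫ pullback.fst f f = PO.ι ≫ pullback.snd f f := by
    rw [← hg₁, ← hg₂, hg]
  have hι : PO.ι = (PO.ι ≫ pullback.fst f f) ≫ pullback.diagonal f := by
    apply pullback.hom_ext
    · rw [Category.assoc, pullback.diagonal_fst, Category.comp_id]
    · rw [Category.assoc, pullback.diagonal_snd, Category.comp_id, hf]
  refine ⟨(PO.ι ≫ pullback.fst f f) ⟨x, hxPO⟩, ?_⟩
  rw [← Scheme.Hom.comp_apply, ← hι]
  rfl

/-- An h sheaf turns a fibre square with proper right side, closed immersion as bottom side, whose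
right and bottom sides are jointly surjective and whose right side is a monomorphism off the
bottom side, into a cartesian square of sets. -/
theorem existsUnique_of_square (S : Scheme.{u}) (F : (Over S)ᵒᵖ ⥤ Type w)
    (hF : Presieve.IsSheaf (HTop.Jh S) F) {E Z X' X : Over S} (e : E ⟶ X') (π : E ⟶ Z)
    (b : X' ⟶ X) (i : Z ⟶ X)
    (hci : IsClosedImmersion i.left) (hfi : LocallyOfFinitePresentation i.left)
    (hpb : IsProper b.left) (hfb : LocallyOfFinitePresentation b.left)
    (hsq : IsPullback e.left π.left b.left i.left)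
    (hs1 : ∀ x : X.left, x ∈ Set.range i.left ∨ x ∈ Set.range b.left)
    (hs2 : ∀ x : ↑(pullback b.left b.left),
      (pullback.fst b.left b.left ≫ b.left) x ∈ Set.range i.left ∨
        x ∈ Set.range (pullback.diagonal b.left)) (t : F.obj (op Z))
    (s' : F.obj (op X')) (hts : F.map π.op t = F.map e.op s') :
    ∃! s : F.obj (op X), F.map i.op s = t ∧ F.map b.op s = s' := by
  haveI := hci
  haveI := hfi
  haveI := hpb
  haveI := hfb
  -- the family `{i, b}` is an h covering
  have hcov1 : HTop.IsHCover (pairCover S i b) := by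
    exact isHCover_pairCover S i b inferInstance hfi hpb hfb hs1
  obtain ⟨hsep, hglue⟩ := pair_sheaf S hF i b hcov1
  -- compatibility on `Z ×_X Z`
  have hZZ : ∀ (Y : Over S) (g g' : Y ⟶ Z), g ≫ i = g' ≫ i → F.map g.op t = F.map g'.op t := by
    intro Y g g' hg
    haveI : Mono i := (Over.forget S).mono_of_mono_map (inferInstanceAs (Mono i.left))
    rw [(cancel_mono i).1 hg]
  -- compatibility on `Z ×_X X'`
  have hZX : ∀ (Y : Over S) (g : Y ⟶ Z) (g' : Y ⟶ X'), g ≫ i = g' ≫ b →
      F.map g.op t = F.map g'.op s' := by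
    intro Y g g' hg
    have hgl : g'.left ≫ b.left = g.left ≫ i.left := by
      have := congrArg CommaMorphism.left hg
      exact this.symm
    obtain ⟨k, hke, hkπ⟩ : ∃ k : Y ⟶ E, k ≫ e = g' ∧ k ≫ π = g := by
      refine ⟨Over.homMk (hsq.lift g'.left g.left hgl) ?_, ?_, ?_⟩
      · rw [← Over.w e, ← Category.assoc, hsq.lift_fst, Over.w g']
      · apply Over.OverMorphism.ext
        change hsq.lift g'.left g.left hgl ≫ e.left = g'.left
        exact hsq.lift_fst _ _ _
      · apply Over.OverMorphism.ext
        change hsq.lift g'.left g.left hgl ≫ π.left = g.left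
        exact hsq.lift_snd _ _ _
    rw [← hkπ, ← hke, map_op_comp_apply, map_op_comp_apply, hts]
  -- compatibility on `X' ×_X X'`
  have hXX : ∀ (Y : Over S) (g g' : Y ⟶ X'), g ≫ b = g' ≫ b →
      F.map g.op s' = F.map g'.op s' := by
    intro Y g g' hg
    have hgl : g.left ≫ b.left = g'.left ≫ b.left := congrArg CommaMorphism.left hg
    let P : Over S := Over.mk (pullback.fst b.left b.left ≫ X'.hom)
    let p₁ : P ⟶ X' := Over.homMk (pullback.fst b.left b.left) rfl
    have hp₂ : pullback.snd b.left b.left ≫ X'.hom = pullback.fst b.left b.left ≫ X'.hom := by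
      rw [← Over.w b, ← Category.assoc, ← Category.assoc, pullback.condition]
    let p₂ : P ⟶ X' := Over.homMk (pullback.snd b.left b.left) hp₂
    obtain ⟨m, hm₁, hm₂⟩ : ∃ m : Y ⟶ P, m ≫ p₁ = g ∧ m ≫ p₂ = g' := by
      refine ⟨Over.homMk (pullback.lift g.left g'.left hgl) ?_, ?_, ?_⟩
      · change pullback.lift g.left g'.left hgl ≫ pullback.fst b.left b.left ≫ X'.hom = Y.hom
        rw [← Category.assoc, pullback.lift_fst, Over.w g]
      · apply Over.OverMorphism.ext
        change pullback.lift g.left g'.left hgl ≫ pullback.fst b.left b.left = g.left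
        exact pullback.lift_fst _ _ _
      · apply Over.OverMorphism.ext
        change pullback.lift g.left g'.left hgl ≫ pullback.snd b.left b.left = g'.left
        exact pullback.lift_snd _ _ _
    suffices hP : F.map p₁.op s' = F.map p₂.op s' by
      rw [← hm₁, ← hm₂, map_op_comp_apply, map_op_comp_apply, hP]
    -- the covering of `X' ×_X X'` by the diagonal and the part over `Z`
    let Δ : X' ⟶ P := Over.homMk (pullback.diagonal b.left) (by
      change pullback.diagonal b.left ≫ pullback.fst b.left b.left ≫ X'.hom = X'.hom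
      rw [← Category.assoc, pullback.diagonal_fst, Category.id_comp])
    let Q : Over S :=
      Over.mk (pullback.fst (pullback.fst b.left b.left ≫ b.left) i.left ≫ P.hom)
    let ε : Q ⟶ P := Over.homMk (pullback.fst (pullback.fst b.left b.left ≫ b.left) i.left) rfl
    have hΔ₁ : Δ ≫ p₁ = 𝟙 X' := by
      apply Over.OverMorphism.ext
      change pullback.diagonal b.left ≫ pullback.fst b.left b.left = 𝟙 X'.left
      exact pullback.diagonal_fst _
    have hΔ₂ : Δ ≫ p₂ = 𝟙 X' := by
      apply Over.OverMorphism.ext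
      change pullback.diagonal b.left ≫ pullback.snd b.left b.left = 𝟙 X'.left
      exact pullback.diagonal_snd _
    have hcov2 : HTop.IsHCover (pairCover S Δ ε) := by
      have hΔp : IsProper Δ.left := by
        change IsProper (pullback.diagonal b.left)
        infer_instance
      have hΔf : LocallyOfFinitePresentation Δ.left := by
        change LocallyOfFinitePresentation (pullback.diagonal b.left)
        haveI : LocallyOfFinitePresentation
            (pullback.diagonal b.left ≫ pullback.fst b.left b.left) := by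
          rw [pullback.diagonal_fst]
          infer_instance
        exact Groth.Agent.Lib.Helper50.locallyOfFinitePresentation_of_comp
          (pullback.diagonal b.left) (pullback.fst b.left b.left)
      have hεp : IsProper ε.left := by
        change IsProper (pullback.fst (pullback.fst b.left b.left ≫ b.left) i.left)
        infer_instance
      have hεf : LocallyOfFinitePresentation ε.left := by
        change LocallyOfFinitePresentation
          (pullback.fst (pullback.fst b.left b.left ≫ b.left) i.left)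
        infer_instance
      refine isHCover_pairCover S Δ ε hΔp hΔf hεp hεf ?_
      intro x
      change ↑(pullback b.left b.left) at x
      rcases hs2 x with hx | hx
      · right
        change x ∈ Set.range (pullback.fst (pullback.fst b.left b.left ≫ b.left) i.left)
        rw [Scheme.Pullback.range_fst]
        exact hx
      · left
        exact hx
    obtain ⟨hsep2, -⟩ := pair_sheaf S hF Δ ε hcov2
    apply hsep2
    · rw [← map_op_comp_apply, ← map_op_comp_apply, hΔ₁, hΔ₂]
    · have hc₁ : (ε.left ≫ p₁.left) ≫ b.left =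
          pullback.snd (pullback.fst b.left b.left ≫ b.left) i.left ≫ i.left := by
        change (pullback.fst (pullback.fst b.left b.left ≫ b.left) i.left ≫
          pullback.fst b.left b.left) ≫ b.left = _
        rw [Category.assoc]
        exact pullback.condition
      have hc₂ : (ε.left ≫ p₂.left) ≫ b.left =
          pullback.snd (pullback.fst b.left b.left ≫ b.left) i.left ≫ i.left := by
        change (pullback.fst (pullback.fst b.left b.left ≫ b.left) i.left ≫
          pullback.snd b.left b.left) ≫ b.left = _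
        rw [Category.assoc, ← pullback.condition (f := b.left) (g := b.left)]
        exact pullback.condition
      obtain ⟨q₁, hq₁e, hq₁π⟩ : ∃ q : Q ⟶ E, q ≫ e = ε ≫ p₁ ∧
          q.left ≫ π.left = pullback.snd (pullback.fst b.left b.left ≫ b.left) i.left := by
        refine ⟨Over.homMk (hsq.lift (ε.left ≫ p₁.left) _ hc₁) ?_, ?_, ?_⟩
        · rw [← Over.w e, ← Category.assoc, hsq.lift_fst]
          rfl
        · apply Over.OverMorphism.ext
          change hsq.lift (ε.left ≫ p₁.left) _ hc₁ ≫ e.left = ε.left ≫ p₁.left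
          exact hsq.lift_fst _ _ _
        · change hsq.lift (ε.left ≫ p₁.left) _ hc₁ ≫ π.left = _
          exact hsq.lift_snd _ _ _
      obtain ⟨q₂, hq₂e, hq₂π⟩ : ∃ q : Q ⟶ E, q ≫ e = ε ≫ p₂ ∧
          q.left ≫ π.left = pullback.snd (pullback.fst b.left b.left ≫ b.left) i.left := by
        refine ⟨Over.homMk (hsq.lift (ε.left ≫ p₂.left) _ hc₂) ?_, ?_, ?_⟩
        · rw [← Over.w e, ← Category.assoc, hsq.lift_fst]
          change (pullback.fst (pullback.fst b.left b.left ≫ b.left) i.left ≫
            pullback.snd b.left b.left) ≫ X'.hom = pullback.fst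
              (pullback.fst b.left b.left ≫ b.left) i.left ≫ pullback.fst b.left b.left ≫ X'.hom
          rw [Category.assoc, hp₂]
        · apply Over.OverMorphism.ext
          change hsq.lift (ε.left ≫ p₂.left) _ hc₂ ≫ e.left = ε.left ≫ p₂.left
          exact hsq.lift_fst _ _ _
        · change hsq.lift (ε.left ≫ p₂.left) _ hc₂ ≫ π.left = _
          exact hsq.lift_snd _ _ _
      have hqπ : q₁ ≫ π = q₂ ≫ π := by
        apply Over.OverMorphism.ext
        change q₁.left ≫ π.left = q₂.left ≫ π.left
        rw [hq₁π, hq₂π]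
      calc F.map ε.op (F.map p₁.op s') = F.map (ε ≫ p₁).op s' := (map_op_comp_apply F _ _ _).symm
        _ = F.map (q₁ ≫ e).op s' := by rw [hq₁e]
        _ = F.map q₁.op (F.map e.op s') := map_op_comp_apply F _ _ _
        _ = F.map q₁.op (F.map π.op t) := by rw [hts]
        _ = F.map (q₁ ≫ π).op t := (map_op_comp_apply F _ _ _).symm
        _ = F.map (q₂ ≫ π).op t := by rw [hqπ]
        _ = F.map q₂.op (F.map π.op t) := map_op_comp_apply F _ _ _
        _ = F.map q₂.op (F.map e.op s') := by rw [hts]
        _ = F.map (q₂ ≫ e).op s' := (map_op_comp_apply F _ _ _).symm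
        _ = F.map (ε ≫ p₂).op s' := by rw [hq₂e]
        _ = F.map ε.op (F.map p₂.op s') := map_op_comp_apply F _ _ _
  obtain ⟨s, hs1, hs2⟩ := hglue t s' hZZ hZX hXX
  refine ⟨s, ⟨hs1, hs2⟩, ?_⟩
  rintro s₂ ⟨h1, h2⟩
  exact hsep _ _ (h1.trans hs1.symm) (h2.trans hs2.symm)

end Groth.Agent.Lib.Helper16.AlmostBlowUp
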