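import Groth.Agent.Lib.Helper16.Jump3

/-!
# Basic properties of Hasse derivatives read off a total Hasse derivative (helper16)
-/

set_option autoImplicit false

namespace Groth.Agent.Lib.Helper16.Hasse

open LocRes FunFld Groth.Agent.Lib.Helper16.Jump

variable {k K : Type*} [Field k] [Field K] [Algebra k K]

lemma hasseD_mul (H : K →ₐ[k] PowerSeries K) (j : ℕ) (x y : K) :
    hasseD H j (x * y) = ∑ p ∈ Finset.HasAntidiagonal.antidiagonal j, hasseD H p.1 x * hasseD H p.2 y := by
  simp only [hasseD, map_mul, PowerSeries.coeff_mul]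

lemma hasseD_add (H : K →ₐ[k] PowerSeries K) (j : ℕ) (x y : K) :
    hasseD H j (x + y) = hasseD H j x + hasseD H j y := by
  simp only [hasseD, map_add]

lemma hasseD_sum (H : K →ₐ[k] PowerSeries K) (j : ℕ) {ι : Type*} (s : Finset ι) (f : ι → K) :
    hasseD H j (∑ i ∈ s, f i) = ∑ i ∈ s, hasseD H j (f i) := by
  simp only [hasseD, map_sum]

lemma hasseD_smul (H : K →ₐ[k] PowerSeries K) (j : ℕ) (a : k) (x : K) :
    hasseD H j (a • x) = a • hasseD H j x := by
  simp only [hasseD]
  rw [Algebra.smul_def, map_mul, AlgHom.commutes, PowerSeries.algebraMap_apply,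
    PowerSeries.coeff_C_mul, Algebra.smul_def]

lemma hasseD_zero {s : K} {H : K →ₐ[k] PowerSeries K} (hH : IsHasseFamily s H) (y : K) :
    hasseD H 0 y = y := by
  rw [hasseD, PowerSeries.coeff_zero_eq_constantCoeff_apply, hH.2]

lemma hasseD_mul_succ {s : K} {H : K →ₐ[k] PowerSeries K} (hH : IsHasseFamily s H) (j : ℕ) (y x : K) :
    hasseD H j (y * x) =
      (∑ a ∈ Finset.range j, hasseD H (a + 1) y * hasseD H (j - (a + 1)) x) + y * hasseD H j x := by
  rw [hasseD_mul, Finset.Nat.sum_antidiagonal_eq_sum_range_succ_mk, Finset.sum_range_succ']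
  simp only [hasseD_zero hH, Nat.sub_zero]

lemma hcol_zero {ι : Type*} (τ : K →ₐ[k] K) (H : K →ₐ[k] PowerSeries K) (φ : ι → K) :
    hcol τ H φ 0 = fun i => τ (φ i) := rfl

lemma hcol_succ {ι : Type*} (τ : K →ₐ[k] K) (H : K →ₐ[k] PowerSeries K) (φ : ι → K) (j : ℕ) :
    hcol τ H φ (j + 1) = fun i => hasseD H j (φ i) := rfl

/-- The columns of `y • φ` are a triangular change of the columns of `φ`. -/
lemma hcol_smul_triangular {ι : Type*} (τ : K →ₐ[k] K) {s : K} {H : K →ₐ[k] PowerSeries K}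
    (hH : IsHasseFamily s H) (φ : ι → K) (y : K) (j : ℕ) :
    hcol τ H (y • φ) j - (Nat.casesOn j (τ y) (fun _ => y) : K) • hcol τ H φ j ∈
      W (K := K) (hcol τ H φ) j := by
  cases j with
  | zero =>
    have : hcol τ H (y • φ) 0 - τ y • hcol τ H φ 0 = 0 := by
      ext i
      simp [hcol_zero]
    show hcol τ H (y • φ) 0 - τ y • hcol τ H φ 0 ∈ _
    rw [this]
    exact Submodule.zero_mem _
  | succ j =>
    show hcol τ H (y • φ) (j + 1) - y • hcol τ H φ (j + 1) ∈ _
    have : hcol τ H (y • φ) (j + 1) - y • hcol τ H φ (j + 1) =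
        ∑ a ∈ Finset.range j, hasseD H (a + 1) y • hcol τ H φ (j - (a + 1) + 1) := by
      ext i
      simp only [hcol_succ, Pi.sub_apply, Pi.smul_apply, smul_eq_mul, Finset.sum_apply]
      rw [hasseD_mul_succ hH]
      ring
    rw [this]
    refine Submodule.sum_mem _ fun a ha => Submodule.smul_mem _ _ (mem_W _ ?_)
    have := Finset.mem_range.mp ha
    omega

end Groth.Agent.Lib.Helper16.Hasse
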