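import Groth.Agent.Lib.Helper16.HasseIter
import Mathlib.RingTheory.PowerSeries.Substitution

/-!
# Change of the separating variable for total Hasse derivatives (helper16)
-/

set_option autoImplicit false

namespace Groth.Agent.Lib.Helper16.Hasse

open LocRes FunFld PowerSeries Groth.Agent.Lib.Helper16.Jump

variable {k K : Type*} [Field k] [Field K] [Algebra k K]

section PS

variable {R : Type*} [CommRing R]

lemma coeff_pow_of_lt {b : R⟦X⟧} (hb : constantCoeff b = 0) {e d : ℕ} (h : e < d) :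
    coeff e (b ^ d) = 0 := by
  apply coeff_of_lt_order
  refine lt_of_lt_of_le ?_ (le_order_pow_of_constantCoeff_eq_zero d hb)
  exact_mod_cast h

lemma coeff_pow_self {b : R⟦X⟧} (hb : constantCoeff b = 0) (d : ℕ) :
    coeff d (b ^ d) = (coeff 1 b) ^ d := by
  obtain ⟨b₁, rfl⟩ := X_dvd_iff.mpr hb
  rw [mul_pow, coeff_X_pow_mul', if_pos le_rfl, Nat.sub_self, coeff_zero_eq_constantCoeff_apply,
    map_pow]
  congr 1
  rw [show (1 : ℕ) = 0 + 1 from rfl, coeff_succ_X_mul, coeff_zero_eq_constantCoeff_apply]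

/-- Finite form of the coefficient of a substitution. -/
lemma coeff_subst_range {b : R⟦X⟧} (hb : constantCoeff b = 0) (f : R⟦X⟧) (e : ℕ) :
    coeff e (f.subst b) = ∑ d ∈ Finset.range (e + 1), coeff d f * coeff e (b ^ d) := by
  rw [coeff_subst' (HasSubst.of_constantCoeff_zero' hb)]
  rw [finsum_eq_sum_of_support_subset (s := Finset.range (e + 1))]
  · simp only [smul_eq_mul]
  · intro d hd
    rw [Function.mem_support] at hd
    rw [Finset.coe_range, Set.mem_Iio]
    by_contra hlt
    rw [not_lt] at hlt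
    apply hd
    rw [coeff_pow_of_lt hb (by omega), smul_zero]

end PS

/-- Change of variable: `H_t = (T ↦ H_t(s) - s) ∘ H_s`. -/
theorem hasse_change (hK : IsFunctionField k K) {s t : K} {Hs Ht : K →ₐ[k] PowerSeries K}
    (hHs : IsHasseFamily s Hs) (hHt : IsHasseFamily t Ht) (y : K) :
    Ht y = (Hs y).subst (Ht s - C s) := by
  set g : K⟦X⟧ := Ht s - C s with hgdef
  have hg0 : constantCoeff g = 0 := by
    rw [hgdef, map_sub, hHt.2, constantCoeff_C, sub_self]
  have hg : HasSubst g := HasSubst.of_constantCoeff_zero' hg0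
  let Φ : K⟦X⟧ →ₐ[K] K⟦X⟧ := substAlgHom hg
  have hΦ : ∀ f, Φ f = f.subst g := fun f => by
    show substAlgHom hg f = _
    rw [coe_substAlgHom]
  let H' : K →+* K⟦X⟧ := Φ.toRingHom.comp Hs.toRingHom
  have hH' : ∀ z, H' z = (Hs z).subst g := fun z => hΦ (Hs z)
  have h1 : ∀ z, constantCoeff (H' z) = z := by
    intro z
    rw [hH']
    have hz : Hs z = C z + (Hs z - C z) := by ring
    rw [hz, subst_add hg, map_add]
    have h2 : constantCoeff ((Hs z - C z).subst g) = 0 :=
      constantCoeff_subst_eq_zero hg0 _ (by rw [map_sub, hHs.2, constantCoeff_C, sub_self])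
    rw [h2, add_zero]
    have h3 : (C z : K⟦X⟧).subst g = C z := subst_C z
    rw [h3, constantCoeff_C]
  have h2 : ∀ c : k, H' (algebraMap k K c) = Ht.toRingHom (algebraMap k K c) := by
    intro c
    rw [hH']
    show (Hs (algebraMap k K c)).subst g = Ht (algebraMap k K c)
    rw [AlgHom.commutes, AlgHom.commutes, PowerSeries.algebraMap_apply]
    exact subst_C _
  have h3 : H' s = Ht.toRingHom s := by
    rw [hH']
    show (Hs s).subst g = Ht s
    rw [hHs.1, subst_add hg, subst_X hg]
    have : (C s : K⟦X⟧).subst g = C s := subst_C s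
    rw [this, hgdef]
    ring
  have := hasse_ext (k := k) (PowerSeries.constantCoeff (R := K)) H' Ht.toRingHom h1
    (fun z => hHt.2 z) h2 s h3 (isAlgebraic_of_isHasseFamily hK hHs)
  rw [← hH' y, this]
  rfl

/-- Coefficient form of the change of variable. -/
theorem hasseD_change (hK : IsFunctionField k K) {s t : K} {Hs Ht : K →ₐ[k] PowerSeries K}
    (hHs : IsHasseFamily s Hs) (hHt : IsHasseFamily t Ht) (j : ℕ) (y : K) :
    hasseD Ht j y = (∑ d ∈ Finset.range j, hasseD Hs d y * coeff j ((Ht s - C s) ^ d)) +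
      hasseD Hs j y * (hasseD Ht 1 s) ^ j := by
  have hg0 : constantCoeff (Ht s - C s) = 0 := by
    rw [map_sub, hHt.2, constantCoeff_C, sub_self]
  have h1 : coeff 1 (Ht s - C s) = hasseD Ht 1 s := by
    rw [map_sub, coeff_C, if_neg one_ne_zero, sub_zero]; rfl
  rw [hasseD, hasse_change hK hHs hHt y, coeff_subst_range hg0, Finset.sum_range_succ,
    coeff_pow_self hg0, h1]
  rfl

theorem hasseD_one_ne_zero (hK : IsFunctionField k K) {s t : K} {Hs Ht : K →ₐ[k] PowerSeries K}
    (hHs : IsHasseFamily s Hs) (hHt : IsHasseFamily t Ht) : hasseD Ht 1 s ≠ 0 := by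
  have h1 := hasseD_change hK hHs hHt 1 t
  have h2 : hasseD Ht 1 t = 1 := by
    rw [hasseD, hHt.1]; simp
  rw [h2, Finset.sum_range_one, pow_zero, coeff_one, if_neg one_ne_zero, mul_zero, zero_add,
    pow_one] at h1
  intro h0
  rw [h0, mul_zero] at h1
  exact one_ne_zero h1

/-- The columns with respect to `t` are a triangular change of the columns with respect to `s`. -/
theorem hcol_change_triangular (hK : IsFunctionField k K) {s t : K} {Hs Ht : K →ₐ[k] PowerSeries K}
    (hHs : IsHasseFamily s Hs) (hHt : IsHasseFamily t Ht) {ι : Type*} (τ : K →ₐ[k] K) (φ : ι → K)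
    (j : ℕ) :
    hcol τ Ht φ j - (Nat.casesOn j 1 (fun j' => (hasseD Ht 1 s) ^ j') : K) • hcol τ Hs φ j ∈
      W (K := K) (hcol τ Hs φ) j := by
  cases j with
  | zero =>
    have : hcol τ Ht φ 0 - (1 : K) • hcol τ Hs φ 0 = 0 := by
      rw [one_smul, hcol_zero, hcol_zero, sub_self]
    show hcol τ Ht φ 0 - (1 : K) • hcol τ Hs φ 0 ∈ _
    rw [this]
    exact Submodule.zero_mem _
  | succ j =>
    show hcol τ Ht φ (j + 1) - (hasseD Ht 1 s) ^ j • hcol τ Hs φ (j + 1) ∈ _
    have : hcol τ Ht φ (j + 1) - (hasseD Ht 1 s) ^ j • hcol τ Hs φ (j + 1) =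
        ∑ d ∈ Finset.range j, coeff j ((Ht s - C s) ^ d) • hcol τ Hs φ (d + 1) := by
      ext i
      simp only [hcol_succ, Pi.sub_apply, Pi.smul_apply, smul_eq_mul, Finset.sum_apply]
      rw [hasseD_change hK hHs hHt j (φ i)]
      have : ∑ d ∈ Finset.range j, hasseD Hs d (φ i) * coeff j ((Ht s - C s) ^ d) =
          ∑ d ∈ Finset.range j, coeff j ((Ht s - C s) ^ d) * hasseD Hs d (φ i) :=
        Finset.sum_congr rfl fun d _ => mul_comm _ _
      rw [this]
      ring
    rw [this]
    refine Submodule.sum_mem _ fun d hd => Submodule.smul_mem _ _ (mem_W _ ?_)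
    have := Finset.mem_range.mp hd
    omega

end Groth.Agent.Lib.Helper16.Hasse
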