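import Mathlib.RingTheory.PowerSeries.Trunc
import Mathlib.Algebra.Polynomial.HasseDeriv

/-!
# Hasse derivatives of power series and the comultiplication `T ↦ T + U` (helper16)

`hd m b` is the `m`-th Hasse derivative of a power series `b`; `Delta : R⟦X⟧ →+* R⟦X⟧⟦X⟧` is the ring
homomorphism `b(T) ↦ b(T + U) = ∑ₘ (hd m b)(T) Uᵐ` (outer variable `U`).
-/

set_option autoImplicit false

namespace Groth.Agent.Lib.Helper16.Hasse

open PowerSeries

variable {R : Type*} [CommRing R]

/-- The `m`-th Hasse derivative of a power series. -/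
noncomputable def hd (m : ℕ) (b : R⟦X⟧) : R⟦X⟧ :=
  PowerSeries.mk fun j => ((m + j).choose j : R) * coeff (m + j) b

@[simp] lemma coeff_hd (m j : ℕ) (b : R⟦X⟧) :
    coeff j (hd m b) = ((m + j).choose j : R) * coeff (m + j) b := coeff_mk _ _

lemma hd_zero (b : R⟦X⟧) : hd 0 b = b := by
  ext j; simp

lemma hd_add (m : ℕ) (b c : R⟦X⟧) : hd m (b + c) = hd m b + hd m c := by
  ext j; simp [mul_add]

lemma hd_zero_right (m : ℕ) : hd m (0 : R⟦X⟧) = 0 := by
  ext j; simp

lemma hd_C (m : ℕ) (a : R) : hd m (C a : R⟦X⟧) = if m = 0 then C a else 0 := by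
  ext j
  rw [coeff_hd, coeff_C]
  by_cases hm : m = 0
  · subst hm; simp [coeff_C]
  · rw [if_neg (by omega), if_neg hm]; simp

lemma hd_one (m : ℕ) : hd m (1 : R⟦X⟧) = if m = 0 then 1 else 0 := by
  have := hd_C (R := R) m 1
  simpa using this

lemma hd_X (m : ℕ) : hd m (X : R⟦X⟧) = if m = 0 then X else if m = 1 then 1 else 0 := by
  ext j
  rw [coeff_hd, coeff_X]
  obtain rfl | rfl | hm : m = 0 ∨ m = 1 ∨ 2 ≤ m := by omega
  · simp [coeff_X]
  · have h1 : (if (1 : ℕ) = 0 then (X : R⟦X⟧) else if (1 : ℕ) = 1 then 1 else 0) = 1 := by simp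
    rw [h1, coeff_one]
    by_cases hj : j = 0
    · subst hj; simp
    · rw [if_neg (show ¬ (1 + j = 1) by omega), if_neg hj]; simp
  · have h1 : (if m = 0 then (X : R⟦X⟧) else if m = 1 then 1 else 0) = 0 := by
      rw [if_neg (by omega), if_neg (by omega)]
    rw [h1, if_neg (show ¬ (m + j = 1) by omega)]; simp

lemma hd_mul (m : ℕ) (b c : R⟦X⟧) :
    hd m (b * c) = ∑ p ∈ Finset.HasAntidiagonal.antidiagonal m, hd p.1 b * hd p.2 c := by
  ext j
  rw [coeff_hd, map_sum]
  set N := m + j + 1 with hN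
  have h1 : coeff (m + j) (b * c) = ((trunc N b) * (trunc N c) : Polynomial R).coeff (m + j) := by
    rw [coeff_mul_eq_coeff_trunc_mul_trunc b c (show m + j < N by omega), ← Polynomial.coe_mul,
      Polynomial.coeff_coe]
  have h2 : ((m + j).choose j : R) * ((trunc N b) * (trunc N c) : Polynomial R).coeff (m + j) =
      (Polynomial.hasseDeriv m ((trunc N b) * (trunc N c))).coeff j := by
    rw [Polynomial.hasseDeriv_coeff, add_comm j m, Nat.choose_symm_add]
  rw [h1, h2, Polynomial.hasseDeriv_mul, Polynomial.finset_sum_coeff]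
  refine Finset.sum_congr rfl fun p hp => ?_
  rw [Polynomial.coeff_mul, PowerSeries.coeff_mul]
  refine Finset.sum_congr rfl fun x hx => ?_
  have hp' : p.1 + p.2 = m := Finset.mem_antidiagonal.mp hp
  have hx' : x.1 + x.2 = j := Finset.mem_antidiagonal.mp hx
  rw [Polynomial.hasseDeriv_coeff, Polynomial.hasseDeriv_coeff, coeff_hd, coeff_hd,
    coeff_trunc, coeff_trunc, if_pos (by omega), if_pos (by omega), add_comm x.1 p.1,
    add_comm x.2 p.2, Nat.choose_symm_add, Nat.choose_symm_add]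

/-- The comultiplication `b(T) ↦ b(T + U)`, with `U` the outer variable. -/
noncomputable def Delta : R⟦X⟧ →+* R⟦X⟧⟦X⟧ where
  toFun b := PowerSeries.mk fun m => hd m b
  map_one' := by
    ext m : 1
    rw [coeff_mk, hd_one, coeff_one]
  map_mul' b c := by
    ext m : 1
    rw [coeff_mk, hd_mul, PowerSeries.coeff_mul]
    simp only [coeff_mk]
  map_zero' := by
    ext m : 1
    rw [coeff_mk, hd_zero_right, map_zero]
  map_add' b c := by
    ext m : 1
    rw [coeff_mk, hd_add, map_add, coeff_mk, coeff_mk]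

@[simp] lemma coeff_Delta (m : ℕ) (b : R⟦X⟧) : coeff m (Delta b) = hd m b := by
  show coeff m (PowerSeries.mk fun m => hd m b) = hd m b
  rw [coeff_mk]

lemma Delta_C (a : R) : Delta (C a : R⟦X⟧) = C (C a) := by
  ext m : 1
  rw [coeff_Delta, hd_C, coeff_C]

lemma Delta_X : Delta (X : R⟦X⟧) = C X + X := by
  ext m : 1
  rw [coeff_Delta, hd_X, map_add, coeff_C, coeff_X]
  rcases m with _ | _ | m
  · simp
  · simp
  · simp

end Groth.Agent.Lib.Helper16.Hasse
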