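import Mathlib.RingTheory.Polynomial.SeparableDegree
import Mathlib.Algebra.Polynomial.Identities
import Mathlib.FieldTheory.Separable
import Mathlib.Algebra.CharP.Lemmas
import Mathlib.Algebra.CharP.Algebra
import Mathlib.Algebra.Field.Subfield.Basic
import Mathlib.RingTheory.Algebraic.Basic

/-!
# Uniqueness of lifts of the identity along algebraic extensions (helper16)

`ringHom_ext_of_algebraic`: let `A` be a domain with an augmentation `ε : A →+* K` onto a field `K`
and `f g : K →+* A` two sections of `ε`.  If `f` and `g` agree on a subfield `E₀` over which `K`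
is algebraic, then `f = g`.  (Separable elements: uniqueness of Hensel lifts; purely inseparable
elements: `A` is reduced.)
-/

set_option autoImplicit false

namespace Groth.Agent.Lib.Helper16.Hasse

open Polynomial

variable {K A : Type*} [Field K] [CommRing A] [IsDomain A]

/-- A root of a separable polynomial has at most one lift with given reduction. -/
lemma eq_of_separable_root (ε : A →+* K) (E₀ : Subfield K) (φ : E₀ →+* A)
    (hφ : ∀ c : E₀, ε (φ c) = (c : K)) (Q : E₀[X]) (hQ : Q.Separable) (a b : A)
    (ha : (Q.map φ).eval a = 0) (hb : (Q.map φ).eval b = 0) (hab : ε a = ε b) : a = b := by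
  by_contra hne
  have hd : a - b ≠ 0 := sub_ne_zero.mpr hne
  obtain ⟨κ, hκ⟩ := (Q.map φ).binomExpansion b (a - b)
  rw [add_sub_cancel, ha, hb, zero_add] at hκ
  have h1 : (a - b) * ((Q.map φ).derivative.eval b + κ * (a - b)) = 0 := by
    rw [hκ]; ring
  have h2 : (Q.map φ).derivative.eval b + κ * (a - b) = 0 :=
    (mul_eq_zero.mp h1).resolve_left hd
  have h3 := congrArg ε h2
  rw [map_add, map_mul, map_sub, hab, sub_self, mul_zero, add_zero, map_zero] at h3
  -- `ε` of the derivative value is the derivative of `Q` at `ε b`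
  have hcomp : ε.comp φ = E₀.subtype := by
    ext c; exact hφ c
  have h4 : ε ((Q.map φ).derivative.eval b) = (Q.derivative.map E₀.subtype).eval (ε b) := by
    rw [← Polynomial.derivative_map, ← Polynomial.eval₂_at_apply, ← Polynomial.eval_map,
      Polynomial.derivative_map, Polynomial.derivative_map, Polynomial.map_map, hcomp]
  rw [h4] at h3
  have h5 : (Q.map E₀.subtype).eval (ε b) = 0 := by
    have := congrArg ε hb
    rw [map_zero, ← Polynomial.eval₂_at_apply, ← Polynomial.eval_map, Polynomial.map_map,
      hcomp] at this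
    exact this
  have h6 : Polynomial.eval₂ E₀.subtype (ε b) Q = 0 := by
    rw [Polynomial.eval₂_eq_eval_map]; exact h5
  have := hQ.eval₂_derivative_ne_zero E₀.subtype h6
  apply this
  rw [Polynomial.eval₂_eq_eval_map]
  exact h3

theorem ringHom_ext_of_algebraic (ε : A →+* K) (f g : K →+* A) (hf : ∀ y, ε (f y) = y)
    (hg : ∀ y, ε (g y) = y) (E₀ : Subfield K) (hE : ∀ y ∈ E₀, f y = g y)
    (halg : ∀ y : K, IsAlgebraic E₀ y) : f = g := by
  ext y
  have hint : IsIntegral E₀ y := (halg y).isIntegral
  let P := minpoly E₀ y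
  have hP : Irreducible P := minpoly.irreducible hint
  let q := ringExpChar E₀
  obtain ⟨Q, hQsep, e, hQe⟩ := hP.hasSeparableContraction q
  let φ : E₀ →+* A := f.comp E₀.subtype
  have hφg : φ = g.comp E₀.subtype := by
    ext c; exact hE c c.2
  have hφ : ∀ c : E₀, ε (φ c) = (c : K) := fun c => hf c
  set z := y ^ q ^ e with hz
  have hQz : Polynomial.aeval z Q = 0 := by
    have : Polynomial.aeval y P = 0 := minpoly.aeval E₀ y
    rw [← hQe, Polynomial.expand_aeval] at this
    exact this
  have hfz : (Q.map φ).eval (f z) = 0 := by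
    rw [Polynomial.eval_map, show φ = f.comp (algebraMap E₀ K) from rfl, ← Polynomial.hom_eval₂]
    rw [← Polynomial.aeval_def, hQz, map_zero]
  have hgz : (Q.map φ).eval (g z) = 0 := by
    rw [hφg, Polynomial.eval_map, show g.comp E₀.subtype = g.comp (algebraMap E₀ K) from rfl,
      ← Polynomial.hom_eval₂]
    rw [← Polynomial.aeval_def, hQz, map_zero]
  have hfg : f z = g z :=
    eq_of_separable_root ε E₀ φ hφ Q hQsep (f z) (g z) hfz hgz (by rw [hf, hg])
  -- now `f y ^ q ^ e = g y ^ q ^ e`
  have hqK : ExpChar K q := expChar_of_injective_ringHom E₀.subtype.injective q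
  have hqA : ExpChar A q := expChar_of_injective_ringHom f.injective q
  have h1 : (f y - g y) ^ q ^ e = 0 := by
    rw [sub_pow_expChar_pow, ← map_pow, ← map_pow, ← hz, hfg, sub_self]
  exact sub_eq_zero.mp (pow_eq_zero_iff (pow_ne_zero _ (expChar_pos A q).ne')
    |>.mp h1)

end Groth.Agent.Lib.Helper16.Hasse
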