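import Groth.Agent.Lib.Helper16.HasseBasic
import Groth.Agent.Lib.Helper16.HasseUniq
import Groth.Agent.Lib.Helper16.HasseDelta
import Groth.Agent.Lib.Helper88.FunFldTransc

/-!
# Uniqueness and iterativity of total Hasse derivatives on a function field (helper16)
-/

set_option autoImplicit false

namespace Groth.Agent.Lib.Helper16.Hasse

open LocRes FunFld PowerSeries

variable {k K : Type*} [Field k] [Field K] [Algebra k K]

/-- Two sections of an augmentation `A → K` (with `A` a domain) which agree on `k` and on `s`
agree, provided `K` is algebraic over `k(s)`. -/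
theorem hasse_ext {A : Type*} [CommRing A] [IsDomain A] (ε : A →+* K) (f g : K →+* A)
    (hf : ∀ y, ε (f y) = y) (hg : ∀ y, ε (g y) = y)
    (hk : ∀ c : k, f (algebraMap k K c) = g (algebraMap k K c)) (s : K) (hs : f s = g s)
    (halg : ∀ y : K, IsAlgebraic (IntermediateField.adjoin k ({s} : Set K)) y) : f = g := by
  -- the equalizer as a subfield
  let E₀ : Subfield K :=
    { carrier := {y | f y = g y}
      mul_mem' := fun {a b} ha hb => by
        show f (a * b) = g (a * b)
        rw [map_mul, map_mul, ha, hb]
      one_mem' := by show f 1 = g 1; rw [map_one, map_one]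
      add_mem' := fun {a b} ha hb => by
        show f (a + b) = g (a + b)
        rw [map_add, map_add, ha, hb]
      zero_mem' := by show f 0 = g 0; rw [map_zero, map_zero]
      neg_mem' := fun {a} ha => by
        show f (-a) = g (-a)
        rw [map_neg, map_neg, ha]
      inv_mem' := fun a ha => by
        show f a⁻¹ = g a⁻¹
        by_cases h0 : a = 0
        · subst h0; simp
        · have hfa : f a ≠ 0 := (map_ne_zero_iff f f.injective).mpr h0
          have h1 : f a * f a⁻¹ = 1 := by rw [← map_mul, mul_inv_cancel₀ h0, map_one]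
          have h2 : f a * g a⁻¹ = 1 := by
            rw [show f a = g a from ha, ← map_mul, mul_inv_cancel₀ h0, map_one]
          exact mul_left_cancel₀ hfa (h1.trans h2.symm) }
  have hle : ∀ y ∈ IntermediateField.adjoin k ({s} : Set K), y ∈ E₀ := by
    intro y hy
    induction hy using IntermediateField.adjoin_induction with
    | mem x hx =>
      rw [Set.mem_singleton_iff] at hx
      subst hx; exact hs
    | algebraMap c => exact hk c
    | add x y _ _ hx hy => exact E₀.add_mem hx hy
    | inv x _ hx => exact E₀.inv_mem hx
    | mul x y _ _ hx hy => exact E₀.mul_mem hx hy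
  refine ringHom_ext_of_algebraic ε f g hf hg E₀ (fun y hy => hy) ?_
  intro y
  obtain ⟨p, hp0, hp⟩ := halg y
  let ι : IntermediateField.adjoin k ({s} : Set K) →+* E₀ :=
    { toFun := fun c => ⟨c.1, hle c.1 c.2⟩
      map_one' := rfl
      map_mul' := fun _ _ => rfl
      map_zero' := rfl
      map_add' := fun _ _ => rfl }
  refine ⟨p.map ι, ?_, ?_⟩
  · exact (Polynomial.map_ne_zero_iff ι.injective).mpr hp0
  · rw [Polynomial.aeval_def, Polynomial.eval₂_map]
    rw [Polynomial.aeval_def] at hp
    exact hp

/-- In a function field, `K` is algebraic over `k(s)` when `s` admits a total Hasse derivative. -/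
theorem isAlgebraic_of_isHasseFamily (hK : IsFunctionField k K) {s : K} {H : K →ₐ[k] PowerSeries K}
    (hH : IsHasseFamily s H) (y : K) :
    IsAlgebraic (IntermediateField.adjoin k ({s} : Set K)) y := by
  have hs : s ∉ Set.range (algebraMap k K) := by
    rintro ⟨c, rfl⟩
    have h1 := hH.1
    rw [AlgHom.commutes, PowerSeries.algebraMap_apply] at h1
    have h2 := congrArg (PowerSeries.coeff 1) h1
    simp at h2
  have htr := Groth.Agent.Lib.Helper88.FF.transcendental_of_not_mem_range hK hs
  have := Groth.Agent.Lib.Helper88.FF.finiteDimensional_adjoin_of_transcendental hK htr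
  exact Algebra.IsAlgebraic.isAlgebraic y

/-- Uniqueness of the total Hasse derivative with respect to `s`. -/
theorem isHasseFamily_unique (hK : IsFunctionField k K) {s : K} {H H' : K →ₐ[k] PowerSeries K}
    (hH : IsHasseFamily s H) (hH' : IsHasseFamily s H') : H = H' := by
  have := hasse_ext (k := k) (PowerSeries.constantCoeff (R := K)) H.toRingHom H'.toRingHom
    (fun y => hH.2 y) (fun y => hH'.2 y) (fun c => by simp) s
    (by show H s = H' s; rw [hH.1, hH'.1]) (isAlgebraic_of_isHasseFamily hK hH)
  ext y : 1
  exact congrFun (congrArg DFunLike.coe this) y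

/-- Iterativity of Hasse derivatives: `D^m ∘ D^j = (m+j choose j) D^(m+j)`. -/
theorem hasseD_hasseD (hK : IsFunctionField k K) {s : K} {H : K →ₐ[k] PowerSeries K}
    (hH : IsHasseFamily s H) (m j : ℕ) (y : K) :
    hasseD H m (hasseD H j y) = ((j + m).choose m : K) * hasseD H (j + m) y := by
  let f : K →+* K⟦X⟧⟦X⟧ := (PowerSeries.map H.toRingHom).comp H.toRingHom
  let g : K →+* K⟦X⟧⟦X⟧ := Delta.comp H.toRingHom
  let ε : K⟦X⟧⟦X⟧ →+* K := (PowerSeries.constantCoeff (R := K)).comp PowerSeries.constantCoeff
  have hf : ∀ y, ε (f y) = y := by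
    intro y
    simp only [ε, f, RingHom.comp_apply]
    rw [← PowerSeries.coeff_zero_eq_constantCoeff_apply (PowerSeries.map _ _), PowerSeries.coeff_map,
      PowerSeries.coeff_zero_eq_constantCoeff_apply]
    show PowerSeries.constantCoeff (H (PowerSeries.constantCoeff (H y))) = y
    rw [hH.2, hH.2]
  have hg : ∀ y, ε (g y) = y := by
    intro y
    simp only [ε, g, RingHom.comp_apply]
    rw [← PowerSeries.coeff_zero_eq_constantCoeff_apply (Delta _), coeff_Delta, hd_zero]
    exact hH.2 y
  have hk : ∀ c : k, f (algebraMap k K c) = g (algebraMap k K c) := by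
    intro c
    simp only [f, g, RingHom.comp_apply]
    show PowerSeries.map H.toRingHom (H (algebraMap k K c)) = Delta (H (algebraMap k K c))
    rw [AlgHom.commutes, PowerSeries.algebraMap_apply, PowerSeries.map_C, Delta_C]
    show C (H (algebraMap k K c)) = _
    rw [AlgHom.commutes, PowerSeries.algebraMap_apply]
  have hs : f s = g s := by
    simp only [f, g, RingHom.comp_apply]
    show PowerSeries.map H.toRingHom (H s) = Delta (H s)
    rw [hH.1, map_add, map_add, PowerSeries.map_C, PowerSeries.map_X, Delta_C, Delta_X]
    show C (H s) + X = _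
    rw [hH.1, map_add, add_assoc]
  have hfg := hasse_ext (k := k) ε f g hf hg hk s hs (isAlgebraic_of_isHasseFamily hK hH)
  have h1 := congrArg (fun F => PowerSeries.coeff m (PowerSeries.coeff j (F y))) hfg
  simp only [f, g, RingHom.comp_apply] at h1
  rw [PowerSeries.coeff_map, coeff_Delta, coeff_hd] at h1
  exact h1

end Groth.Agent.Lib.Helper16.Hasse
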