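import Groth.Agent.Lib.Helper16.HasseDelta
import Mathlib.RingTheory.LaurentSeries
import Mathlib.RingTheory.PowerSeries.Inverse
import Mathlib.RingTheory.Localization.FractionRing

/-!
# The total Hasse derivative of a fraction field of a power series ring (helper16)

For a field `L` of fractions of `F⟦X⟧` (e.g. Laurent series), `HLg : L →+* L⟦X⟧` extends
`b(T) ↦ b(T + U)`. Also: Mathlib's `LaurentSeries.hasseDeriv` on power series is `hd`.
-/

set_option autoImplicit false

namespace Groth.Agent.Lib.Helper16.Hasse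

open PowerSeries

section HLg

variable (F : Type*) [Field F] (L : Type*) [Field L] [Algebra F⟦X⟧ L] [IsFractionRing F⟦X⟧ L]

/-- The total Hasse derivative of a field of fractions of `F⟦X⟧`. -/
noncomputable def HLg : L →+* L⟦X⟧ :=
  IsLocalization.lift (M := nonZeroDivisors F⟦X⟧)
    (g := (PowerSeries.map (algebraMap F⟦X⟧ L)).comp Delta)
    (fun y => by
      rw [isUnit_iff_constantCoeff]
      apply IsUnit.mk0
      rw [RingHom.comp_apply, ← coeff_zero_eq_constantCoeff_apply, coeff_map, coeff_Delta, hd_zero]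
      exact (map_ne_zero_iff _ (IsFractionRing.injective F⟦X⟧ L)).mpr
        (nonZeroDivisors.ne_zero y.2))

lemma HLg_algebraMap (b : F⟦X⟧) :
    HLg F L (algebraMap F⟦X⟧ L b) = PowerSeries.map (algebraMap F⟦X⟧ L) (Delta b) :=
  IsLocalization.lift_eq _ b

lemma constantCoeff_HLg (x : L) : constantCoeff (HLg F L x) = x := by
  have : (constantCoeff (R := L)).comp (HLg F L) = RingHom.id _ := by
    apply IsLocalization.ringHom_ext (nonZeroDivisors F⟦X⟧)
    ext b
    simp only [RingHom.comp_apply, RingHom.id_apply]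
    rw [HLg_algebraMap, ← coeff_zero_eq_constantCoeff_apply, coeff_map, coeff_Delta, hd_zero]
  exact RingHom.congr_fun this x

end HLg

section Laurent

variable {F : Type*} [Field F]

/-- Mathlib's Hasse derivative of Laurent series restricts to `hd` on power series. -/
lemma laurent_hasseDeriv_coe (n : ℕ) (b : F⟦X⟧) :
    LaurentSeries.hasseDeriv F n (HahnSeries.ofPowerSeries ℤ F b) =
      HahnSeries.ofPowerSeries ℤ F (hd n b) := by
  ext m
  rw [LaurentSeries.hasseDeriv_coeff, PowerSeries.coeff_coe, PowerSeries.coeff_coe]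
  rcases lt_or_ge m 0 with hm | hm
  · rw [if_pos hm]
    rcases lt_or_ge (m + n) 0 with hmn | hmn
    · rw [if_pos hmn, smul_zero]
    · obtain ⟨q, hq⟩ := Int.eq_ofNat_of_zero_le hmn
      rw [hq, Ring.choose_natCast, Nat.choose_eq_zero_of_lt (by omega), Nat.cast_zero, zero_smul]
  · obtain ⟨q, rfl⟩ := Int.eq_ofNat_of_zero_le hm
    rw [if_neg (by omega), if_neg (by omega), coeff_hd]
    have h1 : ((q : ℤ) + (n : ℤ)) = ((q + n : ℕ) : ℤ) := by push_cast; ring
    rw [h1, Ring.choose_natCast, Int.natAbs_natCast, Int.natAbs_natCast, Nat.add_comm n q,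
      Nat.choose_symm_add, Nat.cast_smul_eq_nsmul, nsmul_eq_mul]

end Laurent

end Groth.Agent.Lib.Helper16.Hasse
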