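import Groth.Agent.Lib.Helper16.Jump5

/-!
# Existence of the order sequence of a spanning column sequence (helper16)
-/

set_option autoImplicit false

namespace Groth.Agent.Lib.Helper16.Jump

open FunFld

variable {K : Type*} [Field K] {M : Type*} [AddCommGroup M] [Module K M]

lemma exists_W_of_mem_span (c : ℕ → M) {x : M} (hx : x ∈ Submodule.span K (Set.range c)) :
    ∃ m, x ∈ W (K := K) c m := by
  induction hx using Submodule.span_induction with
  | mem x hx =>
    obtain ⟨j, rfl⟩ := hx
    exact ⟨j + 1, mem_W c (Nat.lt_succ_self j)⟩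
  | zero => exact ⟨0, Submodule.zero_mem _⟩
  | add x y _ _ hx hy =>
    obtain ⟨m1, h1⟩ := hx
    obtain ⟨m2, h2⟩ := hy
    exact ⟨max m1 m2, Submodule.add_mem _ (W_mono c (le_max_left _ _) h1)
      (W_mono c (le_max_right _ _) h2)⟩
  | smul a x _ hx =>
    obtain ⟨m, hm⟩ := hx
    exact ⟨m, Submodule.smul_mem _ _ hm⟩

lemma exists_W_eq_top [Module.Finite K M] (c : ℕ → M)
    (hspan : Submodule.span K (Set.range c) = ⊤) : ∃ m, W (K := K) c m = ⊤ := by
  classical
  obtain ⟨S, hS⟩ := (Module.finite_def (R := K) (M := M)).mp inferInstance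
  have hex : ∀ x : M, ∃ m, x ∈ W (K := K) c m := fun x =>
    exists_W_of_mem_span c (by rw [hspan]; exact Submodule.mem_top)
  choose mf hmf using hex
  refine ⟨S.sup mf, ?_⟩
  rw [eq_top_iff, ← hS, Submodule.span_le]
  intro x hx
  exact W_mono c (Finset.le_sup hx) (hmf x)

/-- A spanning column sequence with nonzero leading column in an `(n+1)`-dimensional space has an
order sequence of length `n`. -/
theorem exists_isOrders [Module.Finite K M] {n : ℕ} (hdim : Module.finrank K M = n + 1)
    (c : ℕ → M) (h0 : c 0 ≠ 0) (hspan : Submodule.span K (Set.range c) = ⊤) :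
    ∃ J : Fin n → ℕ, IsOrders K c J := by
  classical
  obtain ⟨m₀, hm₀⟩ := exists_W_eq_top c hspan
  let S' : Finset ℕ := (Finset.range m₀).filter (fun j => IsJump K c j)
  have hS'mem : ∀ j, j ∈ S' ↔ j < m₀ ∧ IsJump K c j := fun j => by
    simp only [S', Finset.mem_filter, Finset.mem_range]
  have hjump0 : IsJump K c 0 := by
    rw [isJump_iff, W_zero]; simpa using h0
  have hnontriv : Nontrivial M := Module.nontrivial_of_finrank_pos (R := K) (by omega)
  have hm₀pos : 0 < m₀ := by
    rcases Nat.eq_zero_or_pos m₀ with h | h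
    · rw [h, W_zero] at hm₀
      exact absurd hm₀ bot_ne_top
    · exact h
  have hjump_lt : ∀ j, IsJump K c j → j < m₀ := by
    intro j hj
    by_contra hge
    rw [not_lt] at hge
    apply hj
    have : W (K := K) c j = ⊤ := eq_top_iff.mpr (hm₀ ▸ W_mono c hge)
    show c j ∈ W (K := K) c j
    rw [this]; exact Submodule.mem_top
  -- the sorted enumeration of the jumps
  let g := S'.orderEmbOfFin (rfl : S'.card = S'.card)
  have hgS : ∀ i, g i ∈ S' := fun i => Finset.orderEmbOfFin_mem S' rfl i
  have hli : LinearIndependent K (fun i => c (g i)) :=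
    linearIndependent_jumps c S'.card g g.strictMono (fun i => ((hS'mem _).mp (hgS i)).2)
  have hspan' : Submodule.span K (Set.range fun i => c (g i)) = ⊤ := by
    rw [← hm₀, W_eq_span_jumps]
    congr 1
    ext x
    constructor
    · rintro ⟨i, rfl⟩
      exact ⟨g i, (hS'mem _).mp (hgS i), rfl⟩
    · rintro ⟨j, hj, rfl⟩
      have : j ∈ Set.range g := by
        rw [Finset.range_orderEmbOfFin]
        exact (hS'mem j).mpr hj
      obtain ⟨i, rfl⟩ := this
      exact ⟨i, rfl⟩
  have hcard : S'.card = n + 1 := by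
    apply le_antisymm
    · have := hli.fintype_card_le_finrank
      rwa [Fintype.card_fin, hdim] at this
    · have h1 := finrank_range_le_card (R := K) (fun i : Fin S'.card => c (g i))
      rw [Set.finrank, hspan', finrank_top, hdim, Fintype.card_fin] at h1
      exact h1
  let g' := S'.orderEmbOfFin hcard
  have hg'S : ∀ i, g' i ∈ S' := fun i => Finset.orderEmbOfFin_mem S' hcard i
  have h0S : 0 ∈ S' := (hS'mem 0).mpr ⟨hm₀pos, hjump0⟩
  have hg'0 : g' 0 = 0 := by
    have h1 := Finset.orderEmbOfFin_zero hcard (Nat.succ_pos n)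
    have h2 : S'.min' ⟨0, h0S⟩ = 0 := Nat.le_zero.mp (Finset.min'_le S' 0 h0S)
    show S'.orderEmbOfFin hcard 0 = 0
    rw [show (0 : Fin (n + 1)) = ⟨0, Nat.succ_pos n⟩ from rfl, h1]
    exact h2
  have hg'pos : ∀ l : Fin n, 0 < g' l.succ := by
    intro l
    rw [← hg'0]
    exact g'.strictMono (Fin.succ_pos l)
  refine ⟨fun l => g' l.succ - 1, ?_, ?_⟩
  · intro l l' hll
    have := g'.strictMono (Fin.succ_lt_succ_iff.mpr hll)
    have h1 := hg'pos l
    have h2 := hg'pos l'
    show g' l.succ - 1 < g' l'.succ - 1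
    omega
  · intro j
    constructor
    · rintro ⟨l, rfl⟩
      have h1 := hg'pos l
      have : g' l.succ - 1 + 1 = g' l.succ := by omega
      rw [this]
      exact ((hS'mem _).mp (hg'S l.succ)).2
    · intro hj
      have hjS : j + 1 ∈ S' := (hS'mem _).mpr ⟨hjump_lt _ hj, hj⟩
      have : j + 1 ∈ Set.range g' := by
        rw [Finset.range_orderEmbOfFin]; exact hjS
      obtain ⟨q, hq⟩ := this
      rcases Fin.eq_zero_or_eq_succ q with h | ⟨l, rfl⟩
      · rw [h, hg'0] at hq; omega
      · exact ⟨l, by show g' l.succ - 1 = j; omega⟩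

/-- The determinant at the order sequence is nonzero when the leading column is nonzero. -/
theorem det_wr_ne_zero {n : ℕ} {c : ℕ → Fin (n + 1) → K} {J : Fin n → ℕ} (hJ : IsOrders K c J)
    (h0 : c 0 ≠ 0) : (wr c J).det ≠ 0 := by
  have hli := linearIndependent_idx hJ h0
  have hcol : (wr c J).col = fun q => c (idx J q) := by
    funext q i; rfl
  have hu : IsUnit (wr c J) := by
    rw [← Matrix.linearIndependent_cols_iff_isUnit, hcol]
    exact hli
  exact ((Matrix.isUnit_iff_isUnit_det _).mp hu).ne_zero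

end Groth.Agent.Lib.Helper16.Jump
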