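import Groth.Agent.Lib.Helper16.HasseWronsk
import Groth.Agent.Lib.Helper16.Jump6
import Mathlib.LinearAlgebra.Basis.VectorSpace

/-!
# Existence of the order sequence of a linearly independent tuple (helper16)
-/

set_option autoImplicit false

namespace Groth.Agent.Lib.Helper16.Hasse

open LocRes FunFld PowerSeries Groth.Agent.Lib.Helper16.Jump

variable {k K : Type*} [Field k] [Field K] [Algebra k K]

/-- The Hasse derivative columns of a `k`-linearly independent tuple span `K^(n+1)`. -/
theorem span_hcol_eq_top (hK : IsFunctionField k K) {s : K} {H : K →ₐ[k] PowerSeries K}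
    (hH : IsHasseFamily s H) {n : ℕ} (φ : Fin (n + 1) → K) (hφ : LinearIndependent k φ)
    (τ : K →ₐ[k] K) : Submodule.span K (Set.range (hcol τ H φ)) = ⊤ := by
  by_contra hne
  obtain ⟨f, hf0, hf⟩ := Submodule.exists_le_ker_of_lt_top _ (lt_top_iff_ne_top.mpr hne)
  let a : Fin (n + 1) → K := fun i => f (fun j => if i = j then 1 else 0)
  have hfa : ∀ v : Fin (n + 1) → K, f v = ∑ i, a i * v i := by
    intro v
    rw [LinearMap.pi_apply_eq_sum_univ f v]
    refine Finset.sum_congr rfl fun i _ => ?_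
    rw [smul_eq_mul, mul_comm]
  have ha : a = 0 := by
    apply eq_zero_of_sum_mul_hasseD_eq_zero hK hH φ hφ a
    intro j
    have h1 : hcol τ H φ (j + 1) ∈ Submodule.span K (Set.range (hcol τ H φ)) :=
      Submodule.subset_span ⟨j + 1, rfl⟩
    have h2 := hf h1
    rw [LinearMap.mem_ker, hfa] at h2
    exact h2
  apply hf0
  refine LinearMap.ext fun v => ?_
  rw [hfa, ha]
  simp

/-- A `k`-linearly independent tuple has a `τ`-order sequence and nonzero Wronskian. -/
theorem exists_isOrders_det_ne_zero (hK : IsFunctionField k K) {s : K}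
    {H : K →ₐ[k] PowerSeries K} (hH : IsHasseFamily s H) {n : ℕ} (φ : Fin (n + 1) → K)
    (hφ : LinearIndependent k φ) (τ : K →ₐ[k] K) :
    ∃ J : Fin n → ℕ, IsOrders K (hcol τ H φ) J ∧ (wrMat τ H φ J).det ≠ 0 := by
  have h0 : hcol τ H φ 0 ≠ 0 := by
    intro h
    have h1 := congrFun h 0
    rw [hcol_zero] at h1
    exact hφ.ne_zero 0 ((map_eq_zero_iff τ τ.injective).mp h1)
  obtain ⟨J, hJ⟩ := exists_isOrders (K := K) (M := Fin (n + 1) → K) (n := n) (by simp)
    (hcol τ H φ) h0 (span_hcol_eq_top hK hH φ hφ τ)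
  refine ⟨J, hJ, ?_⟩
  rw [wrMat_eq_wr]
  exact det_wr_ne_zero hJ h0

end Groth.Agent.Lib.Helper16.Hasse
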