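import Groth.Agent.Lib.Helper16.HasseBasic
import Mathlib.FieldTheory.IntermediateField.Adjoin.Basic

/-!
# The leading column `τ(φ)` and the first order (helper16)
-/

set_option autoImplicit false

namespace Groth.Agent.Lib.Helper16.Hasse

open LocRes FunFld Groth.Agent.Lib.Helper16.Jump

variable {k K : Type*} [Field k] [Field K] [Algebra k K]

/-- An endomorphism fixing a generating set of the field is the identity. -/
lemma algHom_eq_id_of_adjoin_eq_top (τ : K →ₐ[k] K) (S : Set K)
    (hS : IntermediateField.adjoin k S = ⊤) (hτ : ∀ x ∈ S, τ x = x) : τ = AlgHom.id k K := by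
  let E : IntermediateField k K :=
    (AlgHom.equalizer τ (AlgHom.id k K)).toIntermediateField (by
      intro x hx
      rw [AlgHom.mem_equalizer] at hx ⊢
      rw [map_inv₀, hx]
      rfl)
  have hle : IntermediateField.adjoin k S ≤ E := by
    rw [IntermediateField.adjoin_le_iff]
    intro x hx
    show x ∈ AlgHom.equalizer τ (AlgHom.id k K)
    rw [AlgHom.mem_equalizer]
    exact hτ x hx
  rw [hS] at hle
  ext x
  have : x ∈ E := hle (IntermediateField.mem_top)
  exact (AlgHom.mem_equalizer _ _ _).mp this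

/-- `φ` lies in the `K`-line of `τ(φ)` iff `τ = id`, for a birational `φ`. -/
theorem mem_span_tau_iff {n : ℕ} (φ : Fin (n + 1) → K) (h0 : φ 0 ≠ 0)
    (hbir : IntermediateField.adjoin k (Set.range fun i => φ i / φ 0) = ⊤) (τ : K →ₐ[k] K) :
    φ ∈ Submodule.span K {fun i => τ (φ i)} ↔ τ = AlgHom.id k K := by
  constructor
  · intro h
    obtain ⟨a, ha⟩ := Submodule.mem_span_singleton.mp h
    have ha' : ∀ i, a * τ (φ i) = φ i := fun i => by
      have := congrFun ha i
      simpa using this
    have ha0 : a ≠ 0 := by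
      rintro rfl
      exact h0 (by rw [← ha' 0, zero_mul])
    apply algHom_eq_id_of_adjoin_eq_top τ _ hbir
    rintro x ⟨i, rfl⟩
    show τ (φ i / φ 0) = φ i / φ 0
    rw [map_div₀]
    conv_rhs => rw [← ha' i, ← ha' 0, mul_div_mul_left _ _ ha0]
  · rintro rfl
    exact Submodule.mem_span_singleton_self _

theorem not_isJump_one_iff {n : ℕ} (φ : Fin (n + 1) → K) (h0 : φ 0 ≠ 0)
    (hbir : IntermediateField.adjoin k (Set.range fun i => φ i / φ 0) = ⊤) (τ : K →ₐ[k] K)
    {s : K} {H : K →ₐ[k] PowerSeries K} (hH : IsHasseFamily s H) :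
    ¬ IsJump K (hcol τ H φ) 1 ↔ τ = AlgHom.id k K := by
  rw [← mem_span_tau_iff φ h0 hbir τ]
  unfold IsJump
  rw [not_not]
  have h1 : hcol τ H φ '' Set.Iio 1 = {fun i => τ (φ i)} := by
    ext x
    simp only [Set.mem_image, Set.mem_Iio, Nat.lt_one_iff, Set.mem_singleton_iff]
    constructor
    · rintro ⟨j, rfl, rfl⟩; rfl
    · rintro rfl; exact ⟨0, rfl, rfl⟩
  have h2 : hcol τ H φ 1 = φ := by
    rw [hcol_succ]
    funext i
    exact hasseD_zero hH (φ i)
  rw [h1, h2]

end Groth.Agent.Lib.Helper16.Hasse
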