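import Groth.Agent.Lib.Helper16.HasseUniq
import Mathlib.FieldTheory.IntermediateField.Adjoin.Basic

/-!
# Uniqueness of lifts along algebraic extensions, relative version (helper16)

As `HasseUniq`, but the augmentation `ε : A →+* L` lands in a nontrivial ring `L` receiving `K`
through `e : K →+* L`, and `f g : K →+* A` satisfy `ε ∘ f = e = ε ∘ g`.
-/

set_option autoImplicit false

namespace Groth.Agent.Lib.Helper16.Hasse

open Polynomial

variable {K A L : Type*} [Field K] [CommRing A] [IsDomain A] [CommRing L] [Nontrivial L]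

lemma eq_of_separable_root' (ε : A →+* L) (E₀ : Subfield K) (φ : E₀ →+* A) (e₀ : E₀ →+* L)
    (hφ : ∀ c : E₀, ε (φ c) = e₀ c) (Q : E₀[X]) (hQ : Q.Separable) (a b : A)
    (ha : (Q.map φ).eval a = 0) (hb : (Q.map φ).eval b = 0) (hab : ε a = ε b) : a = b := by
  by_contra hne
  have hd : a - b ≠ 0 := sub_ne_zero.mpr hne
  obtain ⟨κ, hκ⟩ := (Q.map φ).binomExpansion b (a - b)
  rw [add_sub_cancel, ha, hb, zero_add] at hκ
  have h1 : (a - b) * ((Q.map φ).derivative.eval b + κ * (a - b)) = 0 := by
    rw [hκ]; ring
  have h2 : (Q.map φ).derivative.eval b + κ * (a - b) = 0 :=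
    (mul_eq_zero.mp h1).resolve_left hd
  have h3 := congrArg ε h2
  rw [map_add, map_mul, map_sub, hab, sub_self, mul_zero, add_zero, map_zero] at h3
  have hcomp : ε.comp φ = e₀ := by
    ext c; exact hφ c
  have h4 : ε ((Q.map φ).derivative.eval b) = (Q.derivative.map e₀).eval (ε b) := by
    rw [← Polynomial.derivative_map, ← Polynomial.eval₂_at_apply, ← Polynomial.eval_map,
      Polynomial.derivative_map, Polynomial.derivative_map, Polynomial.map_map, hcomp]
  rw [h4] at h3
  have h5 : (Q.map e₀).eval (ε b) = 0 := by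
    have := congrArg ε hb
    rw [map_zero, ← Polynomial.eval₂_at_apply, ← Polynomial.eval_map, Polynomial.map_map,
      hcomp] at this
    exact this
  have h6 : Polynomial.eval₂ e₀ (ε b) Q = 0 := by
    rw [Polynomial.eval₂_eq_eval_map]; exact h5
  have := hQ.eval₂_derivative_ne_zero e₀ h6
  apply this
  rw [Polynomial.eval₂_eq_eval_map]
  exact h3

theorem ringHom_ext_of_algebraic' (ε : A →+* L) (e : K →+* L) (f g : K →+* A)
    (hf : ∀ y, ε (f y) = e y) (hg : ∀ y, ε (g y) = e y) (E₀ : Subfield K)
    (hE : ∀ y ∈ E₀, f y = g y) (halg : ∀ y : K, IsAlgebraic E₀ y) : f = g := by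
  ext y
  have hint : IsIntegral E₀ y := (halg y).isIntegral
  let P := minpoly E₀ y
  have hP : Irreducible P := minpoly.irreducible hint
  let q := ringExpChar E₀
  obtain ⟨Q, hQsep, m, hQe⟩ := hP.hasSeparableContraction q
  let φ : E₀ →+* A := f.comp E₀.subtype
  have hφg : φ = g.comp E₀.subtype := by
    ext c; exact hE c c.2
  have hφ : ∀ c : E₀, ε (φ c) = (e.comp E₀.subtype) c := fun c => hf c
  set z := y ^ q ^ m with hz
  have hQz : Polynomial.aeval z Q = 0 := by
    have : Polynomial.aeval y P = 0 := minpoly.aeval E₀ y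
    rw [← hQe, Polynomial.expand_aeval] at this
    exact this
  have hfz : (Q.map φ).eval (f z) = 0 := by
    rw [Polynomial.eval_map, show φ = f.comp (algebraMap E₀ K) from rfl, ← Polynomial.hom_eval₂]
    rw [← Polynomial.aeval_def, hQz, map_zero]
  have hgz : (Q.map φ).eval (g z) = 0 := by
    rw [hφg, Polynomial.eval_map, show g.comp E₀.subtype = g.comp (algebraMap E₀ K) from rfl,
      ← Polynomial.hom_eval₂]
    rw [← Polynomial.aeval_def, hQz, map_zero]
  have hfg : f z = g z :=
    eq_of_separable_root' ε E₀ φ (e.comp E₀.subtype) hφ Q hQsep (f z) (g z) hfz hgz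
      (by rw [hf, hg])
  have hqK : ExpChar K q := expChar_of_injective_ringHom E₀.subtype.injective q
  have hqA : ExpChar A q := expChar_of_injective_ringHom f.injective q
  have h1 : (f y - g y) ^ q ^ m = 0 := by
    rw [sub_pow_expChar_pow, ← map_pow, ← map_pow, ← hz, hfg, sub_self]
  exact sub_eq_zero.mp (pow_eq_zero_iff (pow_ne_zero _ (expChar_pos A q).ne')
    |>.mp h1)

/-- Relative version of `hasse_ext`. -/
theorem hasse_ext' {k : Type*} [Field k] [Algebra k K] (ε : A →+* L) (e : K →+* L)
    (f g : K →+* A) (hf : ∀ y, ε (f y) = e y) (hg : ∀ y, ε (g y) = e y)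
    (hk : ∀ c : k, f (algebraMap k K c) = g (algebraMap k K c)) (s : K) (hs : f s = g s)
    (halg : ∀ y : K, IsAlgebraic (IntermediateField.adjoin k ({s} : Set K)) y) : f = g := by
  let E₀ : Subfield K :=
    { carrier := {y | f y = g y}
      mul_mem' := fun {a b} ha hb => by
        show f (a * b) = g (a * b)
        rw [map_mul, map_mul, ha, hb]
      one_mem' := by show f 1 = g 1; rw [map_one, map_one]
      add_mem' := fun {a b} ha hb => by
        show f (a + b) = g (a + b)
        rw [map_add, map_add, ha, hb]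
      zero_mem' := by show f 0 = g 0; rw [map_zero, map_zero]
      neg_mem' := fun {a} ha => by
        show f (-a) = g (-a)
        rw [map_neg, map_neg, ha]
      inv_mem' := fun a ha => by
        show f a⁻¹ = g a⁻¹
        by_cases h0 : a = 0
        · subst h0; simp
        · have hfa : f a ≠ 0 := (map_ne_zero_iff f f.injective).mpr h0
          have h1 : f a * f a⁻¹ = 1 := by rw [← map_mul, mul_inv_cancel₀ h0, map_one]
          have h2 : f a * g a⁻¹ = 1 := by
            rw [show f a = g a from ha, ← map_mul, mul_inv_cancel₀ h0, map_one]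
          exact mul_left_cancel₀ hfa (h1.trans h2.symm) }
  have hle : ∀ y ∈ IntermediateField.adjoin k ({s} : Set K), y ∈ E₀ := by
    intro y hy
    induction hy using IntermediateField.adjoin_induction with
    | mem x hx =>
      rw [Set.mem_singleton_iff] at hx
      subst hx; exact hs
    | algebraMap c => exact hk c
    | add x y _ _ hx hy => exact E₀.add_mem hx hy
    | inv x _ hx => exact E₀.inv_mem hx
    | mul x y _ _ hx hy => exact E₀.mul_mem hx hy
  refine ringHom_ext_of_algebraic' ε e f g hf hg E₀ (fun y hy => hy) ?_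
  intro y
  obtain ⟨p, hp0, hp⟩ := halg y
  let ι : IntermediateField.adjoin k ({s} : Set K) →+* E₀ :=
    { toFun := fun c => ⟨c.1, hle c.1 c.2⟩
      map_one' := rfl
      map_mul' := fun _ _ => rfl
      map_zero' := rfl
      map_add' := fun _ _ => rfl }
  refine ⟨p.map ι, ?_, ?_⟩
  · exact (Polynomial.map_ne_zero_iff ι.injective).mpr hp0
  · rw [Polynomial.aeval_def, Polynomial.eval₂_map]
    rw [Polynomial.aeval_def] at hp
    exact hp

end Groth.Agent.Lib.Helper16.Hasse
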