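import Groth.Agent.Lib.Helper16.HasseIter

/-!
# Constants of a total Hasse derivative and the Wronskian criterion (helper16)
-/

set_option autoImplicit false

namespace Groth.Agent.Lib.Helper16.Hasse

open LocRes FunFld PowerSeries

variable {k K : Type*} [Field k] [Field K] [Algebra k K]

/-- The constants of a total Hasse derivative on a function field are the elements of `k`. -/
theorem mem_range_of_hasse_const (hK : IsFunctionField k K) {s : K} {H : K →ₐ[k] PowerSeries K}
    (hH : IsHasseFamily s H) {y : K} (hy : H y = C y) : y ∈ Set.range (algebraMap k K) := by
  by_contra hyk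
  have htr := Groth.Agent.Lib.Helper88.FF.transcendental_of_not_mem_range hK hyk
  have hfd := Groth.Agent.Lib.Helper88.FF.finiteDimensional_adjoin_of_transcendental hK htr
  have halg : ∀ z : K, IsAlgebraic (IntermediateField.adjoin k ({y} : Set K)) z :=
    fun z => Algebra.IsAlgebraic.isAlgebraic z
  have := hasse_ext (k := k) (PowerSeries.constantCoeff (R := K)) H.toRingHom
    (PowerSeries.C (R := K)) (fun z => hH.2 z) (fun z => by simp)
    (fun c => by
      show H (algebraMap k K c) = C (algebraMap k K c)
      rw [AlgHom.commutes, PowerSeries.algebraMap_apply]) y hy halg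
  have h1 : H s = C s := congrFun (congrArg DFunLike.coe this) s
  rw [hH.1] at h1
  have h2 := congrArg (PowerSeries.coeff 1) h1
  simp at h2

lemma hasseD_mul_of_vanish {s : K} {H : K →ₐ[k] PowerSeries K} (hH : IsHasseFamily s H) {m : ℕ}
    (hm : 1 ≤ m) {b : K} (hb : ∀ u, 1 ≤ u → u < m → hasseD H u b = 0) (x : K) :
    hasseD H m (b * x) = b * hasseD H m x + hasseD H m b * x := by
  obtain ⟨m', rfl⟩ : ∃ m', m = m' + 1 := ⟨m - 1, by omega⟩
  rw [hasseD_mul, Finset.Nat.sum_antidiagonal_eq_sum_range_succ_mk, Finset.sum_range_succ,
    Finset.sum_range_succ']
  have hmid : ∑ i ∈ Finset.range m', hasseD H (i + 1) b * hasseD H (m' + 1 - (i + 1)) x = 0 := by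
    refine Finset.sum_eq_zero fun i hi => ?_
    rw [hb (i + 1) (by omega) (by have := Finset.mem_range.mp hi; omega), zero_mul]
  rw [hmid, zero_add, Nat.sub_zero, Nat.sub_self, hasseD_zero hH, hasseD_zero hH]

/-- **Wronskian criterion** for Hasse derivatives: if `φ` is linearly independent over `k`, then the
rows `(D^j φ i)_j` are linearly independent over `K`. -/
theorem eq_zero_of_sum_mul_hasseD_eq_zero (hK : IsFunctionField k K) {s : K}
    {H : K →ₐ[k] PowerSeries K} (hH : IsHasseFamily s H) {ι : Type*} [Fintype ι] (φ : ι → K)
    (hφ : LinearIndependent k φ) (a : ι → K)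
    (ha : ∀ j, ∑ i, a i * hasseD H j (φ i) = 0) : a = 0 := by
  classical
  suffices h : ∀ (S : Finset ι) (a : ι → K), (∀ i, i ∉ S → a i = 0) →
      (∀ j, ∑ i, a i * hasseD H j (φ i) = 0) → a = 0 from
    h Finset.univ a (fun i hi => absurd (Finset.mem_univ i) hi) ha
  intro S
  induction S using Finset.induction_on with
  | empty =>
    intro a hS _
    funext i
    exact hS i (Finset.notMem_empty i)
  | insert i0 S hi0 ih =>
    intro a hS ha
    by_cases ha0 : a i0 = 0
    · apply ih a _ ha
      intro i hi
      by_cases hii : i = i0
      · rw [hii]; exact ha0
      · exact hS i (by simp [hii, hi])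
    · exfalso
      -- normalise
      let b : ι → K := fun i => (a i0)⁻¹ * a i
      have hb0 : b i0 = 1 := inv_mul_cancel₀ ha0
      have hbS : ∀ i, i ∉ insert i0 S → b i = 0 := fun i hi => by
        simp only [b, hS i hi, mul_zero]
      have hb : ∀ j, ∑ i, b i * hasseD H j (φ i) = 0 := by
        intro j
        have : ∑ i, b i * hasseD H j (φ i) = (a i0)⁻¹ * ∑ i, a i * hasseD H j (φ i) := by
          rw [Finset.mul_sum]
          refine Finset.sum_congr rfl fun i _ => ?_
          simp only [b]; ring
        rw [this, ha j, mul_zero]
      -- all higher derivatives of the `b i` vanish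
      have hvan : ∀ m, 1 ≤ m → ∀ i, hasseD H m (b i) = 0 := by
        intro m
        induction m using Nat.strong_induction_on with
        | _ m IH =>
          intro hm
          have hrel : ∀ j, ∑ i, hasseD H m (b i) * hasseD H j (φ i) = 0 := by
            intro j
            have h1 := congrArg (hasseD H m) (hb j)
            rw [hasseD_sum] at h1
            have h2 : ∀ i, hasseD H m (b i * hasseD H j (φ i)) =
                b i * (((j + m).choose m : K) * hasseD H (j + m) (φ i)) +
                  hasseD H m (b i) * hasseD H j (φ i) := by
              intro i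
              rw [hasseD_mul_of_vanish hH hm (fun u hu1 hu2 => IH u hu2 hu1 i),
                hasseD_hasseD hK hH]
            simp_rw [h2] at h1
            rw [Finset.sum_add_distrib] at h1
            have h3 : ∑ i, b i * (((j + m).choose m : K) * hasseD H (j + m) (φ i)) = 0 := by
              have : ∑ i, b i * (((j + m).choose m : K) * hasseD H (j + m) (φ i)) =
                  ((j + m).choose m : K) * ∑ i, b i * hasseD H (j + m) (φ i) := by
                rw [Finset.mul_sum]
                refine Finset.sum_congr rfl fun i _ => ?_
                ring
              rw [this, hb (j + m), mul_zero]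
            have h0 : hasseD H m (0 : K) = 0 := by simp [hasseD]
            rw [h3, zero_add, h0] at h1
            exact h1
          have hz : (fun i => hasseD H m (b i)) = 0 := by
            apply ih _ _ hrel
            intro i hi
            by_cases hii : i = i0
            · rw [hii, hb0]
              have : hasseD H m (1 : K) = PowerSeries.coeff m (1 : PowerSeries K) := by
                simp [hasseD]
              rw [this, PowerSeries.coeff_one, if_neg (by omega)]
            · rw [hbS i (by simp [hii, hi])]
              simp [hasseD]
          intro i
          exact congrFun hz i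
      -- hence the `b i` are constants
      have hconst : ∀ i, b i ∈ Set.range (algebraMap k K) := by
        intro i
        apply mem_range_of_hasse_const hK hH
        ext m
        rw [PowerSeries.coeff_C]
        by_cases hm : m = 0
        · subst hm
          rw [if_pos rfl]
          exact hasseD_zero hH (b i)
        · rw [if_neg hm]
          exact hvan m (by omega) i
      choose c hc using hconst
      have hlin : ∑ i, c i • φ i = 0 := by
        have := hb 0
        simp only [hasseD_zero hH] at this
        rw [← this]
        refine Finset.sum_congr rfl fun i _ => ?_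
        rw [Algebra.smul_def, hc i]
      have hc0 := (Fintype.linearIndependent_iff.mp hφ) c hlin i0
      have : b i0 = 0 := by rw [← hc i0, hc0, map_zero]
      rw [hb0] at this
      exact one_ne_zero this

end Groth.Agent.Lib.Helper16.Hasse
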