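import Mathlib
import Groth.Agent.Lib.Lead.Hilbert90

/-!
# Hilbert 90 for `GL_n` over a flat local algebra (sub-lemma M1 for lead, S20007)

Let `A` be a flat `R`-algebra which is a local ring and `M` an invertible `n × n` matrix over
`A ⊗ A` satisfying the cocycle condition.  Then `M` is the coboundary of an invertible matrix over
`A`: `1 ⊗ h = M * (h ⊗ 1)`.
-/

set_option autoImplicit false
universe u
open TensorProduct Groth.Agent.Lib.Lead.Hilbert90

namespace Groth.Agent.Lib.Helper16.Hilbert90Mat

variable {R A : Type u} [CommRing R] [CommRing A] [Algebra R A]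

/-! ### Tensoring the basic maps with `A` -/

theorem rTensor_includeRight (x : A ⊗[R] A) :
    ((Algebra.TensorProduct.includeRight : A →ₐ[R] A ⊗[R] A).toLinearMap).rTensor A x =
      J23 R A x := by
  induction x using TensorProduct.induction_on with
  | zero => simp
  | add x y hx hy => simp only [map_add, hx, hy]
  | tmul m a =>
    rw [LinearMap.rTensor_tmul]
    simp only [J23, Algebra.TensorProduct.map_tmul, AlgHom.id_apply, AlgHom.toLinearMap_apply]

theorem rTensor_mulLeft_includeLeft (u : A ⊗[R] A) (x : A ⊗[R] A) :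
    ((LinearMap.mulLeft R u) ∘ₗ
      (Algebra.TensorProduct.includeLeft : A →ₐ[R] A ⊗[R] A).toLinearMap).rTensor A x =
      J12 R A u * J13 R A x := by
  induction x using TensorProduct.induction_on with
  | zero => simp
  | add x y hx hy => simp only [map_add, hx, hy, mul_add]
  | tmul m a =>
    rw [LinearMap.rTensor_tmul]
    simp only [J12, J13, Algebra.TensorProduct.map_tmul, AlgHom.id_apply,
      Algebra.TensorProduct.includeLeft_apply, Algebra.TensorProduct.tmul_mul_tmul, one_mul,
      LinearMap.comp_apply, AlgHom.toLinearMap_apply, LinearMap.mulLeft_apply]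

variable {n : ℕ}

/-- The `k`-th component of the twisted differential on vectors:
`v ↦ 1 ⊗ v k - ∑ j, M k j * (v j ⊗ 1)`. -/
noncomputable def ddk (M : Matrix (Fin n) (Fin n) (A ⊗[R] A)) (k : Fin n) :
    (Fin n → A) →ₗ[R] A ⊗[R] A :=
  (Algebra.TensorProduct.includeRight : A →ₐ[R] A ⊗[R] A).toLinearMap ∘ₗ (LinearMap.proj k) -
    ∑ j, ((LinearMap.mulLeft R (M k j)) ∘ₗ
      (Algebra.TensorProduct.includeLeft : A →ₐ[R] A ⊗[R] A).toLinearMap) ∘ₗ (LinearMap.proj j)

theorem ddk_apply (M : Matrix (Fin n) (Fin n) (A ⊗[R] A)) (k : Fin n) (v : Fin n → A) :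
    ddk M k v = (1 : A) ⊗ₜ[R] v k - ∑ j, M k j * (v j ⊗ₜ[R] (1 : A)) := by
  simp [ddk, LinearMap.sum_apply]

theorem ddk_comp_single (M : Matrix (Fin n) (Fin n) (A ⊗[R] A)) (k i : Fin n) :
    (ddk M k) ∘ₗ (LinearMap.single R (fun _ : Fin n => A) i) =
      (if k = i then (Algebra.TensorProduct.includeRight : A →ₐ[R] A ⊗[R] A).toLinearMap else 0) -
        (LinearMap.mulLeft R (M k i)) ∘ₗ
          (Algebra.TensorProduct.includeLeft : A →ₐ[R] A ⊗[R] A).toLinearMap := by
  ext a
  rw [LinearMap.comp_apply, LinearMap.coe_single, ddk_apply]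
  rw [Finset.sum_eq_single i]
  · by_cases hki : k = i
    · subst hki
      simp
    · simp [hki, Pi.single_apply]
  · intro j _ hji
    simp [Pi.single_apply, hji]
  · intro hi
    exact absurd (Finset.mem_univ i) hi

/-- The twisted differential on vectors. -/
noncomputable def dd (M : Matrix (Fin n) (Fin n) (A ⊗[R] A)) :
    (Fin n → A) →ₗ[R] (Fin n → A ⊗[R] A) :=
  LinearMap.pi (ddk M)

/-- An element of `(Fin n → B) ⊗ A` all of whose components vanish is zero. -/
theorem eq_zero_of_proj {B : Type u} [AddCommGroup B] [Module R B]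
    (w : (Fin n → B) ⊗[R] A)
    (h : ∀ k, ((LinearMap.proj k : (Fin n → B) →ₗ[R] B).rTensor A) w = 0) : w = 0 := by
  have hid : (∑ k : Fin n, (LinearMap.single R (fun _ : Fin n => B) k) ∘ₗ
      (LinearMap.proj k : (Fin n → B) →ₗ[R] B)) = LinearMap.id := by
    ext i x j
    simp [LinearMap.sum_apply, Pi.single_apply, Finset.sum_apply]
  have h1 : w = (LinearMap.id : (Fin n → B) →ₗ[R] (Fin n → B)).rTensor A w := by
    rw [LinearMap.rTensor_id]; rfl
  rw [h1, ← hid, ← LinearMap.coe_rTensorHom, map_sum, LinearMap.sum_apply]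
  apply Finset.sum_eq_zero
  intro k _
  rw [LinearMap.coe_rTensorHom, LinearMap.rTensor_comp, LinearMap.comp_apply, h k, map_zero]

/-- Scalar multiplication `(Fin n → A) ⊗ A → (Fin n → A)`, `v ⊗ a ↦ a • v`. -/
noncomputable def mult : (Fin n → A) ⊗[R] A →ₗ[R] (Fin n → A) :=
  TensorProduct.lift (LinearMap.mk₂ R (fun (v : Fin n → A) (a : A) => a • v)
    (fun v₁ v₂ a => smul_add a v₁ v₂) (fun c v a => smul_comm a c v)
    (fun v a₁ a₂ => add_smul a₁ a₂ v) (fun c v a => smul_assoc c a v))

theorem mult_tmul (v : Fin n → A) (a : A) : mult (R := R) (v ⊗ₜ[R] a) = a • v := by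
  simp [mult]

theorem mult_single (i : Fin n) (x : A ⊗[R] A) :
    mult (R := R) (((LinearMap.single R (fun _ : Fin n => A) i).rTensor A) x) =
      Pi.single i (Algebra.TensorProduct.lmul' R x) := by
  induction x using TensorProduct.induction_on with
  | zero => simp
  | add x y hx hy => simp only [map_add, hx, hy, Pi.single_add]
  | tmul a b =>
    rw [LinearMap.rTensor_tmul, mult_tmul, LinearMap.coe_single,
      Algebra.TensorProduct.lmul'_apply_tmul, ← Pi.single_smul, smul_eq_mul, mul_comm]

/-! ### Matrix identities -/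

section Mat

variable (M N : Matrix (Fin n) (Fin n) (A ⊗[R] A))

theorem m12_J23 (x : A ⊗[R] A) : m12 R A (J23 R A x) = x := by
  have : (m12 R A).comp (J23 R A) = AlgHom.id R (A ⊗[R] A) := by
    ext a
    · simp [m12, J23]
    · simp [m12, J23]
  exact congr($this x)

theorem m12_J13 (x : A ⊗[R] A) : m12 R A (J13 R A x) = x := by
  have : (m12 R A).comp (J13 R A) = AlgHom.id R (A ⊗[R] A) := by
    ext a
    · simp [m12, J13]
    · simp [m12, J13]
  exact congr($this x)

theorem m12_J12 (x : A ⊗[R] A) :
    m12 R A (J12 R A x) = (Algebra.TensorProduct.lmul' R x) ⊗ₜ[R] (1 : A) := by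
  simp [m12, J12]

theorem map_lmul'_eq_one (hMN : M * N = 1)
    (hcoc : (J23 R A).toRingHom.mapMatrix M * (J12 R A).toRingHom.mapMatrix M =
      (J13 R A).toRingHom.mapMatrix M) :
    (Algebra.TensorProduct.lmul' R : A ⊗[R] A →ₐ[R] A).toRingHom.mapMatrix M = 1 := by
  have hNM : N * M = 1 := mul_eq_one_comm.mp hMN
  -- `M * iL(μ(M)) = M`
  have h4 : M * (M.map fun x => (Algebra.TensorProduct.lmul' R x) ⊗ₜ[R] (1 : A)) = M := by
    ext i j
    have h := congrArg (m12 R A) (congrFun (congrFun hcoc i) j)
    simp only [RingHom.mapMatrix_apply, Matrix.mul_apply, Matrix.map_apply, map_sum, map_mul,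
      AlgHom.toRingHom_eq_coe, RingHom.coe_coe, m12_J23, m12_J12, m12_J13] at h
    simpa [Matrix.mul_apply] using h
  have h5 : (M.map fun x => (Algebra.TensorProduct.lmul' R x) ⊗ₜ[R] (1 : A)) = 1 := by
    calc _ = (N * M) * (M.map fun x => (Algebra.TensorProduct.lmul' R x) ⊗ₜ[R] (1 : A)) := by
          rw [hNM, one_mul]
      _ = N * M := by rw [mul_assoc, h4]
      _ = 1 := hNM
  ext i j
  have h6 := congrArg (Algebra.TensorProduct.lmul' R (S := A)) (congrFun (congrFun h5 i) j)
  simp only [Matrix.map_apply, Algebra.TensorProduct.lmul'_apply_tmul, mul_one] at h6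
  rw [RingHom.mapMatrix_apply, Matrix.map_apply]
  rw [show ((Algebra.TensorProduct.lmul' R : A ⊗[R] A →ₐ[R] A).toRingHom) (M i j) =
    Algebra.TensorProduct.lmul' R (M i j) from rfl, h6]
  by_cases hij : i = j
  · subst hij; simp
  · simp [hij]

theorem cocycle_inv (hMN : M * N = 1)
    (hcoc : (J23 R A).toRingHom.mapMatrix M * (J12 R A).toRingHom.mapMatrix M =
      (J13 R A).toRingHom.mapMatrix M) :
    (J12 R A).toRingHom.mapMatrix M * (J13 R A).toRingHom.mapMatrix N =
      (J23 R A).toRingHom.mapMatrix N := by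
  have hNM : N * M = 1 := mul_eq_one_comm.mp hMN
  have e1 : (J23 R A).toRingHom.mapMatrix N * (J23 R A).toRingHom.mapMatrix M = 1 := by
    rw [← map_mul, hNM, map_one]
  have e2 : (J13 R A).toRingHom.mapMatrix M * (J13 R A).toRingHom.mapMatrix N = 1 := by
    rw [← map_mul, hMN, map_one]
  have e3 : (J12 R A).toRingHom.mapMatrix M =
      (J23 R A).toRingHom.mapMatrix N * (J13 R A).toRingHom.mapMatrix M := by
    rw [← hcoc, ← mul_assoc, e1, one_mul]
  rw [e3, mul_assoc, e2, mul_one]

end Mat

/-! ### The main theorem -/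

theorem exists_matrix {R A : Type u} [CommRing R] [CommRing A] [Algebra R A] [Module.Flat R A]
    [IsLocalRing A] (n : ℕ) (M N : Matrix (Fin n) (Fin n) (A ⊗[R] A)) (hMN : M * N = 1)
    (hcoc : (J23 R A).toRingHom.mapMatrix M * (J12 R A).toRingHom.mapMatrix M =
      (J13 R A).toRingHom.mapMatrix M) :
    ∃ h h' : Matrix (Fin n) (Fin n) A, h * h' = 1 ∧ h' * h = 1 ∧
      (Algebra.TensorProduct.includeRight : A →ₐ[R] A ⊗[R] A).toRingHom.mapMatrix h =
        M * (Algebra.TensorProduct.includeLeft : A →ₐ[R] A ⊗[R] A).toRingHom.mapMatrix h := by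
  classical
  have hμM := map_lmul'_eq_one M N hMN hcoc
  have hμN : (Algebra.TensorProduct.lmul' R : A ⊗[R] A →ₐ[R] A).toRingHom.mapMatrix N = 1 := by
    have := congrArg (Algebra.TensorProduct.lmul' R : A ⊗[R] A →ₐ[R] A).toRingHom.mapMatrix hMN
    rw [map_mul, hμM, one_mul, map_one] at this
    exact this
  have hinv := cocycle_inv M N hMN hcoc
  -- the columns of `N`, as elements of `(Fin n → A) ⊗ A`
  let y : Fin n → (Fin n → A) ⊗[R] A := fun j =>
    ∑ i, ((LinearMap.single R (fun _ : Fin n => A) i).rTensor A) (N i j)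
  have hy : ∀ j, (dd M).rTensor A (y j) = 0 := by
    intro j
    apply eq_zero_of_proj
    intro k
    rw [← LinearMap.comp_apply, ← LinearMap.rTensor_comp]
    have hpk : (LinearMap.proj k : (Fin n → A ⊗[R] A) →ₗ[R] A ⊗[R] A) ∘ₗ dd M = ddk M k := rfl
    rw [hpk]
    simp only [y, map_sum]
    have hterm : ∀ i, (ddk M k).rTensor A
        (((LinearMap.single R (fun _ : Fin n => A) i).rTensor A) (N i j)) =
        (if k = i then J23 R A (N i j) else 0) - J12 R A (M k i) * J13 R A (N i j) := by
      intro i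
      rw [← LinearMap.comp_apply, ← LinearMap.rTensor_comp, ddk_comp_single,
        LinearMap.rTensor_sub, LinearMap.sub_apply, rTensor_mulLeft_includeLeft]
      congr 1
      split_ifs
      · exact rTensor_includeRight _
      · simp
    simp only [hterm, Finset.sum_sub_distrib]
    rw [Finset.sum_ite_eq Finset.univ k (fun i => J23 R A (N i j))]
    simp only [Finset.mem_univ, if_true]
    have h1 := congrFun (congrFun hinv k) j
    simp only [RingHom.mapMatrix_apply, Matrix.mul_apply, Matrix.map_apply] at h1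
    rw [sub_eq_zero]
    exact h1.symm
  -- flatness: `y j` comes from `ker ⊗ A`
  have hex : Function.Exact ((LinearMap.ker (dd M)).subtype.rTensor A) ((dd M).rTensor A) :=
    Module.Flat.rTensor_exact A (LinearMap.exact_subtype_ker_map (dd M))
  let K : Submodule R (Fin n → A) := LinearMap.ker (dd M)
  let S : Submodule A (Fin n → A) := Submodule.span A (K : Set (Fin n → A))
  have hS : ∀ z : K ⊗[R] A, mult (R := R) (K.subtype.rTensor A z) ∈ S := by
    intro z
    induction z using TensorProduct.induction_on with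
    | zero => simp
    | add x y hx hy => simp only [map_add]; exact S.add_mem hx hy
    | tmul m a =>
      rw [LinearMap.rTensor_tmul, mult_tmul]
      exact S.smul_mem a (Submodule.subset_span m.2)
  have hsingle : ∀ j : Fin n, (Pi.single j (1 : A) : Fin n → A) ∈ S := by
    intro j
    obtain ⟨z, hz⟩ := (hex (y j)).mp (hy j)
    have h1 := hS z
    rw [hz] at h1
    have h2 : mult (R := R) (y j) = Pi.single j (1 : A) := by
      simp only [y, map_sum, mult_single]
      have h3 : ∀ i, Algebra.TensorProduct.lmul' R (N i j) = if i = j then (1 : A) else 0 := by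
        intro i
        have := congrFun (congrFun hμN i) j
        simpa [RingHom.mapMatrix_apply, Matrix.one_apply] using this
      simp only [h3]
      rw [Finset.sum_eq_single j]
      · simp
      · intro i _ hij
        simp [hij]
      · intro hj
        exact absurd (Finset.mem_univ j) hj
    rwa [h2] at h1
  have hStop : S = ⊤ := by
    rw [eq_top_iff, ← (Pi.basisFun A (Fin n)).span_eq]
    apply Submodule.span_le.mpr
    rintro _ ⟨j, rfl⟩
    rw [Pi.basisFun_apply]
    exact hsingle j
  -- extract a basis consisting of elements of `K`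
  have hv : Submodule.span A (Set.range (Subtype.val : K → (Fin n → A))) = ⊤ := by
    rw [Subtype.range_coe]
    exact hStop
  obtain ⟨κ, a, b, hb⟩ := Module.exists_basis_of_span_of_flat (Subtype.val : K → (Fin n → A)) hv
  let e : κ ≃ Fin n := b.indexEquiv (Pi.basisFun A (Fin n))
  let b' : Module.Basis (Fin n) A (Fin n → A) := b.reindex e
  have hb' : ∀ j, b' j ∈ K := by
    intro j
    have : b' j = ((a (e.symm j) : K) : Fin n → A) := by
      simp only [b', Module.Basis.reindex_apply]
      exact hb _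
    rw [this]
    exact (a (e.symm j)).2
  refine ⟨(Pi.basisFun A (Fin n)).toMatrix b', b'.toMatrix (Pi.basisFun A (Fin n)),
    Module.Basis.toMatrix_mul_toMatrix_flip _ _, Module.Basis.toMatrix_mul_toMatrix_flip _ _, ?_⟩
  ext i j
  have hK : dd M (b' j) = 0 := hb' j
  have hKi : ddk M i (b' j) = 0 := congrFun hK i
  rw [ddk_apply, sub_eq_zero] at hKi
  simp only [RingHom.mapMatrix_apply, Matrix.mul_apply, Matrix.map_apply,
    Module.Basis.toMatrix_apply, Pi.basisFun_repr]
  exact hKi

end Groth.Agent.Lib.Helper16.Hilbert90Mat
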