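import Mathlib

/-!
# Hochschild's identity `(fD)^p = f^p D^p + (fδ)^{p-1}(f) D` : abstract operator calculus
-/

namespace Groth.Agent.Lib.Helper16.Hoch

open Finset

lemma pascal_sum {G : Type*} [AddCommMonoid G] (T : ℕ → ℕ → G) (n : ℕ) :
    ∑ j ∈ range (n+2), (n+1).choose j • T (n+1-j) j =
      ∑ j ∈ range (n+1), n.choose j • T (n-j) (j+1) +
        ∑ j ∈ range (n+1), n.choose j • T (n+1-j) j := by
  have h1 : ∑ j ∈ range (n+2), (n+1).choose j • T (n+1-j) j =
      ∑ j ∈ range (n+1), (n+1).choose (j+1) • T (n-j) (j+1) + T (n+1) 0 := by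
    rw [sum_range_succ' _ (n+1)]
    simp [Nat.succ_sub_succ]
  have h2 : ∑ j ∈ range (n+1), n.choose j • T (n+1-j) j =
      ∑ j ∈ range n, n.choose (j+1) • T (n-j) (j+1) + T (n+1) 0 := by
    rw [sum_range_succ' _ n]
    simp [Nat.succ_sub_succ]
  have h3 : ∑ j ∈ range (n+1), n.choose (j+1) • T (n-j) (j+1) =
      ∑ j ∈ range n, n.choose (j+1) • T (n-j) (j+1) := by
    rw [sum_range_succ _ n]
    simp
  rw [h1, h2]
  simp_rw [Nat.choose_succ_succ, add_smul, sum_add_distrib]
  rw [h3, add_assoc]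

section abstract

variable {B : Type*} [CommRing B] {E : Type*} [Ring E] (ι : B →+* E) (D : E) (δ : B →+ B)
  (hD : ∀ b, D * ι b = ι b * D + ι (δ b))

include hD in
/-- Leibniz: `D^n b = Σ C(n,j) δ^{n-j}(b) D^j`. -/
lemma pow_mul_iota (n : ℕ) : ∀ b : B, D ^ n * ι b =
    ∑ j ∈ range (n+1), n.choose j • (ι (δ^[n-j] b) * D ^ j) := by
  induction n with
  | zero => intro b; simp
  | succ n ih =>
    intro b
    rw [pow_succ, mul_assoc, hD, mul_add, ← mul_assoc, ih b, ih (δ b),
      pascal_sum (fun a j => ι (δ^[a] b) * D ^ j) n, sum_mul]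
    congr 1
    · apply sum_congr rfl
      intro j _
      rw [smul_mul_assoc, mul_assoc, ← pow_succ]
    · apply sum_congr rfl
      intro j hj
      rw [mem_range] at hj
      have : n + 1 - j = (n - j) + 1 := by omega
      rw [this, Function.iterate_succ_apply]

end abstract

end Groth.Agent.Lib.Helper16.Hoch
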