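import Groth.Agent.Lib.Helper16.Hoch1

namespace Groth.Agent.Lib.Helper16.Hoch

open Finset

section coef

variable {B : Type*} [CommRing B] (f : B) (δ : B →+ B)

/-- the coefficients of `(fD)^k = Σ a_{k,i} D^i`. -/
def acoef : ℕ → ℕ → B
  | 0, 0 => 1
  | 0, _+1 => 0
  | k+1, 0 => f * δ (acoef k 0)
  | k+1, i+1 => f * acoef k i + f * δ (acoef k (i+1))

lemma acoef_gt : ∀ (k i : ℕ), k < i → acoef f δ k i = 0
  | 0, 0, h => by omega
  | 0, i+1, _ => by simp [acoef]
  | k+1, 0, h => by omega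
  | k+1, i+1, h => by
      rw [acoef, acoef_gt k i (by omega), acoef_gt k (i+1) (by omega)]
      simp

lemma acoef_diag : ∀ k : ℕ, acoef f δ k k = f ^ k
  | 0 => by simp [acoef]
  | k+1 => by
      rw [acoef, acoef_diag k, acoef_gt f δ k (k+1) (by omega)]
      simp [pow_succ, mul_comm]

lemma acoef_col_zero (hδ1 : δ 1 = 0) : ∀ k : ℕ, 1 ≤ k → acoef f δ k 0 = 0
  | 0, h => by omega
  | 1, _ => by simp [acoef, hδ1]
  | k+2, _ => by
      rw [acoef, acoef_col_zero hδ1 (k+1) (by omega)]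
      simp

lemma acoef_col_one (hδ1 : δ 1 = 0) : ∀ k : ℕ, acoef f δ (k+1) 1 = (fun b => f * δ b)^[k] f
  | 0 => by simp [acoef]
  | k+1 => by
      rw [acoef, acoef_col_zero f δ hδ1 (k+1) (by omega), acoef_col_one hδ1 k,
        Function.iterate_succ_apply']
      simp

end coef

section expansion

variable {B : Type*} [CommRing B] {E : Type*} [Ring E] (ι : B →+* E) (D : E) (δ : B →+ B)
  (hD : ∀ b, D * ι b = ι b * D + ι (δ b)) (f : B)

include hD in
lemma fD_pow (k : ℕ) : (ι f * D) ^ k = ∑ i ∈ range (k+1), ι (acoef f δ k i) * D ^ i := by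
  induction k with
  | zero => simp [acoef]
  | succ k ih =>
    rw [pow_succ', ih, mul_sum]
    have h1 : ∀ i ∈ range (k+1), ι f * D * (ι (acoef f δ k i) * D ^ i) =
        ι (f * acoef f δ k i) * D ^ (i+1) + ι (f * δ (acoef f δ k i)) * D ^ i := by
      intro i _
      rw [mul_assoc (ι f), ← mul_assoc D, hD, add_mul, mul_add, map_mul, map_mul, pow_succ']
      simp only [mul_assoc]
    rw [sum_congr rfl h1, sum_add_distrib, sum_range_succ' _ (k+1)]
    have h2 : ∑ i ∈ range (k+1), ι (f * δ (acoef f δ k i)) * D ^ i =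
        ∑ i ∈ range (k+1), ι (f * δ (acoef f δ k (i+1))) * D ^ (i+1) +
          ι (f * δ (acoef f δ k 0)) * D ^ 0 := by
      rw [← sum_range_succ' (fun i => ι (f * δ (acoef f δ k i)) * D ^ i) (k+1),
        sum_range_succ _ (k+1), acoef_gt f δ k (k+1) (by omega)]
      simp
    rw [h2, ← add_assoc, ← sum_add_distrib]
    congr 1
    apply sum_congr rfl
    intro i _
    rw [acoef, map_add, add_mul]

include hD in
/-- Hochschild's identity, assuming the middle coefficients vanish. -/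
lemma fD_pow_p (hδ1 : δ 1 = 0) (p : ℕ) (hp : 2 ≤ p)
    (hvan : ∀ i, 2 ≤ i → i < p → acoef f δ p i = 0) :
    (ι f * D) ^ p = ι (f ^ p) * D ^ p + ι ((fun b => f * δ b)^[p-1] f) * D := by
  rw [fD_pow ι D δ hD f p, sum_range_succ, acoef_diag]
  obtain ⟨q, rfl⟩ : ∃ q, p = q + 2 := ⟨p - 2, by omega⟩
  rw [sum_range_succ', sum_range_succ', acoef_col_zero f δ hδ1 (q+2) (by omega)]
  have : ∑ i ∈ range q, ι (acoef f δ (q+2) (i+1+1)) * D ^ (i+1+1) = 0 := by
    apply sum_eq_zero
    intro i hi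
    rw [mem_range] at hi
    rw [hvan (i+1+1) (by omega) (by omega)]
    simp
  rw [this, acoef_col_one f δ hδ1]
  simp [add_comm]

end expansion

end Groth.Agent.Lib.Helper16.Hoch
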