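import Groth.Agent.Lib.Helper16.Hoch2

/-!
# The universal differential polynomial ring and independence of `δ^j`
-/

namespace Groth.Agent.Lib.Helper16.Hoch

open Finset MvPolynomial

variable (p : ℕ) [Fact p.Prime]

/-- the universal differential ring `F_p[f_0, f_1, ...]`. -/
abbrev Bu := MvPolynomial ℕ (ZMod p)

/-- the universal derivation `f_i ↦ f_{i+1}`. -/
noncomputable def du : Derivation (ZMod p) (Bu p) (Bu p) :=
  MvPolynomial.mkDerivation (ZMod p) (fun i => (X (i+1) : Bu p))

/-- `δ` as an additive map. -/
noncomputable def duA : Bu p →+ Bu p := ((du p : Bu p →ₗ[ZMod p] Bu p) : Bu p →+ Bu p)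

/-- `D` as an endomorphism. -/
noncomputable def Du : Module.End (ZMod p) (Bu p) := (du p : Bu p →ₗ[ZMod p] Bu p)

/-- multiplication operators. -/
noncomputable def iu : Bu p →+* Module.End (ZMod p) (Bu p) :=
  (Algebra.lmul (ZMod p) (Bu p) : Bu p →ₐ[ZMod p] Module.End (ZMod p) (Bu p))

lemma iu_apply (b x : Bu p) : iu p b x = b * x := rfl

lemma Du_apply (x : Bu p) : Du p x = du p x := rfl

lemma duA_apply (x : Bu p) : duA p x = du p x := rfl

lemma du_X (i : ℕ) : du p (X i) = X (i+1) := by
  unfold du
  rw [mkDerivation_X]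

lemma hDu (b : Bu p) : Du p * iu p b = iu p b * Du p + iu p (duA p b) := by
  apply LinearMap.ext
  intro x
  simp only [Module.End.mul_apply, LinearMap.add_apply, iu_apply, Du_apply, duA_apply,
    Derivation.leibniz, smul_eq_mul]
  ring

lemma duA_one : duA p 1 = 0 := by
  rw [duA_apply]
  exact Derivation.map_one_eq_zero _

lemma Du_pow_X (j K : ℕ) : (Du p ^ j) (X K) = X (K + j) := by
  induction j with
  | zero => simp
  | succ j ih =>
    rw [pow_succ', Module.End.mul_apply, ih, Du_apply, du_X]
    rfl

lemma duA_iter_X (j K : ℕ) : (duA p)^[j] (X K) = X (K + j) := by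
  induction j with
  | zero => simp
  | succ j ih =>
    rw [Function.iterate_succ_apply', ih, duA_apply, du_X]
    rfl

/-- independence of the operators `D^j` over multiplication operators. -/
lemma indep (N : ℕ) (e : ℕ → Bu p)
    (h : ∑ j ∈ range N, iu p (e j) * Du p ^ j = 0) : ∀ j, j < N → e j = 0 := by
  classical
  set S : Finset ℕ := (range N).biUnion (fun j => (e j).vars) with hS
  set K := S.sup id + 1 with hK
  have hvars : ∀ j, j < N → ∀ m, K ≤ m → pderiv m (e j) = 0 := by
    intro j hj m hm
    apply pderiv_eq_zero_of_notMem_vars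
    intro hmem
    have : m ∈ S := by
      rw [hS, mem_biUnion]
      exact ⟨j, mem_range.2 hj, hmem⟩
    have := Finset.le_sup (f := id) this
    simp only [id] at this
    omega
  have h1 := congrArg (fun T : Module.End (ZMod p) (Bu p) => T (X K)) h
  simp only [LinearMap.sum_apply, Module.End.mul_apply, LinearMap.zero_apply, iu_apply,
    Du_pow_X] at h1
  intro j0 hj0
  have h2 := congrArg (pderiv (K + j0)) h1
  rw [map_sum, map_zero] at h2
  rw [sum_eq_single j0] at h2
  · rw [Derivation.leibniz, pderiv_X_self, hvars j0 hj0 _ (by omega)] at h2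
    simpa using h2
  · intro j hj hne
    rw [mem_range] at hj
    rw [Derivation.leibniz, hvars j hj _ (by omega), pderiv_X_of_ne (by omega)]
    simp
  · intro hn
    exfalso; exact hn (mem_range.2 hj0)

end Groth.Agent.Lib.Helper16.Hoch
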