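import Groth.Agent.Lib.Helper16.Hoch3

namespace Groth.Agent.Lib.Helper16.Hoch

open Finset MvPolynomial

lemma sum_choose_prime {G : Type*} [AddCommGroup G] (p : ℕ) [hp : Fact p.Prime]
    (hG : ∀ x : G, p • x = 0) (T : ℕ → G) :
    ∑ j ∈ range (p+1), p.choose j • T j = T 0 + T p := by
  obtain ⟨q, hq⟩ : ∃ q, p = q + 1 := ⟨p - 1, by have := hp.out.one_lt; omega⟩
  have hmid : ∑ j ∈ range q, p.choose (j+1) • T (j+1) = 0 := by
    apply sum_eq_zero
    intro j hj
    rw [mem_range] at hj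
    obtain ⟨m, hm⟩ := hp.out.dvd_choose_self (k := j+1) (by omega) (by omega)
    rw [hm, mul_nsmul, hG, smul_zero]
  rw [sum_range_succ]
  have h1 : ∑ j ∈ range p, p.choose j • T j =
      ∑ j ∈ range q, p.choose (j+1) • T (j+1) + p.choose 0 • T 0 := by
    conv_lhs => rw [hq]
    rw [sum_range_succ', ← hq]
  rw [h1, hmid]
  simp

variable (p : ℕ) [Fact p.Prime]

lemma end_char (x : Module.End (ZMod p) (Bu p)) : p • x = 0 := by
  rw [← Nat.cast_smul_eq_nsmul (ZMod p), ZMod.natCast_self, zero_smul]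

/-- the operator `L = f D`, `f = X 0`. -/
noncomputable def Lu : Module.End (ZMod p) (Bu p) := iu p (X 0) * Du p

/-- the derivation `f δ` as an additive map. -/
noncomputable def dL : Bu p →+ Bu p := (AddMonoidHom.mulLeft (X 0 : Bu p)).comp (duA p)

lemma dL_apply (b : Bu p) : dL p b = X 0 * duA p b := rfl

lemma hLu (b : Bu p) : Lu p * iu p b = iu p b * Lu p + iu p (dL p b) := by
  unfold Lu
  rw [mul_assoc, hDu, mul_add, ← mul_assoc, ← mul_assoc, ← map_mul, ← map_mul, ← map_mul,
    mul_comm (X 0) b, dL_apply]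

lemma Lu_pow_comm (b : Bu p) :
    Lu p ^ p * iu p b = iu p ((dL p)^[p] b) + iu p b * Lu p ^ p := by
  rw [pow_mul_iota (iu p) (Lu p) (dL p) (hLu p) p b,
    sum_choose_prime p (end_char p) (fun j => iu p ((dL p)^[p-j] b) * Lu p ^ j)]
  simp

/-- the coefficients `a_{p,i}` in the universal ring. -/
noncomputable def au (i : ℕ) : Bu p := acoef (X 0 : Bu p) (duA p) p i

lemma Lu_pow : Lu p ^ p = ∑ i ∈ range (p+1), iu p (au p i) * Du p ^ i :=
  fD_pow (iu p) (Du p) (duA p) (hDu p) (X 0) p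

lemma Lu_pow_mul (b : Bu p) : Lu p ^ p * iu p b =
    ∑ j ∈ range (p+1), iu p (∑ i ∈ range (p+1), i.choose j • (au p i * (duA p)^[i-j] b)) *
      Du p ^ j := by
  rw [Lu_pow, sum_mul]
  have h1 : ∀ i ∈ range (p+1), iu p (au p i) * Du p ^ i * iu p b =
      ∑ j ∈ range (p+1), iu p (i.choose j • (au p i * (duA p)^[i-j] b)) * Du p ^ j := by
    intro i hi
    rw [mem_range] at hi
    rw [mul_assoc, pow_mul_iota (iu p) (Du p) (duA p) (hDu p) i b, mul_sum]
    rw [← sum_subset (range_subset_range.2 (by omega : i + 1 ≤ p + 1))]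
    · apply sum_congr rfl
      intro j _
      rw [mul_smul_comm, ← mul_assoc, ← map_mul, map_nsmul, smul_mul_assoc]
    · intro j _ hj
      rw [mem_range] at hj
      rw [Nat.choose_eq_zero_of_lt (by omega)]
      simp
  rw [sum_congr rfl h1, sum_comm]
  apply sum_congr rfl
  intro j _
  rw [map_sum, sum_mul]

lemma coeff_eq (b : Bu p) (j : ℕ) (hj1 : 1 ≤ j) (hjp : j ≤ p) :
    ∑ i ∈ range (p+1), i.choose j • (au p i * (duA p)^[i-j] b) = b * au p j := by
  have h := Lu_pow_comm p b
  rw [Lu_pow_mul, Lu_pow, mul_sum] at h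
  set e : ℕ → Bu p := fun j =>
    ∑ i ∈ range (p+1), i.choose j • (au p i * (duA p)^[i-j] b) - b * au p j -
      (if j = 0 then (dL p)^[p] b else 0) with he
  have hsum : ∑ j ∈ range (p+1), iu p (e j) * Du p ^ j = 0 := by
    simp only [he, map_sub, sub_mul, sum_sub_distrib]
    rw [h]
    have h3 : ∑ j ∈ range (p+1), iu p (if j = 0 then (dL p)^[p] b else 0) * Du p ^ j =
        iu p ((dL p)^[p] b) := by
      rw [sum_eq_single 0]
      · simp
      · intro j _ hj0
        simp [hj0]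
      · intro h0
        exfalso; exact h0 (mem_range.2 (by omega))
    rw [h3]
    have h4 : ∀ j ∈ range (p+1), iu p b * (iu p (au p j) * Du p ^ j) =
        iu p (b * au p j) * Du p ^ j := by
      intro j _
      rw [← mul_assoc, ← map_mul]
    rw [sum_congr rfl h4]
    abel
  have := indep p (p+1) e hsum j (by omega)
  simp only [he] at this
  have hj0 : j ≠ 0 := by omega
  rw [if_neg hj0, sub_zero, sub_eq_zero] at this
  exact this

end Groth.Agent.Lib.Helper16.Hoch
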