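import Groth.Agent.Lib.Helper16.Hoch4

namespace Groth.Agent.Lib.Helper16.Hoch

open Finset MvPolynomial

variable (p : ℕ) [Fact p.Prime]

lemma nsmul_eq_zero_of_dvd (n : ℕ) (h : p ∣ n) (x : Bu p) : n • x = 0 := by
  rw [← Nat.cast_smul_eq_nsmul (ZMod p), (ZMod.natCast_eq_zero_iff n p).2 h, zero_smul]

lemma natCast_ne_zero_Bu (i : ℕ) (h0 : 0 < i) (hi : i < p) : (i : Bu p) ≠ 0 := by
  have : (i : Bu p) = C (i : ZMod p) := by simp
  rw [this]
  intro h
  have h2 : (i : ZMod p) = 0 := by
    have := (C_injective ℕ (ZMod p)) (by rw [h, map_zero] : C (i : ZMod p) = C 0)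
    exact this
  rw [ZMod.natCast_eq_zero_iff] at h2
  exact absurd (Nat.le_of_dvd h0 h2) (by omega)

/-- the universal vanishing of the middle coefficients. -/
theorem au_vanish : ∀ d i : ℕ, 2 ≤ i → i < p → p - i ≤ d → au p i = 0 := by
  intro d
  induction d with
  | zero => intro i _ hi hd; omega
  | succ d ih =>
    intro i h2 hi hd
    have hce := coeff_eq p (X 0) (i - 1) (by omega) (by omega)
    simp only [duA_iter_X, zero_add] at hce
    rw [sum_eq_add (i - 1) i (by omega)] at hce
    · have e1 : i - (i - 1) = 1 := by omega
      have e2 : i.choose (i - 1) = i := by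
        have := Nat.choose_symm (n := i) (k := 1) (by omega)
        rw [this, Nat.choose_one_right]
      rw [Nat.choose_self, one_smul, Nat.sub_self, e1, e2, mul_comm (au p (i-1)) (X 0)] at hce
      have h3 : i • (au p i * X 1) = 0 := by
        have := hce
        rwa [add_eq_left] at this
      rw [nsmul_eq_mul, ← mul_assoc] at h3
      rcases mul_eq_zero.1 h3 with h4 | h4
      · rcases mul_eq_zero.1 h4 with h5 | h5
        · exact absurd h5 (natCast_ne_zero_Bu p i (by omega) hi)
        · exact h5
      · exact absurd h4 (X_ne_zero 1)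
    · intro c hc hne
      rw [mem_range] at hc
      rcases Nat.lt_or_ge c (i - 1) with h | h
      · rw [Nat.choose_eq_zero_of_lt h, zero_smul]
      · have hci : i < c := by omega
        rcases Nat.lt_or_ge c p with h' | h'
        · rw [ih c (by omega) h' (by omega)]
          simp
        · have : c = p := by omega
          subst this
          apply nsmul_eq_zero_of_dvd
          exact (Fact.out : c.Prime).dvd_choose_self (by omega) (by omega)
    · intro h
      exfalso; exact h (mem_range.2 (by omega))
    · intro h
      exfalso; exact h (mem_range.2 (by omega))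

theorem au_vanish' (i : ℕ) (h2 : 2 ≤ i) (hi : i < p) : au p i = 0 :=
  au_vanish p p i h2 hi (by omega)

end Groth.Agent.Lib.Helper16.Hoch
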