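import Groth.Agent.Lib.Helper16.Hoch5

namespace Groth.Agent.Lib.Helper16.Hoch

open Finset MvPolynomial

variable (p : ℕ) [Fact p.Prime]

section transfer

variable {B : Type*} [CommRing B] [CharP B p] (δ : B →+ B)
  (hδ : ∀ x y, δ (x * y) = x * δ y + y * δ x) (f : B)

include hδ in
lemma delta_one : δ 1 = 0 := by
  have := hδ 1 1
  simp only [mul_one, one_mul] at this
  have h2 : δ 1 + 0 = δ 1 + δ 1 := by rw [add_zero]; exact this
  exact (add_left_cancel h2).symm

include hδ in
lemma delta_natCast (n : ℕ) : δ (n : B) = 0 := by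
  have : (n : B) = n • (1 : B) := by simp
  rw [this, map_nsmul, delta_one δ hδ, smul_zero]

/-- the specialization map from the universal differential ring. -/
noncomputable def phi : Bu p →+* B :=
  MvPolynomial.eval₂Hom (ZMod.castHom (dvd_refl p) B) (fun i => δ^[i] f)

lemma phi_X (i : ℕ) : phi p δ f (X i) = δ^[i] f := by
  unfold phi
  simp

lemma phi_C (a : ZMod p) : phi p δ f (C a) = ZMod.castHom (dvd_refl p) B a := by
  unfold phi
  simp

include hδ in
lemma phi_du (x : Bu p) : phi p δ f (duA p x) = δ (phi p δ f x) := by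
  induction x using MvPolynomial.induction_on with
  | C a =>
    rw [duA_apply, phi_C]
    have h1 : du p (C a) = 0 := by
      have := Derivation.map_algebraMap (du p) a
      rwa [MvPolynomial.algebraMap_eq] at this
    rw [h1, map_zero]
    have h2 : (ZMod.castHom (dvd_refl p) B) a = ((a.val : ℕ) : B) := by
      conv_lhs => rw [← ZMod.natCast_zmod_val a]
      rw [map_natCast]
    rw [h2, delta_natCast δ hδ]
  | add x y hx hy => rw [map_add, map_add, hx, hy, map_add, map_add]
  | mul_X x i hx =>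
    rw [duA_apply, Derivation.leibniz, du_X, smul_eq_mul, smul_eq_mul, map_add, map_mul, map_mul,
      map_mul, phi_X, phi_X, hδ, ← duA_apply, hx, Function.iterate_succ_apply']

include hδ in
lemma phi_acoef : ∀ k i : ℕ, phi p δ f (acoef (X 0 : Bu p) (duA p) k i) = acoef f δ k i
  | 0, 0 => by simp [acoef]
  | 0, i+1 => by simp [acoef]
  | k+1, 0 => by
      rw [acoef, acoef, map_mul, phi_du p δ hδ, phi_acoef k 0, phi_X]
      rfl
  | k+1, i+1 => by
      rw [acoef, acoef, map_add, map_mul, map_mul, phi_du p δ hδ, phi_acoef k i,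
        phi_acoef k (i+1), phi_X]
      rfl

include hδ in
theorem acoef_vanish (i : ℕ) (h2 : 2 ≤ i) (hi : i < p) : acoef f δ p i = 0 := by
  rw [← phi_acoef p δ hδ f p i]
  have := au_vanish' p i h2 hi
  unfold au at this
  rw [this, map_zero]

end transfer

/-- **Hochschild's identity.** -/
theorem hochschild {B : Type*} [CommRing B] [CharP B p] {E : Type*} [Ring E] (ι : B →+* E)
    (D : E) (δ : B →+ B) (hδ : ∀ x y, δ (x * y) = x * δ y + y * δ x)
    (hD : ∀ b, D * ι b = ι b * D + ι (δ b)) (f : B) :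
    (ι f * D) ^ p = ι (f ^ p) * D ^ p + ι ((fun b => f * δ b)^[p-1] f) * D :=
  fD_pow_p ι D δ hD f (delta_one δ hδ) p (Fact.out : p.Prime).two_le
    (fun i h2 hi => acoef_vanish p δ hδ f i h2 hi)

/-- Leibniz for the `p`-th power in characteristic `p`. -/
theorem pow_p_comm {B : Type*} [CommRing B] {E : Type*} [Ring E] (ι : B →+* E)
    (D : E) (δ : B →+ B) (hD : ∀ b, D * ι b = ι b * D + ι (δ b)) (hE : ∀ x : E, p • x = 0)
    (b : B) : D ^ p * ι b = ι (δ^[p] b) + ι b * D ^ p := by
  rw [pow_mul_iota ι D δ hD p b, sum_choose_prime p hE (fun j => ι (δ^[p-j] b) * D ^ j)]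
  simp

end Groth.Agent.Lib.Helper16.Hoch
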