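import Mathlib

/-!
# Two-variable integer power series: nonnegativity, positivity and support bounds
-/

set_option autoImplicit false

namespace Helper16.HodgeSer

open MvPowerSeries Finsupp

/-- the ring `ℤ[[y, z]]` -/
abbrev S := MvPowerSeries (Fin 2) ℤ

/-- the exponent `(u, v)` -/
noncomputable def e (u v : ℕ) : Fin 2 →₀ ℕ := single 0 u + single 1 v

@[simp] lemma e_zero (u v : ℕ) : e u v 0 = u := by simp [e]
@[simp] lemma e_one (u v : ℕ) : e u v 1 = v := by simp [e]

lemma ext2 {m n : Fin 2 →₀ ℕ} (h0 : m 0 = n 0) (h1 : m 1 = n 1) : m = n := by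
  ext i
  fin_cases i
  · exact h0
  · exact h1

lemma eq_e (m : Fin 2 →₀ ℕ) : m = e (m 0) (m 1) := ext2 (by simp) (by simp)

lemma e_add (u v u' v' : ℕ) : e u v + e u' v' = e (u + u') (v + v') :=
  ext2 (by simp) (by simp)

lemma e_inj {u v u' v' : ℕ} : e u v = e u' v' ↔ u = u' ∧ v = v' := by
  constructor
  · intro h
    exact ⟨by simpa using DFunLike.congr_fun h 0, by simpa using DFunLike.congr_fun h 1⟩
  · rintro ⟨rfl, rfl⟩; rfl

lemma e_zero_zero : e 0 0 = 0 := ext2 (by simp) (by simp)

lemma sum_e {ι : Type*} (s : Finset ι) (f g : ι → ℕ) :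
    ∑ i ∈ s, e (f i) (g i) = e (∑ i ∈ s, f i) (∑ i ∈ s, g i) := by
  classical
  induction s using Finset.induction_on with
  | empty => simp [e_zero_zero]
  | insert a s ha ih => rw [Finset.sum_insert ha, Finset.sum_insert ha, Finset.sum_insert ha, ih, e_add]

/-- the term `c y^u z^v` as a monomial -/
lemma term_eq (n : ℕ) (u v : ℕ) :
    (n : S) * X 0 ^ u * X 1 ^ v = monomial (e u v) (n : ℤ) := by
  rw [X_pow_eq, X_pow_eq, mul_assoc, monomial_mul_monomial, mul_one]
  have : (n : S) = monomial (0 : Fin 2 →₀ ℕ) (n : ℤ) := by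
    rw [monomial_zero_eq_C_apply]; simp
  rw [this, monomial_mul_monomial, zero_add, mul_one]
  rfl

/-- coefficient of a double sum of monomials -/
lemma coeff_double_sum (B : ℕ) (F : ℕ → ℕ → ℤ) (m : Fin 2 →₀ ℕ) :
    coeff m (∑ u ∈ Finset.range B, ∑ v ∈ Finset.range B, (monomial (e u v) (F u v) : S))
      = if m 0 < B ∧ m 1 < B then F (m 0) (m 1) else 0 := by
  classical
  rw [map_sum]
  simp_rw [map_sum, coeff_monomial]
  have h1 : ∀ u v : ℕ, (if m = e u v then F u v else 0)
      = if u = m 0 then (if v = m 1 then F u v else 0) else 0 := by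
    intro u v
    by_cases hu : u = m 0
    · by_cases hv : v = m 1
      · rw [if_pos hu, if_pos hv, if_pos]
        rw [hu, hv]; exact eq_e m
      · rw [if_pos hu, if_neg hv, if_neg]
        intro h
        apply hv
        rw [h]; simp
    · rw [if_neg hu, if_neg]
      intro h
      apply hu
      rw [h]; simp
  simp_rw [h1]
  by_cases h0 : m 0 < B
  · by_cases hb : m 1 < B
    · rw [if_pos ⟨h0, hb⟩]
      rw [Finset.sum_eq_single (m 0)]
      · rw [Finset.sum_eq_single (m 1)]
        · simp
        · intro v _ hv; simp [hv]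
        · intro h; exact absurd (Finset.mem_range.mpr hb) h
      · intro u _ hu
        apply Finset.sum_eq_zero
        intro v _
        rw [if_neg hu]
      · intro h; exact absurd (Finset.mem_range.mpr h0) h
    · rw [if_neg (fun h => hb h.2)]
      apply Finset.sum_eq_zero
      intro u _
      apply Finset.sum_eq_zero
      intro v hv
      have : v ≠ m 1 := by
        rintro rfl
        exact hb (Finset.mem_range.mp hv)
      simp [this]
  · rw [if_neg (fun h => h0 h.1)]
    apply Finset.sum_eq_zero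
    intro u hu
    have : u ≠ m 0 := by
      rintro rfl
      exact h0 (Finset.mem_range.mp hu)
    simp [this]

/-! ### Nonnegativity -/

/-- all coefficients are nonnegative -/
def NN (f : S) : Prop := ∀ m, 0 ≤ coeff m f

lemma NN.zero : NN 0 := fun m => by simp
lemma NN.one : NN 1 := fun m => by
  classical
  rw [coeff_one]; split_ifs <;> simp

lemma NN.monomial (m : Fin 2 →₀ ℕ) {c : ℤ} (hc : 0 ≤ c) : NN (monomial m c) := fun n => by
  classical
  rw [coeff_monomial]; split_ifs <;> simp [hc]

lemma NN.X (i : Fin 2) : NN (X i) := by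
  rw [X_def]; exact NN.monomial _ zero_le_one

lemma NN.add {f g : S} (hf : NN f) (hg : NN g) : NN (f + g) := fun m => by
  rw [map_add]; exact add_nonneg (hf m) (hg m)

lemma NN.mul {f g : S} (hf : NN f) (hg : NN g) : NN (f * g) := fun m => by
  classical
  rw [coeff_mul]
  exact Finset.sum_nonneg (fun p _ => mul_nonneg (hf _) (hg _))

lemma NN.pow {f : S} (hf : NN f) (n : ℕ) : NN (f ^ n) := by
  induction n with
  | zero => rw [pow_zero]; exact NN.one
  | succ n ih => rw [pow_succ]; exact ih.mul hf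

lemma NN.sum {ι : Type*} (s : Finset ι) (f : ι → S) (h : ∀ i ∈ s, NN (f i)) :
    NN (∑ i ∈ s, f i) := fun m => by
  rw [map_sum]; exact Finset.sum_nonneg (fun i hi => h i hi m)

lemma NN.prod {ι : Type*} (s : Finset ι) (f : ι → S) (h : ∀ i ∈ s, NN (f i)) :
    NN (∏ i ∈ s, f i) := by
  classical
  induction s using Finset.induction_on with
  | empty => rw [Finset.prod_empty]; exact NN.one
  | insert a s ha ih =>
    rw [Finset.prod_insert ha]
    exact (h a (Finset.mem_insert_self a s)).mul
      (ih (fun i hi => h i (Finset.mem_insert_of_mem hi)))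

/-- lower bound for coefficients of a product -/
lemma coeff_mul_ge {f g : S} (hf : NN f) (hg : NN g) (m n : Fin 2 →₀ ℕ) :
    coeff m f * coeff n g ≤ coeff (m + n) (f * g) := by
  classical
  rw [coeff_mul]
  have hmem : (m, n) ∈ Finset.HasAntidiagonal.antidiagonal (m + n) := by simp
  exact Finset.single_le_sum (f := fun p : (Fin 2 →₀ ℕ) × (Fin 2 →₀ ℕ) => coeff p.1 f * coeff p.2 g)
    (fun p _ => mul_nonneg (hf _) (hg _)) hmem

/-! ### Positivity at an exponent -/

/-- the coefficient at `m` is positive -/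
def Pos (f : S) (m : Fin 2 →₀ ℕ) : Prop := 0 < coeff m f

lemma Pos.mul {f g : S} (hf : NN f) (hg : NN g) {m n : Fin 2 →₀ ℕ} (h1 : Pos f m)
    (h2 : Pos g n) : Pos (f * g) (m + n) :=
  lt_of_lt_of_le (mul_pos h1 h2) (coeff_mul_ge hf hg m n)

lemma Pos.one : Pos 1 0 := by
  unfold Pos; rw [coeff_zero_one]; exact one_pos

lemma Pos.prod {ι : Type*} (s : Finset ι) (f : ι → S) (m : ι → (Fin 2 →₀ ℕ))
    (hn : ∀ i ∈ s, NN (f i)) (hp : ∀ i ∈ s, Pos (f i) (m i)) :
    Pos (∏ i ∈ s, f i) (∑ i ∈ s, m i) := by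
  classical
  induction s using Finset.induction_on with
  | empty => rw [Finset.prod_empty, Finset.sum_empty]; exact Pos.one
  | insert a s ha ih =>
    rw [Finset.prod_insert ha, Finset.sum_insert ha]
    exact Pos.mul (hn a (Finset.mem_insert_self a s))
      (NN.prod s f (fun i hi => hn i (Finset.mem_insert_of_mem hi)))
      (hp a (Finset.mem_insert_self a s))
      (ih (fun i hi => hn i (Finset.mem_insert_of_mem hi))
        (fun i hi => hp i (Finset.mem_insert_of_mem hi)))

/-! ### Support bounds -/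

/-- every exponent `(u, v)` of `f` satisfies `v ≤ (M - 1) u + c` -/
def Bd (M : ℕ) (c : ℤ) (f : S) : Prop :=
  ∀ m, coeff m f ≠ 0 → ((m 1 : ℕ) : ℤ) ≤ ((M : ℤ) - 1) * ((m 0 : ℕ) : ℤ) + c

lemma Bd.zero (M : ℕ) (c : ℤ) : Bd M c 0 := fun m h => by simp at h

lemma Bd.mono {M : ℕ} {c c' : ℤ} {f : S} (h : Bd M c f) (hc : c ≤ c') : Bd M c' f :=
  fun m hm => le_trans (h m hm) (by linarith)

lemma Bd.one (M : ℕ) : Bd M 0 1 := fun m h => by
  classical
  rw [coeff_one] at h
  have : m = 0 := by
    by_contra hne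
    rw [if_neg hne] at h
    exact h rfl
  subst this
  simp

lemma Bd.add {M : ℕ} {c : ℤ} {f g : S} (hf : Bd M c f) (hg : Bd M c g) : Bd M c (f + g) :=
  fun m h => by
    rw [map_add] at h
    by_cases h1 : coeff m f = 0
    · rw [h1, zero_add] at h; exact hg m h
    · exact hf m h1

lemma Bd.mul {M : ℕ} {c c' : ℤ} {f g : S} (hf : Bd M c f) (hg : Bd M c' g) :
    Bd M (c + c') (f * g) := fun m h => by
  classical
  rw [coeff_mul] at h
  obtain ⟨p, hp, hne⟩ := Finset.exists_ne_zero_of_sum_ne_zero h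
  have h1 : coeff p.1 f ≠ 0 := left_ne_zero_of_mul hne
  have h2 : coeff p.2 g ≠ 0 := right_ne_zero_of_mul hne
  have hm : p.1 + p.2 = m := by simpa using hp
  have b1 := hf _ h1
  have b2 := hg _ h2
  rw [← hm]
  simp only [Finsupp.add_apply, Nat.cast_add]
  linarith

lemma Bd.pow {M : ℕ} {c : ℤ} {f : S} (hf : Bd M c f) (n : ℕ) : Bd M (n * c) (f ^ n) := by
  induction n with
  | zero => simpa using Bd.one M
  | succ n ih =>
    rw [pow_succ]
    have := ih.mul hf
    convert this using 1
    push_cast; ring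

lemma Bd.sum {ι : Type*} {M : ℕ} {c : ℤ} (s : Finset ι) (f : ι → S)
    (h : ∀ i ∈ s, Bd M c (f i)) : Bd M c (∑ i ∈ s, f i) := by
  classical
  induction s using Finset.induction_on with
  | empty => rw [Finset.sum_empty]; exact Bd.zero M c
  | insert a s ha ih =>
    rw [Finset.sum_insert ha]
    exact (h a (Finset.mem_insert_self a s)).add
      (ih (fun i hi => h i (Finset.mem_insert_of_mem hi)))

lemma Bd.prod {ι : Type*} {M : ℕ} (s : Finset ι) (c : ι → ℤ) (f : ι → S)
    (h : ∀ i ∈ s, Bd M (c i) (f i)) : Bd M (∑ i ∈ s, c i) (∏ i ∈ s, f i) := by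
  classical
  induction s using Finset.induction_on with
  | empty => rw [Finset.sum_empty, Finset.prod_empty]; exact Bd.one M
  | insert a s ha ih =>
    rw [Finset.sum_insert ha, Finset.prod_insert ha]
    exact (h a (Finset.mem_insert_self a s)).mul
      (ih (fun i hi => h i (Finset.mem_insert_of_mem hi)))

lemma Bd.monomial {M : ℕ} {c : ℤ} (u v : ℕ) (a : ℤ)
    (h : (v : ℤ) ≤ ((M : ℤ) - 1) * (u : ℤ) + c) : Bd M c (monomial (e u v) a) := fun m hm => by
  classical
  rw [coeff_monomial] at hm
  have : m = e u v := by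
    by_contra hne
    rw [if_neg hne] at hm
    exact hm rfl
  subst this
  simpa using h

end Helper16.HodgeSer
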