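import Mathlib
import Groth.Agent.Lib.Helper16.HodgeSer1

/-!
# The hypersurface Hodge series `H` with `(1 - P_b) H = N_b`
-/

set_option autoImplicit false

namespace Helper16.HodgeSer

open MvPowerSeries Finsupp

/-- the denominator series `P_b` -/
noncomputable def Pser (b : ℕ) : S :=
  ∑ u ∈ Finset.range (b + 1), ∑ v ∈ Finset.range (b + 1),
    if 1 ≤ u ∧ 1 ≤ v ∧ u + v ≤ b then (b.choose (u + v) : S) * X 0 ^ u * X 1 ^ v else 0

/-- the numerator series `N_b` -/
noncomputable def Nser (b : ℕ) : S :=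
  ∑ u ∈ Finset.range b, ∑ v ∈ Finset.range b,
    if u + v + 1 ≤ b - 1 then ((b - 1).choose (u + v + 1) : S) * X 0 ^ u * X 1 ^ v else 0

lemma ite_term (c : Prop) [Decidable c] (n u v : ℕ) :
    (if c then (n : S) * X 0 ^ u * X 1 ^ v else 0)
      = monomial (e u v) (if c then (n : ℤ) else 0) := by
  split_ifs
  · exact term_eq n u v
  · simp

lemma coeff_Pser (b : ℕ) (m : Fin 2 →₀ ℕ) :
    coeff m (Pser b) = if 1 ≤ m 0 ∧ 1 ≤ m 1 ∧ m 0 + m 1 ≤ b
      then (b.choose (m 0 + m 1) : ℤ) else 0 := by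
  unfold Pser
  simp_rw [ite_term]
  rw [coeff_double_sum (b + 1)
    (fun u v => if 1 ≤ u ∧ 1 ≤ v ∧ u + v ≤ b then (b.choose (u + v) : ℤ) else 0) m]
  by_cases h : 1 ≤ m 0 ∧ 1 ≤ m 1 ∧ m 0 + m 1 ≤ b
  · rw [if_pos h, if_pos ⟨by omega, by omega⟩]
  · rw [if_neg h]
    split_ifs <;> rfl

lemma coeff_Nser (b : ℕ) (m : Fin 2 →₀ ℕ) :
    coeff m (Nser b) = if m 0 + m 1 + 1 ≤ b - 1
      then ((b - 1).choose (m 0 + m 1 + 1) : ℤ) else 0 := by
  unfold Nser
  simp_rw [ite_term]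
  rw [coeff_double_sum b
    (fun u v => if u + v + 1 ≤ b - 1 then ((b - 1).choose (u + v + 1) : ℤ) else 0) m]
  by_cases h : m 0 + m 1 + 1 ≤ b - 1
  · rw [if_pos h, if_pos ⟨by omega, by omega⟩]
  · rw [if_neg h]
    split_ifs <;> rfl

lemma NN_Pser (b : ℕ) : NN (Pser b) := fun m => by
  rw [coeff_Pser]; split_ifs
  · exact_mod_cast Nat.zero_le _
  · exact le_refl _

lemma NN_Nser (b : ℕ) : NN (Nser b) := fun m => by
  rw [coeff_Nser]; split_ifs
  · exact_mod_cast Nat.zero_le _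
  · exact le_refl _

lemma Pser_supp {b : ℕ} {m : Fin 2 →₀ ℕ} (h : coeff m (Pser b) ≠ 0) :
    1 ≤ m 0 ∧ 1 ≤ m 1 ∧ m 0 + m 1 ≤ b := by
  rw [coeff_Pser] at h
  by_contra hc
  rw [if_neg hc] at h
  exact h rfl

lemma Nser_supp {b : ℕ} {m : Fin 2 →₀ ℕ} (h : coeff m (Nser b) ≠ 0) :
    m 0 + m 1 + 1 ≤ b - 1 := by
  rw [coeff_Nser] at h
  by_contra hc
  rw [if_neg hc] at h
  exact h rfl

lemma Pos_Pser {b u v : ℕ} (hu : 1 ≤ u) (hv : 1 ≤ v) (huv : u + v ≤ b) :
    Pos (Pser b) (e u v) := by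
  unfold Pos
  rw [coeff_Pser, if_pos (by simpa using ⟨hu, hv, huv⟩)]
  simp only [e_zero, e_one]
  exact_mod_cast Nat.choose_pos huv

lemma Pos_Nser {b u v : ℕ} (huv : u + v + 1 ≤ b - 1) : Pos (Nser b) (e u v) := by
  unfold Pos
  rw [coeff_Nser, if_pos (by simpa using huv)]
  simp only [e_zero, e_one]
  exact_mod_cast Nat.choose_pos huv

section H

variable {b : ℕ} {H : S}

lemma H_eq (hH : (1 - Pser b) * H = Nser b) : H = Nser b + Pser b * H := by
  linear_combination hH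

lemma coeff_H (hH : (1 - Pser b) * H = Nser b) (m : Fin 2 →₀ ℕ) :
    coeff m H = coeff m (Nser b)
      + ∑ p ∈ Finset.HasAntidiagonal.antidiagonal m, coeff p.1 (Pser b) * coeff p.2 H := by
  classical
  conv_lhs => rw [H_eq hH]
  rw [map_add, coeff_mul]

lemma NN_H (hH : (1 - Pser b) * H = Nser b) : NN H := by
  classical
  have key : ∀ n : ℕ, ∀ m : Fin 2 →₀ ℕ, m 0 + m 1 = n → 0 ≤ coeff m H := by
    intro n
    induction n using Nat.strong_induction_on with
    | _ n ih =>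
      intro m hm
      rw [coeff_H hH]
      apply add_nonneg (NN_Nser b m)
      apply Finset.sum_nonneg
      intro p hp
      by_cases h0 : coeff p.1 (Pser b) = 0
      · rw [h0, zero_mul]
      · have hs := Pser_supp h0
        have hpm : p.1 + p.2 = m := by simpa using hp
        have h00 : p.1 0 + p.2 0 = m 0 := by rw [← hpm]; rfl
        have h11 : p.1 1 + p.2 1 = m 1 := by rw [← hpm]; rfl
        exact mul_nonneg (NN_Pser b _) (ih (p.2 0 + p.2 1) (by omega) p.2 rfl)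
  exact fun m => key _ m rfl

lemma Bd_H (hH : (1 - Pser b) * H = Nser b) {M : ℕ} (hM : b ≤ M) (hM1 : 1 ≤ M) :
    Bd M ((b : ℤ) - 2) H := by
  classical
  have hMz : (0 : ℤ) ≤ (M : ℤ) - 1 := by
    have : (1 : ℤ) ≤ (M : ℤ) := by exact_mod_cast hM1
    linarith
  have key : ∀ n : ℕ, ∀ m : Fin 2 →₀ ℕ, m 0 + m 1 = n → coeff m H ≠ 0 →
      ((m 1 : ℕ) : ℤ) ≤ ((M : ℤ) - 1) * ((m 0 : ℕ) : ℤ) + ((b : ℤ) - 2) := by
    intro n
    induction n using Nat.strong_induction_on with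
    | _ n ih =>
      intro m hm hne
      rw [coeff_H hH] at hne
      by_cases hN : coeff m (Nser b) = 0
      · rw [hN, zero_add] at hne
        obtain ⟨p, hp, hpne⟩ := Finset.exists_ne_zero_of_sum_ne_zero hne
        have h1 : coeff p.1 (Pser b) ≠ 0 := left_ne_zero_of_mul hpne
        have h2 : coeff p.2 H ≠ 0 := right_ne_zero_of_mul hpne
        have hs := Pser_supp h1
        have hpm : p.1 + p.2 = m := by simpa using hp
        have h00 : p.1 0 + p.2 0 = m 0 := by rw [← hpm]; rfl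
        have h11 : p.1 1 + p.2 1 = m 1 := by rw [← hpm]; rfl
        have IH := ih (p.2 0 + p.2 1) (by omega) p.2 rfl h2
        have hbM : (b : ℤ) ≤ (M : ℤ) := by exact_mod_cast hM
        have ha0 : (1 : ℤ) ≤ ((p.1 0 : ℕ) : ℤ) := by exact_mod_cast hs.1
        have hab : ((p.1 0 : ℕ) : ℤ) + ((p.1 1 : ℕ) : ℤ) ≤ (b : ℤ) := by exact_mod_cast hs.2.2
        have hprod : ((M : ℤ) - 1) * 1 ≤ ((M : ℤ) - 1) * ((p.1 0 : ℕ) : ℤ) :=
          mul_le_mul_of_nonneg_left ha0 hMz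
        rw [← h00, ← h11]
        push_cast
        nlinarith
      · have hs := Nser_supp hN
        have hnn : (0 : ℤ) ≤ ((M : ℤ) - 1) * ((m 0 : ℕ) : ℤ) :=
          mul_nonneg hMz (by exact_mod_cast Nat.zero_le _)
        have h2 : ((m 0 : ℕ) : ℤ) + ((m 1 : ℕ) : ℤ) + 2 ≤ (b : ℤ) := by
          have : m 0 + m 1 + 2 ≤ b := by omega
          exact_mod_cast this
        have h3 : (0 : ℤ) ≤ ((m 0 : ℕ) : ℤ) := by exact_mod_cast Nat.zero_le _
        linarith
  exact fun m hm => key _ m rfl hm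

/-- positivity of many coefficients of `H` -/
lemma Pos_H (hH : (1 - Pser b) * H = Nser b) (hb : 2 ≤ b) :
    ∀ k V w : ℕ, k ≤ V → V ≤ k * (b - 1) → w ≤ b - 2 → Pos H (e k (V + w)) := by
  have hNN := NN_H hH
  have hge1 : ∀ m, coeff m (Nser b) ≤ coeff m H := by
    intro m
    conv_rhs => rw [H_eq hH]
    rw [map_add]
    have := (NN_Pser b).mul hNN m
    linarith
  have hge2 : ∀ m, coeff m (Pser b * H) ≤ coeff m H := by
    intro m
    conv_rhs => rw [H_eq hH]
    rw [map_add]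
    have := NN_Nser b m
    linarith
  intro k
  induction k with
  | zero =>
    intro V w hV1 hV2 hw
    have hV : V = 0 := by omega
    subst hV
    rw [zero_add]
    exact lt_of_lt_of_le (Pos_Nser (by omega)) (hge1 _)
  | succ k ih =>
    intro V w hV1 hV2 hw
    -- last step `(1, v)`
    obtain ⟨v, hv1, hv2, hv3, hv4⟩ : ∃ v, 1 ≤ v ∧ v ≤ b - 1 ∧ k + v ≤ V ∧ V ≤ k * (b - 1) + v := by
      by_cases hc : V - k ≤ b - 1
      · exact ⟨V - k, by omega, hc, by omega, by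
          have : k ≤ k * (b - 1) := Nat.le_mul_of_pos_right k (by omega)
          omega⟩
      · refine ⟨b - 1, by omega, le_refl _, by omega, ?_⟩
        have : (k + 1) * (b - 1) = k * (b - 1) + (b - 1) := by ring
        omega
    have h1 := Pos_Pser (b := b) (u := 1) (v := v) le_rfl hv1 (by omega)
    have h2 := ih (V - v) w (by omega) (by omega) hw
    have h3 := Pos.mul (NN_Pser b) hNN h1 h2
    rw [e_add] at h3
    have hexp : e (1 + k) (v + (V - v + w)) = e (k + 1) (V + w) := by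
      rw [e_inj]; constructor <;> omega
    rw [hexp] at h3
    exact lt_of_lt_of_le h3 (hge2 _)

end H

end Helper16.HodgeSer
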