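import Mathlib
import Groth.Agent.Lib.Helper16.HodgeSer2

/-!
# Nonvanishing of the Hodge series coefficients of complete intersections
-/

set_option autoImplicit false

namespace Helper16.HodgeSer

open MvPowerSeries Finsupp

lemma X0_eq : (X 0 : S) = monomial (e 1 0) 1 := by
  rw [X_def]; simp [e]

lemma X1_eq : (X 1 : S) = monomial (e 0 1) 1 := by
  rw [X_def]; simp [e]

/-- the factor `(1+y)(1+z)` -/
noncomputable def yz : S := (1 + X 0) * (1 + X 1)

lemma NN_yz : NN yz := (NN.one.add (NN.X 0)).mul (NN.one.add (NN.X 1))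

lemma Bd_yz {M : ℕ} (hM : 1 ≤ M) : Bd M 1 yz := by
  have hMz : (0 : ℤ) ≤ (M : ℤ) - 1 := by
    have : (1 : ℤ) ≤ (M : ℤ) := by exact_mod_cast hM
    linarith
  have h0 : Bd M 0 (1 + X 0 : S) := by
    apply (Bd.one M).add
    rw [X0_eq]
    apply Bd.monomial
    push_cast
    linarith
  have h1 : Bd M 1 (1 + X 1 : S) := by
    apply ((Bd.one M).mono zero_le_one).add
    rw [X1_eq]
    apply Bd.monomial
    push_cast
    linarith
  have := h0.mul h1
  simpa [yz] using this

lemma Pos_yz_zero : Pos yz (e 0 0) := by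
  have h1 : Pos (1 + X 0 : S) 0 := by
    unfold Pos; rw [map_add, coeff_zero_one, coeff_zero_X]; norm_num
  have h2 : Pos (1 + X 1 : S) 0 := by
    unfold Pos; rw [map_add, coeff_zero_one, coeff_zero_X]; norm_num
  have := Pos.mul (NN.one.add (NN.X 0)) (NN.one.add (NN.X 1)) h1 h2
  rw [e_zero_zero]
  simpa [yz] using this

lemma Pos_yz_one : Pos yz (e 0 1) := by
  have h1 : Pos (1 + X 0 : S) 0 := by
    unfold Pos; rw [map_add, coeff_zero_one, coeff_zero_X]; norm_num
  have h2 : Pos (1 + X 1 : S) (e 0 1) := by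
    unfold Pos
    have hne : (e 0 1 : Fin 2 →₀ ℕ) ≠ 0 := by
      intro h
      have := DFunLike.congr_fun h 1
      simp at this
    classical
    rw [map_add, coeff_one, if_neg hne, X1_eq, coeff_monomial_same]; norm_num
  have := Pos.mul (NN.one.add (NN.X 0)) (NN.one.add (NN.X 1)) h1 h2
  rw [zero_add] at this
  simpa [yz] using this

lemma Pos_yz_pow (n W : ℕ) (hW : W ≤ n) : Pos (yz ^ n) (e 0 W) := by
  induction n generalizing W with
  | zero =>
    have : W = 0 := by omega
    subst this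
    rw [pow_zero, e_zero_zero]; exact Pos.one
  | succ n ih =>
    rw [pow_succ]
    by_cases h : W ≤ n
    · have := Pos.mul (NN_yz.pow n) NN_yz (ih W h) Pos_yz_zero
      rwa [e_add] at this
    · have hW' : W = n + 1 := by omega
      subst hW'
      have := Pos.mul (NN_yz.pow n) NN_yz (ih n le_rfl) Pos_yz_one
      rwa [e_add] at this

lemma split3 (p q A C n : ℕ) (h1 : p ≤ q) (h2 : p ≤ A) (h3 : q ≤ A + C + n) :
    ∃ V W1 W2, p ≤ V ∧ V ≤ A ∧ W1 ≤ C ∧ W2 ≤ n ∧ V + W1 + W2 = q := by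
  by_cases hA : q ≤ A
  · exact ⟨q, 0, 0, h1, hA, Nat.zero_le _, Nat.zero_le _, by omega⟩
  · by_cases hC : q ≤ A + C
    · exact ⟨A, q - A, 0, h2, le_rfl, by omega, Nat.zero_le _, by omega⟩
    · exact ⟨A, C, q - A - C, h2, le_rfl, le_rfl, by omega, by omega⟩

lemma exists_split {ι : Type*} [DecidableEq ι] (s : Finset ι) (c : ι → ℕ) :
    ∀ W : ℕ, W ≤ ∑ i ∈ s, c i → ∃ w : ι → ℕ, (∀ i ∈ s, w i ≤ c i) ∧ ∑ i ∈ s, w i = W := by
  induction s using Finset.induction_on with
  | empty =>
    intro W hW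
    refine ⟨fun _ => 0, by simp, ?_⟩
    simp at hW ⊢
    omega
  | insert a s ha ih =>
    intro W hW
    rw [Finset.sum_insert ha] at hW
    obtain ⟨w, hw1, hw2⟩ := ih (W - min W (c a)) (by omega)
    refine ⟨Function.update w a (min W (c a)), ?_, ?_⟩
    · intro i hi
      rcases Finset.mem_insert.mp hi with rfl | hi
      · rw [Function.update_self]; exact min_le_right _ _
      · have : i ≠ a := fun h => ha (h ▸ hi)
        rw [Function.update_of_ne this]; exact hw1 i hi
    · rw [Finset.sum_insert ha, Function.update_self]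
      have : ∑ i ∈ s, Function.update w a (min W (c a)) i = ∑ i ∈ s, w i := by
        apply Finset.sum_congr rfl
        intro i hi
        have : i ≠ a := fun h => ha (h ▸ hi)
        rw [Function.update_of_ne this]
      rw [this, hw2]
      omega

section Main

variable (d : ℕ) (a : Fin d → ℕ) (Hs : Fin d → S)

/-- the summand attached to the subset `P` -/
noncomputable def T (P : Finset (Fin d)) : S := yz ^ (P.card - 1) * ∏ i ∈ P, Hs i

variable {d a Hs}

lemma NN_T (hH : ∀ i, (1 - Pser (a i)) * Hs i = Nser (a i)) (P : Finset (Fin d)) :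
    NN (T d Hs P) :=
  (NN_yz.pow _).mul (NN.prod _ _ (fun i _ => NN_H (hH i)))

lemma sum_cast_sub_one (ha : ∀ i, 1 ≤ a i) :
    ∑ i, ((a i : ℤ) - 1) = ((∑ i, a i : ℕ) : ℤ) - d := by
  rw [Finset.sum_sub_distrib]
  simp

lemma Bd_T (ha : ∀ i, 1 ≤ a i) (hH : ∀ i, (1 - Pser (a i)) * Hs i = Nser (a i))
    (P : Finset (Fin d)) (hP : P.Nonempty) :
    Bd (Finset.univ.sup a) (((∑ i, a i : ℕ) : ℤ) - d - 1) (T d Hs P) := by
  set M := Finset.univ.sup a with hMdef
  obtain ⟨i0, hi0⟩ := hP
  have hMa : ∀ i, a i ≤ M := fun i => Finset.le_sup (f := a) (Finset.mem_univ i)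
  have hM1 : 1 ≤ M := le_trans (ha i0) (hMa i0)
  have h1 : Bd M (((P.card - 1 : ℕ) : ℤ) * 1) (yz ^ (P.card - 1)) := (Bd_yz hM1).pow _
  have h2 : Bd M (∑ i ∈ P, ((a i : ℤ) - 2)) (∏ i ∈ P, Hs i) :=
    Bd.prod P _ _ (fun i _ => Bd_H (hH i) (hMa i) hM1)
  have h3 := h1.mul h2
  refine h3.mono ?_
  have hcard : 1 ≤ P.card := Finset.card_pos.mpr ⟨i0, hi0⟩
  have e1 : ∑ i ∈ P, ((a i : ℤ) - 2) = ∑ i ∈ P, ((a i : ℤ) - 1) - P.card := by
    rw [Finset.sum_sub_distrib, Finset.sum_sub_distrib]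
    simp
    ring
  have e2 : ∑ i ∈ P, ((a i : ℤ) - 1) ≤ ∑ i, ((a i : ℤ) - 1) := by
    apply Finset.sum_le_sum_of_subset_of_nonneg (Finset.subset_univ P)
    intro i _ _
    have : (1 : ℤ) ≤ (a i : ℤ) := by exact_mod_cast ha i
    linarith
  rw [sum_cast_sub_one ha] at e2
  rw [e1]
  have e3 : ((P.card - 1 : ℕ) : ℤ) = (P.card : ℤ) - 1 := by
    rw [Nat.cast_sub hcard]; simp
  rw [e3]
  linarith

/-- the generating series -/
noncomputable def Hser (d : ℕ) (Hs : Fin d → S) : S :=
  ∑ P ∈ (Finset.univ : Finset (Fin d)).powerset with P.Nonempty, T d Hs P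

theorem main_forward (ha : ∀ i, 1 ≤ a i) (hH : ∀ i, (1 - Pser (a i)) * Hs i = Nser (a i))
    (p q : ℕ) (h : coeff (e p q) (Hser d Hs) ≠ 0) :
    p + q + d < p * Finset.univ.sup a + ∑ i, a i := by
  unfold Hser at h
  rw [map_sum] at h
  obtain ⟨P, hP, hne⟩ := Finset.exists_ne_zero_of_sum_ne_zero h
  have hPn : P.Nonempty := (Finset.mem_filter.mp hP).2
  have hb := Bd_T ha hH P hPn _ hne
  simp only [e_zero, e_one] at hb
  have : ((p + q + d : ℕ) : ℤ) < ((p * Finset.univ.sup a + ∑ i, a i : ℕ) : ℤ) := by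
    push_cast
    push_cast at hb
    linarith
  exact_mod_cast this

theorem main_backward (ha : ∀ i, 1 ≤ a i) (hH : ∀ i, (1 - Pser (a i)) * Hs i = Nser (a i))
    (p q : ℕ) (hpq : p ≤ q) (hlt : p + q + d < p * Finset.univ.sup a + ∑ i, a i) :
    coeff (e p q) (Hser d Hs) ≠ 0 := by
  classical
  set M := Finset.univ.sup a with hMdef
  have hMa : ∀ i, a i ≤ M := fun i => Finset.le_sup (f := a) (Finset.mem_univ i)
  -- `M ≥ 2`
  have hM2 : 2 ≤ M := by
    by_contra hc
    have hM1 : M ≤ 1 := by omega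
    have hall : ∀ i, a i = 1 := fun i => le_antisymm (le_trans (hMa i) hM1) (ha i)
    have hsum : ∑ i, a i = d := by
      rw [Finset.sum_congr rfl (fun i _ => hall i)]
      simp
    have : p * M ≤ p * 1 := Nat.mul_le_mul_left p hM1
    omega
  -- the maximum is attained
  have hne : (Finset.univ : Finset (Fin d)).Nonempty := by
    by_contra hc
    rw [Finset.not_nonempty_iff_eq_empty] at hc
    rw [hMdef, hc, Finset.sup_empty] at hM2
    exact absurd hM2 (by decide)
  obtain ⟨i0, -, hi0⟩ := Finset.exists_mem_eq_sup Finset.univ hne a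
  rw [← hMdef] at hi0
  set P0 : Finset (Fin d) := Finset.univ.filter (fun i => 2 ≤ a i) with hP0
  have hi0P : i0 ∈ P0 := by
    rw [hP0, Finset.mem_filter]; exact ⟨Finset.mem_univ _, by rw [← hi0]; exact hM2⟩
  have hP0a : ∀ i ∈ P0, 2 ≤ a i := fun i hi => (Finset.mem_filter.mp hi).2
  have hcard : 1 ≤ P0.card := Finset.card_pos.mpr ⟨i0, hi0P⟩
  set C := ∑ i ∈ P0, (a i - 2) with hC
  -- `∑ a = d + C + |P0|`
  have F1 : ∑ i, a i = d + C + P0.card := by
    have h1 : ∑ i, a i = ∑ i : Fin d, (1 + (a i - 1)) := by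
      apply Finset.sum_congr rfl
      intro i _
      have := ha i
      omega
    have h2 : ∑ i : Fin d, (a i - 1) = ∑ i ∈ P0, (a i - 1) := by
      rw [hP0, Finset.sum_filter]
      apply Finset.sum_congr rfl
      intro i _
      split_ifs with h
      · rfl
      · have := ha i
        omega
    have h3 : ∑ i ∈ P0, (a i - 1) = ∑ i ∈ P0, ((a i - 2) + 1) := by
      apply Finset.sum_congr rfl
      intro i hi
      have := hP0a i hi
      omega
    rw [h1, Finset.sum_add_distrib, h2, h3, Finset.sum_add_distrib]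
    simp
    omega
  have F2 : p * M = p * (M - 1) + p := by
    have : M = (M - 1) + 1 := by omega
    conv_lhs => rw [this]
    ring
  have F3 : p ≤ p * (M - 1) := Nat.le_mul_of_pos_right p (by omega)
  obtain ⟨V, W1, W2, hV1, hV2, hW1, hW2, hsum⟩ :=
    split3 p q (p * (M - 1)) C (P0.card - 1) hpq F3 (by omega)
  obtain ⟨w, hw1, hw2⟩ := exists_split P0 (fun i => a i - 2) W1 hW1
  -- positivity of each factor
  let k : Fin d → ℕ := fun i => if i = i0 then p else 0
  let Vi : Fin d → ℕ := fun i => if i = i0 then V else 0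
  have hpos : ∀ i ∈ P0, Pos (Hs i) (e (k i) (Vi i + w i)) := by
    intro i hi
    apply Pos_H (hH i) (hP0a i hi)
    · simp only [k, Vi]; split_ifs <;> simp [hV1]
    · simp only [k, Vi]
      split_ifs with h
      · rw [h, ← hi0]; exact hV2
      · simp
    · exact hw1 i hi
  have hprod := Pos.prod P0 Hs (fun i => e (k i) (Vi i + w i))
    (fun i _ => NN_H (hH i)) hpos
  rw [sum_e, Finset.sum_add_distrib, hw2] at hprod
  have hk : ∑ i ∈ P0, k i = p := by
    simp only [k]
    rw [Finset.sum_ite_eq' P0 i0 (fun _ => p), if_pos hi0P]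
  have hVi : ∑ i ∈ P0, Vi i = V := by
    simp only [Vi]
    rw [Finset.sum_ite_eq' P0 i0 (fun _ => V), if_pos hi0P]
  rw [hk, hVi] at hprod
  have hT : Pos (T d Hs P0) (e p q) := by
    have := Pos.mul (NN_yz.pow (P0.card - 1)) (NN.prod P0 Hs (fun i _ => NN_H (hH i)))
      (Pos_yz_pow (P0.card - 1) W2 hW2) hprod
    rw [e_add] at this
    have hexp : e (0 + p) (W2 + (V + W1)) = e p q := by
      rw [e_inj]; constructor <;> omega
    rw [hexp] at this
    exact this
  -- lower bound for the sum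
  have hmem : P0 ∈ ((Finset.univ : Finset (Fin d)).powerset.filter (fun P => P.Nonempty)) := by
    rw [Finset.mem_filter, Finset.mem_powerset]
    exact ⟨Finset.subset_univ _, ⟨i0, hi0P⟩⟩
  have hle : coeff (e p q) (T d Hs P0) ≤ coeff (e p q) (Hser d Hs) := by
    unfold Hser
    rw [map_sum]
    exact Finset.single_le_sum (f := fun P => coeff (e p q) (T d Hs P))
      (fun P _ => NN_T hH P _) hmem
  exact ne_of_gt (lt_of_lt_of_le hT hle)

end Main

end Helper16.HodgeSer
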