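import Groth.Prelude.Def_W4bk4goldsch45p2
import Mathlib.LinearAlgebra.Matrix.Block
import Mathlib.LinearAlgebra.Dimension.Constructions
import Mathlib.LinearAlgebra.LinearIndependent.Lemmas

/-!
# Linear algebra of jump sequences (helper16)

`FunFld.IsJump K c j` / `FunFld.IsOrders K c J` for a column sequence `c : ℕ → M` in a vector space.
* `W c m`: the span of the first `m` columns.
* triangular changes of columns preserve the spans `W`, hence jumps and order sequences;
* `W c m` is spanned by the jump columns below `m`;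
* the determinant of a square matrix under a triangular change of columns.
-/

set_option autoImplicit false

namespace Groth.Agent.Lib.Helper16.Jump

open FunFld

variable {K : Type*} [Field K] {M : Type*} [AddCommGroup M] [Module K M]

/-- The span of the first `m` columns. -/
def W (c : ℕ → M) (m : ℕ) : Submodule K M := Submodule.span K (c '' Set.Iio m)

lemma isJump_iff (c : ℕ → M) (j : ℕ) : IsJump K c j ↔ c j ∉ W (K := K) c j := Iff.rfl

lemma W_zero (c : ℕ → M) : W (K := K) c 0 = ⊥ := by
  simp [W]

lemma W_succ (c : ℕ → M) (m : ℕ) : W (K := K) c (m + 1) = W (K := K) c m ⊔ Submodule.span K {c m} := by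
  unfold W
  rw [← Submodule.span_union]
  congr 1
  ext x
  simp only [Set.mem_image, Set.mem_Iio, Set.mem_union, Set.mem_singleton_iff]
  constructor
  · rintro ⟨j, hj, rfl⟩
    rcases Nat.lt_succ_iff_lt_or_eq.mp hj with h | h
    · exact Or.inl ⟨j, h, rfl⟩
    · exact Or.inr (by rw [h])
  · rintro (⟨j, hj, rfl⟩ | rfl)
    · exact ⟨j, Nat.lt_succ_of_lt hj, rfl⟩
    · exact ⟨m, Nat.lt_succ_self m, rfl⟩

lemma W_mono (c : ℕ → M) {m m' : ℕ} (h : m ≤ m') : W (K := K) c m ≤ W (K := K) c m' :=
  Submodule.span_mono (Set.image_mono (fun _ hx => lt_of_lt_of_le hx h))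

lemma mem_W (c : ℕ → M) {j m : ℕ} (h : j < m) : c j ∈ W (K := K) c m :=
  Submodule.subset_span ⟨j, h, rfl⟩

lemma not_isJump_iff (c : ℕ → M) (j : ℕ) : ¬ IsJump K c j ↔ W (K := K) c (j + 1) = W (K := K) c j := by
  rw [isJump_iff, not_not, W_succ]
  constructor
  · intro h
    exact sup_eq_left.mpr ((Submodule.span_singleton_le_iff_mem _ _).mpr h)
  · intro h
    have := sup_eq_left.mp h
    exact (Submodule.span_singleton_le_iff_mem _ _).mp this

/-- A triangular change of columns (with nonzero diagonal) preserves the spans of initial segments. -/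
lemma W_eq_of_triangular {c c' : ℕ → M} (u : ℕ → K) (hu : ∀ j, u j ≠ 0)
    (h : ∀ j, c' j - u j • c j ∈ W (K := K) c j) : ∀ m, W (K := K) c' m = W (K := K) c m := by
  intro m
  induction m with
  | zero => rw [W_zero, W_zero]
  | succ m ih =>
    rw [W_succ, W_succ, ih]
    apply le_antisymm
    · refine sup_le le_sup_left ?_
      rw [Submodule.span_singleton_le_iff_mem]
      have h1 : c' m = (c' m - u m • c m) + u m • c m := by abel
      rw [h1]
      refine Submodule.add_mem _ (Submodule.mem_sup_left (h m)) (Submodule.mem_sup_right ?_)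
      exact Submodule.smul_mem _ _ (Submodule.mem_span_singleton_self _)
    · refine sup_le le_sup_left ?_
      rw [Submodule.span_singleton_le_iff_mem]
      have h1 : c m = (u m)⁻¹ • c' m - (u m)⁻¹ • (c' m - u m • c m) := by
        rw [smul_sub, smul_smul, inv_mul_cancel₀ (hu m), one_smul]; abel
      rw [h1]
      refine Submodule.sub_mem _ (Submodule.mem_sup_right ?_) (Submodule.mem_sup_left ?_)
      · exact Submodule.smul_mem _ _ (Submodule.mem_span_singleton_self _)
      · exact Submodule.smul_mem _ _ (h m)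

lemma isJump_congr {c c' : ℕ → M} (h : ∀ m, W (K := K) c' m = W (K := K) c m) (j : ℕ) :
    IsJump K c' j ↔ IsJump K c j := by
  rw [← not_iff_not, not_isJump_iff, not_isJump_iff, h, h]

lemma isOrders_congr {c c' : ℕ → M} (h : ∀ m, W (K := K) c' m = W (K := K) c m) {n : ℕ}
    (J : Fin n → ℕ) : IsOrders K c' J ↔ IsOrders K c J := by
  unfold IsOrders
  simp only [isJump_congr h]

/-- The image of a column sequence under a linear equivalence has the same jumps. -/
lemma isJump_map {M' : Type*} [AddCommGroup M'] [Module K M'] (e : M ≃ₗ[K] M') (c : ℕ → M) (j : ℕ) :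
    IsJump K (fun i => e (c i)) j ↔ IsJump K c j := by
  unfold IsJump
  have : (fun i => e (c i)) '' Set.Iio j = e '' (c '' Set.Iio j) := by
    rw [Set.image_image]
  rw [this, ← LinearEquiv.coe_coe, ← Submodule.map_span]
  constructor
  · intro h hc
    exact h ⟨c j, hc, rfl⟩
  · rintro h ⟨x, hx, hxe⟩
    have : x = c j := e.injective hxe
    exact h (this ▸ hx)

lemma isOrders_map {M' : Type*} [AddCommGroup M'] [Module K M'] (e : M ≃ₗ[K] M') (c : ℕ → M)
    {n : ℕ} (J : Fin n → ℕ) : IsOrders K (fun i => e (c i)) J ↔ IsOrders K c J := by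
  unfold IsOrders
  simp only [isJump_map e c]

/-- `W c m` is spanned by the jump columns below `m`. -/
lemma W_eq_span_jumps (c : ℕ → M) (m : ℕ) :
    W (K := K) c m = Submodule.span K (c '' {j | j < m ∧ IsJump K c j}) := by
  induction m with
  | zero =>
    rw [W_zero]
    simp
  | succ m ih =>
    by_cases hj : IsJump K c m
    · rw [W_succ, ih, ← Submodule.span_union]
      congr 1
      ext x
      simp only [Set.mem_image, Set.mem_setOf_eq, Set.mem_union, Set.mem_singleton_iff]
      constructor
      · rintro (⟨j, ⟨hj1, hj2⟩, rfl⟩ | rfl)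
        · exact ⟨j, ⟨Nat.lt_succ_of_lt hj1, hj2⟩, rfl⟩
        · exact ⟨m, ⟨Nat.lt_succ_self m, hj⟩, rfl⟩
      · rintro ⟨j, ⟨hj1, hj2⟩, rfl⟩
        rcases Nat.lt_succ_iff_lt_or_eq.mp hj1 with h | h
        · exact Or.inl ⟨j, ⟨h, hj2⟩, rfl⟩
        · exact Or.inr (by rw [h])
    · rw [(not_isJump_iff c m).mp hj, ih]
      congr 2
      ext j
      simp only [Set.mem_setOf_eq]
      constructor
      · rintro ⟨h1, h2⟩
        exact ⟨Nat.lt_succ_of_lt h1, h2⟩
      · rintro ⟨h1, h2⟩
        rcases Nat.lt_succ_iff_lt_or_eq.mp h1 with h | h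
        · exact ⟨h, h2⟩
        · exact absurd (h ▸ h2) hj

end Groth.Agent.Lib.Helper16.Jump
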