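import Groth.Agent.Lib.Helper16.Jump

/-!
# Determinants under triangular column changes; the matrix `wr` (helper16)
-/

set_option autoImplicit false

namespace Groth.Agent.Lib.Helper16.Jump

open FunFld

variable {K : Type*} [Field K]

/-- Triangular change of columns of a square matrix: if each new column `v' q` is `u q • v q` plus a
combination of the earlier old columns, then the determinant is multiplied by `∏ u q`. -/
theorem det_of_triangular {N : ℕ} (v v' : Fin N → Fin N → K) (u : Fin N → K)
    (h : ∀ q, v' q - u q • v q ∈ Submodule.span K (v '' Set.Iio q)) :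
    (Matrix.of fun i q => v' q i).det = (∏ q, u q) * (Matrix.of fun i q => v q i).det := by
  classical
  have hb : ∀ q, ∃ b : Fin N → K, (∀ p, ¬ p < q → b p = 0) ∧ v' q - u q • v q = ∑ p, b p • v p := by
    intro q
    obtain ⟨l, hl, hlx⟩ := (Finsupp.mem_span_image_iff_linearCombination K).mp (h q)
    refine ⟨fun p => l p, ?_, ?_⟩
    · intro p hp
      by_contra hne
      have : p ∈ l.support := Finsupp.mem_support_iff.mpr hne
      exact hp (hl this)
    · rw [← hlx, Finsupp.linearCombination_apply, Finsupp.sum_fintype]
      intro i; simp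
  choose b hb0 hb1 using hb
  let U : Matrix (Fin N) (Fin N) K := Matrix.of fun p q => if p = q then u q else b q p
  have hU : U.IsUpperTriangular := by
    intro p q hpq
    simp only [id] at hpq
    simp only [U, Matrix.of_apply]
    rw [if_neg (ne_of_gt hpq)]
    exact hb0 q p (not_lt.mpr (le_of_lt hpq))
  have hmul : (Matrix.of fun i q => v' q i) = (Matrix.of fun i q => v q i) * U := by
    ext i q
    simp only [Matrix.of_apply, Matrix.mul_apply, U]
    have h1 : v' q = u q • v q + ∑ p, b q p • v p := by
      rw [← hb1 q]; abel
    have h2 : v' q i = u q * v q i + ∑ p, b q p * v p i := by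
      rw [h1]; simp [Finset.sum_apply]
    rw [h2]
    have h3 : ∀ p, v p i * (if p = q then u q else b q p) =
        (if p = q then u q * v q i else 0) + b q p * v p i := by
      intro p
      by_cases hpq : p = q
      · subst hpq
        rw [if_pos rfl, if_pos rfl, hb0 p p (lt_irrefl p)]
        ring
      · rw [if_neg hpq, if_neg hpq]; ring
    simp_rw [h3]
    rw [Finset.sum_add_distrib, Finset.sum_ite_eq' Finset.univ q]
    simp
  rw [hmul, Matrix.det_mul, Matrix.det_of_isUpperTriangular hU, mul_comm]
  congr 1
  refine Finset.prod_congr rfl fun q _ => ?_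
  simp [U]

/-- The index of the `q`-th column of the square matrix attached to an index sequence:
column `0` is the leading column, column `l + 1` is column `I l + 1` of the sequence. -/
def idx {n : ℕ} (I : Fin n → ℕ) : Fin (n + 1) → ℕ :=
  fun q => Fin.cases (motive := fun _ => ℕ) 0 (fun l => I l + 1) q

@[simp] lemma idx_zero {n : ℕ} (I : Fin n → ℕ) : idx I 0 = 0 := rfl
@[simp] lemma idx_succ {n : ℕ} (I : Fin n → ℕ) (l : Fin n) : idx I l.succ = I l + 1 := rfl

lemma idx_strictMono {n : ℕ} {I : Fin n → ℕ} (hI : StrictMono I) : StrictMono (idx I) := by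
  intro p q hpq
  induction q using Fin.cases with
  | zero => exact absurd hpq (Fin.not_lt_zero _)
  | succ q =>
    induction p using Fin.cases with
    | zero => simp
    | succ p =>
      simp only [idx_succ]
      exact Nat.succ_lt_succ (hI (Fin.succ_lt_succ_iff.mp hpq))

/-- The square matrix with columns `c (idx I q)`. -/
def wr {n : ℕ} (c : ℕ → Fin (n + 1) → K) (I : Fin n → ℕ) : Matrix (Fin (n + 1)) (Fin (n + 1)) K :=
  Matrix.of fun i q => c (idx I q) i

lemma wrMat_eq_wr {k : Type*} [Field k] [Algebra k K] {n : ℕ} (τ : K →ₐ[k] K)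
    (H : K →ₐ[k] PowerSeries K) (φ : Fin (n + 1) → K) (I : Fin n → ℕ) :
    FunFld.wrMat τ H φ I = wr (FunFld.hcol τ H φ) I := by
  ext i q
  induction q using Fin.cases with
  | zero => rfl
  | succ l => rfl

end Groth.Agent.Lib.Helper16.Jump
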