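import Groth.Agent.Lib.Helper16.Jump2
import Mathlib.LinearAlgebra.Matrix.NonsingularInverse
import Mathlib.LinearAlgebra.Dimension.Finite
import Mathlib.Data.Finset.Sort

/-!
# Order sequences: determinants, comparison, existence (helper16)
-/

set_option autoImplicit false

namespace Groth.Agent.Lib.Helper16.Jump

open FunFld

variable {K : Type*} [Field K] {M : Type*} [AddCommGroup M] [Module K M]

/-- For an order sequence `J` of `c`, the jumps below `idx J q` are the `idx J p`, `p < q`. -/
lemma jumps_lt_idx {n : ℕ} {c : ℕ → M} {J : Fin n → ℕ} (hJ : IsOrders K c J) (q : Fin (n + 1)) :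
    {j | j < idx J q ∧ IsJump K c j} ⊆ (idx J) '' Set.Iio q := by
  rintro j ⟨hj1, hj2⟩
  rcases Nat.eq_zero_or_eq_succ_pred j with h | h
  · refine ⟨0, ?_, by rw [h]; rfl⟩
    simp only [Set.mem_Iio]
    by_contra hq
    have : q = 0 := by
      rcases Fin.eq_zero_or_eq_succ q with h0 | ⟨l, hl⟩
      · exact h0
      · exact absurd (hl ▸ Fin.succ_pos l) hq
    rw [this, h] at hj1
    exact absurd hj1 (lt_irrefl _)
  · rw [h] at hj2
    obtain ⟨l, hl⟩ := (hJ.2 (j - 1)).mpr hj2
    refine ⟨l.succ, ?_, ?_⟩
    · simp only [Set.mem_Iio]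
      have h1 : idx J l.succ = j := by rw [idx_succ, hl]; exact h.symm
      rw [← h1] at hj1
      exact (idx_strictMono hJ.1).lt_iff_lt.mp hj1
    · rw [idx_succ, hl]; exact h.symm

lemma W_idx_le {n : ℕ} {c : ℕ → M} {J : Fin n → ℕ} (hJ : IsOrders K c J) (q : Fin (n + 1)) :
    W (K := K) c (idx J q) ≤ Submodule.span K ((fun p => c (idx J p)) '' Set.Iio q) := by
  rw [W_eq_span_jumps]
  refine Submodule.span_mono ?_
  rintro x ⟨j, hj, rfl⟩
  obtain ⟨p, hp, rfl⟩ := jumps_lt_idx hJ q hj
  exact ⟨p, hp, rfl⟩

/-- The determinant at the order sequence under a triangular change of columns. -/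
theorem det_wr_of_triangular {n : ℕ} {c c' : ℕ → Fin (n + 1) → K} (u : ℕ → K)
    (h : ∀ j, c' j - u j • c j ∈ W (K := K) c j) {J : Fin n → ℕ} (hJ : IsOrders K c J) :
    (wr c' J).det = (∏ q, u (idx J q)) * (wr c J).det := by
  unfold wr
  exact det_of_triangular (fun q => c (idx J q)) (fun q => c' (idx J q)) (fun q => u (idx J q))
    (fun q => W_idx_le hJ q (h (idx J q)))

/-- If the columns at a strictly increasing index sequence `J'` are linearly independent, then the
order sequence `J` is termwise at most `J'`. -/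
theorem orders_le_of_linearIndependent {n : ℕ} {c : ℕ → M} {J : Fin n → ℕ} (hJ : IsOrders K c J)
    {J' : Fin n → ℕ} (hJ' : StrictMono J')
    (hli : LinearIndependent K (fun q : Fin (n + 1) => c (idx J' q))) :
    ∀ l, J l ≤ J' l := by
  intro l
  by_contra hlt
  rw [not_le] at hlt
  -- the span of the first `l + 1` columns at `J`
  let N : Submodule K M := Submodule.span K (Set.range fun p : Fin (l.val + 1) =>
    c (idx J ⟨p.val, by omega⟩))
  have hNfin : Module.Finite K N := FiniteDimensional.span_of_finite K (Set.finite_range _)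
  have hNrank : Module.finrank K N ≤ l.val + 1 := by
    have := finrank_range_le_card (R := K) (fun p : Fin (l.val + 1) => c (idx J ⟨p.val, by omega⟩))
    simpa [Set.finrank] using this
  -- `W c (J' l + 2) ≤ N`
  have hWN : W (K := K) c (J' l + 2) ≤ N := by
    rw [W_eq_span_jumps]
    refine Submodule.span_mono ?_
    rintro x ⟨j, ⟨hj1, hj2⟩, rfl⟩
    rcases Nat.eq_zero_or_eq_succ_pred j with h | h
    · exact ⟨⟨0, by omega⟩, by rw [h]; rfl⟩
    · rw [h] at hj2
      obtain ⟨i, hi⟩ := (hJ.2 (j - 1)).mpr hj2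
      have hi1 : J i < J l := by omega
      have hi2 : i < l := hJ.1.lt_iff_lt.mp hi1
      refine ⟨⟨i.val + 1, by have := Fin.lt_def.mp hi2; omega⟩, ?_⟩
      show c (idx J ⟨i.val + 1, _⟩) = c j
      have : (⟨i.val + 1, by omega⟩ : Fin (n + 1)) = i.succ := rfl
      rw [this, idx_succ, hi]
      congr 1; omega
  -- `l + 2` independent vectors in `N`
  let g : Fin (l.val + 2) → Fin (n + 1) := fun r => ⟨r.val, by omega⟩
  have hg : Function.Injective g := fun a b hab => Fin.ext (by simpa [g] using congrArg Fin.val hab)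
  have hmem : ∀ r : Fin (l.val + 2), c (idx J' (g r)) ∈ N := by
    intro r
    apply hWN
    apply mem_W
    have h1 : g r ≤ l.succ := by
      rw [Fin.le_def]; simp only [g, Fin.val_succ]; omega
    have h2 : idx J' (g r) ≤ idx J' l.succ := (idx_strictMono hJ').monotone h1
    rw [idx_succ] at h2
    omega
  have hli2 : LinearIndependent K (fun r : Fin (l.val + 2) => (⟨c (idx J' (g r)), hmem r⟩ : N)) := by
    apply LinearIndependent.of_comp N.subtype
    exact hli.comp g hg
  have := hli2.fintype_card_le_finrank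
  rw [Fintype.card_fin] at this
  omega

end Groth.Agent.Lib.Helper16.Jump
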