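import Groth.Agent.Lib.Helper16.Jump3

/-!
# Jump columns are linearly independent; existence of order sequences (helper16)
-/

set_option autoImplicit false

namespace Groth.Agent.Lib.Helper16.Jump

open FunFld

variable {K : Type*} [Field K] {M : Type*} [AddCommGroup M] [Module K M]

/-- Jump columns at strictly increasing positions are linearly independent. -/
theorem linearIndependent_jumps (c : ℕ → M) :
    ∀ (r : ℕ) (g : Fin r → ℕ), StrictMono g → (∀ i, IsJump K c (g i)) →
      LinearIndependent K (fun i => c (g i)) := by
  intro r
  induction r with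
  | zero => intro g _ _; exact linearIndependent_empty_type
  | succ r ih =>
    intro g hg hj
    rw [linearIndependent_finSucc']
    constructor
    · exact ih (fun i => g i.castSucc) (fun a b hab => hg (Fin.castSucc_lt_castSucc_iff.mpr hab))
        (fun i => hj _)
    · intro hmem
      apply hj (Fin.last r)
      refine Submodule.span_mono ?_ hmem
      rintro x ⟨i, rfl⟩
      exact ⟨g i.castSucc, hg (Fin.castSucc_lt_last i), rfl⟩

/-- For an order sequence `J` with `c 0 ≠ 0`, the columns `c (idx J q)` are linearly independent. -/
theorem linearIndependent_idx {n : ℕ} {c : ℕ → M} {J : Fin n → ℕ} (hJ : IsOrders K c J)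
    (h0 : c 0 ≠ 0) : LinearIndependent K (fun q : Fin (n + 1) => c (idx J q)) := by
  apply linearIndependent_jumps c (n + 1) (idx J) (idx_strictMono hJ.1)
  intro q
  induction q using Fin.cases with
  | zero =>
    rw [idx_zero, isJump_iff, W_zero]
    simpa using h0
  | succ l =>
    rw [idx_succ]
    exact (hJ.2 (J l)).mp ⟨l, rfl⟩

/-- For an order sequence of length `n` in an `(n+1)`-dimensional space with `c 0 ≠ 0`, the
columns up to `idx J (last) + 1` span everything. -/
theorem W_eq_top_of_isOrders {n : ℕ} {c : ℕ → M} {J : Fin n → ℕ} (hJ : IsOrders K c J)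
    (h0 : c 0 ≠ 0) [Module.Finite K M] (hdim : Module.finrank K M = n + 1) :
    W (K := K) c (idx J (Fin.last n) + 1) = ⊤ := by
  have hli := linearIndependent_idx hJ h0
  have htop : Submodule.span K (Set.range fun q : Fin (n + 1) => c (idx J q)) = ⊤ :=
    hli.span_eq_top_of_card_eq_finrank' (by rw [Fintype.card_fin, hdim])
  rw [eq_top_iff, ← htop]
  refine Submodule.span_mono ?_
  rintro x ⟨q, rfl⟩
  refine ⟨idx J q, ?_, rfl⟩
  exact Nat.lt_succ_of_le ((idx_strictMono hJ.1).monotone (Fin.le_last q))

end Groth.Agent.Lib.Helper16.Jump
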