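import Groth.Agent.Lib.Helper16.Jump4

/-!
# Replacing the leading column: how the jumps change (helper16)
-/

set_option autoImplicit false

namespace Groth.Agent.Lib.Helper16.Jump

open FunFld

variable {K : Type*} [Field K] {M : Type*} [AddCommGroup M] [Module K M]

lemma W_replace (c cτ : ℕ → M) (hc1 : c 1 = c 0) (hτ : ∀ j, cτ (j + 1) = c (j + 1)) :
    ∀ j, W (K := K) cτ (j + 2) = Submodule.span K {cτ 0} ⊔ W (K := K) c (j + 2) := by
  intro j
  induction j with
  | zero =>
    rw [W_succ, W_succ, W_zero, W_succ, W_succ, W_zero, hτ 0, hc1]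
    simp
  | succ j ih =>
    rw [W_succ, ih, W_succ c (j + 2), hτ (j + 1), sup_assoc]

/-- If `cτ` is `c` with the leading column replaced by a vector `t = cτ 0` which is not on the
line of `c 0 = c 1`, and conversely, and `t` is in the span of the columns of `c`, then the jumps of
`cτ` after the leading column are `0` and the orders of `c` with exactly one removed. -/
theorem jumps_replace {n : ℕ} {c cτ : ℕ → M} (hc1 : c 1 = c 0) (hτ : ∀ j, cτ (j + 1) = c (j + 1))
    (ht1 : c 0 ∉ Submodule.span K {cτ 0}) (ht2 : cτ 0 ∉ Submodule.span K {c 0})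
    (htop : ∃ m, cτ 0 ∈ W (K := K) c m) {J : Fin n → ℕ} (hJ : IsOrders K c J) :
    ∃ m : Fin n, ∀ j, IsJump K cτ (j + 1) ↔ (j = 0 ∨ ∃ l, l ≠ m ∧ J l = j) := by
  classical
  set t := cτ 0 with ht
  -- the first `m` with `t ∈ W c m`
  obtain ⟨ms, hms, hmin⟩ : ∃ ms, t ∈ W (K := K) c ms ∧ ∀ m, m < ms → t ∉ W (K := K) c m :=
    ⟨Nat.find htop, Nat.find_spec htop, fun m hm => Nat.find_min htop hm⟩
  have hW2 : W (K := K) c 2 = Submodule.span K {c 0} := by
    rw [W_succ, W_succ, W_zero, hc1]; simp
  have hms3 : 3 ≤ ms := by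
    by_contra hlt
    rw [not_le] at hlt
    have : t ∈ W (K := K) c 2 := W_mono c (by omega) hms
    rw [hW2] at this
    exact ht2 this
  -- `ms - 1` is a jump of `c`
  have hjump : IsJump K c (ms - 1) := by
    by_contra hnj
    rw [not_isJump_iff] at hnj
    have h1 : ms - 1 + 1 = ms := by omega
    rw [h1] at hnj
    rw [hnj] at hms
    exact hmin (ms - 1) (by omega) hms
  obtain ⟨m, hm⟩ : ∃ m, J m = ms - 2 := by
    have h1 : ms - 1 = (ms - 2) + 1 := by omega
    rw [h1] at hjump
    exact (hJ.2 (ms - 2)).mpr hjump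
  refine ⟨m, ?_⟩
  intro j
  rcases Nat.eq_zero_or_pos j with hj0 | hjpos
  · subst hj0
    constructor
    · intro _; exact Or.inl rfl
    · intro _
      rw [isJump_iff, W_succ, W_zero, bot_sup_eq, hτ 0, hc1]
      exact ht1
  · -- `j ≥ 1`
    obtain ⟨i, rfl⟩ : ∃ i, j = i + 1 := ⟨j - 1, by omega⟩
    have hWτ : W (K := K) cτ (i + 2) = Submodule.span K {t} ⊔ W (K := K) c (i + 2) :=
      W_replace c cτ hc1 hτ i
    have key : IsJump K cτ (i + 1 + 1) ↔ (IsJump K c (i + 1 + 1) ∧ i + 1 ≠ ms - 2) := by
      rw [isJump_iff, isJump_iff, hWτ, hτ (i + 1)]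
      rcases lt_trichotomy (i + 1) (ms - 2) with hlt | heq | hgt
      · -- before: `t ∉ W c (i+3)`
        have htn : t ∉ W (K := K) c (i + 3) := hmin _ (by omega)
        constructor
        · intro h
          exact ⟨fun hc => h (Submodule.mem_sup_right hc), by omega⟩
        · rintro ⟨h, _⟩ hc
          obtain ⟨y, hy, w, hw, hyw⟩ := Submodule.mem_sup.mp hc
          obtain ⟨a, rfl⟩ := Submodule.mem_span_singleton.mp hy
          by_cases ha : a = 0
          · subst ha
            rw [zero_smul, zero_add] at hyw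
            exact h (hyw ▸ hw)
          · apply htn
            have : t = a⁻¹ • (c (i + 2) - w) := by
              rw [← hyw, add_sub_cancel_right, smul_smul, inv_mul_cancel₀ ha, one_smul]
            rw [this]
            refine Submodule.smul_mem _ _ (Submodule.sub_mem _ (mem_W c (by omega)) ?_)
            exact W_mono c (by omega) hw
      · -- at `ms - 2`
        constructor
        · intro h
          exfalso
          apply h
          have h1 : ms = (i + 2) + 1 := by omega
          have hms' : t ∈ W (K := K) c ((i + 2) + 1) := h1 ▸ hms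
          rw [W_succ] at hms'
          obtain ⟨w, hw, y, hy, hwy⟩ := Submodule.mem_sup.mp hms'
          obtain ⟨a, rfl⟩ := Submodule.mem_span_singleton.mp hy
          have ha : a ≠ 0 := by
            rintro rfl
            rw [zero_smul, add_zero] at hwy
            exact hmin (i + 2) (by omega) (hwy ▸ hw)
          have : c (i + 2) = a⁻¹ • t - a⁻¹ • w := by
            rw [← hwy, smul_add, smul_smul, inv_mul_cancel₀ ha, one_smul]; abel
          rw [this]
          refine Submodule.sub_mem _ (Submodule.mem_sup_left ?_) (Submodule.mem_sup_right ?_)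
          · exact Submodule.smul_mem _ _ (Submodule.mem_span_singleton_self _)
          · exact Submodule.smul_mem _ _ hw
        · rintro ⟨_, h⟩
          exact absurd heq h
      · -- after: `t ∈ W c (i+2)`
        have htm : t ∈ W (K := K) c (i + 2) := W_mono c (by omega) hms
        have : Submodule.span K {t} ⊔ W (K := K) c (i + 2) = W (K := K) c (i + 2) :=
          sup_eq_right.mpr ((Submodule.span_singleton_le_iff_mem _ _).mpr htm)
        rw [this]
        constructor
        · intro h; exact ⟨h, by omega⟩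
        · rintro ⟨h, _⟩; exact h
    have hcJ : IsJump K c (i + 1 + 1) ↔ ∃ l, J l = i + 1 := by
      rw [← hJ.2 (i + 1)]; rfl
    rw [key, hcJ]
    constructor
    · rintro ⟨⟨l, hl⟩, hne⟩
      refine Or.inr ⟨l, ?_, hl⟩
      rintro rfl
      rw [hm] at hl
      exact hne hl.symm
    · rintro (h | ⟨l, hlm, hl⟩)
      · omega
      · refine ⟨⟨l, hl⟩, ?_⟩
        intro heq
        apply hlm
        apply hJ.1.injective
        rw [hl, hm, heq]

end Groth.Agent.Lib.Helper16.Jump
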