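import Groth.Agent.Lib.Helper16.Jump6
import Mathlib.LinearAlgebra.Basis.VectorSpace
import Mathlib.LinearAlgebra.Dimension.Constructions

/-!
# Bounding an order by the absence of relations among truncated rows (helper16)
-/

set_option autoImplicit false

namespace Groth.Agent.Lib.Helper16.Jump

open FunFld

variable {K : Type*} [Field K]

/-- If no nonzero functional supported on the coordinates `0, 1, …, l + 1` kills the columns
`c 0, …, c (m + 1)`, then the `l`-th order is at most `m`. -/
theorem order_le_of_no_relation {n : ℕ} {c : ℕ → Fin (n + 1) → K} {J : Fin n → ℕ}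
    (hJ : IsOrders K c J) (l : Fin n) (m : ℕ)
    (h : ∀ (x0 : K) (x : Fin (l.val + 1) → K),
      (∀ jj, jj < m + 2 →
        x0 * c jj 0 + ∑ r : Fin (l.val + 1), x r * c jj (Fin.castLE l.2 r).succ = 0) →
      x0 = 0 ∧ x = 0) :
    J l ≤ m := by
  classical
  by_contra hlt
  push_neg at hlt
  have hl1 : l.val + 1 ≤ n + 1 := by have := l.2; omega
  set v : Fin (l.val + 1) → Fin (n + 1) → K := fun p => c (idx J (Fin.castLE hl1 p)) with hv
  set S := Submodule.span K (Set.range v) with hS
  have hW : W (K := K) c (m + 2) ≤ S := by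
    refine (W_mono c (show m + 2 ≤ idx J l.succ by rw [idx_succ]; omega)).trans
      ((W_idx_le hJ l.succ).trans (Submodule.span_mono ?_))
    rintro _ ⟨p, hp, rfl⟩
    rw [Set.mem_Iio] at hp
    have hp' : p.val < l.val + 1 := by
      have : p.val < (l.succ).val := hp
      simpa using this
    exact ⟨⟨p.val, hp'⟩, by simp [v]⟩
  have hSrank : Module.finrank K S ≤ l.val + 1 := by
    have := finrank_range_le_card (R := K) v
    simpa [Set.finrank] using this
  let ι : Fin (l.val + 2) → Fin (n + 1) :=
    fun q => Fin.cases (motive := fun _ => Fin (n + 1)) 0 (fun r => (Fin.castLE l.2 r).succ) q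
  let R : (Fin (n + 1) → K) →ₗ[K] (Fin (l.val + 2) → K) := LinearMap.funLeft K K ι
  have hne : S.map R ≠ ⊤ := by
    intro htop
    have h1 : Module.finrank K (S.map R) = l.val + 2 := by
      rw [htop, finrank_top, Module.finrank_fin_fun]
    have h2 := Submodule.finrank_map_le R S
    omega
  obtain ⟨f, hf0, hfS⟩ := Submodule.exists_le_ker_of_lt_top _ (lt_top_iff_ne_top.mpr hne)
  set x0 : K := f (fun j => if (0 : Fin (l.val + 2)) = j then 1 else 0) with hx0
  set x : Fin (l.val + 1) → K := fun r => f (fun j => if r.succ = j then 1 else 0) with hx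
  have hfu : ∀ u : Fin (l.val + 2) → K, f u = x0 * u 0 + ∑ r : Fin (l.val + 1), x r * u r.succ := by
    intro u
    rw [LinearMap.pi_apply_eq_sum_univ f u, Fin.sum_univ_succ]
    simp only [smul_eq_mul, x0, x]
    congr 1
    · ring
    · refine Finset.sum_congr rfl fun r _ => ?_
      ring
  have hrel : ∀ jj, jj < m + 2 →
      x0 * c jj 0 + ∑ r : Fin (l.val + 1), x r * c jj (Fin.castLE l.2 r).succ = 0 := by
    intro jj hjj
    have h1 : c jj ∈ S := hW (mem_W c hjj)
    have h2 : R (c jj) ∈ S.map R := Submodule.mem_map_of_mem h1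
    have h3 := hfS h2
    rw [LinearMap.mem_ker, hfu] at h3
    exact h3
  obtain ⟨h0, hx'⟩ := h x0 x hrel
  apply hf0
  refine LinearMap.ext fun u => ?_
  rw [hfu, h0, hx']
  simp

end Groth.Agent.Lib.Helper16.Jump
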