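import Groth.Agent.Lib.Helper16.Kun2

/-! Künneth isomorphism when the second complex has zero differential and flat terms. -/

set_option autoImplicit false
universe u

namespace Groth.Agent.Lib.Helper16.Kun

open CategoryTheory CategoryTheory.Limits MonoidalCategory HomologicalComplex TensorProduct
open Groth.Agent.Lib.Helper25.TensorCx

variable {R : Type u} [CommRing R]

section General

variable (L K : Cx R)

theorem iCycles_kap' (i j n : ℤ) (h : i + j = n) (t : TensorProduct R (L.cycles i) (K.cycles j)) :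
    (L ⊗ K : Cx R).iCycles n (kap L K i j n h t) =
      inc L K i j n h (TensorProduct.map (L.iCycles i).hom (K.iCycles j).hom t) := by
  induction t using TensorProduct.induction_on with
  | zero => simp
  | tmul z z' => rw [iCycles_kap, TensorProduct.map_tmul]; rfl
  | add a b ha hb => rw [map_add, map_add, ha, hb, map_add, map_add]

theorem phiIJ_qq (i j n : ℤ) (h : i + j = n) (t : TensorProduct R (L.cycles i) (K.cycles j)) :
    phiIJ L K i j n h (qq L K i j t) = kapH L K i j n h t :=
  descSurj_apply (qq L K i j) (qq_surjective L K i j) (kapH L K i j n h) (ker_qq_le L K i j n h) t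

/-- Direct sum of the `Z^i ⊗ Z^j`. -/
abbrev ZZ (n : ℤ) : Type u :=
  DirectSum (HTor.Antidiag n) fun ij => TensorProduct R (L.cycles ij.1.1) (K.cycles ij.1.2)

/-- The total map to cycles. -/
noncomputable def KAP (n : ℤ) : ZZ L K n →ₗ[R] (L ⊗ K : Cx R).cycles n :=
  DirectSum.toModule R (HTor.Antidiag n) _ (fun ij => kap L K ij.1.1 ij.1.2 n ij.2)

/-- The total map to the Künneth sum. -/
noncomputable def QQ (n : ℤ) : ZZ L K n →ₗ[R] HTor.KunnethSum L K n :=
  DirectSum.lmap (fun ij : HTor.Antidiag n => qq L K ij.1.1 ij.1.2)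

theorem QQ_surjective (n : ℤ) : Function.Surjective (QQ L K n) := by
  unfold QQ
  rw [DirectSum.lmap_surjective]
  intro ij
  exact qq_surjective L K ij.1.1 ij.1.2

theorem KAP_lof (n : ℤ) (ij : HTor.Antidiag n)
    (t : TensorProduct R (L.cycles ij.1.1) (K.cycles ij.1.2)) :
    KAP L K n (DirectSum.lof R (HTor.Antidiag n) _ ij t) = kap L K ij.1.1 ij.1.2 n ij.2 t := by
  unfold KAP
  rw [DirectSum.toModule_lof]

theorem QQ_lof (n : ℤ) (ij : HTor.Antidiag n)
    (t : TensorProduct R (L.cycles ij.1.1) (K.cycles ij.1.2)) :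
    QQ L K n (DirectSum.lof R (HTor.Antidiag n) _ ij t) =
      DirectSum.lof R (HTor.Antidiag n) _ ij (qq L K ij.1.1 ij.1.2 t) := by
  unfold QQ
  rw [DirectSum.lmap_lof]

theorem phi_QQ (n : ℤ) (τ : ZZ L K n) :
    phi L K n (QQ L K n τ) = (L ⊗ K : Cx R).homologyπ n (KAP L K n τ) := by
  have : phi L K n ∘ₗ QQ L K n = ((L ⊗ K : Cx R).homologyπ n).hom ∘ₗ KAP L K n := by
    apply DirectSum.linearMap_ext
    intro ij
    apply LinearMap.ext
    intro t
    rw [LinearMap.comp_apply, LinearMap.comp_apply, LinearMap.comp_apply, LinearMap.comp_apply,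
      QQ_lof, KAP_lof, phi_lof, phiIJ_qq]
    rfl
  exact LinearMap.congr_fun this τ

theorem comp_iCycles_KAP (i j n : ℤ) (h : i + j = n) (τ : ZZ L K n) :
    comp L K i j n h ((L ⊗ K : Cx R).iCycles n (KAP L K n τ)) =
      TensorProduct.map (L.iCycles i).hom (K.iCycles j).hom
        (DirectSum.component R (HTor.Antidiag n) _ ⟨(i, j), h⟩ τ) := by
  have : (comp L K i j n h ∘ₗ ((L ⊗ K : Cx R).iCycles n).hom) ∘ₗ KAP L K n =
      TensorProduct.map (L.iCycles i).hom (K.iCycles j).hom ∘ₗ
        DirectSum.component R (HTor.Antidiag n)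
          (fun ij => TensorProduct R (L.cycles ij.1.1) (K.cycles ij.1.2)) ⟨(i, j), h⟩ := by
    apply DirectSum.linearMap_ext
    intro ij'
    apply LinearMap.ext
    intro t
    obtain ⟨⟨i', j'⟩, h'⟩ := ij'
    simp only [LinearMap.comp_apply]
    rw [KAP_lof]
    change comp L K i j n h ((L ⊗ K : Cx R).iCycles n (kap L K i' j' n h' t)) = _
    rw [iCycles_kap']
    by_cases hi : i' = i
    · subst hi
      have hj : j' = j := by
        have h1 : i' + j' = n := h'
        omega
      subst hj
      rw [comp_inc_self, DirectSum.component.lof_self]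
    · rw [comp_inc_ne L K i j i' j' n h h' hi]
      rw [DirectSum.component.of, dif_neg, map_zero]
      intro e
      apply hi
      have := congrArg (fun x : HTor.Antidiag n => x.1.1) e
      exact this
  exact LinearMap.congr_fun this τ

end General

section ZeroD

variable (L S : Cx R)

theorem iCycles_bijective_of_d_eq_zero (j : ℤ) (hd : S.d j (j + 1) = 0) :
    Function.Bijective (S.iCycles j) := by
  have := S.isIso_iCycles j (j + 1) (by simp) hd
  exact ConcreteCategory.bijective_of_isIso (S.iCycles j)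

/-- Lifting lemma. -/
theorem lift_of_rTensor_d_eq_zero (i j : ℤ) [Module.Flat R (S.X j)]
    (hb : Function.Bijective (S.iCycles j))
    (t : TensorProduct R (L.X i) (S.X j))
    (ht : LinearMap.rTensor (S.X j) (L.d i (i + 1)).hom t = 0) :
    ∃ τ : TensorProduct R (L.cycles i) (S.cycles j),
      TensorProduct.map (L.iCycles i).hom (S.iCycles j).hom τ = t := by
  have hex := Module.Flat.rTensor_exact (S.X j) (exact_iCycles_d L i (i + 1) rfl)
  obtain ⟨τ', hτ'⟩ := (hex t).1 ht
  let e : S.cycles j ≃ₗ[R] S.X j := LinearEquiv.ofBijective (S.iCycles j).hom hb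
  refine ⟨LinearMap.lTensor (L.cycles i) e.symm.toLinearMap τ', ?_⟩
  rw [← hτ']
  have : TensorProduct.map (L.iCycles i).hom (S.iCycles j).hom ∘ₗ
      LinearMap.lTensor (L.cycles i) e.symm.toLinearMap =
      LinearMap.rTensor (S.X j) (L.iCycles i).hom := by
    apply TensorProduct.ext'
    intro z s
    rw [LinearMap.comp_apply, LinearMap.lTensor_tmul, TensorProduct.map_tmul,
      LinearMap.rTensor_tmul]
    congr 1
    exact e.apply_symm_apply s
  exact LinearMap.congr_fun this τ'

/-- Killing lemma. -/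
theorem qq_eq_zero_of_boundary (i₀ i j : ℤ) (hi : i₀ + 1 = i) [Module.Flat R (S.X j)]
    (hb : Function.Bijective (S.iCycles j))
    (τ : TensorProduct R (L.cycles i) (S.cycles j)) (y : TensorProduct R (L.X i₀) (S.X j))
    (hy : TensorProduct.map (L.iCycles i).hom (S.iCycles j).hom τ =
      LinearMap.rTensor (S.X j) (L.d i₀ i).hom y) :
    qq L S i j τ = 0 := by
  let e : S.cycles j ≃ₗ[R] S.X j := LinearEquiv.ofBijective (S.iCycles j).hom hb
  have hinj : Function.Injective (LinearMap.rTensor (S.X j) (L.iCycles i).hom) :=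
    Module.Flat.rTensor_preserves_injective_linearMap _ (iCycles_injective L i)
  have h1 : TensorProduct.map (L.iCycles i).hom (S.iCycles j).hom τ =
      LinearMap.rTensor (S.X j) (L.iCycles i).hom
        (LinearMap.lTensor (L.cycles i) (S.iCycles j).hom τ) := by
    rw [← LinearMap.comp_apply, LinearMap.rTensor_comp_lTensor]
  have h2 : LinearMap.rTensor (S.X j) (L.d i₀ i).hom y =
      LinearMap.rTensor (S.X j) (L.iCycles i).hom
        (LinearMap.rTensor (S.X j) (L.toCycles i₀ i).hom y) := by
    rw [← LinearMap.comp_apply, ← LinearMap.rTensor_comp]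
    congr 2
    have := L.toCycles_i i₀ i
    exact (congrArg ModuleCat.Hom.hom this).symm
  have h3 : LinearMap.lTensor (L.cycles i) (S.iCycles j).hom τ =
      LinearMap.rTensor (S.X j) (L.toCycles i₀ i).hom y := by
    apply hinj
    rw [← h1, ← h2, hy]
  have h4 : qq L S i j τ = TensorProduct.map (L.homologyπ i).hom
      ((S.homologyπ j).hom ∘ₗ e.symm.toLinearMap)
      (LinearMap.lTensor (L.cycles i) (S.iCycles j).hom τ) := by
    have : qq L S i j = TensorProduct.map (L.homologyπ i).hom
        ((S.homologyπ j).hom ∘ₗ e.symm.toLinearMap) ∘ₗ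
        LinearMap.lTensor (L.cycles i) (S.iCycles j).hom := by
      apply TensorProduct.ext'
      intro z s
      rw [LinearMap.comp_apply, LinearMap.lTensor_tmul, TensorProduct.map_tmul]
      unfold qq
      rw [TensorProduct.map_tmul]
      have hs : ((S.homologyπ j).hom ∘ₗ e.symm.toLinearMap) ((S.iCycles j).hom s) =
          (S.homologyπ j).hom s := by
        rw [LinearMap.comp_apply]
        exact congrArg _ (e.symm_apply_apply s)
      rw [hs]
    exact LinearMap.congr_fun this τ
  rw [h4, h3]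
  have h5 : TensorProduct.map (L.homologyπ i).hom ((S.homologyπ j).hom ∘ₗ e.symm.toLinearMap) ∘ₗ
      LinearMap.rTensor (S.X j) (L.toCycles i₀ i).hom = 0 := by
    apply TensorProduct.ext'
    intro x s
    rw [LinearMap.comp_apply, LinearMap.rTensor_tmul, TensorProduct.map_tmul]
    have : (L.homologyπ i).hom ((L.toCycles i₀ i).hom x) = 0 := homologyπ_toCycles_apply L i₀ i x
    rw [this, TensorProduct.zero_tmul]
    rfl
  exact LinearMap.congr_fun h5 y

variable (hd : ∀ i j, S.d i j = 0) (hS : ∀ j, Module.Flat R (S.X j))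
include hd hS

theorem KAP_surjective_of_d_eq_zero (n : ℤ) : Function.Surjective (KAP L S n) := by
  classical
  intro w
  obtain ⟨s, hs⟩ := exists_finset_sum L S ((L ⊗ S : Cx R).iCycles n w)
  have hlift : ∀ i : Idx n, ∃ τ : TensorProduct R (L.cycles i.1.1) (S.cycles i.1.2),
      TensorProduct.map (L.iCycles i.1.1).hom (S.iCycles i.1.2).hom τ =
        comp L S i.1.1 i.1.2 n i.2 ((L ⊗ S : Cx R).iCycles n w) := by
    intro i
    have := hS i.1.2
    apply lift_of_rTensor_d_eq_zero L S i.1.1 i.1.2
      (iCycles_bijective_of_d_eq_zero S i.1.2 (hd _ _))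
    have h1 := comp_d L S i.1.1 (i.1.1 + 1) (i.1.2 - 1) i.1.2 n (n + 1) rfl (by omega) rfl
      (by have := i.2; change i.1.1 + i.1.2 = n at this; omega)
      ((L ⊗ S : Cx R).iCycles n w)
    rw [iCycles_d_apply, map_zero, hd] at h1
    simp only [ModuleCat.hom_zero, LinearMap.lTensor_zero, LinearMap.zero_apply, smul_zero,
      add_zero] at h1
    exact h1.symm
  choose τ hτ using hlift
  refine ⟨∑ i ∈ s, DirectSum.lof R (HTor.Antidiag n) _ ⟨i.1, i.2⟩ (τ i), ?_⟩
  apply iCycles_injective
  rw [map_sum, map_sum]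
  conv_rhs => rw [hs]
  refine Finset.sum_congr rfl fun i _ => ?_
  rw [KAP_lof, iCycles_kap', hτ]

theorem phi_surjective_of_d_eq_zero (n : ℤ) : Function.Surjective (phi L S n) := by
  intro c
  obtain ⟨w, rfl⟩ := homologyπ_surjective (L ⊗ S : Cx R) n c
  obtain ⟨τ, rfl⟩ := KAP_surjective_of_d_eq_zero L S hd hS n w
  exact ⟨QQ L S n τ, phi_QQ L S n τ⟩

theorem phi_injective_of_d_eq_zero (n : ℤ) : Function.Injective (phi L S n) := by
  rw [injective_iff_map_eq_zero]
  intro u hu
  obtain ⟨τ, rfl⟩ := QQ_surjective L S n u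
  rw [phi_QQ] at hu
  obtain ⟨y, hy⟩ := exists_toCycles_of_homologyπ_eq_zero (L ⊗ S : Cx R) (n - 1) n (by omega) _ hu
  apply DFinsupp.ext
  rintro ⟨⟨i, j⟩, h⟩
  change QQ L S n τ ⟨(i, j), h⟩ = 0
  unfold QQ
  rw [DirectSum.lmap_apply]
  have := hS j
  have h' : i + j = n := h
  apply qq_eq_zero_of_boundary L S (i - 1) i j (by omega)
    (iCycles_bijective_of_d_eq_zero S j (hd _ _)) _
    (comp L S (i - 1) j (n - 1) (by omega) y)
  have h1 := comp_iCycles_KAP L S i j n h τ
  rw [← hy, toCycles_i_apply] at h1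
  have h2 := comp_d L S (i - 1) i (j - 1) j (n - 1) n (by omega) (by omega) (by omega) h' y
  rw [hd] at h2
  simp only [ModuleCat.hom_zero, LinearMap.lTensor_zero, LinearMap.zero_apply, smul_zero,
    add_zero] at h2
  rw [← h2]
  exact h1.symm

theorem phi_bijective_of_d_eq_zero (n : ℤ) : Function.Bijective (phi L S n) :=
  ⟨phi_injective_of_d_eq_zero L S hd hS n, phi_surjective_of_d_eq_zero L S hd hS n⟩

end ZeroD

end Groth.Agent.Lib.Helper16.Kun
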