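import Groth.Agent.Lib.Helper16.Kun3
import Groth.Agent.Lib.Helper25.KFlatQis

/-! A "Cartan–Eilenberg free" cover `P → M` of a complex: termwise surjective, surjective on
homology, with `P` quasi-isomorphic to a zero-differential complex of free modules. -/

set_option autoImplicit false
universe u

namespace Groth.Agent.Lib.Helper16.Kun

open CategoryTheory CategoryTheory.Limits MonoidalCategory HomologicalComplex TensorProduct
open Groth.Agent.Lib.Helper25.TensorCx Groth.Agent.Lib.Helper25.KFlat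
open Groth.Agent.Lib.Helper25.KFlatRes (zeroD zeroD_d)

variable {R : Type u} [CommRing R] (M : Cx R)

/-- Nonzero cycles in degree `j`. -/
abbrev CycGen (j : ℤ) : Type u := {m : M.X j // m ≠ 0 ∧ M.d j (j + 1) m = 0}

/-- Elements of degree `j` with nonzero boundary. -/
abbrev BdGen (j : ℤ) : Type u := {m : M.X j // M.d j (j + 1) m ≠ 0}

/-- Boundary targets in degree `j`. -/
abbrev BdTgt (j : ℤ) : Type u := {x : (k : ℤ) × BdGen M k // x.1 + 1 = j}

/-- The bijection `BdGen j ≃ BdTgt (j+1)`. -/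
def bdι (j : ℤ) : BdGen M j → BdTgt M (j + 1) := fun m => ⟨⟨j, m⟩, rfl⟩

theorem bdι_injective (j : ℤ) : Function.Injective (bdι M j) := by
  intro m m' h
  have h1 := congrArg Subtype.val h
  change (⟨j, m⟩ : (k : ℤ) × BdGen M k) = ⟨j, m'⟩ at h1
  exact eq_of_heq (Sigma.mk.inj h1).2

theorem bdι_surjective (j : ℤ) : Function.Surjective (bdι M j) := by
  rintro ⟨⟨k, m⟩, hk⟩
  have hk' : k = j := by
    have : k + 1 = j + 1 := hk
    omega
  subst hk'
  exact ⟨m, rfl⟩

/-- The terms of the cover. -/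
abbrev PX (j : ℤ) : Type u := (CycGen M j →₀ R) × (BdGen M j →₀ R) × (BdTgt M j →₀ R)

/-- The differential of the cover. -/
noncomputable def dP (j : ℤ) : PX (R := R) M j →ₗ[R] PX (R := R) M (j + 1) :=
  LinearMap.prod 0 (LinearMap.prod 0
    (Finsupp.lmapDomain R R (bdι M j) ∘ₗ LinearMap.fst R _ _ ∘ₗ LinearMap.snd R _ _))

theorem dP_apply (j : ℤ) (a : CycGen M j →₀ R) (g : BdGen M j →₀ R) (h : BdTgt M j →₀ R) :
    dP M j (a, g, h) = (0, 0, Finsupp.mapDomain (bdι M j) g) := rfl

/-- The cover complex. -/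
noncomputable def P : Cx R :=
  CochainComplex.of (fun j => ModuleCat.of R (PX (R := R) M j))
    (fun j => ModuleCat.ofHom (dP M j)) (by
      intro j
      apply ModuleCat.hom_ext
      apply LinearMap.ext
      rintro ⟨a, g, h⟩
      change dP M (j + 1) (dP M j (a, g, h)) = 0
      rw [dP_apply, dP_apply, Finsupp.mapDomain_zero]
      rfl)

theorem P_d (j : ℤ) (x : PX (R := R) M j) : (P M).d j (j + 1) x = dP M j x := by
  change (CochainComplex.of.d (fun j => ModuleCat.of R (PX (R := R) M j))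
    (fun j => ModuleCat.ofHom (dP M j)) j (j + 1)).hom x = _
  rw [CochainComplex.of_d]
  rfl

/-- The linear maps of the cover. -/
noncomputable def πL (j : ℤ) : PX (R := R) M j →ₗ[R] M.X j :=
  LinearMap.coprod (Finsupp.linearCombination R (fun m : CycGen M j => m.1))
    (LinearMap.coprod (Finsupp.linearCombination R (fun m : BdGen M j => m.1))
      (Finsupp.linearCombination R (fun x : BdTgt M j => (M.d x.1.1 j).hom x.1.2.1)))

theorem πL_apply (j : ℤ) (a : CycGen M j →₀ R) (g : BdGen M j →₀ R) (h : BdTgt M j →₀ R) :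
    πL M j (a, g, h) = Finsupp.linearCombination R (fun m : CycGen M j => m.1) a +
      (Finsupp.linearCombination R (fun m : BdGen M j => m.1) g +
        Finsupp.linearCombination R (fun x : BdTgt M j => (M.d x.1.1 j).hom x.1.2.1) h) := rfl

theorem d_πL (j : ℤ) (a : CycGen M j →₀ R) (g : BdGen M j →₀ R) (h : BdTgt M j →₀ R) :
    (M.d j (j + 1)).hom (πL M j (a, g, h)) =
      Finsupp.linearCombination R (fun m : BdGen M j => (M.d j (j + 1)).hom m.1) g := by
  rw [πL_apply, map_add, map_add, Finsupp.apply_linearCombination,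
    Finsupp.apply_linearCombination, Finsupp.apply_linearCombination]
  have h1 : ((M.d j (j + 1)).hom ∘ fun m : CycGen M j => m.1) = 0 := by
    funext m
    exact m.2.2
  have h3 : ((M.d j (j + 1)).hom ∘ fun x : BdTgt M j => (M.d x.1.1 j).hom x.1.2.1) = 0 := by
    funext x
    exact d_d_apply M x.1.1 j (j + 1) x.1.2.1
  simp only [h1, h3, Finsupp.linearCombination_zero, LinearMap.zero_apply, zero_add, add_zero]
  rfl

/-- The cover map. -/
noncomputable def πP : P M ⟶ M where
  f j := ModuleCat.ofHom (πL M j)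
  comm' i j hij := by
    have hij' : i + 1 = j := hij
    subst hij'
    apply ModuleCat.hom_ext
    apply LinearMap.ext
    rintro ⟨a, g, h⟩
    change (M.d i (i + 1)).hom (πL M i (a, g, h)) = πL M (i + 1) ((P M).d i (i + 1) (a, g, h))
    rw [d_πL, P_d, dP_apply, πL_apply, map_zero, map_zero, zero_add, zero_add,
      Finsupp.linearCombination_mapDomain]
    rfl

theorem πP_f_apply (j : ℤ) (x : PX (R := R) M j) : (πP M).f j x = πL M j x := rfl

theorem πP_surjective (j : ℤ) : Function.Surjective ((πP M).f j) := by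
  intro m
  by_cases hd : M.d j (j + 1) m = 0
  · by_cases hm : m = 0
    · exact ⟨0, by rw [map_zero, hm]⟩
    · refine ⟨((Finsupp.single ⟨m, hm, hd⟩ 1, 0, 0) : PX (R := R) M j), ?_⟩
      rw [πP_f_apply, πL_apply, Finsupp.linearCombination_single, map_zero, map_zero, one_smul,
        add_zero, add_zero]
  · refine ⟨((0, Finsupp.single ⟨m, hd⟩ 1, 0) : PX (R := R) M j), ?_⟩
    rw [πP_f_apply, πL_apply, Finsupp.linearCombination_single, map_zero, map_zero, one_smul,
      add_zero, zero_add]

/-- The zero-differential free complex. -/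
noncomputable def SS : Cx R := zeroD (R := R) (fun j => CycGen M j →₀ R)

theorem SS_d (i j : ℤ) : (SS (R := R) M).d i j = 0 := zeroD_d _ i j

instance SS_flat (j : ℤ) : Module.Flat R ((SS (R := R) M).X j) := by
  change Module.Flat R (CycGen M j →₀ R)
  infer_instance

/-- The inclusion of the zero-differential part. -/
noncomputable def incl : SS (R := R) M ⟶ P M where
  f j := ModuleCat.ofHom (LinearMap.inl R (CycGen M j →₀ R) ((BdGen M j →₀ R) × (BdTgt M j →₀ R)))
  comm' i j hij := by
    have hij' : i + 1 = j := hij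
    subst hij'
    apply ModuleCat.hom_ext
    apply LinearMap.ext
    intro a
    rw [SS_d]
    change (P M).d i (i + 1) ((a, 0, 0) : PX (R := R) M i) = 0
    rw [P_d, dP_apply, Finsupp.mapDomain_zero]
    rfl

theorem incl_f_apply (j : ℤ) (a : CycGen M j →₀ R) :
    (incl (R := R) M).f j a = ((a, 0, 0) : PX (R := R) M j) := rfl

theorem homologyMap_incl_bijective (j : ℤ) :
    Function.Bijective (homologyMap (incl (R := R) M) j) := by
  obtain ⟨j₀, rfl⟩ : ∃ j₀, j = j₀ + 1 := ⟨j - 1, by omega⟩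
  constructor
  · apply homologyMap_injective_of (incl (R := R) M) j₀ (j₀ + 1) (j₀ + 1 + 1) rfl rfl
    intro y _ hy
    obtain ⟨u, hu⟩ := hy
    obtain ⟨a', g', h'⟩ := u
    refine ⟨0, ?_⟩
    rw [map_zero]
    have h1 : (incl (R := R) M).f (j₀ + 1) y = (P M).d j₀ (j₀ + 1) ((a', g', h') : PX (R := R) M j₀) :=
      hu
    rw [P_d, dP_apply] at h1
    exact congrArg Prod.fst h1
  · apply homologyMap_surjective_of (incl (R := R) M) j₀ (j₀ + 1) (j₀ + 1 + 1) rfl rfl
    intro x hx
    obtain ⟨a, g, h⟩ := x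
    have hx' : (P M).d (j₀ + 1) (j₀ + 1 + 1) ((a, g, h) : PX (R := R) M (j₀ + 1)) = 0 := hx
    rw [P_d, dP_apply] at hx'
    have hg : g = 0 := by
      have h2 : Finsupp.mapDomain (bdι M (j₀ + 1)) g = 0 := congrArg (fun x => x.2.2) hx'
      apply Finsupp.mapDomain_injective (bdι_injective M (j₀ + 1))
      rw [h2, Finsupp.mapDomain_zero]
    subst hg
    refine ⟨a, ?_, ?_⟩
    · rw [SS_d]
      rfl
    · obtain ⟨g', hg'⟩ := Finsupp.mapDomain_surjective (bdι_surjective M j₀) (-h)
      refine ⟨((0, g', 0) : PX (R := R) M j₀), ?_⟩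
      rw [P_d, dP_apply, incl_f_apply, hg']
      change ((a, 0, 0) : PX (R := R) M (j₀ + 1)) - (a, 0, h) = (0, 0, -h)
      exact Prod.ext (sub_self a) (Prod.ext (sub_self (0 : BdGen M (j₀ + 1) →₀ R)) (zero_sub h))

theorem quasiIso_incl : QuasiIso (incl (R := R) M) := by
  rw [quasiIso_iff]
  intro j
  rw [quasiIsoAt_iff_isIso_homologyMap]
  exact (ConcreteCategory.isIso_iff_bijective _).2 (homologyMap_incl_bijective M j)

theorem homologyMap_πP_surjective (j : ℤ) : Function.Surjective (homologyMap (πP M) j) := by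
  obtain ⟨j₀, rfl⟩ : ∃ j₀, j = j₀ + 1 := ⟨j - 1, by omega⟩
  apply homologyMap_surjective_of (πP M) j₀ (j₀ + 1) (j₀ + 1 + 1) rfl rfl
  intro m hd
  by_cases hm : m = 0
  · refine ⟨0, map_zero _, 0, ?_⟩
    rw [map_zero, map_zero, hm, sub_zero]
  · refine ⟨((Finsupp.single ⟨m, hm, hd⟩ 1, 0, 0) : PX (R := R) M (j₀ + 1)), ?_, 0, ?_⟩
    · rw [P_d, dP_apply, Finsupp.mapDomain_zero]
      rfl
    · rw [map_zero, πP_f_apply, πL_apply, Finsupp.linearCombination_single, map_zero, map_zero,
        one_smul, add_zero, add_zero, sub_self]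

end Groth.Agent.Lib.Helper16.Kun
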