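import Groth.Agent.Lib.Helper16.Kun4

/-! The short exact sequence `0 → K1 → P → M → 0` and its consequences. -/

set_option autoImplicit false
universe u

namespace Groth.Agent.Lib.Helper16.Kun

open CategoryTheory CategoryTheory.Limits MonoidalCategory HomologicalComplex TensorProduct
open Groth.Agent.Lib.Helper25.TensorCx Groth.Agent.Lib.Helper25.KFlat

variable {R : Type u} [CommRing R]

section PKunneth

variable (L : Cx R) (hL : IsKFlat L) (M : Cx R)
include hL

theorem phi_bijective_P (n : ℤ) : Function.Bijective (phi L (P M) n) := by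
  have hq : QuasiIso (L ◁ incl (R := R) M) :=
    quasiIso_whiskerLeft_of_isKFlat L hL (incl (R := R) M) (quasiIso_incl M)
  have h1 : Function.Bijective (homologyMap (L ◁ incl (R := R) M) n) := by
    have : IsIso (homologyMap (L ◁ incl (R := R) M) n) := by
      rw [← quasiIsoAt_iff_isIso_homologyMap]
      exact hq.quasiIsoAt n
    exact ConcreteCategory.bijective_of_isIso _
  have h2 : Function.Bijective (phi L (SS (R := R) M) n) :=
    phi_bijective_of_d_eq_zero L (SS (R := R) M) (SS_d M) (fun j => SS_flat M j) n
  have h3 : Function.Bijective (ksMap L (incl (R := R) M) n) :=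
    ksMap_bijective L (incl (R := R) M) n (homologyMap_incl_bijective M)
  have h4 : ∀ x, homologyMap (L ◁ incl (R := R) M) n (phi L (SS (R := R) M) n x) =
      phi L (P M) n (ksMap L (incl (R := R) M) n x) := phi_natural_apply L (incl (R := R) M) n
  have h5 : Function.Bijective
      ((phi L (P M) n) ∘ (ksMap L (incl (R := R) M) n)) := by
    have : ((phi L (P M) n) ∘ (ksMap L (incl (R := R) M) n)) =
        (homologyMap (L ◁ incl (R := R) M) n) ∘ (phi L (SS (R := R) M) n) := by
      funext x
      exact (h4 x).symm
    rw [this]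
    exact h1.comp h2
  exact (Function.Bijective.of_comp_iff _ h3).1 h5

end PKunneth

section SES

variable (M : Cx R)

/-- The kernel of the cover. -/
noncomputable def K1 : Cx R := kernel (πP M)

/-- The inclusion of the kernel. -/
noncomputable def ι1 : K1 M ⟶ P M := kernel.ι (πP M)

/-- The short complex `K1 → P → M`. -/
noncomputable def ses : ShortComplex (Cx R) :=
  ShortComplex.mk (ι1 M) (πP M) (kernel.condition (πP M))

instance epi_πP : Epi (πP M) := by
  apply HomologicalComplex.epi_of_epi_f
  intro j
  exact (ModuleCat.epi_iff_surjective _).2 (πP_surjective M j)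

theorem ses_shortExact : (ses M).ShortExact := by
  refine ShortComplex.ShortExact.mk' ?_ ?_ ?_
  · exact ShortComplex.exact_of_f_is_kernel _ (kernelIsKernel (πP M))
  · change Mono (kernel.ι (πP M))
    infer_instance
  · change Epi (πP M)
    infer_instance

theorem isEmpty_cycGen (j : ℤ) (h : IsZero (M.X j)) : IsEmpty (CycGen M j) := by
  have := ModuleCat.subsingleton_of_isZero h
  exact ⟨fun m => m.2.1 (Subsingleton.elim _ _)⟩

theorem isEmpty_bdGen (j : ℤ) (h : IsZero (M.X (j + 1))) : IsEmpty (BdGen M j) := by
  have := ModuleCat.subsingleton_of_isZero h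
  exact ⟨fun m => m.2 (Subsingleton.elim _ _)⟩

theorem isEmpty_bdTgt (j : ℤ) (h : IsZero (M.X j)) : IsEmpty (BdTgt M j) := by
  refine ⟨?_⟩
  rintro ⟨⟨k, m⟩, hk⟩
  have hk' : k + 1 = j := hk
  subst hk'
  exact (isEmpty_bdGen M k h).false m

theorem isZero_P (j : ℤ) (h0 : IsZero (M.X j)) (h1 : IsZero (M.X (j + 1))) :
    IsZero ((P M).X j) := by
  have := isEmpty_cycGen M j h0
  have := isEmpty_bdGen M j h1
  have := isEmpty_bdTgt M j h0
  have : Subsingleton (PX (R := R) M j) := inferInstance
  exact ModuleCat.isZero_of_subsingleton (ModuleCat.of R (PX (R := R) M j))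

theorem isZero_K1 (j : ℤ) (h0 : IsZero (M.X j)) (h1 : IsZero (M.X (j + 1))) :
    IsZero ((K1 M).X j) := by
  have hm : Mono (ι1 M) := by
    change Mono (kernel.ι (πP M))
    infer_instance
  have : Mono ((ι1 M).f j) := inferInstance
  exact IsZero.of_mono ((ι1 M).f j) (isZero_P M j h0 h1)

theorem vanishesAbove_P (b : ℤ) (hb : DRing.VanishesAbove M b) : DRing.VanishesAbove (P M) b :=
  fun j hj => isZero_P M j (hb j hj) (hb (j + 1) (by omega))

theorem vanishesAbove_K1 (b : ℤ) (hb : DRing.VanishesAbove M b) : DRing.VanishesAbove (K1 M) b :=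
  fun j hj => isZero_K1 M j (hb j hj) (hb (j + 1) (by omega))

/-- `H^j(K1) → H^j(P)` is injective. -/
theorem homologyMap_ι1_injective (j : ℤ) : Function.Injective (homologyMap (ι1 M) j) := by
  have hS := ses_shortExact M
  have hex := hS.homology_exact₁ (j - 1) j (by simp)
  have hex' := (ShortComplex.ShortExact.moduleCat_exact_iff_function_exact _).1 hex
  rw [injective_iff_map_eq_zero]
  intro x hx
  obtain ⟨y, rfl⟩ := (hex' x).1 hx
  obtain ⟨w, rfl⟩ := homologyMap_πP_surjective M (j - 1) y
  have := hS.comp_δ (j - 1) j (by simp)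
  have h2 := congrArg (fun f => f w) (congrArg ModuleCat.Hom.hom this)
  exact h2

/-- Exactness of `H^j(K1) → H^j(P) → H^j(M)`. -/
theorem homology_exact_mid (j : ℤ) :
    Function.Exact (homologyMap (ι1 M) j) (homologyMap (πP M) j) := by
  have hS := ses_shortExact M
  have hex := hS.homology_exact₂ j
  exact (ShortComplex.ShortExact.moduleCat_exact_iff_function_exact _).1 hex

/-- The short exact sequence of homology modules. -/
noncomputable def hSES (j : ℤ) : ShortComplex (ModuleCat.{u} R) :=
  ShortComplex.mk (homologyMap (ι1 M) j) (homologyMap (πP M) j) (by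
    rw [← homologyMap_comp]
    have : ι1 M ≫ πP M = 0 := kernel.condition (πP M)
    rw [this, homologyMap_zero])

theorem hSES_shortExact (j : ℤ) : (hSES M j).ShortExact := by
  refine ShortComplex.ShortExact.mk' ?_ ?_ ?_
  · exact (ShortComplex.ShortExact.moduleCat_exact_iff_function_exact _).2
      (homology_exact_mid M j)
  · exact (ModuleCat.mono_iff_injective _).2 (homologyMap_ι1_injective M j)
  · exact (ModuleCat.epi_iff_surjective _).2 (homologyMap_πP_surjective M j)

/-- `H^j(P)` is projective. -/
theorem projective_homology_P (j : ℤ) : Projective ((P M).homology j) := by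
  have h1 : IsIso (homologyMap (incl (R := R) M) j) :=
    (ConcreteCategory.isIso_iff_bijective _).2 (homologyMap_incl_bijective M j)
  have h2 : IsIso ((SS (R := R) M).homologyπ j) :=
    (SS (R := R) M).isIso_homologyπ (j - 1) j (by simp) (SS_d M _ _)
  have h3 : IsIso ((SS (R := R) M).iCycles j) :=
    (SS (R := R) M).isIso_iCycles j (j + 1) (by simp) (SS_d M _ _)
  have e1 : (SS (R := R) M).homology j ≅ (P M).homology j := asIso (homologyMap (incl (R := R) M) j)
  have e2 : (SS (R := R) M).cycles j ≅ (SS (R := R) M).homology j :=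
    asIso ((SS (R := R) M).homologyπ j)
  have e3 : (SS (R := R) M).cycles j ≅ (SS (R := R) M).X j :=
    @asIso _ _ _ _ ((SS (R := R) M).iCycles j) h3
  have e : (P M).homology j ≅ ModuleCat.of R (CycGen M j →₀ R) := e1.symm ≪≫ e2.symm ≪≫ e3
  have hp : Projective (ModuleCat.of R (CycGen M j →₀ R)) :=
    ModuleCat.projective_of_free (Finsupp.basisSingleOne (R := R) (ι := CycGen M j))
  exact Projective.of_iso e.symm hp

end SES

end Groth.Agent.Lib.Helper16.Kun
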