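import Groth.Agent.Lib.Helper16.Kun5
import Groth.Agent.Lib.Helper68.LeftDerivedLES2

/-! Subquotient calculus, Tor dimension shifting for the homology SES, and Tor-sum maps. -/

set_option autoImplicit false
universe u

namespace Groth.Agent.Lib.Helper16.Kun

open CategoryTheory CategoryTheory.Limits MonoidalCategory HomologicalComplex TensorProduct

variable {R : Type u} [CommRing R]

section SubQ

variable {N T H : Type u} [AddCommGroup N] [Module R N] [AddCommGroup T] [Module R T]
  [AddCommGroup H] [Module R H]

theorem isSubquotient_of_maps (f : T →ₗ[R] H) (g : N →ₗ[R] H) (hg : Function.Injective g)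
    (hr : LinearMap.range g ≤ LinearMap.range f) : HTor.IsSubquotient R N T := by
  refine ⟨LinearMap.ker f, (LinearMap.range g).comap f, ?_, ⟨?_⟩⟩
  · intro x hx
    rw [LinearMap.mem_ker] at hx
    rw [Submodule.mem_comap, hx]
    exact zero_mem _
  · -- N ≃ range g
    let e1 : N ≃ₗ[R] LinearMap.range g := LinearEquiv.ofInjective g hg
    -- the map S' → range g
    let φ : ((LinearMap.range g).comap f) →ₗ[R] LinearMap.range g :=
      (f.domRestrict ((LinearMap.range g).comap f)).codRestrict (LinearMap.range g)
        (fun x => x.2)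
    have hφs : Function.Surjective φ := by
      rintro ⟨y, hy⟩
      obtain ⟨t, ht⟩ := hr hy
      refine ⟨⟨t, ?_⟩, ?_⟩
      · rw [Submodule.mem_comap, ht]; exact hy
      · apply Subtype.ext
        exact ht
    have hφk : LinearMap.ker φ =
        Submodule.comap ((LinearMap.range g).comap f).subtype (LinearMap.ker f) := by
      ext x
      rw [LinearMap.mem_ker, Submodule.mem_comap, LinearMap.mem_ker]
      constructor
      · intro h
        exact congrArg Subtype.val h
      · intro h
        apply Subtype.ext
        exact h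
    let e2 : (((LinearMap.range g).comap f) ⧸ LinearMap.ker φ) ≃ₗ[R] LinearMap.range g :=
      φ.quotKerEquivOfSurjective hφs
    let e3 : (((LinearMap.range g).comap f) ⧸ LinearMap.ker φ) ≃ₗ[R]
        (((LinearMap.range g).comap f) ⧸
          Submodule.comap ((LinearMap.range g).comap f).subtype (LinearMap.ker f)) :=
      Submodule.quotEquivOfEq _ _ hφk
    exact e1.trans (e2.symm.trans e3)

theorem IsSubquotient.exists_maps (h : HTor.IsSubquotient R N T) :
    ∃ (S : Submodule R T) (g : N →ₗ[R] (T ⧸ S)), Function.Injective g := by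
  obtain ⟨S, S', hle, ⟨e⟩⟩ := h
  have hk : Submodule.comap S'.subtype S ≤ LinearMap.ker (S.mkQ ∘ₗ S'.subtype) := by
    intro x hx
    rw [LinearMap.mem_ker, LinearMap.comp_apply, Submodule.mkQ_apply,
      Submodule.Quotient.mk_eq_zero]
    exact hx
  refine ⟨S, (Submodule.liftQ _ (S.mkQ ∘ₗ S'.subtype) hk) ∘ₗ e.toLinearMap, ?_⟩
  have hinj : Function.Injective (Submodule.liftQ _ (S.mkQ ∘ₗ S'.subtype) hk) := by
    rw [← LinearMap.ker_eq_bot, Submodule.ker_liftQ_eq_bot]
    intro x hx
    rw [LinearMap.mem_ker, LinearMap.comp_apply, Submodule.mkQ_apply,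
      Submodule.Quotient.mk_eq_zero] at hx
    exact hx
  exact hinj.comp e.injective

theorem isSubquotient_of_injective_left {N' : Type u} [AddCommGroup N'] [Module R N']
    (j : N →ₗ[R] N') (hj : Function.Injective j) (h : HTor.IsSubquotient R N' T) :
    HTor.IsSubquotient R N T := by
  obtain ⟨S, g, hg⟩ := IsSubquotient.exists_maps h
  refine isSubquotient_of_maps S.mkQ (g ∘ₗ j) (hg.comp hj) ?_
  rw [Submodule.range_mkQ]
  exact le_top

theorem isSubquotient_of_surjective_right {T' : Type u} [AddCommGroup T'] [Module R T']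
    (θ : T' →ₗ[R] T) (hθ : Function.Surjective θ) (h : HTor.IsSubquotient R N T) :
    HTor.IsSubquotient R N T' := by
  obtain ⟨S, g, hg⟩ := IsSubquotient.exists_maps h
  refine isSubquotient_of_maps (S.mkQ ∘ₗ θ) g hg ?_
  rw [LinearMap.range_comp, LinearMap.range_eq_top.2 hθ, Submodule.map_top, Submodule.range_mkQ]
  exact le_top

theorem isSubquotient_of_subsingleton [Subsingleton N] : HTor.IsSubquotient R N T := by
  refine isSubquotient_of_maps (0 : T →ₗ[R] T) (0 : N →ₗ[R] T) ?_ ?_
  · intro a b _
    exact Subsingleton.elim a b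
  · rw [LinearMap.range_zero]
    exact bot_le

end SubQ

end Groth.Agent.Lib.Helper16.Kun
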