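import Groth.Agent.Lib.Helper16.Kun6

/-! Tor dimension shifting along the homology SES of the cover and maps of Tor sums. -/

set_option autoImplicit false
universe u

namespace Groth.Agent.Lib.Helper16.Kun

open CategoryTheory CategoryTheory.Limits MonoidalCategory HomologicalComplex TensorProduct
open Groth.Agent.Lib.Helper68.LeftDerivedLES Groth.Agent.Lib.Helper25.TensorCx

variable {R : Type u} [CommRing R]

section TorShift

variable (X : ModuleCat.{u} R) (M : Cx R) (j : ℤ)

/-- The functor `X ⊗ -`. -/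
noncomputable abbrev TF : ModuleCat.{u} R ⥤ ModuleCat.{u} R :=
  (tensoringLeft (ModuleCat.{u} R)).obj X

theorem isZero_tor_P (q : ℕ) : IsZero (((TF X).leftDerived (q + 1)).obj ((P M).homology j)) := by
  have := projective_homology_P M j
  exact Functor.isZero_leftDerived_obj_projective_succ (TF X) q ((P M).homology j)

/-- Dimension shifting `Tor_{q+2}(X, H^j M) ≅ Tor_{q+1}(X, H^j K1)`. -/
noncomputable def torShift (q : ℕ) :
    ((TF X).leftDerived (q + 1 + 1)).obj (M.homology j) ≅
      ((TF X).leftDerived (q + 1)).obj ((K1 M).homology j) :=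
  @asIso _ _ _ _ (δ (TF X) (hSES_shortExact M j) (q + 1))
    (isIso_δ (TF X) (hSES_shortExact M j) (q + 1) (isZero_tor_P X M j (q + 1))
      (isZero_tor_P X M j q))

/-- The linear dimension shifting map. -/
noncomputable def torShiftLin (q : ℕ) :
    DRing.Tor R (q + 1 + 1) X (M.homology j) →ₗ[R] DRing.Tor R (q + 1) X ((K1 M).homology j) :=
  (torShift X M j q).hom.hom

theorem torShiftLin_surjective (q : ℕ) : Function.Surjective (torShiftLin X M j q) := by
  have : IsIso (torShift X M j q).hom := inferInstance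
  exact (ConcreteCategory.bijective_of_isIso (torShift X M j q).hom).2

/-- The map `Tor_1(X, H^j M) → X ⊗ H^j K1`. -/
noncomputable def tor1Lin :
    DRing.Tor R 1 X (M.homology j) →ₗ[R] TensorProduct R X ((K1 M).homology j) :=
  (δ₀ (TF X) (hSES_shortExact M j)).hom

theorem tor1_exact :
    Function.Exact (tor1Lin X M j) (LinearMap.lTensor X (homologyMap (ι1 M) j).hom) := by
  have hex := exact_δ₀ (TF X) (hSES_shortExact M j)
  exact (ShortComplex.ShortExact.moduleCat_exact_iff_function_exact _).1 hex

end TorShift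

section TorSumMaps

variable (L M : Cx R) (n : ℤ)

/-- The map of Tor sums induced by dimension shifting. -/
noncomputable def torSumShift (q : ℕ) :
    HTor.TorSum L M n (q + 1 + 1) →ₗ[R] HTor.TorSum L (K1 M) (n + 1) (q + 1) :=
  DirectSum.toModule R _ _ (fun ij =>
    DirectSum.lof R {ij : ℤ × ℤ // ij.1 + ij.2 - ((q + 1 : ℕ) : ℤ) = n + 1}
      (fun ij => DRing.Tor R (q + 1) (L.homology ij.1.1) ((K1 M).homology ij.1.2))
      ⟨ij.1, by have := ij.2; push_cast at this ⊢; omega⟩ ∘ₗ
    torShiftLin (L.homology ij.1.1) M ij.1.2 q)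

theorem torSumShift_surjective (q : ℕ) : Function.Surjective (torSumShift L M n q) := by
  intro y
  induction y using DirectSum.induction_on with
  | zero => exact ⟨0, map_zero _⟩
  | add a b ha hb =>
    obtain ⟨a', rfl⟩ := ha
    obtain ⟨b', rfl⟩ := hb
    exact ⟨a' + b', map_add _ _ _⟩
  | of k t =>
    obtain ⟨s, hs⟩ := torShiftLin_surjective (L.homology k.1.1) M k.1.2 q t
    refine ⟨DirectSum.lof R {ij : ℤ × ℤ // ij.1 + ij.2 - ((q + 1 + 1 : ℕ) : ℤ) = n}
      (fun ij => DRing.Tor R (q + 1 + 1) (L.homology ij.1.1) (M.homology ij.1.2))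
      ⟨k.1, by have := k.2; push_cast at this ⊢; omega⟩ s, ?_⟩
    unfold torSumShift
    rw [DirectSum.toModule_lof, LinearMap.comp_apply, hs]
    rfl

/-- The map from the `Tor_1` sum to the Künneth sum of `K1`. -/
noncomputable def torSumOne : HTor.TorSum L M n 1 →ₗ[R] HTor.KunnethSum L (K1 M) (n + 1) :=
  DirectSum.toModule R _ _ (fun ij =>
    DirectSum.lof R (HTor.Antidiag (n + 1))
      (fun ij => TensorProduct R (L.homology ij.1.1) ((K1 M).homology ij.1.2))
      ⟨ij.1, by have := ij.2; push_cast at this; omega⟩ ∘ₗ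
    tor1Lin (L.homology ij.1.1) M ij.1.2)

theorem torSumOne_lof (ij : {ij : ℤ × ℤ // ij.1 + ij.2 - ((1 : ℕ) : ℤ) = n})
    (t : DRing.Tor R 1 (L.homology ij.1.1) (M.homology ij.1.2)) :
    torSumOne L M n (DirectSum.lof R _ _ ij t) =
      DirectSum.lof R (HTor.Antidiag (n + 1))
        (fun ij => TensorProduct R (L.homology ij.1.1) ((K1 M).homology ij.1.2))
        ⟨ij.1, by have := ij.2; push_cast at this; omega⟩
        (tor1Lin (L.homology ij.1.1) M ij.1.2 t) := by
  unfold torSumOne
  rw [DirectSum.toModule_lof, LinearMap.comp_apply]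

theorem range_torSumOne :
    LinearMap.range (torSumOne L M n) = LinearMap.ker (ksMap L (ι1 M) (n + 1)) := by
  classical
  apply le_antisymm
  · rw [LinearMap.range_le_ker_iff]
    apply DirectSum.linearMap_ext
    intro ij
    apply LinearMap.ext
    intro t
    rw [LinearMap.comp_apply, LinearMap.comp_apply, torSumOne_lof, ksMap_lof,
      (tor1_exact (L.homology ij.1.1) M ij.1.2).apply_apply_eq_zero, map_zero]
    rfl
  · intro x hx
    rw [LinearMap.mem_ker] at hx
    have hcomp : ∀ k : HTor.Antidiag (n + 1),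
        LinearMap.lTensor (L.homology k.1.1) (homologyMap (ι1 M) k.1.2).hom (x k) = 0 := by
      intro k
      have h1 := DFunLike.congr_fun hx k
      unfold ksMap at h1
      rw [DirectSum.lmap_apply] at h1
      exact h1
    have hex : ∀ k : HTor.Antidiag (n + 1),
        ∃ t : DRing.Tor R 1 (L.homology k.1.1) (M.homology k.1.2),
          tor1Lin (L.homology k.1.1) M k.1.2 t = x k := fun k =>
      ((tor1_exact (L.homology k.1.1) M k.1.2) (x k)).1 (hcomp k)
    choose t ht using hex
    refine ⟨∑ k ∈ DFinsupp.support x,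
      DirectSum.lof R {ij : ℤ × ℤ // ij.1 + ij.2 - ((1 : ℕ) : ℤ) = n}
        (fun ij => DRing.Tor R 1 (L.homology ij.1.1) (M.homology ij.1.2))
        ⟨k.1, by have := k.2; push_cast; omega⟩ (t k), ?_⟩
    rw [map_sum]
    conv_rhs => rw [← DirectSum.sum_support_of x]
    refine Finset.sum_congr rfl fun k _ => ?_
    rw [torSumOne_lof, ht]
    rfl

end TorSumMaps

end Groth.Agent.Lib.Helper16.Kun
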