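import Groth.Agent.Lib.Helper16.Kun7

/-! The Künneth filtration by dimension shifting. -/

set_option autoImplicit false
universe u

namespace Groth.Agent.Lib.Helper16.Kun

open CategoryTheory CategoryTheory.Limits MonoidalCategory HomologicalComplex TensorProduct
open Groth.Agent.Lib.Helper25.TensorCx Groth.Agent.Lib.Helper25.KFlat

variable {R : Type u} [CommRing R]

section LES

variable (L : Cx R) (hLf : ∀ p, Module.Flat R (L.X p)) (M : Cx R)
include hLf

theorem sesL_shortExact : (whiskerLeftShortComplex L (ses M)).ShortExact := by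
  apply shortExact_whiskerLeft' L (ses M) (ses_shortExact M)
  intro p q
  have := hLf p
  apply Module.Flat.lTensor_preserves_injective_linearMap
  have hm : Mono (ι1 M) := by
    change Mono (kernel.ι (πP M))
    infer_instance
  have : Mono ((ι1 M).f q) := inferInstance
  exact (ModuleCat.mono_iff_injective ((ι1 M).f q)).1 this

/-- The connecting map. -/
noncomputable def δL (n : ℤ) :
    (L ⊗ M : Cx R).homology n →ₗ[R] (L ⊗ K1 M : Cx R).homology (n + 1) :=
  ((sesL_shortExact L hLf M).δ n (n + 1) rfl).hom

theorem exact_a_b (n : ℤ) :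
    Function.Exact (homologyMap (L ◁ ι1 M) n).hom (homologyMap (L ◁ πP M) n).hom := by
  have hex := (sesL_shortExact L hLf M).homology_exact₂ n
  exact (ShortComplex.ShortExact.moduleCat_exact_iff_function_exact _).1 hex

theorem exact_b_δ (n : ℤ) :
    Function.Exact (homologyMap (L ◁ πP M) n).hom (δL L hLf M n) := by
  have hex := (sesL_shortExact L hLf M).homology_exact₃ n (n + 1) rfl
  exact (ShortComplex.ShortExact.moduleCat_exact_iff_function_exact _).1 hex

theorem exact_δ_a (n : ℤ) :
    Function.Exact (δL L hLf M n) (homologyMap (L ◁ ι1 M) (n + 1)).hom := by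
  have hex := (sesL_shortExact L hLf M).homology_exact₁ n (n + 1) rfl
  exact (ShortComplex.ShortExact.moduleCat_exact_iff_function_exact _).1 hex

end LES

section Step

variable (L : Cx R) (hL : IsKFlat L) (hLf : ∀ p, Module.Flat R (L.X p)) (M : Cx R)
include hL hLf

theorem range_phi_eq_range_b (n : ℤ) :
    LinearMap.range (phi L M n) = LinearMap.range (homologyMap (L ◁ πP M) n).hom := by
  apply le_antisymm
  · rintro _ ⟨x, rfl⟩
    obtain ⟨x', rfl⟩ := ksMap_surjective L (πP M) n (homologyMap_πP_surjective M) x
    exact ⟨phi L (P M) n x', phi_natural_apply L (πP M) n x'⟩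
  · rintro _ ⟨y, rfl⟩
    obtain ⟨x', rfl⟩ := (phi_bijective_P L hL M n).2 y
    exact ⟨ksMap L (πP M) n x', (phi_natural_apply L (πP M) n x').symm⟩

theorem range_phi_eq_ker_δ (n : ℤ) :
    LinearMap.range (phi L M n) = LinearMap.ker (δL L hLf M n) := by
  rw [range_phi_eq_range_b L hL hLf M n]
  exact ((LinearMap.exact_iff).1 (exact_b_δ L hLf M n)).symm

end Step

/-- Existence of the Künneth filtration. -/
def Filt (L M : Cx R) (n : ℤ) : Prop :=
  ∃ (N : ℕ) (F : ℕ → Submodule R ((L ⊗ M : Cx R).homology n)),
    F 0 = LinearMap.range (phi L M n) ∧ Monotone F ∧ F N = ⊤ ∧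
      ∀ p : ℕ, HTor.IsSubquotient R (HTor.grSucc F p) (HTor.TorSum L M n (p + 1))

/-- Shifted filtration. -/
def stepF {H H' : Type u} [AddCommGroup H] [Module R H] [AddCommGroup H'] [Module R H']
    (d : H →ₗ[R] H') (F0 : Submodule R H) (F' : ℕ → Submodule R H') : ℕ → Submodule R H
  | 0 => F0
  | (p + 1) => (F' p).comap d

section Step2

variable (L : Cx R) (hL : IsKFlat L) (hLf : ∀ p, Module.Flat R (L.X p)) (M : Cx R)
include hL hLf

theorem filt_step (n : ℤ) (h' : Filt L (K1 M) (n + 1)) : Filt L M n := by
  obtain ⟨N', F', h0', hmono', htop', hsq'⟩ := h'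
  set d := δL L hLf M n with hd
  have hker : LinearMap.range (phi L M n) = LinearMap.ker d := range_phi_eq_ker_δ L hL hLf M n
  refine ⟨N' + 1, stepF d (LinearMap.range (phi L M n)) F', rfl, ?_, ?_, ?_⟩
  · apply monotone_nat_of_le_succ
    intro p
    cases p with
    | zero =>
      intro x hx
      change x ∈ (F' 0).comap d
      have hx1 : x ∈ LinearMap.range (phi L M n) := hx
      rw [hker, LinearMap.mem_ker] at hx1
      rw [Submodule.mem_comap, hx1]
      exact zero_mem _
    | succ p =>
      exact Submodule.comap_mono (hmono' (Nat.le_succ p))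
  · change (F' N').comap d = ⊤
    rw [htop', Submodule.comap_top]
  · intro p
    cases p with
    | zero =>
      -- F 1 / F 0
      change HTor.IsSubquotient R
        (↥((F' 0).comap d) ⧸ Submodule.comap ((F' 0).comap d).subtype
          (LinearMap.range (phi L M n))) (HTor.TorSum L M n 1)
      have hk : Submodule.comap ((F' 0).comap d).subtype (LinearMap.range (phi L M n)) ≤
          LinearMap.ker (d ∘ₗ ((F' 0).comap d).subtype) := by
        intro x hx
        rw [Submodule.mem_comap, hker, LinearMap.mem_ker] at hx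
        rw [LinearMap.mem_ker, LinearMap.comp_apply]
        exact hx
      refine isSubquotient_of_maps (phi L (K1 M) (n + 1) ∘ₗ torSumOne L M n)
        (Submodule.liftQ _ (d ∘ₗ ((F' 0).comap d).subtype) hk) ?_ ?_
      · rw [← LinearMap.ker_eq_bot, Submodule.ker_liftQ_eq_bot]
        intro x hx
        rw [LinearMap.mem_ker, LinearMap.comp_apply] at hx
        rw [Submodule.mem_comap, hker, LinearMap.mem_ker]
        exact hx
      · rw [Submodule.range_liftQ]
        rintro _ ⟨⟨x, hx⟩, rfl⟩
        rw [LinearMap.comp_apply]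
        change d x ∈ _
        have hx' : d x ∈ F' 0 := hx
        rw [h0'] at hx'
        obtain ⟨u, hu⟩ := hx'
        have h1 : (homologyMap (L ◁ ι1 M) (n + 1)).hom (d x) = 0 :=
          (exact_δ_a L hLf M n).apply_apply_eq_zero x
        rw [← hu] at h1
        have h2 : phi L (P M) (n + 1) (ksMap L (ι1 M) (n + 1) u) = 0 := by
          rw [← phi_natural_apply]
          exact h1
        have h3 : ksMap L (ι1 M) (n + 1) u = 0 := by
          apply (phi_bijective_P L hL M (n + 1)).1
          rw [h2, map_zero]
        have h4 : u ∈ LinearMap.range (torSumOne L M n) := by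
          rw [range_torSumOne, LinearMap.mem_ker]
          exact h3
        obtain ⟨t, rfl⟩ := h4
        exact ⟨t, by rw [LinearMap.comp_apply, hu]⟩
    | succ p =>
      change HTor.IsSubquotient R
        (↥((F' (p + 1)).comap d) ⧸ Submodule.comap ((F' (p + 1)).comap d).subtype
          ((F' p).comap d)) (HTor.TorSum L M n (p + 1 + 1))
      have hres : ∀ x ∈ (F' (p + 1)).comap d, d x ∈ F' (p + 1) := fun x hx => hx
      let dr : ↥((F' (p + 1)).comap d) →ₗ[R] ↥(F' (p + 1)) := d.restrict hres
      have hk : Submodule.comap ((F' (p + 1)).comap d).subtype ((F' p).comap d) ≤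
          LinearMap.ker ((Submodule.comap (F' (p + 1)).subtype (F' p)).mkQ ∘ₗ dr) := by
        intro x hx
        rw [LinearMap.mem_ker, LinearMap.comp_apply, Submodule.mkQ_apply,
          Submodule.Quotient.mk_eq_zero]
        exact hx
      have hinj : Function.Injective (Submodule.liftQ _
          ((Submodule.comap (F' (p + 1)).subtype (F' p)).mkQ ∘ₗ dr) hk) := by
        rw [← LinearMap.ker_eq_bot, Submodule.ker_liftQ_eq_bot]
        intro x hx
        rw [LinearMap.mem_ker, LinearMap.comp_apply, Submodule.mkQ_apply,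
          Submodule.Quotient.mk_eq_zero] at hx
        exact hx
      exact isSubquotient_of_injective_left _ hinj
        (isSubquotient_of_surjective_right (torSumShift L M n p)
          (torSumShift_surjective L M n p) (hsq' p))

end Step2

section Main

variable (L : Cx R) (bL : ℤ) (hbL : DRing.VanishesAbove L bL) (hLf : DRing.TermwiseFlat L)
include hbL

theorem subsingleton_tensor_X (M : Cx R) (b : ℤ) (hb : DRing.VanishesAbove M b) (n : ℤ)
    (hn : bL + b < n) : Subsingleton ((L ⊗ M : Cx R).X n) := by
  refine ⟨fun x y => ?_⟩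
  apply ext_comp
  intro p q h
  by_cases hp : bL < p
  · have := ModuleCat.subsingleton_of_isZero (hbL p hp)
    rw [tensor_eq_zero_of_subsingleton_left (comp L M p q n h x),
      tensor_eq_zero_of_subsingleton_left (comp L M p q n h y)]
  · have := ModuleCat.subsingleton_of_isZero (hb q (by omega))
    rw [tensor_eq_zero_of_subsingleton_right (comp L M p q n h x),
      tensor_eq_zero_of_subsingleton_right (comp L M p q n h y)]

theorem subsingleton_homology_tensor (M : Cx R) (b : ℤ) (hb : DRing.VanishesAbove M b) (n : ℤ)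
    (hn : bL + b < n) : Subsingleton ((L ⊗ M : Cx R).homology n) := by
  have := subsingleton_tensor_X L bL hbL M b hb n hn
  refine ⟨fun x y => ?_⟩
  obtain ⟨z, rfl⟩ := homologyπ_surjective (L ⊗ M : Cx R) n x
  obtain ⟨z', rfl⟩ := homologyπ_surjective (L ⊗ M : Cx R) n y
  congr 1
  apply iCycles_injective
  exact Subsingleton.elim _ _

include hLf

theorem filt_main : ∀ (k : ℕ) (M : Cx R) (b : ℤ) (_ : DRing.VanishesAbove M b) (n : ℤ),
    bL + b < n + k → Filt L M n := by
  have hL : IsKFlat L := isKFlat_of_boundedAbove_of_flat L bL hbL hLf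
  intro k
  induction k with
  | zero =>
    intro M b hb n hn
    have := subsingleton_homology_tensor L bL hbL M b hb n (by simpa using hn)
    refine ⟨0, fun _ => ⊤, ?_, fun _ _ _ => le_rfl, rfl, fun p => ?_⟩
    · exact Subsingleton.elim _ _
    · have : Subsingleton (HTor.grSucc (fun _ : ℕ => (⊤ : Submodule R ((L ⊗ M : Cx R).homology n))) p) :=
        inferInstance
      exact isSubquotient_of_subsingleton
  | succ k ih =>
    intro M b hb n hn
    apply filt_step L hL hLf M n
    exact ih (K1 M) b (vanishesAbove_K1 M b hb) (n + 1) (by push_cast at hn ⊢; omega)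

end Main

end Groth.Agent.Lib.Helper16.Kun
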