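import Groth.Agent.Lib.Helper16.Kun8

/-! Consequences: vanishing from Tor vanishing; Künneth isomorphism for flat cohomology. -/

set_option autoImplicit false
universe u

namespace Groth.Agent.Lib.Helper16.Kun

open CategoryTheory CategoryTheory.Limits MonoidalCategory HomologicalComplex TensorProduct
open Groth.Agent.Lib.Helper25.TensorCx Groth.Agent.Lib.Helper25.KFlat

variable {R : Type u} [CommRing R]

section Vanish

theorem subsingleton_of_isSubquotient {N T : Type u} [AddCommGroup N] [Module R N]
    [AddCommGroup T] [Module R T] [Subsingleton T] (h : HTor.IsSubquotient R N T) :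
    Subsingleton N := by
  obtain ⟨S, S', _, ⟨e⟩⟩ := h
  have : Subsingleton (↥S' ⧸ Submodule.comap S'.subtype S) := by
    refine ⟨fun a b => ?_⟩
    obtain ⟨a, rfl⟩ := Submodule.Quotient.mk_surjective _ a
    obtain ⟨b, rfl⟩ := Submodule.Quotient.mk_surjective _ b
    congr 1
    apply Subtype.ext
    exact Subsingleton.elim _ _
  exact e.toEquiv.subsingleton

theorem subsingleton_directSum {ι : Type*} (A : ι → Type*) [∀ i, AddCommMonoid (A i)]
    (h : ∀ i, Subsingleton (A i)) : Subsingleton (DirectSum ι A) := by
  refine ⟨fun x y => ?_⟩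
  apply DFinsupp.ext
  intro i
  exact Subsingleton.elim _ _

theorem subsingleton_tensor_of_tor_zero (X Y : ModuleCat.{u} R)
    (h : Subsingleton (DRing.Tor R 0 X Y)) : Subsingleton (TensorProduct R X Y) := by
  have e : ((TF X).leftDerived 0).obj Y ≅ (TF X).obj Y := (TF X).leftDerivedZeroIsoSelf.app Y
  have h' : Subsingleton (((TF X).leftDerived 0).obj Y) := h
  exact e.toLinearEquiv.symm.toEquiv.subsingleton

variable (L : Cx R) (bL : ℤ) (hbL : DRing.VanishesAbove L bL) (hLf : DRing.TermwiseFlat L)
include hbL hLf

theorem subsingleton_homology_of_tor (M : Cx R) (b : ℤ) (hb : DRing.VanishesAbove M b) (n : ℤ)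
    (h : ∀ (p : ℕ) (i j : ℤ), i + j - p = n →
      Subsingleton (DRing.Tor R p (L.homology i) (M.homology j))) :
    Subsingleton ((L ⊗ M : Cx R).homology n) := by
  obtain ⟨N, F, h0, hmono, htop, hsq⟩ :=
    filt_main L bL hbL hLf (bL + b - n + 1).toNat M b hb n (by
      have := Int.self_le_toNat (bL + b - n + 1)
      omega)
  have hKS : Subsingleton (HTor.KunnethSum L M n) := by
    apply subsingleton_directSum
    intro ij
    exact subsingleton_tensor_of_tor_zero (L.homology ij.1.1) (M.homology ij.1.2)
      (h 0 ij.1.1 ij.1.2 (by have := ij.2; push_cast; omega))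
  have hF0 : F 0 = ⊥ := by
    rw [h0, eq_bot_iff]
    rintro _ ⟨x, rfl⟩
    rw [Subsingleton.elim x 0, map_zero]
    exact zero_mem _
  have hTS : ∀ p : ℕ, Subsingleton (HTor.TorSum L M n (p + 1)) := by
    intro p
    apply subsingleton_directSum
    intro ij
    exact h (p + 1) ij.1.1 ij.1.2 ij.2
  have hF : ∀ p : ℕ, F p = ⊥ := by
    intro p
    induction p with
    | zero => exact hF0
    | succ p ih =>
      have := hTS p
      have hs : Subsingleton (HTor.grSucc F p) := subsingleton_of_isSubquotient (hsq p)
      rw [eq_bot_iff]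
      intro x hx
      have h1 : (Submodule.Quotient.mk (⟨x, hx⟩ : ↥(F (p + 1))) : HTor.grSucc F p) = 0 :=
        Subsingleton.elim _ _
      rw [Submodule.Quotient.mk_eq_zero] at h1
      have h2 : x ∈ F p := h1
      rw [ih] at h2
      exact h2
  have htop' : (⊤ : Submodule R ((L ⊗ M : Cx R).homology n)) = ⊥ := by
    rw [← htop, hF]
  refine ⟨fun x y => ?_⟩
  have hx : x ∈ (⊥ : Submodule R ((L ⊗ M : Cx R).homology n)) := by
    rw [← htop']; exact Submodule.mem_top
  have hy : y ∈ (⊥ : Submodule R ((L ⊗ M : Cx R).homology n)) := by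
    rw [← htop']; exact Submodule.mem_top
  rw [(Submodule.mem_bot R).1 hx, (Submodule.mem_bot R).1 hy]

end Vanish

section FlatH

variable (L : Cx R) (bL : ℤ) (hbL : DRing.VanishesAbove L bL) (hLf : DRing.TermwiseFlat L)
  (hH : ∀ i : ℤ, Module.Flat R (L.homology i))
include hbL

theorem subsingleton_kunnethSum (M : Cx R) (b : ℤ) (hb : DRing.VanishesAbove M b) (n : ℤ)
    (hn : bL + b < n) : Subsingleton (HTor.KunnethSum L M n) := by
  apply subsingleton_directSum
  intro ij
  have hij : ij.1.1 + ij.1.2 = n := ij.2
  by_cases hp : bL < ij.1.1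
  · have h1 : IsZero (L.homology ij.1.1) := by
      have h2 : IsZero (L.X ij.1.1) := hbL _ hp
      have := ModuleCat.subsingleton_of_isZero h2
      have : Subsingleton (L.homology ij.1.1) := by
        refine ⟨fun x y => ?_⟩
        obtain ⟨z, rfl⟩ := homologyπ_surjective L _ x
        obtain ⟨z', rfl⟩ := homologyπ_surjective L _ y
        congr 1
        apply iCycles_injective
        exact Subsingleton.elim _ _
      exact ModuleCat.isZero_of_subsingleton _
    have := ModuleCat.subsingleton_of_isZero h1
    exact ⟨fun x y => by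
      rw [tensor_eq_zero_of_subsingleton_left x, tensor_eq_zero_of_subsingleton_left y]⟩
  · have h2 : IsZero (M.X ij.1.2) := hb _ (by omega)
    have := ModuleCat.subsingleton_of_isZero h2
    have : Subsingleton (M.homology ij.1.2) := by
      refine ⟨fun x y => ?_⟩
      obtain ⟨z, rfl⟩ := homologyπ_surjective M _ x
      obtain ⟨z', rfl⟩ := homologyπ_surjective M _ y
      congr 1
      apply iCycles_injective
      exact Subsingleton.elim _ _
    exact ⟨fun x y => by
      rw [tensor_eq_zero_of_subsingleton_right x, tensor_eq_zero_of_subsingleton_right y]⟩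

include hLf hH

theorem phi_bijective_main : ∀ (k : ℕ) (M : Cx R) (b : ℤ) (_ : DRing.VanishesAbove M b) (n : ℤ),
    bL + b < n + k → Function.Bijective (phi L M n) := by
  have hL : IsKFlat L := isKFlat_of_boundedAbove_of_flat L bL hbL hLf
  intro k
  induction k with
  | zero =>
    intro M b hb n hn
    have h1 := subsingleton_homology_tensor L bL hbL M b hb n (by simpa using hn)
    have h2 := subsingleton_kunnethSum L bL hbL M b hb n (by simpa using hn)
    exact ⟨fun x y _ => Subsingleton.elim x y, fun y => ⟨0, Subsingleton.elim _ _⟩⟩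
  | succ k ih =>
    -- surjectivity for all bounded complexes first
    have hsurj : ∀ (M : Cx R) (b : ℤ) (_ : DRing.VanishesAbove M b) (n : ℤ),
        bL + b < n + (k + 1 : ℕ) → Function.Surjective (phi L M n) := by
      intro M b hb n hn
      have ih' := ih (K1 M) b (vanishesAbove_K1 M b hb) (n + 1) (by push_cast at hn ⊢; omega)
      have hδ : ∀ x, δL L hLf M n x = 0 := by
        intro x
        obtain ⟨u, hu⟩ := ih'.2 (δL L hLf M n x)
        have h1 : (homologyMap (L ◁ ι1 M) (n + 1)).hom (δL L hLf M n x) = 0 :=
          (exact_δ_a L hLf M n).apply_apply_eq_zero x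
        rw [← hu] at h1
        have h2 : phi L (P M) (n + 1) (ksMap L (ι1 M) (n + 1) u) = 0 := by
          rw [← phi_natural_apply]
          exact h1
        have h3 : ksMap L (ι1 M) (n + 1) u = 0 := by
          apply (phi_bijective_P L hL M (n + 1)).1
          rw [h2, map_zero]
        have h4 : u = 0 := by
          apply ksMap_injective L (ι1 M) (n + 1) hH (homologyMap_ι1_injective M)
          rw [h3, map_zero]
        rw [← hu, h4, map_zero]
      intro y
      have hy : y ∈ LinearMap.ker (δL L hLf M n) := hδ y
      rw [← range_phi_eq_ker_δ L hL hLf M n] at hy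
      exact hy
    intro M b hb n hn
    refine ⟨?_, hsurj M b hb n hn⟩
    rw [injective_iff_map_eq_zero]
    intro x hx
    obtain ⟨y, rfl⟩ := ksMap_surjective L (πP M) n (homologyMap_πP_surjective M) x
    have h1 : (homologyMap (L ◁ πP M) n).hom (phi L (P M) n y) = 0 := by
      have := phi_natural_apply L (πP M) n y
      rw [hx] at this
      exact this
    obtain ⟨z, hz⟩ := ((exact_a_b L hLf M n) _).1 h1
    obtain ⟨w, rfl⟩ := hsurj (K1 M) b (vanishesAbove_K1 M b hb) n hn z
    have h2 : phi L (P M) n (ksMap L (ι1 M) n w) = phi L (P M) n y := by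
      rw [← phi_natural_apply]
      exact hz
    have h3 : ksMap L (ι1 M) n w = y := (phi_bijective_P L hL M n).1 h2
    rw [← h3, ← ksMap_comp]
    have h4 : ι1 M ≫ πP M = 0 := kernel.condition (πP M)
    rw [h4, ksMap_zero]

end FlatH

end Groth.Agent.Lib.Helper16.Kun
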