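import Mathlib

/-!
# Coefficient extraction for two-variable polynomials substituted into three variables

`s2 i j`, `s3 i j k` are the exponent vectors; `cf F i j` is the coefficient of `X^i Y^j`.
-/

namespace Groth.Agent.Lib.Helper16.Lazard

open MvPolynomial

variable {R : Type*} [CommRing R]

/-- exponent vector `(i,j)` -/
noncomputable def s2 (i j : ℕ) : Fin 2 →₀ ℕ := Finsupp.single 0 i + Finsupp.single 1 j

/-- exponent vector `(i,j,k)` -/
noncomputable def s3 (i j k : ℕ) : Fin 3 →₀ ℕ :=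
  Finsupp.single 0 i + Finsupp.single 1 j + Finsupp.single 2 k

@[simp] theorem s2_zero (i j : ℕ) : s2 i j 0 = i := by simp [s2]
@[simp] theorem s2_one (i j : ℕ) : s2 i j 1 = j := by simp [s2]
@[simp] theorem s3_zero (i j k : ℕ) : s3 i j k 0 = i := by simp [s3]
@[simp] theorem s3_one (i j k : ℕ) : s3 i j k 1 = j := by simp [s3]
@[simp] theorem s3_two (i j k : ℕ) : s3 i j k 2 = k := by simp [s3]

theorem s2_eta (e : Fin 2 →₀ ℕ) : s2 (e 0) (e 1) = e := by
  ext a; fin_cases a <;> simp [s2]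

theorem s3_eta (e : Fin 3 →₀ ℕ) : s3 (e 0) (e 1) (e 2) = e := by
  ext a; fin_cases a <;> simp [s3]

theorem s2_inj {i j i' j' : ℕ} : s2 i j = s2 i' j' ↔ i = i' ∧ j = j' := by
  constructor
  · intro h
    exact ⟨by simpa using DFunLike.congr_fun h 0, by simpa using DFunLike.congr_fun h 1⟩
  · rintro ⟨rfl, rfl⟩; rfl

theorem s3_inj {i j k i' j' k' : ℕ} : s3 i j k = s3 i' j' k' ↔ i = i' ∧ j = j' ∧ k = k' := by
  constructor
  · intro h
    exact ⟨by simpa using DFunLike.congr_fun h 0, by simpa using DFunLike.congr_fun h 1,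
      by simpa using DFunLike.congr_fun h 2⟩
  · rintro ⟨rfl, rfl, rfl⟩; rfl

/-- coefficient of `X^i Y^j` -/
noncomputable def cf (F : MvPolynomial (Fin 2) R) (i j : ℕ) : R := coeff (s2 i j) F

theorem X_pow_mul_X_pow2 (a b : ℕ) :
    (X 0 ^ a * X 1 ^ b : MvPolynomial (Fin 2) R) = monomial (s2 a b) 1 := by
  rw [X_pow_eq_monomial, X_pow_eq_monomial, monomial_mul, one_mul]; rfl

theorem X_pow_mul_X_pow3 (a b c : ℕ) :
    (X 0 ^ a * X 1 ^ b * X 2 ^ c : MvPolynomial (Fin 3) R) = monomial (s3 a b c) 1 := by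
  rw [X_pow_eq_monomial, X_pow_eq_monomial, X_pow_eq_monomial, monomial_mul, monomial_mul,
    one_mul, one_mul]; rfl

/-- General coefficient formula for `aeval v F`, `F` in two variables. -/
theorem coeff_aeval2 {σ : Type*} (v : Fin 2 → MvPolynomial σ R) (F : MvPolynomial (Fin 2) R)
    (e : σ →₀ ℕ) :
    coeff e (aeval v F) = ∑ d ∈ F.support, coeff d F * coeff e (v 0 ^ d 0 * v 1 ^ d 1) := by
  rw [aeval_def, eval₂_eq', coeff_sum]
  refine Finset.sum_congr rfl fun d _ => ?_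
  rw [Fin.prod_univ_two, algebraMap_eq, coeff_C_mul]

/-- If the coefficient of the monomial image is `κ * [d = d₀]`, the sum collapses. -/
theorem coeff_aeval2_of {σ : Type*} (v : Fin 2 → MvPolynomial σ R) (F : MvPolynomial (Fin 2) R)
    (e : σ →₀ ℕ) (d₀ : Fin 2 →₀ ℕ) (κ : R)
    (h : ∀ d : Fin 2 →₀ ℕ, coeff e (v 0 ^ d 0 * v 1 ^ d 1) = if d = d₀ then κ else 0) :
    coeff e (aeval v F) = coeff d₀ F * κ := by
  classical
  rw [coeff_aeval2]
  simp only [h, mul_ite, mul_zero]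
  rw [Finset.sum_ite_eq']
  split_ifs with hd
  · rfl
  · rw [notMem_support_iff.mp hd, zero_mul]

/-- If the coefficient of every monomial image vanishes, so does the coefficient. -/
theorem coeff_aeval2_zero {σ : Type*} (v : Fin 2 → MvPolynomial σ R) (F : MvPolynomial (Fin 2) R)
    (e : σ →₀ ℕ) (h : ∀ d : Fin 2 →₀ ℕ, coeff e (v 0 ^ d 0 * v 1 ^ d 1) = 0) :
    coeff e (aeval v F) = 0 := by
  rw [coeff_aeval2]
  exact Finset.sum_eq_zero fun d _ => by rw [h, mul_zero]

end Groth.Agent.Lib.Helper16.Lazard
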