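import Groth.Agent.Lib.Helper16.Lazard1

/-!
# The five coefficient extraction lemmas for the symmetric two-cocycle condition
-/

namespace Groth.Agent.Lib.Helper16.Lazard

open MvPolynomial

variable {R : Type*} [CommRing R]

theorem mono_b (a b i j k : ℕ) :
    coeff (s3 i j k) (X 0 ^ a * (X 1 + X 2) ^ b : MvPolynomial (Fin 3) R) =
      if a = i ∧ b = j + k then ((b.choose j : ℕ) : R) else 0 := by
  classical
  rw [add_pow, Finset.mul_sum, coeff_sum]
  have hterm : ∀ l : ℕ, (X 0 ^ a * (X 1 ^ l * X 2 ^ (b - l) * ((b.choose l : ℕ) : MvPolynomial (Fin 3) R))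
      : MvPolynomial (Fin 3) R) = monomial (s3 a l (b - l)) ((b.choose l : ℕ) : R) := by
    intro l
    have : (X 0 ^ a * (X 1 ^ l * X 2 ^ (b - l) * ((b.choose l : ℕ) : MvPolynomial (Fin 3) R))
        : MvPolynomial (Fin 3) R) = (X 0 ^ a * X 1 ^ l * X 2 ^ (b - l)) * C ((b.choose l : ℕ) : R) := by
      rw [map_natCast]; ring
    rw [this, X_pow_mul_X_pow3, C_apply, monomial_mul, add_zero, one_mul]
  simp only [hterm, coeff_monomial]
  by_cases h : a = i ∧ b = j + k
  · obtain ⟨rfl, rfl⟩ := h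
    rw [if_pos ⟨rfl, rfl⟩, Finset.sum_eq_single j]
    · rw [if_pos]; simp
    · intro l _ hl
      rw [if_neg]
      intro h
      exact hl (s3_inj.mp h).2.1
    · intro h
      exfalso; apply h; simp
  · rw [if_neg h]
    apply Finset.sum_eq_zero
    intro l hl
    rw [if_neg]
    intro h'
    obtain ⟨h1, h2, h3⟩ := s3_inj.mp h'
    have := Finset.mem_range.mp hl
    apply h
    exact ⟨h1, by omega⟩

theorem mono_d (a b i j k : ℕ) :
    coeff (s3 i j k) ((X 0 + X 1) ^ a * X 2 ^ b : MvPolynomial (Fin 3) R) =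
      if a = i + j ∧ b = k then ((a.choose i : ℕ) : R) else 0 := by
  classical
  rw [add_pow, Finset.sum_mul, coeff_sum]
  have hterm : ∀ l : ℕ, (X 0 ^ l * X 1 ^ (a - l) * ((a.choose l : ℕ) : MvPolynomial (Fin 3) R) * X 2 ^ b
      : MvPolynomial (Fin 3) R) = monomial (s3 l (a - l) b) ((a.choose l : ℕ) : R) := by
    intro l
    have : (X 0 ^ l * X 1 ^ (a - l) * ((a.choose l : ℕ) : MvPolynomial (Fin 3) R) * X 2 ^ b
        : MvPolynomial (Fin 3) R) = (X 0 ^ l * X 1 ^ (a - l) * X 2 ^ b) * C ((a.choose l : ℕ) : R) := by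
      rw [map_natCast]; ring
    rw [this, X_pow_mul_X_pow3, C_apply, monomial_mul, add_zero, one_mul]
  simp only [hterm, coeff_monomial]
  by_cases h : a = i + j ∧ b = k
  · obtain ⟨rfl, rfl⟩ := h
    rw [if_pos ⟨rfl, rfl⟩, Finset.sum_eq_single i]
    · rw [if_pos]; simp
    · intro l _ hl
      rw [if_neg]
      intro h
      exact hl (s3_inj.mp h).1
    · intro h
      exfalso; apply h; simp
  · rw [if_neg h]
    apply Finset.sum_eq_zero
    intro l hl
    rw [if_neg]
    intro h'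
    obtain ⟨h1, h2, h3⟩ := s3_inj.mp h'
    have := Finset.mem_range.mp hl
    apply h
    exact ⟨by omega, h3⟩

theorem mono_c (a b i j k : ℕ) :
    coeff (s3 i j k) (X 1 ^ a * X 2 ^ b : MvPolynomial (Fin 3) R) =
      if i = 0 ∧ a = j ∧ b = k then 1 else 0 := by
  classical
  have : (X 1 ^ a * X 2 ^ b : MvPolynomial (Fin 3) R) = monomial (s3 0 a b) 1 := by
    rw [← X_pow_mul_X_pow3]; simp
  rw [this, coeff_monomial]
  simp only [s3_inj]
  by_cases h : i = 0 ∧ a = j ∧ b = k
  · rw [if_pos h, if_pos ⟨h.1.symm, h.2⟩]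
  · rw [if_neg h, if_neg]
    rintro ⟨h1, h2⟩
    exact h ⟨h1.symm, h2⟩

theorem mono_e (a b i j k : ℕ) :
    coeff (s3 i j k) (X 0 ^ a * X 1 ^ b : MvPolynomial (Fin 3) R) =
      if k = 0 ∧ a = i ∧ b = j then 1 else 0 := by
  classical
  have : (X 0 ^ a * X 1 ^ b : MvPolynomial (Fin 3) R) = monomial (s3 a b 0) 1 := by
    rw [← X_pow_mul_X_pow3]; simp
  rw [this, coeff_monomial]
  simp only [s3_inj]
  by_cases h : k = 0 ∧ a = i ∧ b = j
  · rw [if_pos h, if_pos ⟨h.2.1, h.2.2, h.1.symm⟩]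
  · rw [if_neg h, if_neg]
    rintro ⟨h1, h2, h3⟩
    exact h ⟨h3.symm, h1, h2⟩

theorem mono_s (a b i j : ℕ) :
    coeff (s2 i j) (X 1 ^ a * X 0 ^ b : MvPolynomial (Fin 2) R) =
      if a = j ∧ b = i then 1 else 0 := by
  classical
  have : (X 1 ^ a * X 0 ^ b : MvPolynomial (Fin 2) R) = monomial (s2 b a) 1 := by
    rw [← X_pow_mul_X_pow2, mul_comm]
  rw [this, coeff_monomial]
  simp only [s2_inj]
  by_cases h : a = j ∧ b = i
  · rw [if_pos h, if_pos ⟨h.2, h.1⟩]
  · rw [if_neg h, if_neg]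
    rintro ⟨h1, h2⟩
    exact h ⟨h2, h1⟩

variable (F : MvPolynomial (Fin 2) R)

theorem coeff_swap (i j : ℕ) :
    coeff (s2 i j) (aeval ![(X 1 : MvPolynomial (Fin 2) R), X 0] F) = cf F j i := by
  classical
  rw [coeff_aeval2_of _ F _ (s2 j i) 1, mul_one]; · rfl
  intro d
  simp only [Matrix.cons_val_zero, Matrix.cons_val_one]
  rw [mono_s]
  congr 1
  rw [← s2_eta d, s2_inj]
  simp

theorem coeff_b (i j k : ℕ) :
    coeff (s3 i j k) (aeval ![(X 0 : MvPolynomial (Fin 3) R), X 1 + X 2] F) =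
      cf F i (j + k) * (((j + k).choose j : ℕ) : R) := by
  classical
  rw [coeff_aeval2_of _ F _ (s2 i (j + k)) (((j + k).choose j : ℕ) : R)]; · rfl
  intro d
  simp only [Matrix.cons_val_zero, Matrix.cons_val_one]
  rw [mono_b]
  by_cases h : d 0 = i ∧ d 1 = j + k
  · rw [if_pos h, if_pos, h.2]
    rw [← s2_eta d, s2_inj]; exact h
  · rw [if_neg h, if_neg]
    intro h'
    apply h
    rw [← s2_eta d, s2_inj] at h'
    exact h'

theorem coeff_d (i j k : ℕ) :
    coeff (s3 i j k) (aeval ![(X 0 + X 1 : MvPolynomial (Fin 3) R), X 2] F) =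
      cf F (i + j) k * (((i + j).choose i : ℕ) : R) := by
  classical
  rw [coeff_aeval2_of _ F _ (s2 (i + j) k) (((i + j).choose i : ℕ) : R)]; · rfl
  intro d
  simp only [Matrix.cons_val_zero, Matrix.cons_val_one]
  rw [mono_d]
  by_cases h : d 0 = i + j ∧ d 1 = k
  · rw [if_pos h, if_pos, h.1]
    rw [← s2_eta d, s2_inj]; exact h
  · rw [if_neg h, if_neg]
    intro h'
    apply h
    rw [← s2_eta d, s2_inj] at h'
    exact h'

theorem coeff_c (i j k : ℕ) :
    coeff (s3 i j k) (aeval ![(X 1 : MvPolynomial (Fin 3) R), X 2] F) =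
      if i = 0 then cf F j k else 0 := by
  classical
  by_cases hi : i = 0
  · rw [if_pos hi, coeff_aeval2_of _ F _ (s2 j k) 1, mul_one]; · rfl
    intro d
    simp only [Matrix.cons_val_zero, Matrix.cons_val_one]
    rw [mono_c]
    by_cases h : d 0 = j ∧ d 1 = k
    · rw [if_pos ⟨hi, h⟩, if_pos]
      rw [← s2_eta d, s2_inj]; exact h
    · rw [if_neg (fun h' => h h'.2), if_neg]
      intro h'
      apply h
      rw [← s2_eta d, s2_inj] at h'
      exact h'
  · rw [if_neg hi]
    apply coeff_aeval2_zero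
    intro d
    simp only [Matrix.cons_val_zero, Matrix.cons_val_one]
    rw [mono_c, if_neg (fun h' => hi h'.1)]

theorem coeff_e (i j k : ℕ) :
    coeff (s3 i j k) (aeval ![(X 0 : MvPolynomial (Fin 3) R), X 1] F) =
      if k = 0 then cf F i j else 0 := by
  classical
  by_cases hk : k = 0
  · rw [if_pos hk, coeff_aeval2_of _ F _ (s2 i j) 1, mul_one]; · rfl
    intro d
    simp only [Matrix.cons_val_zero, Matrix.cons_val_one]
    rw [mono_e]
    by_cases h : d 0 = i ∧ d 1 = j
    · rw [if_pos ⟨hk, h⟩, if_pos]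
      rw [← s2_eta d, s2_inj]; exact h
    · rw [if_neg (fun h' => h h'.2), if_neg]
      intro h'
      apply h
      rw [← s2_eta d, s2_inj] at h'
      exact h'
  · rw [if_neg hk]
    apply coeff_aeval2_zero
    intro d
    simp only [Matrix.cons_val_zero, Matrix.cons_val_one]
    rw [mono_e, if_neg (fun h' => hk h'.1)]

/-- Symmetry in coefficient form. -/
theorem symm_iff :
    aeval ![(X 1 : MvPolynomial (Fin 2) R), X 0] F = F ↔ ∀ i j, cf F i j = cf F j i := by
  constructor
  · intro h i j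
    have := coeff_swap F j i
    rw [h] at this
    exact this.symm
  · intro h
    ext e
    rw [← s2_eta e, coeff_swap]
    exact h _ _

/-- The cocycle identity in coefficient form. -/
theorem cocycle_iff :
    (aeval ![(X 0 : MvPolynomial (Fin 3) R), X 1 + X 2] F
        + aeval ![(X 1 : MvPolynomial (Fin 3) R), X 2] F
        - aeval ![(X 0 + X 1 : MvPolynomial (Fin 3) R), X 2] F
        - aeval ![(X 0 : MvPolynomial (Fin 3) R), X 1] F = 0) ↔
      ∀ i j k, cf F i (j + k) * (((j + k).choose j : ℕ) : R) + (if i = 0 then cf F j k else 0)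
        - cf F (i + j) k * (((i + j).choose i : ℕ) : R) - (if k = 0 then cf F i j else 0) = 0 := by
  constructor
  · intro h i j k
    have := congrArg (coeff (s3 i j k)) h
    rw [coeff_sub, coeff_sub, coeff_add, coeff_b, coeff_c, coeff_d, coeff_e, coeff_zero] at this
    exact this
  · intro h
    ext e
    rw [← s3_eta e, coeff_sub, coeff_sub, coeff_add, coeff_b, coeff_c, coeff_d, coeff_e, coeff_zero]
    exact h _ _ _

end Groth.Agent.Lib.Helper16.Lazard
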