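import Groth.Agent.Lib.Helper16.Lazard2

/-!
# Homogeneous symmetric two-cocycles in characteristic `p` (coefficient form)
-/

namespace Groth.Agent.Lib.Helper16.Lazard

variable {R : Type*} [CommRing R]

/-- coefficient of `X^i Y^(n-i)` in `(X+Y)^n - X^n - Y^n` -/
def dc (n i : ℕ) : R :=
  (n.choose i : R) - (if i = n then 1 else 0) - (if i = 0 then 1 else 0)

/-- coefficient of `X^i Y^(p^(e+1)-i)` in `S(X^(p^e), Y^(p^e))` -/
def sc (p e i : ℕ) : ℕ :=
  if p ^ e ∣ i ∧ 0 < i / p ^ e ∧ i / p ^ e < p then p.choose (i / p ^ e) / p else 0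

/-- homogeneous cocycle sequences of degree `n` -/
structure IsCoc (n : ℕ) (a : ℕ → R) : Prop where
  symm : ∀ i ≤ n, a i = a (n - i)
  coc : ∀ i j k, i + j + k = n →
    a i * (((j + k).choose j : ℕ) : R) + (if i = 0 then a j else 0)
      - a (i + j) * (((i + j).choose i : ℕ) : R) - (if k = 0 then a i else 0) = 0

namespace IsCoc

variable {n : ℕ} {a : ℕ → R}

theorem zero (h : IsCoc n a) (hn : 1 ≤ n) : a 0 = 0 := by
  have := h.coc 0 0 n (by omega)
  have hn0 : n ≠ 0 := by omega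
  simpa [hn0] using this

theorem top (h : IsCoc n a) (hn : 1 ≤ n) : a n = 0 := by
  rw [h.symm n le_rfl, Nat.sub_self, h.zero hn]

theorem star (h : IsCoc n a) {i j k : ℕ} (hi : 1 ≤ i) (hk : 1 ≤ k) (hijk : i + j + k = n) :
    a i * (((j + k).choose j : ℕ) : R) = a (i + j) * (((i + j).choose i : ℕ) : R) := by
  have := h.coc i j k hijk
  have hi0 : i ≠ 0 := by omega
  have hk0 : k ≠ 0 := by omega
  rw [if_neg hi0, if_neg hk0, add_zero, sub_zero] at this
  exact sub_eq_zero.mp this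

theorem star1 (h : IsCoc n a) {i : ℕ} (hi : 1 ≤ i) (hin : i + 1 ≤ n) :
    a 1 * (((n - 1).choose (i - 1) : ℕ) : R) = a i * ((i : ℕ) : R) := by
  have := h.star (i := 1) (j := i - 1) (k := n - i) le_rfl (by omega) (by omega)
  have e1 : i - 1 + (n - i) = n - 1 := by omega
  have e2 : 1 + (i - 1) = i := by omega
  rw [e1, e2, Nat.choose_one_right] at this
  exact this

end IsCoc

section charp

variable (p : ℕ) [hp : Fact p.Prime] [CharP R p]

include hp in
theorem exists_inv_of_not_dvd (m : ℕ) (h : ¬ p ∣ m) : ∃ u : R, u * (m : R) = 1 := by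
  have hcop : Nat.Coprime m p := (Nat.Prime.coprime_iff_not_dvd hp.out).mpr h |>.symm
  have h1 := Nat.gcd_eq_gcd_ab m p
  rw [hcop.gcd_eq_one] at h1
  refine ⟨((Nat.gcdA m p : ℤ) : R), ?_⟩
  have h2 := congrArg (Int.cast : ℤ → R) h1
  push_cast at h2
  rw [CharP.cast_eq_zero R p, zero_mul, add_zero] at h2
  rw [mul_comm]; exact h2.symm

include hp in
theorem eq_of_mul_natCast_eq {x y : R} (m : ℕ) (h : ¬ p ∣ m) (hxy : x * (m : R) = y * (m : R)) :
    x = y := by
  obtain ⟨u, hu⟩ := exists_inv_of_not_dvd (R := R) p m h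
  calc x = x * (m : R) * u := by rw [mul_assoc, mul_comm (m : R), hu, mul_one]
    _ = y * (m : R) * u := by rw [hxy]
    _ = y := by rw [mul_assoc, mul_comm (m : R), hu, mul_one]

theorem choose_mul_mul (a b : ℕ) : (((p * a).choose (p * b) : ℕ) : R) = ((a.choose b : ℕ) : R) :=
  CharP.natCast_eq_natCast' R p Choose.choose_mul_mul_modEq_choose_nat

theorem choose_mul_of_not_dvd (a i : ℕ) (h : ¬ p ∣ i) : (((p * a).choose i : ℕ) : R) = 0 := by
  have h1 := Choose.choose_modEq_choose_mod_mul_choose_div_nat (n := p * a) (k := i) (p := p)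
  have h2 : (p * a) % p = 0 := Nat.mul_mod_right p a
  have h3 : 0 < i % p := Nat.pos_of_ne_zero (fun h0 => h (Nat.dvd_of_mod_eq_zero h0))
  rw [h2, Nat.choose_eq_zero_of_lt h3, zero_mul] at h1
  rw [CharP.natCast_eq_natCast' R p h1, Nat.cast_zero]

theorem choose_pred_pred (n' : ℕ) (hn' : 1 ≤ n') :
    (((p * n' - 1).choose (p - 1) : ℕ) : R) = 1 := by
  have hp1 : 1 ≤ p := hp.out.one_lt.le
  have h1 := Choose.choose_modEq_choose_mod_mul_choose_div_nat (n := p * n' - 1) (k := p - 1) (p := p)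
  have e0 : p * n' - 1 = (p - 1) + p * (n' - 1) := by
    obtain ⟨q, rfl⟩ : ∃ q, n' = q + 1 := ⟨n' - 1, by omega⟩
    have : p * (q + 1) = p * q + p := by ring
    rw [this]; simp; omega
  have h2 : (p * n' - 1) % p = p - 1 := by
    rw [e0, Nat.add_mul_mod_self_left, Nat.mod_eq_of_lt (by omega)]
  have h3 : (p * n' - 1) / p = n' - 1 := by
    rw [e0, Nat.add_mul_div_left _ _ (by omega : 0 < p), Nat.div_eq_of_lt (by omega), zero_add]
  have h4 : (p - 1) % p = p - 1 := Nat.mod_eq_of_lt (by omega)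
  have h5 : (p - 1) / p = 0 := Nat.div_eq_of_lt (by omega)
  rw [h2, h3, h4, h5, Nat.choose_self, Nat.choose_zero_right, mul_one] at h1
  rw [CharP.natCast_eq_natCast' R p h1, Nat.cast_one]

end charp

end Groth.Agent.Lib.Helper16.Lazard
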