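import Groth.Agent.Lib.Helper16.Lazard3

/-!
# Lazard's lemma for homogeneous symmetric two-cocycles in characteristic `p`
-/

namespace Groth.Agent.Lib.Helper16.Lazard

variable {R : Type*} [CommRing R] (p : ℕ) [hp : Fact p.Prime] [CharP R p]

theorem dc_zero (n : ℕ) (hn : 1 ≤ n) : (dc n 0 : R) = 0 := by
  have : (0 : ℕ) ≠ n := by omega
  simp [dc, this]

theorem dc_top (n : ℕ) (hn : 1 ≤ n) : (dc n n : R) = 0 := by
  have : n ≠ 0 := by omega
  simp [dc, this]

theorem dc_mid (n i : ℕ) (h0 : 0 < i) (hn : i < n) : (dc n i : R) = (n.choose i : R) := by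
  have h1 : i ≠ n := by omega
  have h2 : i ≠ 0 := by omega
  simp [dc, h1, h2]

theorem dc_mul_mul (n' m : ℕ) : (dc (p * n') (p * m) : R) = dc n' m := by
  have hp0 : p ≠ 0 := hp.out.ne_zero
  unfold dc
  rw [choose_mul_mul (R := R) p n' m]
  have h1 : (p * m = p * n') ↔ m = n' := by
    constructor
    · intro h; exact Nat.eq_of_mul_eq_mul_left (Nat.pos_of_ne_zero hp0) h
    · intro h; rw [h]
  have h2 : (p * m = 0) ↔ m = 0 := by
    simp [hp0]
  simp only [h1, h2]

theorem dc_mul_of_not_dvd (n' i : ℕ) (h : ¬ p ∣ i) : (dc (p * n') i : R) = 0 := by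
  unfold dc
  have h1 : i ≠ p * n' := fun h' => h ⟨n', h'⟩
  have h2 : i ≠ 0 := fun h' => h (h' ▸ dvd_zero p)
  rw [choose_mul_of_not_dvd (R := R) p n' i h, if_neg h1, if_neg h2]
  simp

theorem sc_zero_mid (i : ℕ) (h0 : 0 < i) (hi : i < p) : sc p 0 i = p.choose i / p := by
  unfold sc
  rw [if_pos]
  · simp
  · simp [h0, hi]

theorem sc_zero_zero : sc p 0 0 = 0 := by
  unfold sc; simp

theorem sc_zero_top : sc p 0 p = 0 := by
  unfold sc; simp

theorem sc_succ_mul (e m : ℕ) : sc p (e + 1) (p * m) = sc p e m := by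
  have hp0 : 0 < p := hp.out.pos
  unfold sc
  have h1 : p ^ (e + 1) ∣ p * m ↔ p ^ e ∣ m := by
    rw [pow_succ']
    exact Nat.mul_dvd_mul_iff_left hp0
  have h2 : p * m / p ^ (e + 1) = m / p ^ e := by
    rw [pow_succ']
    exact Nat.mul_div_mul_left _ _ hp0
  simp only [h1, h2]

theorem sc_succ_of_not_dvd (e i : ℕ) (h : ¬ p ∣ i) : sc p (e + 1) i = 0 := by
  unfold sc
  rw [if_neg]
  rintro ⟨h1, -⟩
  exact h ((dvd_pow_self p (Nat.succ_ne_zero e)).trans h1)

/-- `i * (C(p,i)/p) = C(p-1,i-1)` -/
theorem mul_choose_div (i : ℕ) (h0 : 0 < i) (hi : i < p) :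
    i * (p.choose i / p) = (p - 1).choose (i - 1) := by
  have hp0 : 0 < p := hp.out.pos
  obtain ⟨q, rfl⟩ : ∃ q, p = q + 1 := ⟨p - 1, by omega⟩
  obtain ⟨j, rfl⟩ : ∃ j, i = j + 1 := ⟨i - 1, by omega⟩
  have h1 := Nat.add_one_mul_choose_eq q j
  have hdvd : (q + 1) ∣ (q + 1).choose (j + 1) :=
    hp.out.dvd_choose_self (by omega) hi
  obtain ⟨c, hc⟩ := hdvd
  rw [hc, Nat.mul_div_cancel_left _ hp0]
  simp only [Nat.add_sub_cancel]
  rw [hc] at h1
  have : (q + 1) * q.choose j = (q + 1) * (c * (j + 1)) := by rw [h1]; ring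
  have := Nat.eq_of_mul_eq_mul_left hp0 this
  rw [this]; ring

/-- The homogeneous Lazard lemma with ideal control. -/
theorem hom (J : Ideal R) : ∀ n, 1 ≤ n → ∀ a : ℕ → R, IsCoc n a → (∀ i ≤ n, a i ∈ J) →
    ∃ g ∈ J, ∃ r ∈ J, ∃ e : ℕ, (r = 0 ∨ n = p ^ (e + 1)) ∧
      ∀ i ≤ n, a i = g * dc n i + r * ((sc p e i : ℕ) : R) := by
  intro n
  induction n using Nat.strong_induction_on with
  | _ n ih =>
  intro hn a ha haJ
  have hpp : p.Prime := hp.out
  have hp2 : 2 ≤ p := hpp.two_le
  have h0 := ha.zero hn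
  have htop := ha.top hn
  by_cases hpn : p ∣ n
  · obtain ⟨n', rfl⟩ := hpn
    have hn'1 : 1 ≤ n' := by
      rcases Nat.eq_zero_or_pos n' with h | h
      · rw [h] at hn; simp at hn
      · exact h
    by_cases hn'2 : n' = 1
    · -- degree p
      subst hn'2
      rw [mul_one] at *
      refine ⟨0, J.zero_mem, a 1, haJ 1 (by omega), 0, Or.inr (by simp), ?_⟩
      intro i hi
      rw [zero_mul, zero_add]
      rcases Nat.eq_zero_or_pos i with hi0 | hi0
      · rw [hi0, h0, sc_zero_zero]; simp
      rcases Nat.lt_or_ge i p with hip | hip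
      · have h1 := ha.star1 (i := i) hi0 (by omega)
        rw [sc_zero_mid p i hi0 hip]
        have hnd : ¬ p ∣ i := fun h => absurd (Nat.le_of_dvd hi0 h) (by omega)
        apply eq_of_mul_natCast_eq (R := R) p i hnd
        rw [← h1, mul_assoc, ← Nat.cast_mul, mul_comm (p.choose i / p) i, mul_choose_div p i hi0 hip]
      · have : i = p := by omega
        rw [this, htop, sc_zero_top]; simp
    · -- degree p * n', n' ≥ 2
      have hn'2' : 2 ≤ n' := by omega
      have hn_ge : 2 * p ≤ p * n' := by nlinarith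
      -- a 1 = 0
      have ha1 : a 1 = 0 := by
        have h1 := ha.star (i := 1) (j := p - 1) (k := p * n' - p) le_rfl (by omega) (by omega)
        have e1 : p - 1 + (p * n' - p) = p * n' - 1 := by omega
        have e2 : 1 + (p - 1) = p := by omega
        rw [e1, e2, Nat.choose_one_right, choose_pred_pred (R := R) p n' hn'1, mul_one,
          CharP.cast_eq_zero R p, mul_zero] at h1
        exact h1
      have hnd0 : ∀ i, 0 < i → i < p * n' → ¬ p ∣ i → a i = 0 := by
        intro i hi0 hin hnd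
        have h1 := ha.star1 (i := i) hi0 (by omega)
        rw [ha1, zero_mul] at h1
        apply eq_of_mul_natCast_eq (R := R) p i hnd
        rw [← h1, zero_mul]
      have hnd : ∀ i, i ≤ p * n' → ¬ p ∣ i → a i = 0 := by
        intro i hi hnd
        have hi0 : 0 < i := Nat.pos_of_ne_zero (fun h => hnd (h ▸ dvd_zero p))
        have hin : i < p * n' := lt_of_le_of_ne hi (fun h => hnd ⟨n', h⟩)
        exact hnd0 i hi0 hin hnd
      -- the reduced sequence
      set a' : ℕ → R := fun m => a (p * m) with ha'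
      have hcoc' : IsCoc n' a' := by
        constructor
        · intro m hm
          simp only [ha']
          rw [ha.symm (p * m) (Nat.mul_le_mul_left p hm), Nat.mul_sub]
        · intro i j k hijk
          have h1 := ha.coc (p * i) (p * j) (p * k) (by rw [← hijk]; ring)
          have e1 : p * j + p * k = p * (j + k) := by ring
          have e2 : p * i + p * j = p * (i + j) := by ring
          have e3 : (p * i = 0) ↔ i = 0 := by simp [hpp.ne_zero]
          have e4 : (p * k = 0) ↔ k = 0 := by simp [hpp.ne_zero]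
          rw [e1, e2, choose_mul_mul (R := R) p, choose_mul_mul (R := R) p] at h1
          simp only [e3, e4] at h1
          exact h1
      have haJ' : ∀ m ≤ n', a' m ∈ J := fun m hm => haJ _ (Nat.mul_le_mul_left p hm)
      have hlt : n' < p * n' := by nlinarith
      obtain ⟨g', hg', r', hr', e', hdisj, hform⟩ := ih n' hlt hn'1 a' hcoc' haJ'
      rcases hdisj with hr0 | hpow
      · refine ⟨g', hg', 0, J.zero_mem, 0, Or.inl rfl, ?_⟩
        intro i hi
        rw [zero_mul, add_zero]
        by_cases hdi : p ∣ i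
        · obtain ⟨m, rfl⟩ := hdi
          have hm : m ≤ n' := Nat.le_of_mul_le_mul_left hi hpp.pos
          have := hform m hm
          rw [hr0, zero_mul, add_zero] at this
          rw [dc_mul_mul (R := R) p]
          exact this
        · rw [hnd i hi hdi, dc_mul_of_not_dvd (R := R) p n' i hdi, mul_zero]
      · refine ⟨g', hg', r', hr', e' + 1, Or.inr (by rw [hpow]; ring), ?_⟩
        intro i hi
        by_cases hdi : p ∣ i
        · obtain ⟨m, rfl⟩ := hdi
          have hm : m ≤ n' := Nat.le_of_mul_le_mul_left hi hpp.pos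
          rw [dc_mul_mul (R := R) p, sc_succ_mul p]
          exact hform m hm
        · rw [hnd i hi hdi, dc_mul_of_not_dvd (R := R) p n' i hdi, sc_succ_of_not_dvd p e' i hdi]
          simp
  · -- p ∤ n
    obtain ⟨u, hu⟩ := exists_inv_of_not_dvd (R := R) p n hpn
    refine ⟨u * a 1, J.mul_mem_left _ (haJ 1 hn), 0, J.zero_mem, 0, Or.inl rfl, ?_⟩
    have hmid : ∀ i, 0 < i → i < n → ¬ p ∣ i → a i = u * a 1 * (n.choose i : R) := by
      intro i hi0 hin hnd
      have h1 := ha.star1 (i := i) hi0 (by omega)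
      apply eq_of_mul_natCast_eq (R := R) p i hnd
      rw [← h1]
      have h2 : n * (n - 1).choose (i - 1) = n.choose i * i := by
        obtain ⟨q, rfl⟩ : ∃ q, n = q + 1 := ⟨n - 1, by omega⟩
        obtain ⟨j, rfl⟩ : ∃ j, i = j + 1 := ⟨i - 1, by omega⟩
        simpa using Nat.add_one_mul_choose_eq q j
      have h3 : ((n : ℕ) : R) * (((n - 1).choose (i - 1) : ℕ) : R) =
          ((n.choose i : ℕ) : R) * ((i : ℕ) : R) := by
        rw [← Nat.cast_mul, h2, Nat.cast_mul]
      calc a 1 * (((n - 1).choose (i - 1) : ℕ) : R)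
          = (u * (n : R)) * (a 1 * (((n - 1).choose (i - 1) : ℕ) : R)) := by rw [hu, one_mul]
        _ = u * a 1 * ((n : R) * (((n - 1).choose (i - 1) : ℕ) : R)) := by ring
        _ = _ := by rw [h3]; ring
    intro i hi
    rw [zero_mul, add_zero]
    rcases Nat.eq_zero_or_pos i with hi0 | hi0
    · rw [hi0, h0, dc_zero n hn, mul_zero]
    rcases Nat.lt_or_ge i n with hin | hin
    · rw [dc_mid n i hi0 hin]
      by_cases hdi : p ∣ i
      · have hnd' : ¬ p ∣ n - i := by
          intro h
          apply hpn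
          have : n = (n - i) + i := by omega
          rw [this]
          exact dvd_add h hdi
        rw [ha.symm i hi, hmid (n - i) (by omega) (by omega) hnd', Nat.choose_symm hi]
      · exact hmid i hi0 hin hdi
    · have : i = n := by omega
      rw [this, htop, dc_top n hn, mul_zero]

end Groth.Agent.Lib.Helper16.Lazard
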