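import Groth.Agent.Lib.Helper16.Lazard4

/-!
# Coefficients of `G(X+Y) - G(X) - G(Y) + Σ r_e S(X^(p^e), Y^(p^e))`
-/

namespace Groth.Agent.Lib.Helper16.Lazard

open MvPolynomial

variable {R : Type*} [CommRing R]

theorem coeff_paeval {σ : Type*} (v : MvPolynomial σ R) (G : Polynomial R) (e : σ →₀ ℕ) :
    coeff e (Polynomial.aeval v G) = ∑ n ∈ G.support, G.coeff n * coeff e (v ^ n) := by
  rw [Polynomial.aeval_def, Polynomial.eval₂_eq_sum, Polynomial.sum_def, coeff_sum]
  refine Finset.sum_congr rfl fun n _ => ?_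
  rw [algebraMap_eq, coeff_C_mul]

theorem coeff_paeval_of {σ : Type*} (v : MvPolynomial σ R) (G : Polynomial R) (e : σ →₀ ℕ)
    (n₀ : ℕ) (κ : R) (h : ∀ n, coeff e (v ^ n) = if n = n₀ then κ else 0) :
    coeff e (Polynomial.aeval v G) = G.coeff n₀ * κ := by
  classical
  rw [coeff_paeval]
  simp only [h, mul_ite, mul_zero]
  rw [Finset.sum_ite_eq']
  split_ifs with hd
  · rfl
  · rw [Polynomial.notMem_support_iff.mp hd, zero_mul]

theorem coeff_paeval_zero {σ : Type*} (v : MvPolynomial σ R) (G : Polynomial R) (e : σ →₀ ℕ)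
    (h : ∀ n, coeff e (v ^ n) = 0) :
    coeff e (Polynomial.aeval v G) = 0 := by
  rw [coeff_paeval]
  exact Finset.sum_eq_zero fun d _ => by rw [h, mul_zero]

theorem mono2 (n i j : ℕ) :
    coeff (s2 i j) ((X 0 + X 1) ^ n : MvPolynomial (Fin 2) R) =
      if n = i + j then ((n.choose i : ℕ) : R) else 0 := by
  classical
  rw [add_pow, coeff_sum]
  have hterm : ∀ l : ℕ, (X 0 ^ l * X 1 ^ (n - l) * ((n.choose l : ℕ) : MvPolynomial (Fin 2) R)
      : MvPolynomial (Fin 2) R) = monomial (s2 l (n - l)) ((n.choose l : ℕ) : R) := by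
    intro l
    rw [X_pow_mul_X_pow2, ← map_natCast (C : R →+* MvPolynomial (Fin 2) R), C_apply,
      monomial_mul, add_zero, one_mul]
  simp only [hterm, coeff_monomial]
  by_cases h : n = i + j
  · subst h
    rw [if_pos rfl, Finset.sum_eq_single i]
    · rw [if_pos]
      simp
    · intro l _ hl
      rw [if_neg]
      intro h
      exact hl (s2_inj.mp h).1
    · intro h
      exfalso; apply h; simp
  · rw [if_neg h]
    apply Finset.sum_eq_zero
    intro l hl
    rw [if_neg]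
    intro h'
    obtain ⟨h1, h2⟩ := s2_inj.mp h'
    have := Finset.mem_range.mp hl
    apply h; omega

theorem monoX0 (n i j : ℕ) :
    coeff (s2 i j) ((X 0) ^ n : MvPolynomial (Fin 2) R) = if n = i ∧ j = 0 then 1 else 0 := by
  classical
  have : ((X 0) ^ n : MvPolynomial (Fin 2) R) = monomial (s2 n 0) 1 := by
    rw [← X_pow_mul_X_pow2, pow_zero, mul_one]
  rw [this, coeff_monomial]
  simp only [s2_inj]
  by_cases h : n = i ∧ j = 0
  · rw [if_pos h, if_pos ⟨h.1, h.2.symm⟩]
  · rw [if_neg h, if_neg]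
    rintro ⟨h1, h2⟩
    exact h ⟨h1, h2.symm⟩

theorem monoX1 (n i j : ℕ) :
    coeff (s2 i j) ((X 1) ^ n : MvPolynomial (Fin 2) R) = if i = 0 ∧ n = j then 1 else 0 := by
  classical
  have : ((X 1) ^ n : MvPolynomial (Fin 2) R) = monomial (s2 0 n) 1 := by
    rw [← X_pow_mul_X_pow2, pow_zero, one_mul]
  rw [this, coeff_monomial]
  simp only [s2_inj]
  by_cases h : i = 0 ∧ n = j
  · rw [if_pos h, if_pos ⟨h.1.symm, h.2⟩]
  · rw [if_neg h, if_neg]
    rintro ⟨h1, h2⟩
    exact h ⟨h1.symm, h2⟩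

theorem coeff_paeval_add (G : Polynomial R) (i j : ℕ) :
    coeff (s2 i j) (Polynomial.aeval (X 0 + X 1 : MvPolynomial (Fin 2) R) G) =
      G.coeff (i + j) * (((i + j).choose i : ℕ) : R) := by
  apply coeff_paeval_of
  intro n
  rw [mono2]
  by_cases h : n = i + j
  · rw [if_pos h, if_pos h, h]
  · rw [if_neg h, if_neg h]

theorem coeff_paeval_X0 (G : Polynomial R) (i j : ℕ) :
    coeff (s2 i j) (Polynomial.aeval (X 0 : MvPolynomial (Fin 2) R) G) =
      if j = 0 then G.coeff i else 0 := by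
  by_cases hj : j = 0
  · rw [if_pos hj, coeff_paeval_of _ G _ i 1, mul_one]
    intro n
    rw [monoX0]
    by_cases h : n = i
    · rw [if_pos ⟨h, hj⟩, if_pos h]
    · rw [if_neg (fun h' => h h'.1), if_neg h]
  · rw [if_neg hj]
    apply coeff_paeval_zero
    intro n
    rw [monoX0, if_neg (fun h' => hj h'.2)]

theorem coeff_paeval_X1 (G : Polynomial R) (i j : ℕ) :
    coeff (s2 i j) (Polynomial.aeval (X 1 : MvPolynomial (Fin 2) R) G) =
      if i = 0 then G.coeff j else 0 := by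
  by_cases hi : i = 0
  · rw [if_pos hi, coeff_paeval_of _ G _ j 1, mul_one]
    intro n
    rw [monoX1]
    by_cases h : n = j
    · rw [if_pos ⟨hi, h⟩, if_pos h]
    · rw [if_neg (fun h' => h h'.2), if_neg h]
  · rw [if_neg hi]
    apply coeff_paeval_zero
    intro n
    rw [monoX1, if_neg (fun h' => hi h'.1)]

/-- the polynomial `S(X,Y) = Σ_{0<l<p} (C(p,l)/p) X^l Y^(p-l)` -/
noncomputable def Spoly (R : Type*) [CommRing R] (p : ℕ) : MvPolynomial (Fin 2) R :=
  ∑ j ∈ Finset.Ioo 0 p, C ((p.choose j / p : ℕ) : R) * X 0 ^ j * X 1 ^ (p - j)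

theorem aeval_Spoly (p q : ℕ) :
    aeval ![(X 0 : MvPolynomial (Fin 2) R) ^ q, X 1 ^ q] (Spoly R p) =
    ∑ l ∈ Finset.Ioo 0 p, monomial (s2 (q * l) (q * (p - l))) ((p.choose l / p : ℕ) : R) := by
  unfold Spoly
  rw [map_sum]
  refine Finset.sum_congr rfl fun l _ => ?_
  rw [map_mul, map_mul, map_pow, map_pow, aeval_C, aeval_X, aeval_X, algebraMap_eq]
  simp only [Matrix.cons_val_zero, Matrix.cons_val_one]
  rw [← pow_mul, ← pow_mul, mul_assoc, X_pow_mul_X_pow2, C_mul_monomial, mul_one]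

theorem coeff_aeval_Spoly (p : ℕ) [hp : Fact p.Prime] (e i j : ℕ) :
    coeff (s2 i j) (aeval ![(X 0 : MvPolynomial (Fin 2) R) ^ p ^ e, X 1 ^ p ^ e] (Spoly R p)) =
      if i + j = p ^ (e + 1) then ((sc p e i : ℕ) : R) else 0 := by
  classical
  have hq : 0 < p ^ e := pow_pos hp.out.pos e
  rw [aeval_Spoly, coeff_sum]
  simp only [coeff_monomial]
  by_cases hex : p ^ e ∣ i ∧ 0 < i / p ^ e ∧ i / p ^ e < p ∧ j = p ^ e * (p - i / p ^ e)
  · obtain ⟨h1, h2, h3, h4⟩ := hex
    have hi : i = p ^ e * (i / p ^ e) := (Nat.mul_div_cancel' h1).symm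
    rw [Finset.sum_eq_single (i / p ^ e)]
    · rw [if_pos (by rw [← hi, ← h4]), if_pos]
      · unfold sc
        rw [if_pos ⟨h1, h2, h3⟩]
      · have hl3 : (i / p ^ e) + (p - i / p ^ e) = p := by omega
        calc i + j = p ^ e * (i / p ^ e) + p ^ e * (p - i / p ^ e) := by rw [← hi, ← h4]
          _ = p ^ e * p := by rw [← mul_add, hl3]
          _ = p ^ (e + 1) := (pow_succ _ _).symm
    · intro l _ hl
      rw [if_neg]
      intro h
      apply hl
      have := (s2_inj.mp h).1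
      rw [← this, Nat.mul_div_cancel_left _ hq]
    · intro h
      exfalso; apply h
      rw [Finset.mem_Ioo]; exact ⟨h2, h3⟩
  · rw [Finset.sum_eq_zero]
    · split_ifs with hij
      · unfold sc
        rw [if_neg, Nat.cast_zero]
        rintro ⟨h1, h2, h3⟩
        apply hex
        refine ⟨h1, h2, h3, ?_⟩
        have hi : i = p ^ e * (i / p ^ e) := (Nat.mul_div_cancel' h1).symm
        rw [pow_succ] at hij
        rw [Nat.mul_sub, ← hi]
        omega
      · rfl
    · intro l hl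
      rw [if_neg]
      intro h
      obtain ⟨h1, h2⟩ := s2_inj.mp h
      rw [Finset.mem_Ioo] at hl
      apply hex
      have hl' : i / p ^ e = l := by rw [← h1, Nat.mul_div_cancel_left _ hq]
      refine ⟨⟨l, h1.symm⟩, ?_, ?_, ?_⟩
      · rw [hl']; exact hl.1
      · rw [hl']; exact hl.2
      · rw [hl']; exact h2.symm

/-- the right hand side of Lazard's lemma -/
noncomputable def Phi (p : ℕ) (G : Polynomial R) (N : ℕ) (r : ℕ → R) : MvPolynomial (Fin 2) R :=
  Polynomial.aeval (X 0 + X 1 : MvPolynomial (Fin 2) R) G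
    - Polynomial.aeval (X 0 : MvPolynomial (Fin 2) R) G
    - Polynomial.aeval (X 1 : MvPolynomial (Fin 2) R) G
  + ∑ i ∈ Finset.range N, C (r i) *
      aeval ![(X 0 : MvPolynomial (Fin 2) R) ^ p ^ i, X 1 ^ p ^ i] (Spoly R p)

theorem cf_Phi (p : ℕ) [hp : Fact p.Prime] (G : Polynomial R) (N : ℕ) (r : ℕ → R) (i j : ℕ) :
    cf (Phi p G N r) i j = G.coeff (i + j) * dc (i + j) i +
      ∑ e ∈ Finset.range N, r e * (if i + j = p ^ (e + 1) then ((sc p e i : ℕ) : R) else 0) := by
  unfold Phi cf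
  rw [coeff_add, coeff_sub, coeff_sub, coeff_sum, coeff_paeval_add, coeff_paeval_X0,
    coeff_paeval_X1]
  simp only [coeff_C_mul, coeff_aeval_Spoly]
  congr 1
  unfold dc
  by_cases hi : i = 0
  · by_cases hj : j = 0
    · subst hi; subst hj; simp
    · subst hi
      have h0j : ¬ (0 = j) := fun h => hj h.symm
      simp [hj, h0j]
  · by_cases hj : j = 0
    · subst hj
      simp [hi]
    · simp [hi, hj]

end Groth.Agent.Lib.Helper16.Lazard
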