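import Groth.Agent.Lib.Helper16.Lazard5

/-!
# Lazard's lemma: closure properties of cocycle sequences and the two directions
-/

namespace Groth.Agent.Lib.Helper16.Lazard

open MvPolynomial

variable {R : Type*} [CommRing R]

theorem IsCoc.add {n : ℕ} {a b : ℕ → R} (ha : IsCoc n a) (hb : IsCoc n b) :
    IsCoc n (fun i => a i + b i) := by
  constructor
  · intro i hi
    show a i + b i = a (n - i) + b (n - i)
    rw [ha.symm i hi, hb.symm i hi]
  · intro i j k hijk
    have h1 := ha.coc i j k hijk
    have h2 := hb.coc i j k hijk
    show (a i + b i) * _ + (if i = 0 then a j + b j else 0) - (a (i + j) + b (i + j)) * _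
      - (if k = 0 then a i + b i else 0) = 0
    by_cases hi : i = 0 <;> by_cases hk : k = 0 <;> simp only [hi, hk, if_true, if_false] at h1 h2 ⊢ <;>
      linear_combination h1 + h2

theorem IsCoc.smul {n : ℕ} {a : ℕ → R} (c : R) (ha : IsCoc n a) :
    IsCoc n (fun i => c * a i) := by
  constructor
  · intro i hi
    show c * a i = c * a (n - i)
    rw [ha.symm i hi]
  · intro i j k hijk
    have h1 := ha.coc i j k hijk
    show (c * a i) * _ + (if i = 0 then c * a j else 0) - (c * a (i + j)) * _
      - (if k = 0 then c * a i else 0) = 0
    by_cases hi : i = 0 <;> by_cases hk : k = 0 <;> simp only [hi, hk, if_true, if_false] at h1 ⊢ <;>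
      linear_combination c * h1

theorem isCoc_zero (n : ℕ) : IsCoc n (fun _ => (0 : R)) := by
  constructor
  · intro i _; rfl
  · intro i j k _; simp

theorem IsCoc.sum {n : ℕ} {ι : Type*} (s : Finset ι) (a : ι → ℕ → R) (ha : ∀ x ∈ s, IsCoc n (a x)) :
    IsCoc n (fun i => ∑ x ∈ s, a x i) := by
  classical
  induction s using Finset.induction_on with
  | empty => simpa using isCoc_zero n
  | insert x s hx ih =>
    have h1 := ha x (Finset.mem_insert_self x s)
    have h2 := ih (fun y hy => ha y (Finset.mem_insert_of_mem hy))
    have := h1.add h2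
    convert this using 2 with i
    rw [Finset.sum_insert hx]

theorem isCoc_dc (n : ℕ) : IsCoc n (fun i => (dc n i : R)) := by
  constructor
  · intro i hi
    show dc n i = dc n (n - i)
    unfold dc
    rw [Nat.choose_symm hi]
    have h1 : (n - i = n) ↔ i = 0 := by omega
    have h2 : (n - i = 0) ↔ i = n := by omega
    simp only [h1, h2]
    ring
  · intro i j k hijk
    show dc n i * _ + (if i = 0 then dc n j else 0) - dc n (i + j) * _
      - (if k = 0 then dc n i else 0) = 0
    have hmul : ((n.choose i : ℕ) : R) * (((j + k).choose j : ℕ) : R) =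
        ((n.choose (i + j) : ℕ) : R) * (((i + j).choose i : ℕ) : R) := by
      have := Nat.choose_mul (n := n) (k := i + j) (s := i) (by omega)
      have e1 : n - i = j + k := by omega
      have e2 : i + j - i = j := by omega
      rw [e1, e2] at this
      rw [← Nat.cast_mul, ← Nat.cast_mul, ← this]
    unfold dc
    by_cases hi : i = 0
    · subst hi
      have hjk : j + k = n := by omega
      by_cases hk : k = 0
      · subst hk
        have hj : j = n := by omega
        subst hj
        simp
      · have hjn : j ≠ n := by omega
        by_cases hj : j = 0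
        · subst hj
          have : (0 : ℕ) ≠ n := by omega
          simp [hk, this, hjk]
        · have hn0 : ¬ (0 = n) := by omega
          simp [hk, hj, hjn, hjk, hn0]
    · by_cases hk : k = 0
      · subst hk
        have hij : i + j = n := by omega
        by_cases hj : j = 0
        · subst hj
          have : i = n := by omega
          subst this
          simp [hi]
        · have hin : i ≠ n := by omega
          have hn0 : n ≠ 0 := by omega
          simp [hi, hin, hij, hn0]
      · have hin : i ≠ n := by omega
        have hijn : i + j ≠ n := by omega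
        have hij0 : i + j ≠ 0 := by omega
        simp only [hi, hk, hin, hijn, hij0, if_false, sub_zero, add_zero]
        exact sub_eq_zero.mpr hmul

section charp

variable (p : ℕ) [hp : Fact p.Prime] [CharP R p]

/-- lifting a cocycle sequence along multiplication of indices by `p` -/
theorem IsCoc.lift (n' : ℕ) (a : ℕ → R) (h' : IsCoc n' (fun m => a (p * m)))
    (hnd : ∀ i, ¬ p ∣ i → a i = 0) : IsCoc (p * n') a := by
  have hpp : p.Prime := hp.out
  constructor
  · intro i hi
    by_cases hdi : p ∣ i
    · obtain ⟨m, rfl⟩ := hdi
      have hm : m ≤ n' := Nat.le_of_mul_le_mul_left hi hpp.pos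
      have : a (p * m) = a (p * (n' - m)) := h'.symm m hm
      rw [this, Nat.mul_sub]
    · rw [hnd i hdi, hnd]
      intro h
      apply hdi
      have : i = p * n' - (p * n' - i) := by omega
      rw [this]
      exact Nat.dvd_sub (dvd_mul_right p n') h
  · intro i j k hijk
    by_cases hdi : p ∣ i
    · by_cases hdj : p ∣ j
      · have hdk : p ∣ k := by
          have : k = p * n' - (i + j) := by omega
          rw [this]
          exact Nat.dvd_sub (dvd_mul_right p n') (dvd_add hdi hdj)
        obtain ⟨i', rfl⟩ := hdi
        obtain ⟨j', rfl⟩ := hdj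
        obtain ⟨k', rfl⟩ := hdk
        have hsum : i' + j' + k' = n' := by
          apply Nat.eq_of_mul_eq_mul_left hpp.pos
          rw [← hijk]; ring
        have h1 := h'.coc i' j' k' hsum
        have e1 : p * j' + p * k' = p * (j' + k') := by ring
        have e2 : p * i' + p * j' = p * (i' + j') := by ring
        have e3 : (p * i' = 0) ↔ i' = 0 := by simp [hpp.ne_zero]
        have e4 : (p * k' = 0) ↔ k' = 0 := by simp [hpp.ne_zero]
        rw [e1, e2, choose_mul_mul (R := R) p, choose_mul_mul (R := R) p]
        simp only [e3, e4]
        exact h1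
      · -- p ∣ i, p ∤ j, hence p ∤ k
        have hdjk : p ∣ j + k := by
          have : j + k = p * n' - i := by omega
          rw [this]
          exact Nat.dvd_sub (dvd_mul_right p n') hdi
        have hdk : ¬ p ∣ k := by
          intro h
          apply hdj
          have : j = j + k - k := by omega
          rw [this]
          exact Nat.dvd_sub hdjk h
        have hk0 : k ≠ 0 := fun h => hdk (h ▸ dvd_zero p)
        have hdij : ¬ p ∣ i + j := by
          intro h
          apply hdj
          have : j = i + j - i := by omega
          rw [this]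
          exact Nat.dvd_sub h hdi
        obtain ⟨m, hm⟩ := hdjk
        rw [hm, choose_mul_of_not_dvd (R := R) p m j hdj, hnd j hdj, hnd (i + j) hdij, if_neg hk0]
        simp
    · have hi0 : i ≠ 0 := fun h => hdi (h ▸ dvd_zero p)
      rw [hnd i hdi, if_neg hi0]
      by_cases hdij : p ∣ i + j
      · obtain ⟨m, hm⟩ := hdij
        rw [hm, choose_mul_of_not_dvd (R := R) p m i hdi]
        simp
      · rw [hnd (i + j) hdij]
        simp

theorem isCoc_sc_zero : IsCoc p (fun i => ((sc p 0 i : ℕ) : R)) := by
  have hpp : p.Prime := hp.out
  have hp2 : 2 ≤ p := hpp.two_le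
  constructor
  · intro i hi
    show ((sc p 0 i : ℕ) : R) = ((sc p 0 (p - i) : ℕ) : R)
    congr 1
    rcases Nat.eq_zero_or_pos i with hi0 | hi0
    · rw [hi0, Nat.sub_zero, sc_zero_zero, sc_zero_top]
    rcases Nat.lt_or_ge i p with hip | hip
    · rw [sc_zero_mid p i hi0 hip, sc_zero_mid p (p - i) (by omega) (by omega), Nat.choose_symm hi]
    · have : i = p := by omega
      rw [this, Nat.sub_self, sc_zero_zero, sc_zero_top]
  · intro i j k hijk
    show ((sc p 0 i : ℕ) : R) * _ + (if i = 0 then ((sc p 0 j : ℕ) : R) else 0)
      - ((sc p 0 (i + j) : ℕ) : R) * _ - (if k = 0 then ((sc p 0 i : ℕ) : R) else 0) = 0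
    rcases Nat.eq_zero_or_pos i with hi0 | hi0
    · subst hi0
      rw [sc_zero_zero]
      simp
    have hi0' : i ≠ 0 := by omega
    rcases Nat.eq_zero_or_pos k with hk0 | hk0
    · subst hk0
      have : i + j = p := by omega
      rw [this, sc_zero_top]
      simp [hi0']
    have hk0' : k ≠ 0 := by omega
    rw [if_neg hi0', if_neg hk0', add_zero, sub_zero, sub_eq_zero]
    rw [sc_zero_mid p i hi0 (by omega), sc_zero_mid p (i + j) (by omega) (by omega),
      ← Nat.cast_mul, ← Nat.cast_mul]
    congr 1
    obtain ⟨c, hc⟩ : p ∣ p.choose i := hpp.dvd_choose_self hi0' (by omega)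
    obtain ⟨d, hd⟩ : p ∣ p.choose (i + j) := hpp.dvd_choose_self (by omega) (by omega)
    rw [hc, hd, Nat.mul_div_cancel_left _ hpp.pos, Nat.mul_div_cancel_left _ hpp.pos]
    have := Nat.choose_mul (n := p) (k := i + j) (s := i) (by omega)
    have e1 : p - i = j + k := by omega
    have e2 : i + j - i = j := by omega
    rw [e1, e2, hc, hd] at this
    apply Nat.eq_of_mul_eq_mul_left hpp.pos
    rw [← mul_assoc, ← mul_assoc, ← this]

theorem isCoc_sc (e : ℕ) : IsCoc (p ^ (e + 1)) (fun i => ((sc p e i : ℕ) : R)) := by
  induction e with
  | zero => simpa using isCoc_sc_zero (R := R) p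
  | succ e ih =>
    rw [pow_succ']
    apply IsCoc.lift p
    · simp only [sc_succ_mul]
      exact ih
    · intro i hi
      rw [sc_succ_of_not_dvd p e i hi, Nat.cast_zero]

end charp

/-- from coefficientwise cocycle sequences to the polynomial identities -/
theorem of_isCoc (A : ℕ → ℕ → R) (hA : ∀ n, IsCoc n (A n)) (F : MvPolynomial (Fin 2) R)
    (hF : ∀ i j, cf F i j = A (i + j) i) :
    aeval ![(X 1 : MvPolynomial (Fin 2) R), X 0] F = F ∧
    (aeval ![(X 0 : MvPolynomial (Fin 3) R), X 1 + X 2] F
        + aeval ![(X 1 : MvPolynomial (Fin 3) R), X 2] F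
        - aeval ![(X 0 + X 1 : MvPolynomial (Fin 3) R), X 2] F
        - aeval ![(X 0 : MvPolynomial (Fin 3) R), X 1] F = 0) := by
  constructor
  · rw [symm_iff]
    intro i j
    rw [hF, hF, (hA (i + j)).symm i (by omega)]
    have e1 : i + j - i = j := by omega
    rw [e1, add_comm]
  · rw [cocycle_iff]
    intro i j k
    have := (hA (i + j + k)).coc i j k rfl
    rw [hF, hF, hF, hF]
    have e1 : i + (j + k) = i + j + k := by ring
    rw [e1]
    by_cases hi : i = 0
    · by_cases hk : k = 0
      · subst hi; subst hk
        simpa using this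
      · subst hi
        simp only [hk, if_true, if_false, zero_add] at this ⊢
        exact this
    · by_cases hk : k = 0
      · subst hk
        simp only [hi, if_true, if_false] at this ⊢
        exact this
      · simp only [hi, hk, if_false] at this ⊢
        exact this

/-- from the polynomial identities to coefficientwise cocycle sequences -/
theorem isCoc_of (F : MvPolynomial (Fin 2) R)
    (hs : aeval ![(X 1 : MvPolynomial (Fin 2) R), X 0] F = F)
    (hc : aeval ![(X 0 : MvPolynomial (Fin 3) R), X 1 + X 2] F
        + aeval ![(X 1 : MvPolynomial (Fin 3) R), X 2] F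
        - aeval ![(X 0 + X 1 : MvPolynomial (Fin 3) R), X 2] F
        - aeval ![(X 0 : MvPolynomial (Fin 3) R), X 1] F = 0) (n : ℕ) :
    IsCoc n (fun i => cf F i (n - i)) := by
  rw [symm_iff] at hs
  rw [cocycle_iff] at hc
  constructor
  · intro i hi
    show cf F i (n - i) = cf F (n - i) (n - (n - i))
    have : n - (n - i) = i := by omega
    rw [this, hs]
  · intro i j k hijk
    show cf F i (n - i) * _ + (if i = 0 then cf F j (n - j) else 0) - cf F (i + j) (n - (i + j)) * _
      - (if k = 0 then cf F i (n - i) else 0) = 0
    have := hc i j k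
    have e1 : n - i = j + k := by omega
    have e2 : n - (i + j) = k := by omega
    rw [e1, e2]
    by_cases hi : i = 0
    · by_cases hk : k = 0
      · subst hi; subst hk
        have e3 : n - j = 0 := by omega
        rw [e3]
        simpa using this
      · subst hi
        have e3 : n - j = k := by omega
        rw [e3]
        simp only [hk, if_true, if_false] at this ⊢
        exact this
    · by_cases hk : k = 0
      · subst hk
        simp only [hi, if_true, if_false, add_zero] at this ⊢
        exact this
      · simp only [hi, hk, if_false] at this ⊢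
        exact this

end Groth.Agent.Lib.Helper16.Lazard
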