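import Groth.Agent.Lib.Helper16.Lazard6

/-!
# Lazard's lemma on symmetric two-cocycles in characteristic `p`, both directions
-/

namespace Groth.Agent.Lib.Helper16.Lazard

open MvPolynomial

variable {R : Type*} [CommRing R]

theorem s2_degree (i j : ℕ) : ((s2 i j).sum fun _ e => e) = i + j := by
  unfold s2
  rw [Finsupp.sum_add_index' (by simp) (by simp), Finsupp.sum_single_index rfl,
    Finsupp.sum_single_index rfl]

theorem cf_eq_zero_of_totalDegree_lt (F : MvPolynomial (Fin 2) R) (i j : ℕ)
    (h : F.totalDegree < i + j) : cf F i j = 0 := by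
  unfold cf
  by_contra hne
  have := le_totalDegree (mem_support_iff.mpr hne)
  rw [s2_degree] at this
  omega

variable (p : ℕ) [hp : Fact p.Prime] [CharP R p]

theorem backward (G : Polynomial R) (N : ℕ) (r : ℕ → R) :
    aeval ![(X 1 : MvPolynomial (Fin 2) R), X 0] (Phi p G N r) = Phi p G N r ∧
    (aeval ![(X 0 : MvPolynomial (Fin 3) R), X 1 + X 2] (Phi p G N r)
        + aeval ![(X 1 : MvPolynomial (Fin 3) R), X 2] (Phi p G N r)
        - aeval ![(X 0 + X 1 : MvPolynomial (Fin 3) R), X 2] (Phi p G N r)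
        - aeval ![(X 0 : MvPolynomial (Fin 3) R), X 1] (Phi p G N r) = 0) := by
  apply of_isCoc (fun n i => G.coeff n * dc n i +
    ∑ e ∈ Finset.range N, r e * (if n = p ^ (e + 1) then ((sc p e i : ℕ) : R) else 0))
  · intro n
    apply IsCoc.add
    · exact (isCoc_dc n).smul _
    · apply IsCoc.sum
      intro e _
      apply IsCoc.smul
      by_cases h : n = p ^ (e + 1)
      · subst h
        simp only [if_true]
        exact isCoc_sc p e
      · simp only [h, if_false]
        exact isCoc_zero n
  · intro i j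
    exact cf_Phi p G N r i j

theorem forward (J : Ideal R) (F : MvPolynomial (Fin 2) R)
    (hs : aeval ![(X 1 : MvPolynomial (Fin 2) R), X 0] F = F)
    (hc : aeval ![(X 0 : MvPolynomial (Fin 3) R), X 1 + X 2] F
        + aeval ![(X 1 : MvPolynomial (Fin 3) R), X 2] F
        - aeval ![(X 0 + X 1 : MvPolynomial (Fin 3) R), X 2] F
        - aeval ![(X 0 : MvPolynomial (Fin 3) R), X 1] F = 0)
    (hJ : ∀ i j, cf F i j ∈ J) :
    ∃ (G : Polynomial R) (N : ℕ) (r : ℕ → R), (∀ n, G.coeff n ∈ J) ∧ (∀ e, r e ∈ J) ∧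
      F = Phi p G N r := by
  classical
  have hp2 : 2 ≤ p := hp.out.two_le
  set D := F.totalDegree with hD
  have H : ∀ n, ∃ g ∈ J, ∃ r ∈ J, ∃ e : ℕ, (D < n → g = 0 ∧ r = 0) ∧ (r = 0 ∨ n = p ^ (e + 1)) ∧
      ∀ i ≤ n, cf F i (n - i) = g * dc n i + r * ((sc p e i : ℕ) : R) := by
    intro n
    by_cases hn : D < n
    · refine ⟨0, J.zero_mem, 0, J.zero_mem, 0, fun _ => ⟨rfl, rfl⟩, Or.inl rfl, ?_⟩
      intro i hi
      rw [cf_eq_zero_of_totalDegree_lt F i (n - i) (by omega)]
      simp
    · rcases Nat.eq_zero_or_pos n with h0 | h0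
      · subst h0
        refine ⟨- cf F 0 0, J.neg_mem (hJ 0 0), 0, J.zero_mem, 0, fun h => absurd h hn,
          Or.inl rfl, ?_⟩
        intro i hi
        have : i = 0 := by omega
        subst this
        simp [dc]
      · obtain ⟨g, hg, r, hr, e, hdisj, hform⟩ :=
          hom p J n h0 _ (isCoc_of F hs hc n) (fun i _ => hJ _ _)
        exact ⟨g, hg, r, hr, e, fun h => absurd h hn, hdisj, hform⟩
  choose g hg r hr e hbig hdisj hform using H
  have hGc : ∀ n, (∑ m ∈ Finset.range (D + 1), Polynomial.monomial m (g m)).coeff n = g n := by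
    intro n
    rw [Polynomial.finset_sum_coeff]
    simp only [Polynomial.coeff_monomial]
    rw [Finset.sum_ite_eq']
    split_ifs with h
    · rfl
    · rw [Finset.mem_range] at h
      exact ((hbig n (by omega)).1).symm
  refine ⟨∑ m ∈ Finset.range (D + 1), Polynomial.monomial m (g m), D + 1,
    fun e' => r (p ^ (e' + 1)), ?_, fun e' => hr _, ?_⟩
  · intro n
    rw [hGc]
    exact hg n
  · ext d
    rw [← s2_eta d]
    show cf F (d 0) (d 1) = cf (Phi p _ _ _) (d 0) (d 1)
    rw [cf_Phi, hGc]
    have h1 := hform (d 0 + d 1) (d 0) (by omega)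
    have e1 : d 0 + d 1 - d 0 = d 1 := by omega
    rw [e1] at h1
    rw [h1]
    congr 1
    by_cases hr0 : r (d 0 + d 1) = 0
    · rw [hr0, zero_mul]
      symm
      apply Finset.sum_eq_zero
      intro e' _
      split_ifs with h
      · rw [← h, hr0, zero_mul]
      · rw [mul_zero]
    · have hpow : d 0 + d 1 = p ^ (e (d 0 + d 1) + 1) := by
        rcases hdisj (d 0 + d 1) with h | h
        · exact absurd h hr0
        · exact h
      have hnD : ¬ D < d 0 + d 1 := fun h => hr0 (hbig _ h).2
      rw [Finset.sum_eq_single (e (d 0 + d 1))]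
      · rw [if_pos hpow, ← hpow]
      · intro e' _ hne
        rw [if_neg, mul_zero]
        intro h
        apply hne
        have h2 : p ^ (e' + 1) = p ^ (e (d 0 + d 1) + 1) := h.symm.trans hpow
        have := Nat.pow_right_injective hp2 h2
        omega
      · intro h
        exfalso
        apply h
        rw [Finset.mem_range]
        have : e (d 0 + d 1) + 1 < p ^ (e (d 0 + d 1) + 1) := Nat.lt_pow_self (by omega)
        omega

end Groth.Agent.Lib.Helper16.Lazard
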