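import Mathlib
set_option autoImplicit false
universe u

namespace Groth.Agent.Lib.Helper16.LftRC

open TensorProduct

section Coord

variable {k K : Type u} [Field k] [Field K] [Algebra k K]

/-- coordinates with respect to a `k`-basis of `K`. -/
noncomputable abbrev coord (B : Type u) [CommRing B] [Algebra k B] :
    K ⊗[k] B ≃ₗ[k] (Module.Free.ChooseBasisIndex k K →₀ B) :=
  TensorProduct.equivFinsuppOfBasisLeft (N := B) (Module.Free.chooseBasis k K)

variable {B : Type u} [CommRing B] [Algebra k B]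

theorem coord_map (B₀ : Subalgebra k B) (x : K ⊗[k] B₀) (i : Module.Free.ChooseBasisIndex k K) :
    coord (K := K) B (Algebra.TensorProduct.map (AlgHom.id K K) B₀.val x) i =
      ((coord (K := K) B₀ x i : B₀) : B) := by
  induction x using TensorProduct.induction_on with
  | zero => simp
  | tmul m n =>
    rw [Algebra.TensorProduct.map_tmul]
    simp only [coord, TensorProduct.equivFinsuppOfBasisLeft_apply_tmul_apply, AlgHom.coe_id, id_eq,
      Subalgebra.coe_val, Subalgebra.coe_smul]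
  | add x y hx hy =>
    simp only [map_add, Finsupp.add_apply, Subalgebra.coe_add, hx, hy]

theorem coord_mul (y : K ⊗[k] B) (b : B) (i : Module.Free.ChooseBasisIndex k K) :
    coord (K := K) B (y * ((1 : K) ⊗ₜ[k] b)) i = coord (K := K) B y i * b := by
  induction y using TensorProduct.induction_on with
  | zero => simp
  | tmul m n =>
    rw [Algebra.TensorProduct.tmul_mul_tmul, mul_one]
    simp only [coord, TensorProduct.equivFinsuppOfBasisLeft_apply_tmul_apply, smul_mul_assoc]
  | add x y hx hy =>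
    simp only [add_mul, map_add, Finsupp.add_apply, hx, hy]

theorem eq_sum_coord (B₀ : Subalgebra k B) (x : K ⊗[k] B₀) :
    x = (coord (K := K) B₀ x).sum fun i r => (Module.Free.chooseBasis k K i) ⊗ₜ[k] r := by
  have h := (coord (K := K) B₀).symm_apply_apply x
  rw [show (coord (K := K) B₀).symm ((coord (K := K) B₀) x) =
    ((coord (K := K) B₀) x).sum fun i r => (Module.Free.chooseBasis k K i) ⊗ₜ[k] r from
    TensorProduct.equivFinsuppOfBasisLeft_symm_apply _ _] at h
  exact h.symm

end Coord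

theorem ring_core (k K B : Type u) [Field k] [Field K] [CommRing B] [Algebra k K] [Algebra k B]
    (f' : K ⊗[k] B) (hft : Algebra.FiniteType K (Localization.Away f'))
    (q' : Ideal (K ⊗[k] B)) [q'.IsPrime] (hf' : f' ∉ q') :
    ∃ g : B, (1 : K) ⊗ₜ[k] g ∉ q' ∧ Algebra.FiniteType k (Localization.Away g) := by
  classical
  obtain ⟨S, hS⟩ := hft.out
  have hnum : ∀ s : Localization.Away f', ∃ (t : K ⊗[k] B) (n : ℕ),
      s * (algebraMap (K ⊗[k] B) (Localization.Away f') f') ^ n =
        algebraMap (K ⊗[k] B) (Localization.Away f') t := by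
    intro s
    obtain ⟨⟨t, ⟨_, n, rfl⟩⟩, h⟩ := IsLocalization.surj (Submonoid.powers f') s
    exact ⟨t, n, by simpa using h⟩
  choose tt nn htt using hnum
  let T : Finset (K ⊗[k] B) := insert f' (S.image tt)
  choose Sx hSx using fun x : K ⊗[k] B => TensorProduct.exists_finset x
  let G : Finset B := T.biUnion (fun x => (Sx x).image Prod.snd)
  let B₀ : Subalgebra k B := Algebra.adjoin k (G : Set B)
  have hmemT : ∀ x ∈ T, x ∈ B₀.baseChange K := by
    intro x hx
    have e := hSx x
    rw [e]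
    refine Subalgebra.sum_mem _ fun s hs =>
      Subalgebra.tmul_mem_baseChange (Algebra.subset_adjoin ?_) s.1
    exact Finset.mem_coe.mpr (Finset.mem_biUnion.mpr ⟨x, hx, Finset.mem_image_of_mem _ hs⟩)
  let ι : K ⊗[k] B₀ →ₐ[K] K ⊗[k] B := Algebra.TensorProduct.map (AlgHom.id K K) B₀.val
  obtain ⟨f₀, hf₀⟩ : ∃ f₀, ι f₀ = f' := hmemT f' (Finset.mem_insert_self _ _)
  have htt₀ : ∀ s ∈ S, ∃ t₀, ι t₀ = tt s := fun s hs =>
    hmemT (tt s) (Finset.mem_insert_of_mem (Finset.mem_image_of_mem _ hs))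
  -- clearing denominators
  have hcl : ∀ x : Localization.Away f', ∃ (n : ℕ) (t₀ : K ⊗[k] B₀),
      x * (algebraMap (K ⊗[k] B) (Localization.Away f') f') ^ n =
        algebraMap (K ⊗[k] B) (Localization.Away f') (ι t₀) := by
    intro x
    have hx : x ∈ Algebra.adjoin K (S : Set (Localization.Away f')) := by rw [hS]; trivial
    induction hx using Algebra.adjoin_induction with
    | mem s hs =>
      obtain ⟨t₀, ht₀⟩ := htt₀ s hs
      exact ⟨nn s, t₀, by rw [ht₀]; exact htt s⟩
    | algebraMap c =>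
      exact ⟨0, algebraMap K _ c, by
        rw [pow_zero, mul_one, AlgHom.commutes, ← IsScalarTower.algebraMap_apply]⟩
    | add x y _ _ hx hy =>
      obtain ⟨n, a, ha⟩ := hx
      obtain ⟨m, b, hb⟩ := hy
      refine ⟨n + m, a * f₀ ^ m + b * f₀ ^ n, ?_⟩
      simp only [map_add, map_mul, map_pow, hf₀]
      rw [← ha, ← hb]
      ring
    | mul x y _ _ hx hy =>
      obtain ⟨n, a, ha⟩ := hx
      obtain ⟨m, b, hb⟩ := hy
      refine ⟨n + m, a * b, ?_⟩
      rw [map_mul, map_mul, ← ha, ← hb]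
      ring
  have hclear : ∀ t : K ⊗[k] B, ∃ (n : ℕ) (t₀ : K ⊗[k] B₀), f' ^ n * t = ι t₀ := by
    intro t
    obtain ⟨n, t₀, h⟩ := hcl (algebraMap _ _ t)
    rw [← map_pow, ← map_mul] at h
    obtain ⟨⟨_, m, rfl⟩, hc⟩ := (IsLocalization.eq_iff_exists (Submonoid.powers f') _).mp h
    refine ⟨m + n, f₀ ^ m * t₀, ?_⟩
    simp only at hc
    rw [map_mul, map_pow, hf₀, ← hc]
    ring
  -- the key coordinate statement
  have hkey : ∀ b : B, ∃ n : ℕ, ∀ i, ((coord (K := K) B₀ (f₀ ^ n) i : B₀) : B) * b ∈ B₀ := by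
    intro b
    obtain ⟨n, t₀, h⟩ := hclear ((1 : K) ⊗ₜ[k] b)
    refine ⟨n, fun i => ?_⟩
    have h1 := coord_mul (K := K) (ι (f₀ ^ n)) b i
    rw [coord_map] at h1
    rw [← h1, map_pow, hf₀, h, coord_map]
    exact (coord (K := K) B₀ t₀ i).2
  -- topology
  let incl : B₀ →+* K ⊗[k] B₀ := (Algebra.TensorProduct.includeRight (R := k) (A := K) (B := B₀)).toRingHom
  have hopen : IsOpenMap (PrimeSpectrum.comap incl) := by
    have h1 : IsOpenMap (PrimeSpectrum.comap (algebraMap B₀ (B₀ ⊗[k] K))) :=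
      PrimeSpectrum.isOpenMap_comap_algebraMap_tensorProduct_of_field
    have h2 : incl = ((Algebra.TensorProduct.comm k B₀ K).toAlgHom.toRingHom).comp
        (algebraMap B₀ (B₀ ⊗[k] K)) := by
      ext r
      simp [incl, Algebra.TensorProduct.algebraMap_apply]
    rw [h2, PrimeSpectrum.comap_comp]
    refine h1.comp ?_
    exact (PrimeSpectrum.homeomorphOfRingEquiv
      (Algebra.TensorProduct.comm k B₀ K).toRingEquiv.symm).isOpenMap
  let P₀ : PrimeSpectrum (K ⊗[k] B₀) := ⟨q'.comap ι, inferInstance⟩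
  have hP₀ : P₀ ∈ (PrimeSpectrum.basicOpen f₀ : Set (PrimeSpectrum (K ⊗[k] B₀))) := by
    change f₀ ∉ q'.comap ι
    rw [Ideal.mem_comap, hf₀]
    exact hf'
  obtain ⟨_, ⟨g, rfl⟩, hg1, hg2⟩ :=
    PrimeSpectrum.isTopologicalBasis_basic_opens.exists_subset_of_mem_open
      (Set.mem_image_of_mem (PrimeSpectrum.comap incl) hP₀)
      (hopen _ (PrimeSpectrum.basicOpen f₀).isOpen)
  have hrad : ∀ b : B, ∃ (m : ℕ) (r : B₀), (g : B) ^ m * b = r := by
    intro b
    obtain ⟨n, hn⟩ := hkey b
    let Ib : Ideal B₀ :=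
      { carrier := {r | (r : B) * b ∈ B₀}
        add_mem' := fun {r s} hr hs => by
          change ((r + s : B₀) : B) * b ∈ B₀
          rw [Subalgebra.coe_add, add_mul]
          exact B₀.add_mem hr hs
        zero_mem' := by
          change ((0 : B₀) : B) * b ∈ B₀
          rw [Subalgebra.coe_zero, zero_mul]
          exact B₀.zero_mem
        smul_mem' := fun c r hr => by
          change ((c * r : B₀) : B) * b ∈ B₀
          rw [Subalgebra.coe_mul, mul_assoc]
          exact B₀.mul_mem c.2 hr }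
    have hgI : g ∈ Ib.radical := by
      rw [← PrimeSpectrum.vanishingIdeal_zeroLocus_eq_radical, PrimeSpectrum.mem_vanishingIdeal]
      intro P hP
      by_contra hgP
      obtain ⟨P', hP'f, rfl⟩ := hg2 (show P ∈ (PrimeSpectrum.basicOpen g : Set _) from hgP)
      apply hP'f
      have hpow : f₀ ^ n ∈ P'.asIdeal := by
        rw [eq_sum_coord (K := K) B₀ (f₀ ^ n)]
        refine Ideal.sum_mem _ fun i _ => ?_
        have hi : coord (K := K) B₀ (f₀ ^ n) i ∈ Ib := hn i
        have hi' : incl (coord (K := K) B₀ (f₀ ^ n) i) ∈ P'.asIdeal := hP hi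
        have e : (Module.Free.chooseBasis k K i) ⊗ₜ[k] (coord (K := K) B₀ (f₀ ^ n) i) =
            ((Module.Free.chooseBasis k K i) ⊗ₜ[k] (1 : B₀)) *
              incl (coord (K := K) B₀ (f₀ ^ n) i) := by
          change _ = _ * ((1 : K) ⊗ₜ[k] _)
          rw [Algebra.TensorProduct.tmul_mul_tmul, mul_one, one_mul]
        change (Module.Free.chooseBasis k K i) ⊗ₜ[k] (coord (K := K) B₀ (f₀ ^ n) i) ∈ P'.asIdeal
        rw [e]
        exact Ideal.mul_mem_left _ _ hi'
      exact P'.isPrime.mem_of_pow_mem _ hpow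
    obtain ⟨m, hm⟩ := hgI
    exact ⟨m, ⟨_, hm⟩, congrArg (· * b) (Subalgebra.coe_pow B₀ g m).symm⟩
  refine ⟨(g : B), ?_, ?_⟩
  · intro hq
    apply hg1
    change incl g ∈ q'.comap ι
    rw [Ideal.mem_comap]
    change ι ((1 : K) ⊗ₜ[k] g) ∈ q'
    rw [Algebra.TensorProduct.map_tmul]
    exact hq
  · let L' := Localization.Away (g : B)
    let φ : B →ₐ[k] L' := IsScalarTower.toAlgHom k B L'
    let inv : L' := IsLocalization.Away.invSelf (g : B)
    have hinv : algebraMap B L' (g : B) * inv = 1 := IsLocalization.Away.mul_invSelf (g : B)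
    refine ⟨⟨(G.image φ) ∪ {inv}, ?_⟩⟩
    rw [eq_top_iff]
    rintro z -
    obtain ⟨⟨b, ⟨_, m, rfl⟩⟩, hz⟩ := IsLocalization.surj (Submonoid.powers (g : B)) z
    obtain ⟨m', r, hr⟩ := hrad b
    simp only at hz
    have hz' : z = φ r * inv ^ (m + m') := by
      have h1 : φ (r : B) = algebraMap B L' (g : B) ^ m' * algebraMap B L' b := by
        rw [← hr]; simp [φ]
      rw [h1, ← hz, map_pow]
      have h2 : (algebraMap B L' (g : B) * inv) ^ (m + m') = 1 := by rw [hinv, one_pow]
      calc z = z * (algebraMap B L' (g : B) * inv) ^ (m + m') := by rw [h2, mul_one]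
        _ = _ := by rw [mul_pow, pow_add]; ring
    rw [hz']
    refine Subalgebra.mul_mem _ ?_ (Subalgebra.pow_mem _ (Algebra.subset_adjoin (by simp)) _)
    have h1 : φ (r : B) ∈ (Algebra.adjoin k (G : Set B)).map φ := ⟨r, r.2, rfl⟩
    rw [AlgHom.map_adjoin] at h1
    refine Algebra.adjoin_mono ?_ h1
    intro y hy
    simp only [Finset.coe_union, Finset.coe_image, Finset.coe_singleton, Set.union_singleton,
      Set.mem_insert_iff]
    exact Or.inr hy

end Groth.Agent.Lib.Helper16.LftRC
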