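import Mathlib

/-!
# Pullbacks and terminal objects in a localization with a right calculus of fractions

Let `W` have a right calculus of fractions in `C` and `L : C ⥤ D` be a localization functor.
A commutative square in `C` which is a pullback "up to `W`-covers" (liftings exist after
precomposition with a morphism in `W`, and are unique) is sent by `L` to a pullback square.
-/

set_option autoImplicit false
universe v₁ v₂ u₁ u₂
open CategoryTheory CategoryTheory.Limits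

namespace Groth.Agent.Lib.Helper16.LocPullback

variable {C : Type u₁} [Category.{v₁} C] {D : Type u₂} [Category.{v₂} D]
  (L : C ⥤ D) (W : MorphismProperty C) [L.IsLocalization W] [W.HasRightCalculusOfFractions]

include W in
theorem isIso_map {X Y : C} (s : X ⟶ Y) (hs : W s) : IsIso (L.map s) :=
  Localization.inverts L W s hs

/-- Common denominators for two morphisms out of `L.obj W₀`. -/
theorem exists_common_denominator {W₀ A B : C} (α : L.obj W₀ ⟶ L.obj A) (β : L.obj W₀ ⟶ L.obj B) :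
    ∃ (W₃ : C) (t : W₃ ⟶ W₀) (_ : W t) (a : W₃ ⟶ A) (b : W₃ ⟶ B),
      L.map t ≫ α = L.map a ∧ L.map t ≫ β = L.map b := by
  obtain ⟨φ, hα⟩ := Localization.exists_rightFraction L W α
  obtain ⟨ψ, hβ⟩ := Localization.exists_rightFraction L W β
  obtain ⟨ρ, hρ⟩ := (MorphismProperty.LeftFraction.mk (W := W) ψ.s φ.s φ.hs).exists_rightFraction
  dsimp at hρ
  refine ⟨ρ.X', ρ.s ≫ ψ.s, W.comp_mem _ _ ρ.hs ψ.hs, ρ.f ≫ φ.f, ρ.s ≫ ψ.f, ?_, ?_⟩
  · rw [hρ, hα, L.map_comp, Category.assoc,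
      MorphismProperty.RightFraction.map_s_comp_map, ← L.map_comp]
  · rw [hβ, L.map_comp, Category.assoc,
      MorphismProperty.RightFraction.map_s_comp_map, ← L.map_comp]

section Pullback

variable {Yp T X P : C} (qT : Yp ⟶ T) (qX : Yp ⟶ X) (g : T ⟶ P) (f : X ⟶ P)
  (hlift : ∀ (W₀ : C) (a : W₀ ⟶ T) (b : W₀ ⟶ X), a ≫ g = b ≫ f →
    ∃ (W₁ : C) (s : W₁ ⟶ W₀) (_ : W s) (c : W₁ ⟶ Yp), c ≫ qT = s ≫ a ∧ c ≫ qX = s ≫ b)
  (huniq : ∀ (W₀ : C) (c c' : W₀ ⟶ Yp), c ≫ qT = c' ≫ qT → c ≫ qX = c' ≫ qX → c = c')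

include hlift in
theorem exists_lift_obj {W₀ : C} (α : L.obj W₀ ⟶ L.obj T) (β : L.obj W₀ ⟶ L.obj X)
    (h : α ≫ L.map g = β ≫ L.map f) :
    ∃ γ : L.obj W₀ ⟶ L.obj Yp, γ ≫ L.map qT = α ∧ γ ≫ L.map qX = β := by
  obtain ⟨W₃, t, ht, a, b, ha, hb⟩ := exists_common_denominator L W α β
  have h1 : L.map (a ≫ g) = L.map (b ≫ f) := by
    rw [L.map_comp, L.map_comp, ← ha, ← hb, Category.assoc, Category.assoc, h]
  obtain ⟨W₄, s₄, hs₄, h4⟩ := (MorphismProperty.map_eq_iff_precomp L W _ _).mp h1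
  obtain ⟨W₅, s₅, hs₅, c, hc1, hc2⟩ := hlift W₄ (s₄ ≫ a) (s₄ ≫ b)
    (by simpa only [Category.assoc] using h4)
  have hτ : W (s₅ ≫ s₄ ≫ t) := W.comp_mem _ _ hs₅ (W.comp_mem _ _ hs₄ ht)
  haveI := isIso_map L W _ hτ
  refine ⟨inv (L.map (s₅ ≫ s₄ ≫ t)) ≫ L.map c, ?_, ?_⟩
  · rw [Category.assoc, IsIso.inv_comp_eq, ← L.map_comp, hc1, L.map_comp, L.map_comp,
      L.map_comp, L.map_comp, ← ha]
    simp only [Category.assoc]
  · rw [Category.assoc, IsIso.inv_comp_eq, ← L.map_comp, hc2, L.map_comp, L.map_comp,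
      L.map_comp, L.map_comp, ← hb]
    simp only [Category.assoc]

include W huniq in
theorem lift_obj_unique {W₀ : C} (γ γ' : L.obj W₀ ⟶ L.obj Yp)
    (h1 : γ ≫ L.map qT = γ' ≫ L.map qT) (h2 : γ ≫ L.map qX = γ' ≫ L.map qX) : γ = γ' := by
  obtain ⟨W₃, t, ht, c, c', hc, hc'⟩ := exists_common_denominator L W γ γ'
  have e1 : L.map (c ≫ qT) = L.map (c' ≫ qT) := by
    rw [L.map_comp, L.map_comp, ← hc, ← hc', Category.assoc, Category.assoc, h1]
  obtain ⟨W₄, s₄, hs₄, h4⟩ := (MorphismProperty.map_eq_iff_precomp L W _ _).mp e1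
  have e2 : L.map ((s₄ ≫ c) ≫ qX) = L.map ((s₄ ≫ c') ≫ qX) := by
    rw [L.map_comp, L.map_comp, L.map_comp, L.map_comp, ← hc, ← hc']
    simp only [Category.assoc]
    rw [h2]
  obtain ⟨W₅, s₅, hs₅, h5⟩ := (MorphismProperty.map_eq_iff_precomp L W _ _).mp e2
  have hcc : s₅ ≫ s₄ ≫ c = s₅ ≫ s₄ ≫ c' := by
    apply huniq
    · simp only [Category.assoc]
      rw [h4]
    · simpa only [Category.assoc] using h5
  haveI := isIso_map L W _ ht
  haveI := isIso_map L W _ (W.comp_mem _ _ hs₅ hs₄)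
  have e3 : L.map c = L.map c' := by
    rw [← cancel_epi (L.map (s₅ ≫ s₄)), ← L.map_comp, ← L.map_comp]
    simp only [Category.assoc]
    rw [hcc]
  rw [← cancel_epi (L.map t), hc, hc', e3]

include hlift huniq in
/-- The image of the square under `L` is a pullback square. -/
theorem isPullback_map (hcomm : qT ≫ g = qX ≫ f) :
    IsPullback (L.map qT) (L.map qX) (L.map g) (L.map f) := by
  haveI : L.EssSurj := Localization.essSurj L W
  have hE : ∀ (Z : D) (α : Z ⟶ L.obj T) (β : Z ⟶ L.obj X), α ≫ L.map g = β ≫ L.map f →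
      ∃ γ : Z ⟶ L.obj Yp, γ ≫ L.map qT = α ∧ γ ≫ L.map qX = β := by
    intro Z α β h
    let e := L.objObjPreimageIso Z
    obtain ⟨γ, h1, h2⟩ := exists_lift_obj L W qT qX g f hlift (e.hom ≫ α) (e.hom ≫ β)
      (by simp only [Category.assoc]; rw [h])
    refine ⟨e.inv ≫ γ, ?_, ?_⟩
    · rw [Category.assoc, h1, Iso.inv_hom_id_assoc]
    · rw [Category.assoc, h2, Iso.inv_hom_id_assoc]
  have hU : ∀ (Z : D) (γ γ' : Z ⟶ L.obj Yp), γ ≫ L.map qT = γ' ≫ L.map qT →
      γ ≫ L.map qX = γ' ≫ L.map qX → γ = γ' := by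
    intro Z γ γ' h1 h2
    let e := L.objObjPreimageIso Z
    have := lift_obj_unique L W qT qX huniq (e.hom ≫ γ) (e.hom ≫ γ')
      (by simp only [Category.assoc]; rw [h1]) (by simp only [Category.assoc]; rw [h2])
    exact (cancel_epi e.hom).mp this
  refine ⟨⟨by rw [← L.map_comp, ← L.map_comp, hcomm]⟩, ⟨?_⟩⟩
  refine PullbackCone.IsLimit.mk _ (fun s => (hE s.pt s.fst s.snd s.condition).choose)
    (fun s => (hE s.pt s.fst s.snd s.condition).choose_spec.1)
    (fun s => (hE s.pt s.fst s.snd s.condition).choose_spec.2) ?_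
  intro s m hm1 hm2
  apply hU
  · rw [hm1, (hE s.pt s.fst s.snd s.condition).choose_spec.1]
  · rw [hm2, (hE s.pt s.fst s.snd s.condition).choose_spec.2]

end Pullback

include W in
/-- The image of a terminal object is terminal. -/
noncomputable def isTerminalMap {t : C} (ht : IsTerminal t) : IsTerminal (L.obj t) := by
  haveI : L.EssSurj := Localization.essSurj L W
  refine IsTerminal.ofUniqueHom (fun Z => (L.objObjPreimageIso Z).inv ≫ L.map (ht.from _)) ?_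
  intro Z m
  let e := L.objObjPreimageIso Z
  have key : ∀ γ γ' : L.obj (L.objPreimage Z) ⟶ L.obj t, γ = γ' := by
    intro γ γ'
    obtain ⟨W₃, s, hs, c, c', hc, hc'⟩ := exists_common_denominator L W γ γ'
    haveI := isIso_map L W _ hs
    rw [← cancel_epi (L.map s), hc, hc', ht.hom_ext c c']
  rw [← cancel_epi e.hom, Iso.hom_inv_id_assoc]
  exact key _ _

include W in
/-- Pullbacks exist in the localization as soon as the cospans coming from `C` have pullback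
squares. -/
theorem hasPullbacks_of_forall
    (H : ∀ {T X P : C} (g : T ⟶ P) (f : X ⟶ P), ∃ (Z : D) (p₁ : Z ⟶ L.obj T) (p₂ : Z ⟶ L.obj X),
      IsPullback p₁ p₂ (L.map g) (L.map f)) : HasPullbacks D := by
  haveI : L.EssSurj := Localization.essSurj L W
  refine @hasPullbacks_of_hasLimit_cospan D _ (fun {A B Pt} φ ψ => ?_)
  -- transport to objects in the image
  let eA := L.objObjPreimageIso A
  let eB := L.objObjPreimageIso B
  let eP := L.objObjPreimageIso Pt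
  obtain ⟨W₁, s, hs, g₀, hg₀⟩ : ∃ (W₁ : C) (s : W₁ ⟶ L.objPreimage A) (_ : W s)
      (g₀ : W₁ ⟶ L.objPreimage Pt), L.map s ≫ (eA.hom ≫ φ ≫ eP.inv) = L.map g₀ := by
    obtain ⟨ρ, hρ⟩ := Localization.exists_rightFraction L W (eA.hom ≫ φ ≫ eP.inv)
    exact ⟨ρ.X', ρ.s, ρ.hs, ρ.f, by rw [hρ, MorphismProperty.RightFraction.map_s_comp_map]⟩
  obtain ⟨W₂, t, ht, f₀, hf₀⟩ : ∃ (W₂ : C) (t : W₂ ⟶ L.objPreimage B) (_ : W t)
      (f₀ : W₂ ⟶ L.objPreimage Pt), L.map t ≫ (eB.hom ≫ ψ ≫ eP.inv) = L.map f₀ := by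
    obtain ⟨ρ, hρ⟩ := Localization.exists_rightFraction L W (eB.hom ≫ ψ ≫ eP.inv)
    exact ⟨ρ.X', ρ.s, ρ.hs, ρ.f, by rw [hρ, MorphismProperty.RightFraction.map_s_comp_map]⟩
  obtain ⟨Z, p₁, p₂, hZ⟩ := H g₀ f₀
  haveI := isIso_map L W _ hs
  haveI := isIso_map L W _ ht
  have hpb : IsPullback (p₁ ≫ L.map s ≫ eA.hom) (p₂ ≫ L.map t ≫ eB.hom) φ ψ := by
    refine IsPullback.of_iso hZ (Iso.refl _) (asIso (L.map s) ≪≫ eA) (asIso (L.map t) ≪≫ eB) eP
      ?_ ?_ ?_ ?_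
    · simp
    · simp
    · rw [← hg₀]
      simp
    · rw [← hf₀]
      simp
  exact hpb.hasPullback

end Groth.Agent.Lib.Helper16.LocPullback
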