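import Mathlib
import Groth.Agent.Lib.Helper16.LocPullback

/-!
# A criterion for a functor to be a localization functor

Let `W` have a right calculus of fractions in `C`. A functor `L : C ⥤ D` which inverts `W`, is
essentially surjective, "full up to fractions" and "faithful up to `W`" is a localization functor
for `W`.
-/

set_option autoImplicit false
universe v₁ v₂ u₁ u₂
open CategoryTheory CategoryTheory.Limits

namespace Groth.Agent.Lib.Helper16.LocCriterion

variable {C : Type u₁} [Category.{v₁} C] {D : Type u₂} [Category.{v₂} D]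

theorem isLocalization_of_fractions (L : C ⥤ D) (W : MorphismProperty C)
    [W.HasRightCalculusOfFractions] (hL : W.IsInvertedBy L) [L.EssSurj]
    (hfull : ∀ (a b : C) (ψ : L.obj a ⟶ L.obj b),
      ∃ (a' : C) (t : a' ⟶ a) (_ : W t) (g : a' ⟶ b), L.map g = L.map t ≫ ψ)
    (hfaith : ∀ (a b : C) (g₁ g₂ : a ⟶ b), L.map g₁ = L.map g₂ →
      ∃ (a' : C) (t : a' ⟶ a) (_ : W t), t ≫ g₁ = t ≫ g₂) :
    L.IsLocalization W := by
  let G : W.Localization ⥤ D := Localization.lift L hL W.Q
  let e : W.Q ⋙ G ≅ L := Localization.fac L hL W.Q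
  have hnat : ∀ {a b : C} (f : a ⟶ b),
      G.map (W.Q.map f) = e.hom.app a ≫ L.map f ≫ e.inv.app b := by
    intro a b f
    have h := e.hom.naturality f
    have h' : G.map (W.Q.map f) ≫ e.hom.app b = e.hom.app a ≫ L.map f := h
    rw [← Category.assoc, ← h', Category.assoc, Iso.hom_inv_id_app]
    exact (Category.comp_id _).symm
  haveI : G.EssSurj :=
    ⟨fun d => ⟨W.Q.obj (L.objPreimage d), ⟨e.app _ ≪≫ L.objObjPreimageIso d⟩⟩⟩
  have keyFull : ∀ (a b : C) (φ : G.obj (W.Q.obj a) ⟶ G.obj (W.Q.obj b)),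
      ∃ χ : W.Q.obj a ⟶ W.Q.obj b, G.map χ = φ := by
    intro a b φ
    obtain ⟨a', t, ht, g, hg⟩ := hfull a b (e.inv.app a ≫ φ ≫ e.hom.app b)
    haveI : IsIso (W.Q.map t) := Localization.inverts W.Q W t ht
    refine ⟨inv (W.Q.map t) ≫ W.Q.map g, ?_⟩
    rw [G.map_comp, G.map_inv, IsIso.inv_comp_eq, hnat, hnat, hg]
    simp only [Category.assoc, Iso.hom_inv_id_app, Iso.inv_hom_id_app_assoc]
    erw [Category.comp_id]
  have keyFaith : ∀ (a b : C) (χ₁ χ₂ : W.Q.obj a ⟶ W.Q.obj b), G.map χ₁ = G.map χ₂ → χ₁ = χ₂ := by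
    intro a b χ₁ χ₂ h
    obtain ⟨a₃, t, ht, g₁, g₂, h₁, h₂⟩ :=
      Groth.Agent.Lib.Helper16.LocPullback.exists_common_denominator W.Q W χ₁ χ₂
    haveI : IsIso (W.Q.map t) := Localization.inverts W.Q W t ht
    have hL12 : L.map g₁ = L.map g₂ := by
      have h3 : G.map (W.Q.map g₁) = G.map (W.Q.map g₂) := by
        rw [← h₁, ← h₂, G.map_comp, G.map_comp, h]
      rw [hnat, hnat] at h3
      have h4 := (cancel_epi (e.hom.app a₃)).mp h3
      exact (cancel_mono (e.inv.app b)).mp h4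
    obtain ⟨a', t', ht', h4⟩ := hfaith a₃ b g₁ g₂ hL12
    haveI : IsIso (W.Q.map t') := Localization.inverts W.Q W t' ht'
    have h5 : W.Q.map g₁ = W.Q.map g₂ := by
      rw [← cancel_epi (W.Q.map t'), ← W.Q.map_comp, ← W.Q.map_comp, h4]
    rw [← cancel_epi (W.Q.map t), h₁, h₂, h5]
  haveI : G.Full := by
    refine ⟨fun {x y} φ => ?_⟩
    obtain ⟨a, rfl⟩ := (Localization.Construction.objEquiv W).surjective x
    obtain ⟨b, rfl⟩ := (Localization.Construction.objEquiv W).surjective y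
    exact keyFull a b φ
  haveI : G.Faithful := by
    refine ⟨fun {x y} χ₁ χ₂ h => ?_⟩
    obtain ⟨a, rfl⟩ := (Localization.Construction.objEquiv W).surjective x
    obtain ⟨b, rfl⟩ := (Localization.Construction.objEquiv W).surjective y
    exact keyFaith a b χ₁ χ₂ h
  haveI : G.IsEquivalence := { }
  exact Functor.IsLocalization.of_equivalence_target W.Q W L G.asEquivalence e

end Groth.Agent.Lib.Helper16.LocCriterion
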