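import Groth.Agent.Lib.Helper68.FunFldRes
import Groth.Agent.Lib.Helper88.FunFldLocal
import Groth.Prelude.Def_W4bk4goldsch45p2

/-!
# Local expansions at a place over an algebraically closed constant field, part 1 (helper16)

`rho hK P z : k` is the value of `z` at `P` (for `z` integral at `P`); `next` is the step
`z ↦ (z - z(P)) / t`; `a j z` the `j`-th coefficient of the `t`-adic expansion.
-/

set_option autoImplicit false

namespace Groth.Agent.Lib.Helper16.LocExp

open FunFld WithZero Groth.Agent.Lib.Helper88.FF

variable {k K : Type*} [Field k] [IsAlgClosed k] [Field K] [Algebra k K]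

/-- The value in `k` of an element integral at `P` (junk `0` otherwise). -/
noncomputable def rho (hK : IsFunctionField k K) (P : Place k K) (z : K) : k :=
  open scoped Classical in
  if h : P.1 z ≤ 1 then Classical.choose (Groth.Agent.Lib.Helper68.FunFldRes.exists_const hK P h)
  else 0

variable (hK : IsFunctionField k K) (P : Place k K)

lemma rho_spec {z : K} (hz : P.1 z ≤ 1) : P.1 (z - algebraMap k K (rho hK P z)) < 1 := by
  unfold rho
  rw [dif_pos hz]
  exact Classical.choose_spec (Groth.Agent.Lib.Helper68.FunFldRes.exists_const hK P hz)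

lemma rho_unique {z : K} (hz : P.1 z ≤ 1) {c : k} (hc : P.1 (z - algebraMap k K c) < 1) :
    rho hK P z = c := by
  by_contra hne
  have h1 := rho_spec hK P hz
  have h2 : algebraMap k K (rho hK P z - c) =
      (z - algebraMap k K c) - (z - algebraMap k K (rho hK P z)) := by
    rw [map_sub]; ring
  have h3 : P.1 (algebraMap k K (rho hK P z - c)) < 1 := by
    rw [h2]
    exact lt_of_le_of_lt (P.1.map_sub _ _) (max_lt hc h1)
  rw [val_algebraMap P (sub_ne_zero.mpr hne)] at h3
  exact lt_irrefl _ h3

lemma rho_algebraMap (c : k) : rho hK P (algebraMap k K c) = c :=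
  rho_unique hK P (val_algebraMap_le P c) (by simp)

lemma rho_zero : rho hK P (0 : K) = 0 := by
  have := rho_algebraMap hK P (0 : k)
  rwa [map_zero] at this

lemma rho_one : rho hK P (1 : K) = 1 := by
  have := rho_algebraMap hK P (1 : k)
  rwa [map_one] at this

lemma rho_add {z w : K} (hz : P.1 z ≤ 1) (hw : P.1 w ≤ 1) :
    rho hK P (z + w) = rho hK P z + rho hK P w := by
  apply rho_unique hK P ((P.1.map_add z w).trans (max_le hz hw))
  have : z + w - algebraMap k K (rho hK P z + rho hK P w) =
      (z - algebraMap k K (rho hK P z)) + (w - algebraMap k K (rho hK P w)) := by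
    rw [map_add]; ring
  rw [this]
  exact lt_of_le_of_lt (P.1.map_add _ _) (max_lt (rho_spec hK P hz) (rho_spec hK P hw))

lemma rho_mul {z w : K} (hz : P.1 z ≤ 1) (hw : P.1 w ≤ 1) :
    rho hK P (z * w) = rho hK P z * rho hK P w := by
  have hzw : P.1 (z * w) ≤ 1 := by
    rw [map_mul]; exact mul_le_one' hz hw
  apply rho_unique hK P hzw
  have : z * w - algebraMap k K (rho hK P z * rho hK P w) =
      (z - algebraMap k K (rho hK P z)) * w +
        algebraMap k K (rho hK P z) * (w - algebraMap k K (rho hK P w)) := by
    rw [map_mul]; ring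
  rw [this]
  refine lt_of_le_of_lt (P.1.map_add _ _) (max_lt ?_ ?_)
  · rw [map_mul]
    calc P.1 (z - algebraMap k K (rho hK P z)) * P.1 w
        ≤ P.1 (z - algebraMap k K (rho hK P z)) * 1 := mul_le_mul' le_rfl hw
      _ = P.1 (z - algebraMap k K (rho hK P z)) := mul_one _
      _ < 1 := rho_spec hK P hz
  · rw [map_mul]
    calc P.1 (algebraMap k K (rho hK P z)) * P.1 (w - algebraMap k K (rho hK P w))
        ≤ 1 * P.1 (w - algebraMap k K (rho hK P w)) := mul_le_mul' (val_algebraMap_le P _) le_rfl
      _ = P.1 (w - algebraMap k K (rho hK P w)) := one_mul _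
      _ < 1 := rho_spec hK P hw

lemma rho_eq_zero_iff {z : K} (hz : P.1 z ≤ 1) : rho hK P z = 0 ↔ P.1 z < 1 := by
  constructor
  · intro h
    have := rho_spec hK P hz
    rwa [h, map_zero, sub_zero] at this
  · intro h
    exact rho_unique hK P hz (by rwa [map_zero, sub_zero])

/-- `evalP` is the image of `rho` in the residue field. -/
lemma evalP_eq {z : K} (hz : P.1 z ≤ 1) :
    evalP P z = algebraMap k (IsLocalRing.ResidueField P.O) (rho hK P z) := by
  unfold evalP
  rw [dif_pos hz]
  have h1 : algebraMap k (IsLocalRing.ResidueField P.O) (rho hK P z) =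
      IsLocalRing.residue P.O (algebraMap k P.O (rho hK P z)) := rfl
  rw [h1, ← sub_eq_zero, ← map_sub, IsLocalRing.residue_eq_zero_iff,
    Valuation.mem_maximalIdeal_iff]
  exact rho_spec hK P hz

include hK in
lemma algebraMap_residue_surjective :
    Function.Surjective (algebraMap k (IsLocalRing.ResidueField P.O)) := by
  intro w
  obtain ⟨y, rfl⟩ := IsLocalRing.residue_surjective w
  have hy : P.1 (y : K) ≤ 1 := (Valuation.mem_valuationSubring_iff _ _).mp y.2
  refine ⟨rho hK P (y : K), ?_⟩
  have := evalP_eq hK P hy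
  rw [← this]
  unfold evalP
  rw [dif_pos hy]

end Groth.Agent.Lib.Helper16.LocExp
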