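import Groth.Agent.Lib.Helper16.LocExp9

/-!
# Local expansions at a place, part 10: scaled Hasse derivatives, fixed points (helper16)
-/

set_option autoImplicit false

namespace Groth.Agent.Lib.Helper16.LocExp

open FunFld WithZero Groth.Agent.Lib.Helper88.FF PowerSeries LocRes Groth.Agent.Lib.Helper16.Hasse

variable {k K : Type*} [Field k] [IsAlgClosed k] [Field K] [Algebra k K]
variable (hK : IsFunctionField k K) (P : Place k K) {t : K} (ht : P.1 t = exp (-1 : ℤ))
variable {Ht : K →ₐ[k] PowerSeries K} (hHt : IsHasseFamily t Ht)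

lemma prod_exp {ι : Type*} (s : Finset ι) (f : ι → ℤ) :
    ∏ i ∈ s, (exp (f i) : ℤᵐ⁰) = exp (∑ i ∈ s, f i) := by
  classical
  induction s using Finset.induction_on with
  | empty => simp
  | insert i s hi ih => rw [Finset.prod_insert hi, Finset.sum_insert hi, ih, exp_add]

include ht in
omit [IsAlgClosed k] in
lemma val_t_pow (m : ℕ) : P.1 (t ^ m) = exp (-(m : ℤ)) := by
  rw [map_pow, ht, ← exp_nsmul]
  congr 1
  simp

lemma rho_sub {z w : K} (hz : P.1 z ≤ 1) (hw : P.1 w ≤ 1) :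
    rho hK P (z - w) = rho hK P z - rho hK P w := by
  apply rho_unique hK P ((P.1.map_sub z w).trans (max_le hz hw))
  have : z - w - algebraMap k K (rho hK P z - rho hK P w) =
      (z - algebraMap k K (rho hK P z)) - (w - algebraMap k K (rho hK P w)) := by
    rw [map_sub]; ring
  rw [this]
  exact lt_of_le_of_lt (P.1.map_sub _ _) (max_lt (rho_spec hK P hz) (rho_spec hK P hw))

include ht hHt in
/-- The scaled Hasse derivative `D^i g · t^i / t^j` of a function vanishing to order `j` is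
integral with value `(j choose i) · (leading coefficient)`. -/
lemma hasse_scaled {g : K} {j : ℕ} (hg : P.1 g ≤ exp (-(j : ℤ))) (i : ℕ) :
    P.1 (hasseD Ht i g * t ^ i / t ^ j) ≤ 1 ∧
      rho hK P (hasseD Ht i g * t ^ i / t ^ j) = (j.choose i : k) * a hK P t j g := by
  have hg1 : P.1 g ≤ 1 := hg.trans (by
    rw [← exp_zero, exp_le_exp]; omega)
  have hw1 : P.1 (hasseD Ht i g) ≤ 1 := val_hasseD_le hK P ht hHt hg1 i
  have ht0 := t_ne_zero P ht
  have hlow := (val_le_exp_iff_a hK P ht j hg1).mp hg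
  rcases le_or_gt i j with hij | hij
  · obtain ⟨d, rfl⟩ := Nat.exists_eq_add_of_le hij
    have hz : hasseD Ht i g * t ^ i / t ^ (i + d) = hasseD Ht i g / t ^ d := by
      rw [pow_add]
      field_simp
    have hwd : P.1 (hasseD Ht i g) ≤ exp (-(d : ℤ)) := by
      rw [val_le_exp_iff_a hK P ht d hw1]
      intro m hm
      rw [a_hasseD hK P ht hHt hg1, hlow (i + m) (by omega), mul_zero]
    rw [hz]
    refine ⟨val_div_pow P ht hwd, ?_⟩
    rw [← a_zero, ← a_shift hK P ht d hwd 0, Nat.add_zero, a_hasseD hK P ht hHt hg1,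
      Nat.choose_symm_add]
  · obtain ⟨d, rfl⟩ := Nat.exists_eq_add_of_lt hij
    have hz : hasseD Ht (j + d + 1) g * t ^ (j + d + 1) / t ^ j =
        hasseD Ht (j + d + 1) g * t ^ (d + 1) := by
      rw [show j + d + 1 = j + (d + 1) by ring, pow_add]
      field_simp
    have hlt : P.1 (hasseD Ht (j + d + 1) g * t ^ (d + 1)) < 1 := by
      rw [map_mul, val_t_pow P ht]
      calc P.1 (hasseD Ht (j + d + 1) g) * exp (-((d + 1 : ℕ) : ℤ))
          ≤ 1 * exp (-((d + 1 : ℕ) : ℤ)) := mul_le_mul' hw1 le_rfl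
        _ = exp (-((d + 1 : ℕ) : ℤ)) := one_mul _
        _ < 1 := by rw [← exp_zero, exp_lt_exp]; push_cast; omega
    rw [hz]
    refine ⟨hlt.le, ?_⟩
    rw [(rho_eq_zero_iff hK P hlt.le).mpr hlt, Nat.choose_eq_zero_of_lt (by omega), Nat.cast_zero,
      zero_mul]

variable {τ : K →ₐ[k] K}

omit [IsAlgClosed k] in
lemma isFixedPt_of_strong (hP : IsStrongFixedPt τ P) : IsFixedPt τ P := by
  intro z hz
  exact lt_of_le_of_lt (hP z hz) (by rw [← exp_zero, exp_lt_exp]; norm_num)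

include hK in
/-- An endomorphism fixing `P` preserves integrality at `P`. -/
lemma val_tau_le (hP : IsFixedPt τ P) {z : K} (hz : P.1 z ≤ 1) : P.1 (τ z) ≤ 1 := by
  have h1 := hP _ (rho_spec hK P hz)
  have h2 : τ z = τ (z - algebraMap k K (rho hK P z)) + algebraMap k K (rho hK P z) := by
    rw [map_sub, AlgHom.commutes]; ring
  rw [h2]
  exact (P.1.map_add _ _).trans (max_le h1.le (val_algebraMap_le P _))

include hK ht in
lemma val_tau_le_exp (hP : IsFixedPt τ P) {g : K} {j : ℕ} (hg : P.1 g ≤ exp (-(j : ℤ))) :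
    P.1 (τ g) ≤ exp (-(j : ℤ)) := by
  have ht0 := t_ne_zero P ht
  have hu := val_div_pow P ht hg
  have hgu : g = t ^ j * (g / t ^ j) := by field_simp
  have h1 : P.1 (τ t) ≤ exp (-1 : ℤ) :=
    lt_one_iff_le_exp_neg_one.mp (hP t (val_t_lt P ht))
  rw [hgu, map_mul, map_pow, map_mul, map_pow]
  calc P.1 (τ t) ^ j * P.1 (τ (g / t ^ j)) ≤ exp (-1 : ℤ) ^ j * 1 :=
        mul_le_mul' (pow_le_pow_left₀ zero_le' h1 j) (val_tau_le hK P hP hu)
    _ = exp (-(j : ℤ)) := by
        rw [mul_one, ← exp_nsmul]; congr 1; simp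

include hK ht in
lemma val_tau_le_exp_two (hP : IsStrongFixedPt τ P) {g : K} {j : ℕ}
    (hg : P.1 g ≤ exp (-(j : ℤ))) : P.1 (τ g) ≤ exp (-(2 * j : ℤ)) := by
  have ht0 := t_ne_zero P ht
  have hu := val_div_pow P ht hg
  have hgu : g = t ^ j * (g / t ^ j) := by field_simp
  have h1 : P.1 (τ t) ≤ exp (-2 : ℤ) := hP t (val_t_lt P ht)
  rw [hgu, map_mul, map_pow, map_mul, map_pow]
  calc P.1 (τ t) ^ j * P.1 (τ (g / t ^ j)) ≤ exp (-2 : ℤ) ^ j * 1 :=
        mul_le_mul' (pow_le_pow_left₀ zero_le' h1 j)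
          (val_tau_le hK P (isFixedPt_of_strong P hP) hu)
    _ = exp (-(2 * j : ℤ)) := by
        rw [mul_one, ← exp_nsmul]; congr 1; simp; ring

include hK ht in
/-- `τ g / t^j` is integral for `g` vanishing to order `j` at a fixed point. -/
lemma tau_scaled (hP : IsFixedPt τ P) {g : K} {j : ℕ} (hg : P.1 g ≤ exp (-(j : ℤ))) :
    P.1 (τ g / t ^ j) ≤ 1 :=
  val_div_pow P ht (val_tau_le_exp hK P ht hP hg)

include ht in
/-- `τ g / t^j` vanishes at a strong fixed point for `g` vanishing to order `j ≥ 1`. -/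
lemma rho_tau_scaled (hP : IsStrongFixedPt τ P) {g : K} {j : ℕ} (hj : 1 ≤ j)
    (hg : P.1 g ≤ exp (-(j : ℤ))) : rho hK P (τ g / t ^ j) = 0 := by
  have h2 := val_tau_le_exp_two hK P ht hP hg
  have hlt : P.1 (τ g / t ^ j) < 1 := by
    rw [map_div₀, val_t_pow P ht, div_lt_iff₀ (by simp), one_mul]
    refine lt_of_le_of_lt h2 ?_
    rw [exp_lt_exp]; omega
  exact (rho_eq_zero_iff hK P hlt.le).mpr hlt

end Groth.Agent.Lib.Helper16.LocExp
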