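import Groth.Agent.Lib.Helper16.LocExp10
import Mathlib.LinearAlgebra.Matrix.ToLinearEquiv

/-!
# Local expansions at a place, part 11: adapted tuples and their Wronskian-type determinants
(helper16)
-/

set_option autoImplicit false

namespace Groth.Agent.Lib.Helper16.LocExp

open FunFld WithZero Groth.Agent.Lib.Helper88.FF PowerSeries LocRes Groth.Agent.Lib.Helper16.Hasse
open Groth.Agent.Lib.Helper16.EvalP

variable {k K : Type*} [Field k] [IsAlgClosed k] [Field K] [Algebra k K]
variable (hK : IsFunctionField k K) (P : Place k K) {t : K} (ht : P.1 t = exp (-1 : ℤ))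
variable {Ht : K →ₐ[k] PowerSeries K} (hHt : IsHasseFamily t Ht)
variable {n : ℕ}

include ht hHt in
/-- An adapted tuple for a tuple normalized at `P` containing `1` in its span. -/
lemma exists_adapted (φ : Fin (n + 1) → K) (hnorm : ∀ i, P.1 (φ i) ≤ 1)
    (J' : Fin n → ℕ) (hJ' : IsOrders (IsLocalRing.ResidueField P.O) (hcolAt P Ht φ) J') :
    ∃ g : Fin n → K, (∀ l, g l ∈ Submodule.span k (Set.range φ)) ∧
      (∀ l, P.1 (g l) = exp (-(J' l : ℤ))) ∧ (∀ l, a hK P t (J' l) (g l) = 1) ∧ (∀ l, 1 ≤ J' l) ∧
      LinearIndependent k (fun q : Fin (n + 1) => Fin.cases (motive := fun _ => K) 1 g q) := by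
  classical
  have hB := fun j hj => exists_of_isJump hK P ht hHt φ hnorm j hj
  have hJpos : ∀ l, 1 ≤ J' l := by
    intro l
    by_contra h
    have h0 : J' l = 0 := by omega
    have hj : IsJump (IsLocalRing.ResidueField P.O) (hcolAt P Ht φ) (0 + 1) :=
      (hJ'.2 0).mp ⟨l, h0⟩
    apply hj
    rw [Nat.zero_add, ← hcolAt_zero_eq_one P hHt φ]
    exact Submodule.subset_span ⟨0, by simp, rfl⟩
  choose g hgmem hgval hga using fun l : Fin n => hB (J' l) ((hJ'.2 (J' l)).mp ⟨l, rfl⟩)
  refine ⟨g, hgmem, hgval, hga, hJpos, ?_⟩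
  set φ' : Fin (n + 1) → K := fun q => Fin.cases (motive := fun _ => K) 1 g q with hφ'
  have hval : ∀ q, P.1 (φ' q) =
      exp (-((Fin.cases (motive := fun _ => ℕ) 0 J' q : ℕ) : ℤ)) := by
    intro q
    induction q using Fin.cases with
    | zero => simp [φ']
    | succ l => simpa [φ'] using hgval l
  have hne : ∀ q, φ' q ≠ 0 := by
    intro q h0
    have := hval q
    rw [h0, map_zero] at this
    exact absurd this.symm (by simp)
  have hinj : Function.Injective fun q => P.1 (φ' q) := by
    intro p q hpq
    simp only [hval] at hpq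
    have h1 := WithZero.exp_injective hpq
    have h2 : (Fin.cases (motive := fun _ => ℕ) 0 J' p : ℕ) =
        (Fin.cases (motive := fun _ => ℕ) 0 J' q : ℕ) := by omega
    induction p using Fin.cases with
    | zero =>
      induction q using Fin.cases with
      | zero => rfl
      | succ l =>
        simp only [Fin.cases_zero, Fin.cases_succ] at h2
        have := hJpos l
        omega
    | succ l =>
      induction q using Fin.cases with
      | zero =>
        simp only [Fin.cases_zero, Fin.cases_succ] at h2
        have := hJpos l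
        omega
      | succ l' =>
        simp only [Fin.cases_succ] at h2
        rw [hJ'.1.injective h2]
  exact linearIndependent_of_val_injective P φ' hne hinj

omit [IsAlgClosed k] in
/-- A linearly independent tuple in the span of another tuple of the same length is obtained
from it by an invertible matrix. -/
lemma exists_matrix_of_span {φ ψ : Fin (n + 1) → K} (hψ : LinearIndependent k ψ)
    (hmem : ∀ q, ψ q ∈ Submodule.span k (Set.range φ)) :
    ∃ A : Matrix (Fin (n + 1)) (Fin (n + 1)) k, A.det ≠ 0 ∧ ∀ q, ψ q = ∑ m, A q m • φ m := by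
  classical
  choose A hA using fun q => (Submodule.mem_span_range_iff_exists_fun k).mp (hmem q)
  refine ⟨Matrix.of A, ?_, fun q => (hA q).symm⟩
  intro hdet
  obtain ⟨v, hv0, hv⟩ := Matrix.exists_vecMul_eq_zero_iff.mpr hdet
  apply hv0
  have hsum : ∑ q, v q • ψ q = 0 := by
    have h1 : ∀ q, v q • ψ q = ∑ m, (v q * A q m) • φ m := by
      intro q
      rw [← hA q, Finset.smul_sum]
      refine Finset.sum_congr rfl fun m _ => ?_
      rw [smul_smul]
    simp only [h1]
    rw [Finset.sum_comm]
    have h2 : ∀ m, ∑ q, (v q * A q m) • φ m = (Matrix.vecMul v (Matrix.of A)) m • φ m := by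
      intro m
      rw [← Finset.sum_smul]
      rfl
    simp only [h2, hv, Pi.zero_apply, zero_smul, Finset.sum_const_zero]
  funext q
  exact Fintype.linearIndependent_iff.mp hψ v hsum q

end Groth.Agent.Lib.Helper16.LocExp
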