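import Groth.Agent.Lib.Helper16.LocExp11

/-!
# Local expansions at a place, part 12: the order at a fixed point of the determinant
`det [τψ | D^(i₁)ψ | ⋯ | D^(iₙ)ψ]` of an adapted tuple `ψ` (helper16)
-/

set_option autoImplicit false

namespace Groth.Agent.Lib.Helper16.LocExp

open FunFld WithZero Groth.Agent.Lib.Helper88.FF PowerSeries LocRes Groth.Agent.Lib.Helper16.Hasse
open Groth.Agent.Lib.Helper16.EvalP

variable {k K : Type*} [Field k] [IsAlgClosed k] [Field K] [Algebra k K]
variable (hK : IsFunctionField k K) (P : Place k K) {t : K} (ht : P.1 t = exp (-1 : ℤ))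
variable {Ht : K →ₐ[k] PowerSeries K} (hHt : IsHasseFamily t Ht)
variable {n : ℕ} {τ : K →ₐ[k] K}

/-- The reduced `n × n` matrix. -/
noncomputable def Qmat (τ : K →ₐ[k] K) (Ht : K →ₐ[k] PowerSeries K) (g : Fin n → K)
    (I : Fin n → ℕ) : Matrix (Fin n) (Fin n) K :=
  Matrix.of fun r s => if I s = 0 then g r - τ (g r) else hasseD Ht (I s) (g r)

/-- The normalized reduced matrix. -/
noncomputable def Nmat (τ : K →ₐ[k] K) (Ht : K →ₐ[k] PowerSeries K) (t : K) (g : Fin n → K)
    (J I : Fin n → ℕ) : Matrix (Fin n) (Fin n) K :=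
  Matrix.of fun r s => if I s = 0 then (g r - τ (g r)) / t ^ J r
    else hasseD Ht (I s) (g r) * t ^ I s / t ^ J r

include hHt in
omit [IsAlgClosed k] in
lemma det_wrMat_adapted (g : Fin n → K) (I : Fin n → ℕ) :
    (wrMat τ Ht (fun q => Fin.cases (motive := fun _ => K) 1 g q) I).det = (Qmat τ Ht g I).det := by
  classical
  set M := wrMat τ Ht (fun q => Fin.cases (motive := fun _ => K) 1 g q) I with hM
  have hM00 : M 0 0 = 1 := by simp [M, wrMat]
  have hM0s : ∀ s : Fin n, M 0 s.succ = if I s = 0 then 1 else 0 := by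
    intro s
    simp [M, wrMat, hasseD_apply, PowerSeries.coeff_one]
  have hMr0 : ∀ r : Fin n, M r.succ 0 = τ (g r) := by
    intro r; simp [M, wrMat]
  have hMrs : ∀ r s : Fin n, M r.succ s.succ = hasseD Ht (I s) (g r) := by
    intro r s; simp [M, wrMat]
  let c : Fin (n + 1) → K := fun j =>
    Fin.cases (motive := fun _ => K) 0 (fun s => if I s = 0 then -1 else 0) j
  let A : Matrix (Fin (n + 1)) (Fin (n + 1)) K := Matrix.of fun i j => M i j + c j * M i 0
  have hdetA : A.det = M.det := by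
    rw [← Matrix.det_transpose A, ← Matrix.det_transpose M]
    exact Matrix.det_eq_of_forall_row_eq_smul_add_const c 0 rfl (fun i j => rfl)
  have hA00 : A 0 0 = 1 := by
    show M 0 0 + c 0 * M 0 0 = 1
    rw [hM00]; simp [c]
  have hA0s : ∀ s : Fin n, A 0 s.succ = 0 := by
    intro s
    show M 0 s.succ + c s.succ * M 0 0 = 0
    rw [hM0s, hM00]
    by_cases h : I s = 0 <;> simp [c, h]
  have hsub : A.submatrix Fin.succ Fin.succ = Qmat τ Ht g I := by
    ext r s
    show M r.succ s.succ + c s.succ * M r.succ 0 = _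
    rw [hMrs, hMr0]
    by_cases h : I s = 0
    · have h0 : hasseD Ht 0 (g r) = g r := by
        rw [hasseD_apply, coeff_zero_eq_constantCoeff_apply, hHt.2]
      have hc : c s.succ = -1 := by simp [c, h]
      have hq : Qmat τ Ht g I r s = g r - τ (g r) := by simp [Qmat, h]
      rw [hc, hq, h, h0]
      ring
    · simp [c, h, Qmat]
  rw [← hdetA, Matrix.det_succ_row_zero, Fin.sum_univ_succ]
  simp only [hA0s, mul_zero, zero_mul, Finset.sum_const_zero, add_zero, hA00, Fin.val_zero,
    pow_zero, one_mul, Fin.succAbove_zero]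
  rw [hsub]

include ht in
omit [IsAlgClosed k] in
lemma det_Qmat_eq (g : Fin n → K) (J I : Fin n → ℕ) :
    (Qmat τ Ht g I).det =
      (∏ r, t ^ J r) * ((∏ s, (t ^ I s)⁻¹) * (Nmat τ Ht t g J I).det) := by
  have ht0 := t_ne_zero P ht
  have hQN : Qmat τ Ht g I = Matrix.of fun r s =>
      t ^ J r * (Matrix.of fun r s => (t ^ I s)⁻¹ * Nmat τ Ht t g J I r s) r s := by
    ext r s
    by_cases h : I s = 0
    · simp [Qmat, Nmat, h]
      field_simp
    · simp [Qmat, Nmat, h]
      field_simp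
  rw [hQN, Matrix.det_mul_column, Matrix.det_mul_row]

include hK ht hHt in
lemma val_Nmat_le (hP : IsFixedPt τ P) (g : Fin n → K) (J I : Fin n → ℕ)
    (hgval : ∀ l, P.1 (g l) = exp (-(J l : ℤ))) (r s : Fin n) :
    P.1 (Nmat τ Ht t g J I r s) ≤ 1 := by
  show P.1 (if I s = 0 then (g r - τ (g r)) / t ^ J r
    else hasseD Ht (I s) (g r) * t ^ I s / t ^ J r) ≤ 1
  split_ifs with h
  · rw [sub_div]
    exact (P.1.map_sub _ _).trans (max_le (val_div_pow P ht (hgval r).le)
      (tau_scaled hK P ht hP (hgval r).le))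
  · exact (hasse_scaled hK P ht hHt (hgval r).le (I s)).1

include ht hHt in
lemma rho_Nmat (hP : IsFixedPt τ P) (g : Fin n → K) (J I : Fin n → ℕ)
    (hgval : ∀ l, P.1 (g l) = exp (-(J l : ℤ))) (hga : ∀ l, a hK P t (J l) (g l) = 1)
    (hJpos : ∀ l, 1 ≤ J l) (hyp : (∀ l, 0 < I l) ∨ IsStrongFixedPt τ P) (r s : Fin n) :
    rho hK P (Nmat τ Ht t g J I r s) = ((J r).choose (I s) : k) := by
  show rho hK P (if I s = 0 then (g r - τ (g r)) / t ^ J r
    else hasseD Ht (I s) (g r) * t ^ I s / t ^ J r) = _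
  split_ifs with h
  · rcases hyp with hyp | hyp
    · exact absurd h (hyp s).ne'
    · rw [sub_div, rho_sub hK P (val_div_pow P ht (hgval r).le)
        (tau_scaled hK P ht hP (hgval r).le), rho_tau_scaled hK P ht hyp (hJpos r) (hgval r).le,
        sub_zero, ← a_zero, ← a_shift hK P ht (J r) (hgval r).le 0, Nat.add_zero, hga, h,
        Nat.choose_zero_right, Nat.cast_one]
  · rw [(hasse_scaled hK P ht hHt (hgval r).le (I s)).2, hga, mul_one]

include hK ht hHt in
/-- The order at a fixed point `P` of the determinant `det [τψ | D^(I l) ψ]` of an adapted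
tuple `ψ = (1, g)`. -/
theorem val_det_adapted (hP : IsFixedPt τ P) (g : Fin n → K) (J I : Fin n → ℕ)
    (hgval : ∀ l, P.1 (g l) = exp (-(J l : ℤ))) (hga : ∀ l, a hK P t (J l) (g l) = 1)
    (hJpos : ∀ l, 1 ≤ J l) :
    P.1 (wrMat τ Ht (fun q => Fin.cases (motive := fun _ => K) 1 g q) I).det ≤
        exp (-(∑ l, ((J l : ℤ) - I l))) ∧
    (((∀ l, 0 < I l) ∨ IsStrongFixedPt τ P) →
      (P.1 (wrMat τ Ht (fun q => Fin.cases (motive := fun _ => K) 1 g q) I).det =
          exp (-(∑ l, ((J l : ℤ) - I l))) ↔ (binomMat k J I).det ≠ 0)) := by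
  classical
  have hN := evalP_det P (Nmat τ Ht t g J I) (val_Nmat_le hK P ht hHt hP g J I hgval)
  have hval : P.1 (wrMat τ Ht (fun q => Fin.cases (motive := fun _ => K) 1 g q) I).det =
      exp (-(∑ l, ((J l : ℤ) - I l))) * P.1 (Nmat τ Ht t g J I).det := by
    rw [det_wrMat_adapted hHt, det_Qmat_eq P ht g J I, map_mul, map_mul, map_prod, map_prod,
      ← mul_assoc]
    congr 1
    simp only [map_inv₀, val_t_pow P ht, ← exp_neg, neg_neg]
    rw [prod_exp, prod_exp, ← exp_add]
    congr 1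
    rw [Finset.sum_sub_distrib, neg_sub, Finset.sum_neg_distrib]
    ring
  rw [hval]
  refine ⟨?_, fun hyp => ?_⟩
  · calc exp (-(∑ l, ((J l : ℤ) - I l))) * P.1 (Nmat τ Ht t g J I).det
        ≤ exp (-(∑ l, ((J l : ℤ) - I l))) * 1 := mul_le_mul' le_rfl hN.1
      _ = _ := mul_one _
  · rw [mul_eq_left₀ (by simp), ← evalP_ne_zero_iff P hN.1, hN.2]
    have hmat : (Matrix.of fun i j => evalP P (Nmat τ Ht t g J I i j)) =
        (algebraMap k (IsLocalRing.ResidueField P.O)).mapMatrix (binomMat k J I) := by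
      ext r s
      show evalP P (Nmat τ Ht t g J I r s) = algebraMap k _ (((J r).choose (I s) : ℕ) : k)
      rw [evalP_eq hK P (val_Nmat_le hK P ht hHt hP g J I hgval r s),
        rho_Nmat hK P ht hHt hP g J I hgval hga hJpos hyp]
    rw [hmat, ← RingHom.map_det]
    exact map_ne_zero_iff _ (algebraMap k (IsLocalRing.ResidueField P.O)).injective

end Groth.Agent.Lib.Helper16.LocExp
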