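import Groth.Agent.Lib.Helper16.LocExp12
import Groth.Agent.Lib.Helper16.BinomIndep

/-!
# Local expansions at a place, part 13: no relation among the truncated rows of an adapted tuple
at a strong fixed point (helper16)
-/

set_option autoImplicit false

namespace Groth.Agent.Lib.Helper16.LocExp

open FunFld WithZero Groth.Agent.Lib.Helper88.FF PowerSeries LocRes Groth.Agent.Lib.Helper16.Hasse
open Groth.Agent.Lib.Helper16.EvalP

variable {k K : Type*} [Field k] [IsAlgClosed k] [Field K] [Algebra k K]
variable (hK : IsFunctionField k K) (P : Place k K) {t : K} (ht : P.1 t = exp (-1 : ℤ))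
variable {Ht : K →ₐ[k] PowerSeries K} (hHt : IsHasseFamily t Ht)
variable {τ : K →ₐ[k] K}

lemma rho_sum {ι : Type*} (s : Finset ι) (f : ι → K) (hf : ∀ i ∈ s, P.1 (f i) ≤ 1) :
    rho hK P (∑ i ∈ s, f i) = ∑ i ∈ s, rho hK P (f i) := by
  classical
  induction s using Finset.induction_on with
  | empty => simp [rho_zero]
  | insert i s hi ih =>
    rw [Finset.sum_insert hi, Finset.sum_insert hi,
      rho_add hK P (hf i (Finset.mem_insert_self i s))
        (Valuation.map_sum_le _ fun j hj => hf j (Finset.mem_insert_of_mem hj)),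
      ih fun j hj => hf j (Finset.mem_insert_of_mem hj)]

include ht hHt in
/-- At a strong fixed point, the rows `(τψ, D⁰ψ, …, D^mψ)`, `m = j_N - j_0`, of an adapted tuple
`ψ = (1, g_0, …, g_N)` with exponents `j_0 < ⋯ < j_N` are linearly independent over `K`. -/
theorem eq_zero_of_adapted (hP : IsStrongFixedPt τ P) {N : ℕ} (g : Fin (N + 1) → K)
    (j : Fin (N + 1) → ℕ) (hj : StrictMono j) (hjpos : ∀ r, 1 ≤ j r)
    (hgval : ∀ r, P.1 (g r) = exp (-(j r : ℤ))) (hga : ∀ r, a hK P t (j r) (g r) = 1)
    (x0 : K) (x : Fin (N + 1) → K)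
    (hτ : x0 + ∑ r, x r * τ (g r) = 0)
    (hD : ∀ i, i ≤ j (Fin.last N) - j 0 →
      x0 * hasseD Ht i 1 + ∑ r, x r * hasseD Ht i (g r) = 0) :
    x0 = 0 ∧ x = 0 := by
  classical
  have ht0 := t_ne_zero P ht
  have hfix := isFixedPt_of_strong P hP
  have hD0 := hD 0 (Nat.zero_le _)
  have h0 : ∀ y : K, hasseD Ht 0 y = y := fun y => by
    rw [hasseD_apply, coeff_zero_eq_constantCoeff_apply, hHt.2]
  simp only [h0, mul_one] at hD0
  suffices hx : x = 0 by
    refine ⟨?_, hx⟩
    rw [hx] at hD0
    simpa using hD0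
  by_contra hx
  -- the normalized entries
  set Nn : ℕ → Matrix (Fin (N + 1)) (Fin (N + 1)) K := fun i => Nmat τ Ht t g j (fun _ => i)
    with hNn
  have hNval : ∀ i r, P.1 (Nn i r r) ≤ 1 := fun i r =>
    val_Nmat_le hK P ht hHt hfix g j (fun _ => i) hgval r r
  have hNrho : ∀ i r, rho hK P (Nn i r r) = ((j r).choose i : k) := fun i r =>
    rho_Nmat hK P ht hHt hfix g j (fun _ => i) hgval hga hjpos (Or.inr hP) r r
  -- the relations in terms of the normalized entries
  set y : Fin (N + 1) → K := fun r => x r * t ^ j r with hy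
  have hrel : ∀ i, i ≤ j (Fin.last N) - j 0 → ∑ r, y r * Nn i r r = 0 := by
    intro i hi
    rcases Nat.eq_zero_or_pos i with rfl | hipos
    · have h1 : ∑ r, x r * (g r - τ (g r)) = 0 := by
        simp only [mul_sub, Finset.sum_sub_distrib]
        rw [← sub_eq_zero_of_eq (hD0.trans hτ.symm)]
        ring
      rw [← h1]
      refine Finset.sum_congr rfl fun r _ => ?_
      simp only [y, Nn, Nmat, Matrix.of_apply, if_pos]
      field_simp
    · have h1 := hD i hi
      have h2 : hasseD Ht i (1 : K) = 0 := by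
        rw [hasseD_apply, map_one, PowerSeries.coeff_one, if_neg hipos.ne']
      rw [h2, mul_zero, zero_add] at h1
      have h3 : ∑ r, y r * Nn i r r = t ^ i * ∑ r, x r * hasseD Ht i (g r) := by
        rw [Finset.mul_sum]
        refine Finset.sum_congr rfl fun r _ => ?_
        simp only [y, Nn, Nmat, Matrix.of_apply, if_neg hipos.ne']
        field_simp
      rw [h3, h1, mul_zero]
  -- normalize
  have hyne : ∃ r, y r ≠ 0 := by
    by_contra hno
    push_neg at hno
    apply hx
    funext r
    have := hno r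
    simp only [y] at this
    rcases mul_eq_zero.mp this with h | h
    · exact h
    · exact absurd h (pow_ne_zero _ ht0)
  obtain ⟨r0, -, hmax⟩ := Finset.exists_max_image Finset.univ (fun r => P.1 (y r))
    Finset.univ_nonempty
  have hyr0 : y r0 ≠ 0 := by
    obtain ⟨r1, hr1⟩ := hyne
    intro h
    have := hmax r1 (Finset.mem_univ _)
    rw [h, map_zero] at this
    exact (Valuation.ne_zero_iff _).mpr hr1 (le_antisymm this zero_le')
  have hvr0 : P.1 (y r0) ≠ 0 := (Valuation.ne_zero_iff _).mpr hyr0
  set y' : Fin (N + 1) → K := fun r => y r / y r0 with hy'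
  have hy'val : ∀ r, P.1 (y' r) ≤ 1 := by
    intro r
    simp only [y', map_div₀]
    rw [div_le_iff₀ (zero_lt_iff.mpr hvr0), one_mul]
    exact hmax r (Finset.mem_univ _)
  have hy'r0 : y' r0 = 1 := div_self hyr0
  have hrel' : ∀ i, i ≤ j (Fin.last N) - j 0 → ∑ r, y' r * Nn i r r = 0 := by
    intro i hi
    have : ∑ r, y' r * Nn i r r = (y r0)⁻¹ * (∑ r, y r * Nn i r r) := by
      rw [Finset.mul_sum]
      refine Finset.sum_congr rfl fun r _ => ?_
      simp only [y']
      ring
    rw [this, hrel i hi, mul_zero]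
  -- reduce
  have hred : ∀ i, i ≤ j (Fin.last N) - j 0 →
      ∑ r, rho hK P (y' r) * ((j r).choose i : k) = 0 := by
    intro i hi
    have h1 := congrArg (rho hK P) (hrel' i hi)
    rw [rho_zero, rho_sum hK P Finset.univ _ (fun r _ => by
      rw [map_mul]; exact mul_le_one' (hy'val r) (hNval i r))] at h1
    rw [← h1]
    refine Finset.sum_congr rfl fun r _ => ?_
    rw [rho_mul hK P (hy'val r) (hNval i r), hNrho]
  have hzero := Groth.Agent.Lib.Helper16.BinomIndep.binom_indep j hj (fun r => rho hK P (y' r)) hred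
  have := congrFun hzero r0
  simp only [Pi.zero_apply] at this
  rw [hy'r0, rho_one] at this
  exact one_ne_zero this

end Groth.Agent.Lib.Helper16.LocExp
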