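import Groth.Agent.Lib.Helper16.LocExp1
import Mathlib.RingTheory.PowerSeries.Basic

/-!
# Local expansions at a place, part 2: the coefficient maps and the expansion (helper16)
-/

set_option autoImplicit false

namespace Groth.Agent.Lib.Helper16.LocExp

open FunFld WithZero Groth.Agent.Lib.Helper88.FF

variable {k K : Type*} [Field k] [IsAlgClosed k] [Field K] [Algebra k K]
variable (hK : IsFunctionField k K) (P : Place k K) (t : K)

/-- The step `z ↦ (z - z(P)) / t`. -/
noncomputable def next (z : K) : K := (z - algebraMap k K (rho hK P z)) / t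

/-- The `j`-th coefficient of the `t`-adic expansion at `P`. -/
noncomputable def a : ℕ → K → k
  | 0, z => rho hK P z
  | j + 1, z => a j (next hK P t z)

lemma a_zero (z : K) : a hK P t 0 z = rho hK P z := rfl
lemma a_succ (j : ℕ) (z : K) : a hK P t (j + 1) z = a hK P t j (next hK P t z) := rfl

variable {t}

omit [IsAlgClosed k] in
lemma t_ne_zero (ht : P.1 t = exp (-1 : ℤ)) : t ≠ 0 := by
  intro h
  rw [h, map_zero] at ht
  exact absurd ht.symm (by simp)

lemma val_next (ht : P.1 t = exp (-1 : ℤ)) {z : K} (hz : P.1 z ≤ 1) : P.1 (next hK P t z) ≤ 1 := by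
  unfold next
  rw [map_div₀, ht]
  have h1 := lt_one_iff_le_exp_neg_one.mp (rho_spec hK P hz)
  rw [div_le_iff₀ (by simp), one_mul]
  exact h1

lemma next_add {z w : K} (hz : P.1 z ≤ 1) (hw : P.1 w ≤ 1) :
    next hK P t (z + w) = next hK P t z + next hK P t w := by
  unfold next
  rw [rho_add hK P hz hw, map_add]
  ring

lemma next_mul {z w : K} (hz : P.1 z ≤ 1) (hw : P.1 w ≤ 1) :
    next hK P t (z * w) = next hK P t z * w + algebraMap k K (rho hK P z) * next hK P t w := by
  unfold next
  rw [rho_mul hK P hz hw, map_mul]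
  ring

lemma next_algebraMap (c : k) : next hK P t (algebraMap k K c) = 0 := by
  unfold next
  rw [rho_algebraMap, sub_self, zero_div]

lemma next_of_val_lt {z : K} (hz : P.1 z < 1) : next hK P t z = z / t := by
  unfold next
  rw [(rho_eq_zero_iff hK P hz.le).mpr hz, map_zero, sub_zero]

lemma a_add (ht : P.1 t = exp (-1 : ℤ)) (j : ℕ) : ∀ {z w : K}, P.1 z ≤ 1 → P.1 w ≤ 1 →
    a hK P t j (z + w) = a hK P t j z + a hK P t j w := by
  induction j with
  | zero => intro z w hz hw; exact rho_add hK P hz hw
  | succ j ih =>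
    intro z w hz hw
    rw [a_succ, a_succ, a_succ, next_add hK P hz hw]
    exact ih (val_next hK P ht hz) (val_next hK P ht hw)

lemma a_zero_right (j : ℕ) : a hK P t j (0 : K) = 0 := by
  have h0 : next hK P t (0 : K) = 0 := by
    have := next_algebraMap hK P (t := t) (0 : k)
    rwa [map_zero] at this
  induction j with
  | zero => rw [a_zero, rho_zero]
  | succ j ih => rw [a_succ, h0, ih]

lemma a_algebraMap (j : ℕ) (c : k) : a hK P t j (algebraMap k K c) = if j = 0 then c else 0 := by
  cases j with
  | zero => rw [a_zero, rho_algebraMap, if_pos rfl]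
  | succ j => rw [a_succ, next_algebraMap, a_zero_right, if_neg (Nat.succ_ne_zero j)]

lemma a_const_mul (ht : P.1 t = exp (-1 : ℤ)) (j : ℕ) : ∀ (c : k) {w : K}, P.1 w ≤ 1 →
    a hK P t j (algebraMap k K c * w) = c * a hK P t j w := by
  induction j with
  | zero =>
    intro c w hw
    rw [a_zero, a_zero, rho_mul hK P (val_algebraMap_le P c) hw, rho_algebraMap]
  | succ j ih =>
    intro c w hw
    rw [a_succ, a_succ, next_mul hK P (val_algebraMap_le P c) hw, next_algebraMap, zero_mul,
      zero_add, rho_algebraMap]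
    exact ih c (val_next hK P ht hw)

lemma a_mul (ht : P.1 t = exp (-1 : ℤ)) (j : ℕ) : ∀ {z w : K}, P.1 z ≤ 1 → P.1 w ≤ 1 →
    a hK P t j (z * w) =
      ∑ p ∈ Finset.HasAntidiagonal.antidiagonal j, a hK P t p.1 z * a hK P t p.2 w := by
  induction j with
  | zero =>
    intro z w hz hw
    rw [Finset.Nat.antidiagonal_zero, Finset.sum_singleton, a_zero, a_zero, a_zero]
    exact rho_mul hK P hz hw
  | succ j ih =>
    intro z w hz hw
    have hnz := val_next hK P ht hz
    have hnw := val_next hK P ht hw
    have h1 : P.1 (next hK P t z * w) ≤ 1 := by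
      rw [map_mul]; exact mul_le_one' hnz hw
    have h2 : P.1 (algebraMap k K (rho hK P z) * next hK P t w) ≤ 1 := by
      rw [map_mul]; exact mul_le_one' (val_algebraMap_le P _) hnw
    rw [a_succ, next_mul hK P hz hw, a_add hK P ht j h1 h2, ih hnz hw,
      a_const_mul hK P ht j _ hnw, Finset.Nat.sum_antidiagonal_succ]
    simp only [a_zero, a_succ]
    rw [add_comm]

lemma val_le_exp_iff_a (ht : P.1 t = exp (-1 : ℤ)) (N : ℕ) : ∀ {z : K}, P.1 z ≤ 1 →
    (P.1 z ≤ exp (-(N : ℤ)) ↔ ∀ j, j < N → a hK P t j z = 0) := by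
  induction N with
  | zero =>
    intro z hz
    simp only [Nat.cast_zero, neg_zero, exp_zero, Nat.not_lt_zero, false_imp_iff, implies_true,
      iff_true]
    exact hz
  | succ N ih =>
    intro z hz
    constructor
    · intro h j hj
      have hlt : P.1 z < 1 := lt_of_le_of_lt h (by
        rw [← exp_zero, exp_lt_exp]; push_cast; omega)
      have hn : P.1 (next hK P t z) ≤ exp (-(N : ℤ)) := by
        rw [next_of_val_lt hK P hlt, map_div₀, ht, div_le_iff₀ (by simp), ← exp_add]
        refine h.trans_eq ?_
        congr 1; push_cast; ring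
      cases j with
      | zero => rw [a_zero]; exact (rho_eq_zero_iff hK P hz).mpr hlt
      | succ j =>
        rw [a_succ]
        exact (ih (val_next hK P ht hz)).mp hn j (by omega)
    · intro h
      have h0 : rho hK P z = 0 := h 0 (Nat.succ_pos N)
      have hlt : P.1 z < 1 := (rho_eq_zero_iff hK P hz).mp h0
      have hn : P.1 (next hK P t z) ≤ exp (-(N : ℤ)) :=
        (ih (val_next hK P ht hz)).mpr (fun j hj => by
          have := h (j + 1) (by omega)
          rwa [a_succ] at this)
      rw [next_of_val_lt hK P hlt, map_div₀, ht, div_le_iff₀ (by simp), ← exp_add] at hn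
      refine hn.trans_eq ?_
      congr 1; push_cast; ring

end Groth.Agent.Lib.Helper16.LocExp
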