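import Groth.Agent.Lib.Helper16.LocExp2
import Groth.Agent.Lib.Helper16.HasseDelta
import Groth.Agent.Lib.Helper16.HasseUniq2
import Groth.Agent.Lib.Helper16.HasseIter
import Mathlib.RingTheory.Valuation.ValuationSubring
import Mathlib.RingTheory.Localization.FractionRing
import Mathlib.RingTheory.PowerSeries.Inverse

/-!
# Local expansions at a place, part 3: the expansion homomorphism (helper16)

`Eo hK P ht : P.O →+* k⟦X⟧` is the `t`-adic expansion on the valuation ring; `Ebar` its extension to
`K →+* FractionRing k⟦X⟧`.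
-/

set_option autoImplicit false

namespace Groth.Agent.Lib.Helper16.LocExp

open FunFld WithZero Groth.Agent.Lib.Helper88.FF PowerSeries

variable {k K : Type*} [Field k] [IsAlgClosed k] [Field K] [Algebra k K]
variable (hK : IsFunctionField k K) (P : Place k K) {t : K}

omit [IsAlgClosed k] in
lemma val_le_one (z : P.O) : P.1 (z : K) ≤ 1 := (Valuation.mem_valuationSubring_iff _ _).mp z.2

/-- The `t`-adic expansion on the valuation ring. -/
noncomputable def Eo (ht : P.1 t = exp (-1 : ℤ)) : P.O →+* k⟦X⟧ where
  toFun z := PowerSeries.mk fun j => a hK P t j (z : K)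
  map_one' := by
    ext j
    rw [coeff_mk, coeff_one]
    have := a_algebraMap hK P (t := t) j (1 : k)
    rw [map_one] at this
    exact this
  map_mul' z w := by
    ext j
    rw [coeff_mk, PowerSeries.coeff_mul]
    simp only [coeff_mk]
    exact a_mul hK P ht j (val_le_one P z) (val_le_one P w)
  map_zero' := by
    ext j
    rw [coeff_mk, map_zero]
    exact a_zero_right hK P j
  map_add' z w := by
    ext j
    rw [coeff_mk, map_add, coeff_mk, coeff_mk]
    exact a_add hK P ht j (val_le_one P z) (val_le_one P w)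

variable (ht : P.1 t = exp (-1 : ℤ))

lemma coeff_Eo (j : ℕ) (z : P.O) : coeff j (Eo hK P ht z) = a hK P t j (z : K) := by
  show coeff j (PowerSeries.mk fun j => a hK P t j (z : K)) = _
  rw [coeff_mk]

lemma constantCoeff_Eo (z : P.O) : constantCoeff (Eo hK P ht z) = rho hK P (z : K) := by
  rw [← coeff_zero_eq_constantCoeff_apply, coeff_Eo, a_zero]

lemma Eo_algebraMap (c : k) : Eo hK P ht (algebraMap k P.O c) = C c := by
  ext j
  rw [coeff_Eo, coeff_C]
  exact a_algebraMap hK P j c

lemma Eo_eq_zero_iff (z : P.O) : Eo hK P ht z = 0 ↔ z = 0 := by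
  constructor
  · intro h
    by_contra hne
    have hne' : (z : K) ≠ 0 := fun h0 => hne (Subtype.ext h0)
    have hv : P.1 (z : K) ≠ 0 := (Valuation.ne_zero_iff _).mpr hne'
    obtain ⟨m, hm⟩ : ∃ m : ℤ, P.1 (z : K) = exp m := ⟨_, (exp_log hv).symm⟩
    have hall : ∀ N : ℕ, P.1 (z : K) ≤ exp (-(N : ℤ)) := by
      intro N
      rw [val_le_exp_iff_a hK P ht N (val_le_one P z)]
      intro j _
      rw [← coeff_Eo hK P ht, h, map_zero]
    have := hall (m.natAbs + 1)
    rw [hm, exp_le_exp, Nat.cast_add, Nat.cast_one] at this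
    omega
  · rintro rfl
    exact map_zero _

lemma Eo_injective : Function.Injective (Eo hK P ht) := by
  rw [injective_iff_map_eq_zero]
  intro z hz
  exact (Eo_eq_zero_iff hK P ht z).mp hz

end Groth.Agent.Lib.Helper16.LocExp
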