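import Groth.Agent.Lib.Helper16.LocExp3

/-!
# Local expansions at a place, part 4: Hasse derivatives commute with expansion (helper16)

Key results: for `z` integral at `P` and `Ht` the total Hasse derivative with respect to a local
parameter `t` at `P`, `D_t^j z` is integral at `P` and its expansion is the `j`-th Hasse derivative
of the expansion of `z`.
-/

set_option autoImplicit false

namespace Groth.Agent.Lib.Helper16.LocExp

open FunFld WithZero Groth.Agent.Lib.Helper88.FF PowerSeries LocRes Groth.Agent.Lib.Helper16.Hasse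

variable {k K : Type*} [Field k] [IsAlgClosed k] [Field K] [Algebra k K]
variable (hK : IsFunctionField k K) (P : Place k K) {t : K} (ht : P.1 t = exp (-1 : ℤ))

/-- The extension of the expansion to `K`, with values in the fraction field of `k⟦X⟧`. -/
noncomputable def Ebar : K →+* FractionRing k⟦X⟧ :=
  IsFractionRing.lift (A := P.O) (K := K)
    (g := (algebraMap k⟦X⟧ (FractionRing k⟦X⟧)).comp (Eo hK P ht))
    ((IsFractionRing.injective k⟦X⟧ (FractionRing k⟦X⟧)).comp (Eo_injective hK P ht))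

lemma Ebar_coe (z : P.O) :
    Ebar hK P ht (z : K) = algebraMap k⟦X⟧ (FractionRing k⟦X⟧) (Eo hK P ht z) :=
  IsFractionRing.lift_algebraMap (A := P.O) (K := K) _ z

lemma Ebar_of_le {z : K} (hz : P.1 z ≤ 1) :
    Ebar hK P ht z = algebraMap k⟦X⟧ (FractionRing k⟦X⟧)
      (Eo hK P ht ⟨z, (Valuation.mem_valuationSubring_iff _ _).mpr hz⟩) :=
  Ebar_coe hK P ht ⟨z, (Valuation.mem_valuationSubring_iff _ _).mpr hz⟩

/-- `Ebar` reflects integrality. -/
lemma le_one_of_Ebar_eq {w : K} {b : k⟦X⟧}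
    (h : Ebar hK P ht w = algebraMap k⟦X⟧ (FractionRing k⟦X⟧) b) : P.1 w ≤ 1 := by
  by_contra hlt
  rw [not_le] at hlt
  have hw0 : w ≠ 0 := by
    rintro rfl
    rw [map_zero] at hlt
    exact absurd hlt (by simp)
  have hinv : P.1 w⁻¹ < 1 := by
    rw [map_inv₀]
    exact inv_lt_one_of_one_lt₀ hlt
  have h1 := Ebar_of_le hK P ht hinv.le
  have h2 : Ebar hK P ht w * Ebar hK P ht w⁻¹ = 1 := by
    rw [← map_mul, mul_inv_cancel₀ hw0, map_one]
  rw [h, h1, ← map_mul, ← map_one (algebraMap k⟦X⟧ (FractionRing k⟦X⟧))] at h2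
  have h3 := IsFractionRing.injective k⟦X⟧ (FractionRing k⟦X⟧) h2
  have h4 := congrArg constantCoeff h3
  rw [map_mul, constantCoeff_Eo, (rho_eq_zero_iff hK P hinv.le).mpr hinv, mul_zero, map_one] at h4
  exact zero_ne_one h4

lemma Eo_of_Ebar_eq {w : K} {b : k⟦X⟧}
    (h : Ebar hK P ht w = algebraMap k⟦X⟧ (FractionRing k⟦X⟧) b) (hw : P.1 w ≤ 1) :
    Eo hK P ht ⟨w, (Valuation.mem_valuationSubring_iff _ _).mpr hw⟩ = b := by
  rw [Ebar_of_le hK P ht hw] at h
  exact IsFractionRing.injective k⟦X⟧ (FractionRing k⟦X⟧) h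

/-- The total Hasse derivative of the fraction field of `k⟦X⟧`. -/
noncomputable def HL : FractionRing k⟦X⟧ →+* (FractionRing k⟦X⟧)⟦X⟧ :=
  IsLocalization.lift (M := nonZeroDivisors k⟦X⟧)
    (g := (PowerSeries.map (algebraMap k⟦X⟧ (FractionRing k⟦X⟧))).comp Delta)
    (fun y => by
      rw [isUnit_iff_constantCoeff]
      apply IsUnit.mk0
      rw [RingHom.comp_apply, ← coeff_zero_eq_constantCoeff_apply, coeff_map, coeff_Delta, hd_zero]
      exact (map_ne_zero_iff _ (IsFractionRing.injective k⟦X⟧ (FractionRing k⟦X⟧))).mpr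
        (nonZeroDivisors.ne_zero y.2))

lemma HL_algebraMap (b : k⟦X⟧) :
    HL (algebraMap k⟦X⟧ (FractionRing k⟦X⟧) b) =
      PowerSeries.map (algebraMap k⟦X⟧ (FractionRing k⟦X⟧)) (Delta b) :=
  IsLocalization.lift_eq _ b

lemma constantCoeff_HL (x : FractionRing k⟦X⟧) : constantCoeff (HL x) = x := by
  have : (constantCoeff (R := FractionRing k⟦X⟧)).comp HL = RingHom.id _ := by
    apply IsLocalization.ringHom_ext (nonZeroDivisors k⟦X⟧)
    ext b
    simp only [RingHom.comp_apply, RingHom.id_apply]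
    rw [HL_algebraMap, ← coeff_zero_eq_constantCoeff_apply, coeff_map, coeff_Delta, hd_zero]
  exact RingHom.congr_fun this x

end Groth.Agent.Lib.Helper16.LocExp
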