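import Groth.Agent.Lib.Helper16.LocExp4

/-!
# Local expansions at a place, part 5: Hasse derivatives commute with expansion (helper16)

Key results: for `z` integral at `P` and `Ht` the total Hasse derivative with respect to a local
parameter `t` at `P`, `D_t^j z` is integral at `P` (`val_hasseD_le`) and its expansion is the `j`-th
Hasse derivative of the expansion of `z` (`a_hasseD`, `rho_hasseD`, `evalP_hasseD`).
-/

set_option autoImplicit false

namespace Groth.Agent.Lib.Helper16.LocExp

open FunFld WithZero Groth.Agent.Lib.Helper88.FF PowerSeries LocRes Groth.Agent.Lib.Helper16.Hasse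

variable {k K : Type*} [Field k] [IsAlgClosed k] [Field K] [Algebra k K]
variable (hK : IsFunctionField k K) (P : Place k K) {t : K} (ht : P.1 t = exp (-1 : ℤ))

include ht in
lemma val_t_lt : P.1 t < 1 := by
  rw [ht, ← exp_zero, exp_lt_exp]; norm_num

include ht in
lemma a_t (j : ℕ) : a hK P t j t = if j = 1 then 1 else 0 := by
  have hlt := val_t_lt P ht
  cases j with
  | zero =>
    rw [a_zero, if_neg (by omega)]
    exact (rho_eq_zero_iff hK P hlt.le).mpr hlt
  | succ i =>
    rw [a_succ, next_of_val_lt hK P hlt, div_self (t_ne_zero P ht), ← map_one (algebraMap k K),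
      a_algebraMap]
    simp

lemma Eo_t : Eo hK P ht ⟨t, (Valuation.mem_valuationSubring_iff _ _).mpr (val_t_lt P ht).le⟩ = X := by
  ext j
  rw [coeff_Eo, coeff_X]
  exact a_t hK P ht j

lemma Ebar_t : Ebar hK P ht t = algebraMap k⟦X⟧ (FractionRing k⟦X⟧) X := by
  rw [Ebar_of_le hK P ht (val_t_lt P ht).le, Eo_t]

lemma Ebar_algebraMap (c : k) :
    Ebar hK P ht (algebraMap k K c) = algebraMap k⟦X⟧ (FractionRing k⟦X⟧) (C c) := by
  rw [← Eo_algebraMap hK P ht c]
  exact Ebar_coe hK P ht (algebraMap k P.O c)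

variable {Ht : K →ₐ[k] PowerSeries K}

theorem map_Ebar_Ht (hHt : IsHasseFamily t Ht) (y : K) :
    PowerSeries.map (Ebar hK P ht) (Ht y) = HL (Ebar hK P ht y) := by
  have := hasse_ext' (k := k) (constantCoeff (R := FractionRing k⟦X⟧)) (Ebar hK P ht)
    ((PowerSeries.map (Ebar hK P ht)).comp Ht.toRingHom) (HL.comp (Ebar hK P ht))
    (fun y => by
      rw [RingHom.comp_apply, ← coeff_zero_eq_constantCoeff_apply, coeff_map,
        coeff_zero_eq_constantCoeff_apply]
      exact congrArg _ (hHt.2 y))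
    (fun y => constantCoeff_HL _)
    (fun c => by
      rw [RingHom.comp_apply, RingHom.comp_apply]
      show PowerSeries.map (Ebar hK P ht) (Ht (algebraMap k K c)) = _
      rw [AlgHom.commutes, PowerSeries.algebraMap_apply, map_C, Ebar_algebraMap, HL_algebraMap,
        Delta_C, map_C])
    t
    (by
      rw [RingHom.comp_apply, RingHom.comp_apply]
      show PowerSeries.map (Ebar hK P ht) (Ht t) = _
      rw [hHt.1, map_add, map_C, map_X, Ebar_t, HL_algebraMap, Delta_X, map_add, map_C, map_X])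
    (isAlgebraic_of_isHasseFamily hK hHt)
  exact RingHom.congr_fun this y

theorem Ebar_hasseD (hHt : IsHasseFamily t Ht) {z : K} (hz : P.1 z ≤ 1) (j : ℕ) :
    Ebar hK P ht (hasseD Ht j z) = algebraMap k⟦X⟧ (FractionRing k⟦X⟧)
      (hd j (Eo hK P ht ⟨z, (Valuation.mem_valuationSubring_iff _ _).mpr hz⟩)) := by
  have h := congrArg (coeff j) (map_Ebar_Ht hK P ht hHt z)
  rw [coeff_map, Ebar_of_le hK P ht hz, HL_algebraMap, coeff_map, coeff_Delta] at h
  exact h

include hK ht in
theorem val_hasseD_le (hHt : IsHasseFamily t Ht) {z : K} (hz : P.1 z ≤ 1) (j : ℕ) :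
    P.1 (hasseD Ht j z) ≤ 1 :=
  le_one_of_Ebar_eq hK P ht (Ebar_hasseD hK P ht hHt hz j)

include ht in
theorem a_hasseD (hHt : IsHasseFamily t Ht) {z : K} (hz : P.1 z ≤ 1) (i j : ℕ) :
    a hK P t i (hasseD Ht j z) = ((j + i).choose i : k) * a hK P t (j + i) z := by
  have h := Eo_of_Ebar_eq hK P ht (Ebar_hasseD hK P ht hHt hz j) (val_hasseD_le hK P ht hHt hz j)
  have h2 := congrArg (coeff i) h
  rw [coeff_Eo, coeff_hd, coeff_Eo] at h2
  exact h2

include ht in
theorem rho_hasseD (hHt : IsHasseFamily t Ht) {z : K} (hz : P.1 z ≤ 1) (j : ℕ) :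
    rho hK P (hasseD Ht j z) = a hK P t j z := by
  have := a_hasseD hK P ht hHt hz 0 j
  rw [a_zero, add_zero, Nat.choose_zero_right, Nat.cast_one, one_mul] at this
  exact this

include ht in
theorem evalP_hasseD (hHt : IsHasseFamily t Ht) {z : K} (hz : P.1 z ≤ 1) (j : ℕ) :
    evalP P (hasseD Ht j z) = algebraMap k (IsLocalRing.ResidueField P.O) (a hK P t j z) := by
  rw [evalP_eq hK P (val_hasseD_le hK P ht hHt hz j), rho_hasseD hK P ht hHt hz j]

end Groth.Agent.Lib.Helper16.LocExp
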