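import Groth.Agent.Lib.Helper16.LocExp5

/-!
# Local expansions at a place, part 6: linear combinations, vanishing (helper16)
-/

set_option autoImplicit false

namespace Groth.Agent.Lib.Helper16.LocExp

open FunFld WithZero Groth.Agent.Lib.Helper88.FF PowerSeries LocRes Groth.Agent.Lib.Helper16.Hasse

variable {k K : Type*} [Field k] [IsAlgClosed k] [Field K] [Algebra k K]
variable (hK : IsFunctionField k K) (P : Place k K) {t : K} (ht : P.1 t = exp (-1 : ℤ))

omit [IsAlgClosed k] in
lemma val_smul_le (c : k) {z : K} (hz : P.1 z ≤ 1) : P.1 (c • z) ≤ 1 := by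
  rw [Algebra.smul_def, map_mul]
  exact mul_le_one' (val_algebraMap_le P c) hz

omit [IsAlgClosed k] in
lemma val_lincomb_le {ι : Type*} (s : Finset ι) (d : ι → k) (f : ι → K)
    (hf : ∀ i ∈ s, P.1 (f i) ≤ 1) : P.1 (∑ i ∈ s, d i • f i) ≤ 1 := by
  classical
  induction s using Finset.induction_on with
  | empty => simp
  | insert i s hi ih =>
    rw [Finset.sum_insert hi]
    exact (P.1.map_add _ _).trans (max_le (val_smul_le P _ (hf i (Finset.mem_insert_self i s)))
      (ih fun j hj => hf j (Finset.mem_insert_of_mem hj)))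

include ht in
lemma a_smul (j : ℕ) (c : k) {z : K} (hz : P.1 z ≤ 1) :
    a hK P t j (c • z) = c * a hK P t j z := by
  rw [Algebra.smul_def]
  exact a_const_mul hK P ht j c hz

include ht in
lemma a_lincomb {ι : Type*} (j : ℕ) (s : Finset ι) (d : ι → k) (f : ι → K)
    (hf : ∀ i ∈ s, P.1 (f i) ≤ 1) :
    a hK P t j (∑ i ∈ s, d i • f i) = ∑ i ∈ s, d i * a hK P t j (f i) := by
  classical
  induction s using Finset.induction_on with
  | empty => simp [a_zero_right]
  | insert i s hi ih =>
    rw [Finset.sum_insert hi, Finset.sum_insert hi,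
      a_add hK P ht j (val_smul_le P _ (hf i (Finset.mem_insert_self i s)))
        (val_lincomb_le P s d f fun j hj => hf j (Finset.mem_insert_of_mem hj)),
      a_smul hK P ht j _ (hf i (Finset.mem_insert_self i s)),
      ih fun j hj => hf j (Finset.mem_insert_of_mem hj)]

include ht in
lemma eq_zero_of_a_eq_zero {z : K} (hz : P.1 z ≤ 1) (h : ∀ j, a hK P t j z = 0) : z = 0 := by
  have h1 : Eo hK P ht ⟨z, (Valuation.mem_valuationSubring_iff _ _).mpr hz⟩ = 0 := by
    ext j
    rw [coeff_Eo, map_zero]
    exact h j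
  have h2 := (Eo_eq_zero_iff hK P ht _).mp h1
  exact congrArg Subtype.val h2

end Groth.Agent.Lib.Helper16.LocExp
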