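import Groth.Agent.Lib.Helper16.LocExp6

/-!
# Local expansions at a place, part 7: exact valuations, shift, independence (helper16)
-/

set_option autoImplicit false

namespace Groth.Agent.Lib.Helper16.LocExp

open FunFld WithZero Groth.Agent.Lib.Helper88.FF PowerSeries LocRes Groth.Agent.Lib.Helper16.Hasse

variable {k K : Type*} [Field k] [IsAlgClosed k] [Field K] [Algebra k K]
variable (hK : IsFunctionField k K) (P : Place k K) {t : K} (ht : P.1 t = exp (-1 : ℤ))

include ht in
/-- Shifting: if `z` vanishes to order `N` then the coefficients of `z / t^N` are those of `z`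
shifted. -/
lemma a_shift (N : ℕ) : ∀ {z : K}, P.1 z ≤ exp (-(N : ℤ)) → ∀ i,
    a hK P t (N + i) z = a hK P t i (z / t ^ N) := by
  induction N with
  | zero =>
    intro z _ i
    rw [pow_zero, div_one, Nat.zero_add]
  | succ N ih =>
    intro z hz i
    have hlt : P.1 z < 1 := lt_of_le_of_lt hz (by
      rw [← exp_zero, exp_lt_exp]; push_cast; omega)
    have hn : P.1 (z / t) ≤ exp (-(N : ℤ)) := by
      rw [map_div₀, ht, div_le_iff₀ (by simp), ← exp_add]
      refine hz.trans_eq ?_
      congr 1; push_cast; ring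
    rw [show N + 1 + i = (N + i) + 1 by ring, a_succ, next_of_val_lt hK P hlt, ih hn i,
      div_div, ← pow_succ']

include ht in
lemma val_div_pow {z : K} {N : ℕ} (hz : P.1 z ≤ exp (-(N : ℤ))) : P.1 (z / t ^ N) ≤ 1 := by
  rw [map_div₀, map_pow, ht, ← exp_nsmul, div_le_iff₀ (by simp), one_mul]
  refine hz.trans_eq ?_
  congr 1
  simp

include ht in
lemma val_eq_exp_iff_a (N : ℕ) {z : K} (hz : P.1 z ≤ 1) :
    P.1 z = exp (-(N : ℤ)) ↔ (∀ j, j < N → a hK P t j z = 0) ∧ a hK P t N z ≠ 0 := by
  constructor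
  · intro h
    refine ⟨(val_le_exp_iff_a hK P ht N hz).mp h.le, fun h0 => ?_⟩
    have : P.1 z ≤ exp (-((N + 1 : ℕ) : ℤ)) := by
      rw [val_le_exp_iff_a hK P ht (N + 1) hz]
      intro j hj
      rcases Nat.lt_succ_iff_lt_or_eq.mp hj with h1 | h1
      · exact (val_le_exp_iff_a hK P ht N hz).mp h.le j h1
      · rw [h1]; exact h0
    rw [h, exp_le_exp] at this
    push_cast at this
    omega
  · rintro ⟨h1, h2⟩
    have hle : P.1 z ≤ exp (-(N : ℤ)) := (val_le_exp_iff_a hK P ht N hz).mpr h1
    have hne : z ≠ 0 := by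
      rintro rfl
      exact h2 (a_zero_right hK P N)
    have hv : P.1 z ≠ 0 := (Valuation.ne_zero_iff _).mpr hne
    obtain ⟨m, hm⟩ : ∃ m : ℤ, P.1 z = exp m := ⟨_, (exp_log hv).symm⟩
    have hnot : ¬ P.1 z ≤ exp (-((N + 1 : ℕ) : ℤ)) := by
      rw [val_le_exp_iff_a hK P ht (N + 1) hz]
      intro h
      exact h2 (h N (Nat.lt_succ_self N))
    rw [hm, exp_le_exp] at hle hnot
    rw [hm]
    congr 1
    push_cast at hnot
    omega

omit [IsAlgClosed k] in
/-- Functions with pairwise distinct nonzero valuations at a place are linearly independent over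
the constants. -/
lemma linearIndependent_of_val_injective {ι : Type*} [Fintype ι] (f : ι → K)
    (hf : ∀ i, f i ≠ 0) (hinj : Function.Injective fun i => P.1 (f i)) :
    LinearIndependent k f := by
  classical
  rw [Fintype.linearIndependent_iff]
  intro d hd
  by_contra hne
  push_neg at hne
  obtain ⟨i1, hi1⟩ := hne
  let S : Finset ι := Finset.univ.filter fun i => d i ≠ 0
  have hS : S.Nonempty := ⟨i1, by simp [S, hi1]⟩
  obtain ⟨i0, hi0S, hmax⟩ := Finset.exists_max_image S (fun i => P.1 (f i)) hS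
  have hsum : ∑ i, d i • f i = ∑ i ∈ S, d i • f i := by
    symm
    apply Finset.sum_subset (Finset.subset_univ _)
    intro i _ hi
    have : d i = 0 := by
      by_contra h
      exact hi (by simp [S, h])
    rw [this, zero_smul]
  have hval : ∀ i ∈ S, P.1 (d i • f i) = P.1 (f i) := by
    intro i hi
    have hdi : d i ≠ 0 := by simpa [S] using hi
    rw [Algebra.smul_def, map_mul, val_algebraMap P hdi, one_mul]
  have h1 : P.1 (∑ i ∈ S, d i • f i) = P.1 (d i0 • f i0) := by
    apply Valuation.map_sum_eq_of_lt _ hi0S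
    intro i hi
    rw [Finset.mem_sdiff, Finset.mem_singleton] at hi
    rw [hval i hi.1, hval i0 hi0S]
    exact lt_of_le_of_ne (hmax i hi.1) fun h => hi.2 (hinj h)
  rw [← hsum, hd, map_zero, hval i0 hi0S] at h1
  exact (Valuation.ne_zero_iff _).mpr (hf i0) h1.symm

end Groth.Agent.Lib.Helper16.LocExp
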