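import Groth.Agent.Lib.Helper16.LocExp7
import Groth.Agent.Lib.Helper16.Jump

/-!
# Local expansions at a place, part 8: the columns of values and their jumps (helper16)
-/

set_option autoImplicit false

namespace Groth.Agent.Lib.Helper16.LocExp

open FunFld WithZero Groth.Agent.Lib.Helper88.FF PowerSeries LocRes Groth.Agent.Lib.Helper16.Hasse

variable {k K : Type*} [Field k] [IsAlgClosed k] [Field K] [Algebra k K]
variable (hK : IsFunctionField k K) (P : Place k K) {t : K} (ht : P.1 t = exp (-1 : ℤ))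
variable {Ht : K →ₐ[k] PowerSeries K} (hHt : IsHasseFamily t Ht)
variable {ι : Type*} (φ : ι → K) (hint : ∀ i, P.1 (φ i) ≤ 1)

include ht hHt hint in
lemma hcolAt_succ (j : ℕ) (i : ι) :
    hcolAt P Ht φ (j + 1) i = algebraMap k (IsLocalRing.ResidueField P.O) (a hK P t j (φ i)) :=
  evalP_hasseD hK P ht hHt (hint i) j

include hHt in
omit [IsAlgClosed k] in
lemma hcolAt_zero_eq_one : hcolAt P Ht φ 0 = hcolAt P Ht φ 1 := by
  funext i
  show evalP P (φ i) = evalP P (hasseD Ht 0 (φ i))
  congr 1
  rw [hasseD_apply, coeff_zero_eq_constantCoeff_apply, hHt.2]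

variable [Fintype ι]

include ht hHt hint in
/-- The functional `∑ dᵢ xᵢ` on a column of values is the value of the coefficient of `∑ dᵢ φᵢ`. -/
lemma sum_mul_hcolAt_succ (d : ι → k) (m : ℕ) :
    ∑ i, algebraMap k (IsLocalRing.ResidueField P.O) (d i) * hcolAt P Ht φ (m + 1) i =
      algebraMap k (IsLocalRing.ResidueField P.O) (a hK P t m (∑ i, d i • φ i)) := by
  rw [a_lincomb hK P ht m Finset.univ d φ (fun i _ => hint i), map_sum]
  refine Finset.sum_congr rfl fun i _ => ?_
  rw [map_mul, hcolAt_succ hK P ht hHt φ hint]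

include ht hHt hint in
/-- A jump of the columns of values gives a function in the span with that exact order, with
leading coefficient `1`. -/
lemma exists_of_isJump (j : ℕ)
    (hj : IsJump (IsLocalRing.ResidueField P.O) (hcolAt P Ht φ) (j + 1)) :
    ∃ f ∈ Submodule.span k (Set.range φ), P.1 f = exp (-(j : ℤ)) ∧ a hK P t j f = 1 := by
  classical
  obtain ⟨ψ, hψ1, hψ2⟩ := Submodule.exists_le_ker_of_notMem hj
  have hsurj := algebraMap_residue_surjective hK P
  choose d hd using fun i : ι => hsurj (ψ fun j => if i = j then 1 else 0)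
  have key : ∀ m, algebraMap k (IsLocalRing.ResidueField P.O) (a hK P t m (∑ i, d i • φ i)) =
      ψ (hcolAt P Ht φ (m + 1)) := by
    intro m
    rw [← sum_mul_hcolAt_succ hK P ht hHt φ hint, LinearMap.pi_apply_eq_sum_univ ψ]
    refine Finset.sum_congr rfl fun i _ => ?_
    rw [hd, smul_eq_mul, mul_comm]
  set f0 := ∑ i, d i • φ i with hf0
  have hf0mem : f0 ∈ Submodule.span k (Set.range φ) :=
    Submodule.sum_mem _ fun i _ => Submodule.smul_mem _ _ (Submodule.subset_span ⟨i, rfl⟩)
  have hf0int : P.1 f0 ≤ 1 := val_lincomb_le P Finset.univ d φ (fun i _ => hint i)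
  have hlow : ∀ m, m < j → a hK P t m f0 = 0 := by
    intro m hm
    apply (algebraMap k (IsLocalRing.ResidueField P.O)).injective
    rw [key, map_zero]
    exact hψ2 (Submodule.subset_span ⟨m + 1, by simpa using hm, rfl⟩)
  have htop : a hK P t j f0 ≠ 0 := by
    intro h0
    apply hψ1
    rw [← key, h0, map_zero]
  refine ⟨(a hK P t j f0)⁻¹ • f0, Submodule.smul_mem _ _ hf0mem, ?_, ?_⟩
  · rw [val_eq_exp_iff_a hK P ht j (val_smul_le P _ hf0int)]
    refine ⟨fun m hm => ?_, ?_⟩
    · rw [a_smul hK P ht m _ hf0int, hlow m hm, mul_zero]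
    · rw [a_smul hK P ht j _ hf0int, inv_mul_cancel₀ htop]
      exact one_ne_zero
  · rw [a_smul hK P ht j _ hf0int, inv_mul_cancel₀ htop]

include hK ht hHt hint in
/-- A function in the span with exact order `j ≥ 1` gives a jump of the columns of values. -/
lemma isJump_of_exists (j : ℕ) (hj : 1 ≤ j) {f : K} (hf : f ∈ Submodule.span k (Set.range φ))
    (hval : P.1 f = exp (-(j : ℤ))) :
    IsJump (IsLocalRing.ResidueField P.O) (hcolAt P Ht φ) (j + 1) := by
  classical
  obtain ⟨d, rfl⟩ := (Submodule.mem_span_range_iff_exists_fun k).mp hf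
  have hfint : P.1 (∑ i, d i • φ i) ≤ 1 := val_lincomb_le P Finset.univ d φ (fun i _ => hint i)
  obtain ⟨hlow, htop⟩ := (val_eq_exp_iff_a hK P ht j hfint).mp hval
  let ψ : (ι → IsLocalRing.ResidueField P.O) →ₗ[IsLocalRing.ResidueField P.O]
      IsLocalRing.ResidueField P.O :=
    ∑ i, algebraMap k (IsLocalRing.ResidueField P.O) (d i) • LinearMap.proj i
  have hψ : ∀ x, ψ x = ∑ i, algebraMap k (IsLocalRing.ResidueField P.O) (d i) * x i := by
    intro x
    simp [ψ, LinearMap.sum_apply]
  have key : ∀ m, ψ (hcolAt P Ht φ (m + 1)) =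
      algebraMap k (IsLocalRing.ResidueField P.O) (a hK P t m (∑ i, d i • φ i)) := by
    intro m
    rw [hψ, sum_mul_hcolAt_succ hK P ht hHt φ hint]
  intro hmem
  have hle : Submodule.span (IsLocalRing.ResidueField P.O) (hcolAt P Ht φ '' Set.Iio (j + 1)) ≤
      LinearMap.ker ψ := by
    rw [Submodule.span_le]
    rintro _ ⟨m, hm, rfl⟩
    rw [SetLike.mem_coe, LinearMap.mem_ker]
    rw [Set.mem_Iio] at hm
    cases m with
    | zero =>
      rw [hcolAt_zero_eq_one P hHt φ, key 0, hlow 0 (by omega), map_zero]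
    | succ m =>
      rw [key m, hlow m (by omega), map_zero]
  have h0 := hle hmem
  rw [LinearMap.mem_ker, key j] at h0
  exact htop ((map_eq_zero_iff _ (algebraMap k (IsLocalRing.ResidueField P.O)).injective).mp h0)

end Groth.Agent.Lib.Helper16.LocExp
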