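import Groth.Agent.Lib.Helper16.EvalP
import Groth.Agent.Lib.Helper88.FunFldZeros

/-!
# Coefficients at a place of the pieces of the Weierstrass divisor (helper16)
-/

set_option autoImplicit false

namespace Groth.Agent.Lib.Helper16.WDivAt

open FunFld WithZero LocRes

section ordDiff

variable {k K F : Type*} [CommRing k] [CommRing K] [Field F] [Algebra k K] [Algebra k F]

/-- The differential `dt` of an element of valuation `exp (-1)` has order `0`. -/
lemma ordDiff_one_eq_zero (φ : K →ₐ[k] LaurentSeries F) (t : K)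
    (h : Valued.v (φ t) = exp (-1 : ℤ)) : ordDiff φ 1 t = 0 := by
  unfold ordDiff vDiff
  rw [map_one, one_mul]
  set f := φ t with hf
  have hle : ∀ n : ℤ, n < 1 → f.coeff n = 0 :=
    (LaurentSeries.valuation_le_iff_coeff_lt_eq_zero F).mp h.le
  have h1 : Valued.v (D F f) ≤ exp (-(0 : ℤ)) := by
    rw [LaurentSeries.valuation_le_iff_coeff_lt_eq_zero]
    intro n hn
    rw [D_coeff, hle (n + 1) (by omega), smul_zero]
  have h2 : ¬ Valued.v (D F f) ≤ exp (-(1 : ℤ)) := by
    intro hc
    have hc' := (LaurentSeries.valuation_le_iff_coeff_lt_eq_zero F).mp hc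
    have h10 : f.coeff 1 = 0 := by
      have := hc' 0 (by norm_num)
      rw [D_coeff] at this
      simpa using this
    have : Valued.v f ≤ exp (-(2 : ℤ)) := by
      rw [LaurentSeries.valuation_le_iff_coeff_lt_eq_zero]
      intro n hn
      rcases lt_or_eq_of_le (show n ≤ 1 by omega) with h | h
      · exact hle n h
      · rw [h]; exact h10
    rw [h, exp_le_exp] at this
    omega
  have hne : Valued.v (D F f) ≠ 0 := by
    intro h0
    apply h2
    rw [h0]
    exact zero_le'
  have h3 : log (Valued.v (D F f)) ≤ 0 := by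
    rw [log_le_iff_le_exp hne]
    simpa using h1
  have h4 : ¬ log (Valued.v (D F f)) ≤ -1 := by
    rw [log_le_iff_le_exp hne]
    exact h2
  omega

end ordDiff

section FF

variable {k K : Type*} [Field k] [Field K] [Algebra k K]

lemma divDiff_apply_eq_zero (Φ : Place k K → (K →ₐ[k] LaurentSeries k)) (P : Place k K) (t : K)
    (h : Valued.v (Φ P t) = exp (-1 : ℤ)) : divDiff Φ 1 t P = 0 := by
  unfold divDiff
  split_ifs with hfin
  · show ordDiff (Φ P) 1 t = 0
    exact ordDiff_one_eq_zero (Φ P) t h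
  · rfl

lemma ord_nonneg (P : Place k K) {z : K} (hz : P.1 z ≤ 1) : 0 ≤ P.ord z := by
  unfold Place.ord
  by_cases h0 : P.1 z = 0
  · rw [h0]; simp
  · have : log (P.1 z) ≤ 0 := by
      rw [log_le_iff_le_exp h0]
      simpa using hz
    omega

lemma ord_eq_zero_of_val_eq_one (P : Place k K) {z : K} (hz : P.1 z = 1) : P.ord z = 0 := by
  unfold Place.ord
  rw [hz]; simp

lemma ord_eq_zero_iff (P : Place k K) {z : K} (hz : z ≠ 0) : P.ord z = 0 ↔ P.1 z = 1 := by
  constructor
  · intro h
    unfold Place.ord at h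
    have hv : P.1 z ≠ 0 := (Valuation.ne_zero_iff _).mpr hz
    rw [← exp_log hv, show log (P.1 z) = 0 by omega]
    rfl
  · exact ord_eq_zero_of_val_eq_one P

/-- A tuple of functions integral at `P` whose span contains `1` has a unit at `P`. -/
lemma exists_val_eq_one {ι : Type*} [Fintype ι] (P : Place k K) (φ : ι → K)
    (heff : (1 : K) ∈ Submodule.span k (Set.range φ)) (hnorm : ∀ i, P.1 (φ i) ≤ 1) :
    ∃ i, P.1 (φ i) = 1 := by
  classical
  by_contra hno
  push_neg at hno
  have hlt : ∀ i, P.1 (φ i) < 1 := fun i => lt_of_le_of_ne (hnorm i) (hno i)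
  obtain ⟨d, hd⟩ := (Submodule.mem_span_range_iff_exists_fun k).mp heff
  have : P.1 (∑ i, d i • φ i) < 1 := by
    apply Valuation.map_sum_lt _ one_ne_zero
    intro i _
    rw [Algebra.smul_def, map_mul]
    calc P.1 (algebraMap k K (d i)) * P.1 (φ i) ≤ 1 * P.1 (φ i) :=
          mul_le_mul' (P.2.1 (d i)) le_rfl
      _ = P.1 (φ i) := one_mul _
      _ < 1 := hlt i
  rw [hd, map_one] at this
  exact lt_irrefl _ this

lemma mapDiv_apply_eq_zero {ι : Type*} [Fintype ι] [Nonempty ι] (P : Place k K) (φ : ι → K)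
    (heff : (1 : K) ∈ Submodule.span k (Set.range φ)) (hnorm : ∀ i, P.1 (φ i) ≤ 1) :
    mapDiv k φ P = 0 := by
  unfold mapDiv
  split_ifs with hfin
  · show -Finset.univ.inf' Finset.univ_nonempty (fun i => P.ord (φ i)) = 0
    obtain ⟨i0, hi0⟩ := exists_val_eq_one P φ heff hnorm
    have h1 : Finset.univ.inf' Finset.univ_nonempty (fun i => P.ord (φ i)) ≤ 0 := by
      rw [← ord_eq_zero_of_val_eq_one P hi0]
      exact Finset.inf'_le _ (Finset.mem_univ i0)
    have h2 : 0 ≤ Finset.univ.inf' Finset.univ_nonempty (fun i => P.ord (φ i)) := by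
      rw [Finset.le_inf'_iff]
      intro i _
      exact ord_nonneg P (hnorm i)
    omega
  · rfl

end FF

end Groth.Agent.Lib.Helper16.WDivAt
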