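import Groth.Agent.Lib.Helper16.LocExp8
import Groth.Agent.Lib.Helper16.Jump6
import Groth.Agent.Lib.Helper16.EvalP
import Groth.Agent.Lib.Helper16.WDivAt

/-!
# Local expansions at a place, part 9: Wronskians at a place (helper16)
-/

set_option autoImplicit false

namespace Groth.Agent.Lib.Helper16.LocExp

open FunFld WithZero Groth.Agent.Lib.Helper88.FF PowerSeries LocRes Groth.Agent.Lib.Helper16.Hasse
open Groth.Agent.Lib.Helper16.Jump Groth.Agent.Lib.Helper16.EvalP

section general

variable {K : Type*} [Field K]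

lemma linearIndependent_idx_iff_det_wr_ne_zero {n : ℕ} (c : ℕ → Fin (n + 1) → K) (I : Fin n → ℕ) :
    LinearIndependent K (fun q : Fin (n + 1) => c (idx I q)) ↔ (wr c I).det ≠ 0 := by
  have hcol : (wr c I).col = fun q => c (idx I q) := by
    funext q i; rfl
  rw [← hcol, Matrix.linearIndependent_cols_iff_isUnit, Matrix.isUnit_iff_isUnit_det,
    isUnit_iff_ne_zero]

end general

variable {k K : Type*} [Field k] [IsAlgClosed k] [Field K] [Algebra k K]
variable (hK : IsFunctionField k K) (P : Place k K) {t : K} (ht : P.1 t = exp (-1 : ℤ))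
variable {Ht : K →ₐ[k] PowerSeries K} (hHt : IsHasseFamily t Ht)
variable {n : ℕ} (φ : Fin (n + 1) → K) (hint : ∀ i, P.1 (φ i) ≤ 1)

omit [IsAlgClosed k] in
lemma hcolAt_eq_evalP_hcol (j : ℕ) (i : Fin (n + 1)) :
    hcolAt P Ht φ j i = evalP P (hcol (AlgHom.id k K) Ht φ j i) := by
  cases j with
  | zero => rfl
  | succ j => rfl

include hK ht hHt hint in
lemma val_hcol_le (j : ℕ) (i : Fin (n + 1)) : P.1 (hcol (AlgHom.id k K) Ht φ j i) ≤ 1 := by
  cases j with
  | zero => exact hint i
  | succ j => exact val_hasseD_le hK P ht hHt (hint i) j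

include hK ht hHt hint in
/-- The value at `P` of the determinant of the matrix of columns `idx I` is the determinant of the
matrix of values. -/
lemma evalP_det_wr (I : Fin n → ℕ) :
    P.1 (wr (hcol (AlgHom.id k K) Ht φ) I).det ≤ 1 ∧
      evalP P (wr (hcol (AlgHom.id k K) Ht φ) I).det = (wr (hcolAt P Ht φ) I).det := by
  have h := evalP_det P (wr (hcol (AlgHom.id k K) Ht φ) I)
    (fun i q => val_hcol_le hK P ht hHt φ hint (idx I q) i)
  refine ⟨h.1, h.2.trans ?_⟩
  congr 1
  ext i q
  exact (hcolAt_eq_evalP_hcol P φ (idx I q) i).symm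

include hK ht hHt hint in
/-- If the columns of values with indices `idx I` are linearly independent then so are the columns
of functions. -/
lemma linearIndependent_hcol_of_hcolAt (I : Fin n → ℕ)
    (h : LinearIndependent (IsLocalRing.ResidueField P.O)
      (fun q : Fin (n + 1) => hcolAt P Ht φ (idx I q))) :
    LinearIndependent K (fun q : Fin (n + 1) => hcol (AlgHom.id k K) Ht φ (idx I q)) := by
  rw [linearIndependent_idx_iff_det_wr_ne_zero] at h ⊢
  intro h0
  apply h
  rw [← (evalP_det_wr hK P ht hHt φ hint I).2, h0]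
  exact (evalP_eq_zero_iff P (by simp)).mpr (by simp)

omit [IsAlgClosed k] in
lemma hcolAt_zero_ne_zero (heff : (1 : K) ∈ Submodule.span k (Set.range φ))
    (hint : ∀ i, P.1 (φ i) ≤ 1) : hcolAt P Ht φ 0 ≠ 0 := by
  obtain ⟨i, hi⟩ := Groth.Agent.Lib.Helper16.WDivAt.exists_val_eq_one P φ heff hint
  intro h0
  have := congrFun h0 i
  exact (evalP_ne_zero_iff P (hint i)).mpr hi this

end Groth.Agent.Lib.Helper16.LocExp
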