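import Mathlib
set_option autoImplicit false
universe v u w
open CategoryTheory

namespace Groth.Agent.Lib.Helper16.MassL1

theorem mass_formula {C : Type u} [Category.{v} C] (hiso : ∀ {ξ η : C} (f : ξ ⟶ η), IsIso f)
    {Xs Gs : Type w} [Finite Xs] [Finite Gs] (a : Xs → C)
    (hsurj : ∀ ξ : C, ∃ x : Xs, Nonempty (ξ ≅ a x))
    (act : Gs → Xs → Xs)
    (e : ∀ x y : Xs, (a x ⟶ a y) ≃ {g : Gs // act g y = x}) :
    Finite (Quotient (isIsomorphicSetoid C)) ∧ (∀ ξ : C, Finite (Aut ξ)) ∧
      ∑ᶠ c : Quotient (isIsomorphicSetoid C), ((Nat.card (Aut c.out) : ℚ))⁻¹ =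
        (Nat.card Xs : ℚ) / (Nat.card Gs : ℚ) := by
  classical
  have hfinHom : ∀ x y : Xs, Finite (a x ⟶ a y) := fun x y => Finite.of_equiv _ (e x y).symm
  have hfinAutA : ∀ x : Xs, Finite (Aut (a x)) := fun x =>
    Finite.of_injective (fun f : Aut (a x) => f.hom) (fun f g h => Iso.ext h)
  have hfinAut : ∀ ξ : C, Finite (Aut ξ) := by
    intro ξ
    obtain ⟨x, ⟨i⟩⟩ := hsurj ξ
    haveI := hfinAutA x
    exact Finite.of_equiv _ (i.conjAut).symm.toEquiv
  let q : Xs → Quotient (isIsomorphicSetoid C) := fun x => Quotient.mk _ (a x)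
  have hq : Function.Surjective q := by
    intro c
    induction c using Quotient.inductionOn with
    | h ξ =>
      obtain ⟨x, hx⟩ := hsurj ξ
      exact ⟨x, (Quotient.sound (s := isIsomorphicSetoid C) hx).symm⟩
  have hfinQ : Finite (Quotient (isIsomorphicSetoid C)) := Finite.of_surjective q hq
  refine ⟨hfinQ, hfinAut, ?_⟩
  haveI := Fintype.ofFinite Xs
  -- key count
  have hkey : ∀ y : Xs, Nat.card Gs = Nat.card {x // q x = q y} * Nat.card (Aut (a y)) := by
    intro y
    have h1 : Nat.card Gs = ∑ x : Xs, Nat.card (a x ⟶ a y) := by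
      rw [Nat.card_congr (Equiv.sigmaFiberEquiv (fun g : Gs => act g y)).symm, Nat.card_sigma]
      exact Finset.sum_congr rfl (fun x _ => Nat.card_congr (e x y).symm)
    have h2 : ∀ x : Xs, Nat.card (a x ⟶ a y) =
        if q x = q y then Nat.card (Aut (a y)) else 0 := by
      intro x
      split_ifs with h
      · obtain ⟨j⟩ : Nonempty (a x ≅ a y) := Quotient.exact h
        refine Nat.card_congr ?_
        exact
          { toFun := fun f => @asIso _ _ _ _ (j.inv ≫ f) (hiso _)
            invFun := fun g => j.hom ≫ g.hom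
            left_inv := fun f => by simp
            right_inv := fun g => by ext; simp }
      · haveI : IsEmpty (a x ⟶ a y) :=
          ⟨fun f => h (Quotient.sound (s := isIsomorphicSetoid C) ⟨@asIso _ _ _ _ f (hiso f)⟩)⟩
        exact Nat.card_of_isEmpty
    rw [h1, Finset.sum_congr rfl (fun x _ => h2 x), Finset.sum_ite, Finset.sum_const_zero,
      add_zero, Finset.sum_const, smul_eq_mul]
    congr 1
    rw [Nat.card_eq_fintype_card, Fintype.card_subtype]
  haveI := Fintype.ofFinite (Quotient (isIsomorphicSetoid C))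
  rw [finsum_eq_sum_of_fintype]
  have hterm : ∀ c : Quotient (isIsomorphicSetoid C),
      ((Nat.card (Aut c.out) : ℚ))⁻¹ = (Nat.card {x // q x = c} : ℚ) / (Nat.card Gs : ℚ) := by
    intro c
    obtain ⟨y, rfl⟩ := hq c
    obtain ⟨i⟩ : Nonempty ((q y).out ≅ a y) := Quotient.exact (Quotient.out_eq (q y))
    have hA : Nat.card (Aut (q y).out) = Nat.card (Aut (a y)) := Nat.card_congr i.conjAut.toEquiv
    have hk := hkey y
    have hApos : Nat.card (Aut (a y)) ≠ 0 := by
      haveI := hfinAutA y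
      exact Nat.card_pos.ne'
    have hFpos : Nat.card {x // q x = q y} ≠ 0 := by
      haveI : Nonempty {x // q x = q y} := ⟨⟨y, rfl⟩⟩
      exact Nat.card_pos.ne'
    have hGpos : (Nat.card Gs : ℚ) ≠ 0 := by
      rw [hk]; exact_mod_cast Nat.mul_ne_zero hFpos hApos
    have hApos' : (Nat.card (Aut (a y)) : ℚ) ≠ 0 := by exact_mod_cast hApos
    rw [hA, eq_div_iff hGpos, hk]; push_cast; field_simp
  rw [Finset.sum_congr rfl (fun c _ => hterm c), ← Finset.sum_div]
  congr 1
  rw [← Nat.cast_sum]; congr 1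
  rw [Nat.card_congr (Equiv.sigmaFiberEquiv q).symm, Nat.card_sigma]

end Groth.Agent.Lib.Helper16.MassL1
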