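import Mathlib
import Groth.Agent.S18755
import Groth.Agent.S18733
import Groth.Agent.Lib.Helper41.BlowUpExist
import Groth.Agent.Lib.Helper16.BlowUpProper

/-!
# Lifting morphisms of modulus pairs to an ambient product after an admissible blow-up
-/

set_option autoImplicit false
universe u
open CategoryTheory CategoryTheory.Limits AlgebraicGeometry TopologicalSpace
open ModPair

namespace Groth.Agent.Lib.Helper16.ModPairLift

open Groth.Agent.S18748 Groth.Agent.S18738 Groth.Agent.Lib.Helper33.AdmOre Groth.Agent.Lib.Helper82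
open AlgebraicGeometry.Scheme.IdealSheafData

/-- Restricting an isomorphism over `U` to a smaller open. -/
theorem isIso_morphismRestrict_of_le {X Y : Scheme.{u}} (f : X ⟶ Y) {U U' : Y.Opens}
    (h : U' ≤ U) (hU : IsIso (f ∣_ U)) : IsIso (f ∣_ U') := by
  have h1 : IsIso (f ∣_ U ∣_ (U.ι ⁻¹ᵁ U')) := inferInstance
  have e : U.ι ''ᵁ (U.ι ⁻¹ᵁ U') = U' := by
    ext x
    constructor
    · rintro ⟨y, hy, rfl⟩
      exact hy
    · intro hx
      exact ⟨⟨x, h hx⟩, hx, rfl⟩
  have h2 := (MorphismProperty.isomorphisms Scheme.{u}).arrow_mk_iso_iff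
    (morphismRestrictRestrict f U (U.ι ⁻¹ᵁ U'))
  have h3 := (MorphismProperty.isomorphisms Scheme.{u}).arrow_mk_iso_iff (morphismRestrictEq f e)
  exact h3.mp (h2.mp h1)

/-- Scheme-theoretic density passes to larger opens. -/
theorem dominant_of_le {X : Scheme.{u}} {O' O : X.Opens} (h : O' ≤ O)
    [IsSchemeTheoreticallyDominant O'.ι] : IsSchemeTheoreticallyDominant O.ι := by
  haveI : IsSchemeTheoreticallyDominant (X.homOfLE h ≫ O.ι) := by
    rw [Scheme.homOfLE_ι]; infer_instance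
  exact isSchemeTheoreticallyDominant_of_comp (X.homOfLE h) O.ι

/-- The inverse image of an effective Cartier ideal is locally finitely generated. -/
theorem exists_fg_comap {Z W : Scheme.{u}} (L : W.IdealSheafData)
    (hL : BlowUp.IsEffCartierIdeal L) (r : Z ⟶ W) (x : Z) :
    ∃ O : Z.Opens, x ∈ O ∧ ∀ V : Z.affineOpens, V.1 ≤ O → ((L.comap r).ideal V).FG := by
  obtain ⟨U, hxU, a, -, ha⟩ := hL (r x)
  refine ⟨r ⁻¹ᵁ U.1, hxU, fun V hV => ?_⟩
  rw [ideal_comap_of_le r L V.1 V.2 U.1 U.2 hV]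
  change ((L.ideal U).map _).FG
  rw [ha, Ideal.map_span, Set.image_singleton]
  exact ⟨{(r.appLE U.1 V.1 hV).hom a}, by simp⟩

theorem exists_fg_sup_comap {Z X T : Scheme.{u}} (I : X.IdealSheafData)
    (hI : BlowUp.IsEffCartierIdeal I) (J : T.IdealSheafData) (hJ : BlowUp.IsEffCartierIdeal J)
    (r : Z ⟶ X) (q : Z ⟶ T) (x : Z) :
    ∃ U : Z.affineOpens, x ∈ U.1 ∧ ((I.comap r ⊔ J.comap q).ideal U).FG := by
  obtain ⟨O₁, hx₁, h₁⟩ := exists_fg_comap I hI r x
  obtain ⟨O₂, hx₂, h₂⟩ := exists_fg_comap J hJ q x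
  obtain ⟨V, hV, hxV, hVle⟩ := exists_isAffineOpen_mem_and_subset
    (U := O₁ ⊓ O₂) (x := x) ⟨hx₁, hx₂⟩
  refine ⟨⟨V, hV⟩, hxV, ?_⟩
  rw [Scheme.IdealSheafData.ideal_sup]
  exact Submodule.FG.sup (h₁ ⟨V, hV⟩ (fun z hz => (hVle hz).1))
    (h₂ ⟨V, hV⟩ (fun z hz => (hVle hz).2))

section

variable {P T X : Pair.{u}} (f : X ⟶ P) (g : T ⟶ P)

instance isClosedImmersion_mprodι :
    IsClosedImmersion (ModPair.mprodι f.hom g.hom X.mod T.mod) :=
  inferInstanceAs (IsClosedImmersion
    (ModPair.prodInterior f.hom g.hom X.mod T.mod).ι.ker.subschemeι)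

/-- A compatible pair of ambient morphisms factors through the closure of the product of the
interiors. -/
theorem exists_factor_mprod (W : Pair.{u}) (a : W ⟶ T) (b : W ⟶ X) (h : a ≫ g = b ≫ f) :
    ∃ u₀ : W.total ⟶ ModPair.mprod f.hom g.hom X.mod T.mod,
      u₀ ≫ (ModPair.mprodι f.hom g.hom X.mod T.mod ≫ pullback.fst f.hom g.hom) = b.hom ∧
      u₀ ≫ (ModPair.mprodι f.hom g.hom X.mod T.mod ≫ pullback.snd f.hom g.hom) = a.hom := by
  have hh : b.hom ≫ f.hom = a.hom ≫ g.hom := (congrArg Pair.Hom.hom h).symm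
  let u : W.total ⟶ pullback f.hom g.hom := pullback.lift b.hom a.hom hh
  have hu1 : u ≫ pullback.fst f.hom g.hom = b.hom := pullback.lift_fst _ _ _
  have hu2 : u ≫ pullback.snd f.hom g.hom = a.hom := pullback.lift_snd _ _ _
  haveI : IsSchemeTheoreticallyDominant (ModPair.interior W.mod).ι :=
    isSchemeTheoreticallyDominant_ι_compl_support W.mod W.isEffCartier
  have hr : Set.range ((ModPair.interior W.mod).ι ≫ u) ⊆
      Set.range (ModPair.prodInterior f.hom g.hom X.mod T.mod).ι := by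
    rintro _ ⟨w, rfl⟩
    rw [Scheme.Opens.range_ι]
    have hw : (ModPair.interior W.mod).ι w ∈ ModPair.interior W.mod := w.2
    constructor
    · change pullback.fst f.hom g.hom _ ∈ ModPair.interior X.mod
      rw [← Scheme.Hom.comp_apply, Category.assoc, hu1, Scheme.Hom.comp_apply]
      exact apply_mem_interior_of_le b.hom b.cond hw
    · change pullback.snd f.hom g.hom _ ∈ ModPair.interior T.mod
      rw [← Scheme.Hom.comp_apply, Category.assoc, hu2, Scheme.Hom.comp_apply]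
      exact apply_mem_interior_of_le a.hom a.cond hw
  obtain ⟨u₀, hu₀⟩ := Groth.Agent.S18736.exists_factor_of_dominant
    (ModPair.mprodι f.hom g.hom X.mod T.mod) u (ModPair.interior W.mod).ι
    (IsOpenImmersion.lift (ModPair.prodInterior f.hom g.hom X.mod T.mod).ι _ hr ≫
      (ModPair.prodInterior f.hom g.hom X.mod T.mod).ι.toImage)
    (by rw [Category.assoc, Scheme.Hom.toImage_imageι, IsOpenImmersion.lift_fac])
  refine ⟨u₀, ?_, ?_⟩
  · rw [← Category.assoc, hu₀, hu1]
  · rw [← Category.assoc, hu₀, hu2]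

variable {Y : Scheme.{u}} (π : Y ⟶ ModPair.mprod f.hom g.hom X.mod T.mod) (K : Y.IdealSheafData)
  (hY : ModPair.IsAmbProd f.hom g.hom X.mod T.mod π K) (hK : BlowUp.IsEffCartierIdeal K)
  (hX : ModPair.IsAmbient K X.mod
    (π ≫ ModPair.mprodι f.hom g.hom X.mod T.mod ≫ pullback.fst f.hom g.hom))
  (hT : ModPair.IsAmbient K T.mod
    (π ≫ ModPair.mprodι f.hom g.hom X.mod T.mod ≫ pullback.snd f.hom g.hom))

include hY in
/-- Existence of liftings to the ambient product after an admissible blow-up. -/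
theorem exists_lift (W : Pair.{u}) (a : W ⟶ T) (b : W ⟶ X) (h : a ≫ g = b ≫ f) :
    ∃ (W' : Pair.{u}) (s : W' ⟶ W) (_ : Pair.admBlowup s) (c : W' ⟶ Pair.mk Y K hK),
      c ≫ (Pair.Hom.mk (P := Pair.mk Y K hK) (Q := T)
          (π ≫ ModPair.mprodι f.hom g.hom X.mod T.mod ≫ pullback.snd f.hom g.hom) hT) = s ≫ a ∧
      c ≫ (Pair.Hom.mk (P := Pair.mk Y K hK) (Q := X)
          (π ≫ ModPair.mprodι f.hom g.hom X.mod T.mod ≫ pullback.fst f.hom g.hom) hX) = s ≫ b := by
  obtain ⟨hπ, hKE⟩ := hY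
  unfold ModPair.prodCentre at hπ hKE
  obtain ⟨u₀, hr₀, hq₀⟩ := exists_factor_mprod f g W a b h
  set r := ModPair.mprodι f.hom g.hom X.mod T.mod ≫ pullback.fst f.hom g.hom with hr
  set q := ModPair.mprodι f.hom g.hom X.mod T.mod ≫ pullback.snd f.hom g.hom with hq
  -- the centre pulled back to `W`
  have eCW : (X.mod.comap r ⊔ T.mod.comap q).comap u₀ =
      X.mod.comap b.hom ⊔ T.mod.comap a.hom := by
    rw [comap_sup, ← comap_comp, ← comap_comp, hr₀, hq₀]
  obtain ⟨W₁, β, hβ⟩ := Groth.Agent.Lib.Helper41.exists_isBlowUp W.total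
    ((X.mod.comap r ⊔ T.mod.comap q).comap u₀)
  haveI hdomW : IsSchemeTheoreticallyDominant (ModPair.interior W.mod).ι :=
    isSchemeTheoreticallyDominant_ι_compl_support W.mod W.isEffCartier
  haveI hqcW : QuasiCompact (ModPair.interior W.mod).ι := quasiCompact_interior_ι W
  haveI hdomβ : IsSchemeTheoreticallyDominant (β ⁻¹ᵁ ModPair.interior W.mod).ι :=
    Groth.Agent.S18749.dominant_of_isBlowUp β _ hβ (ModPair.interior W.mod) _ (fun y hy => hy)
  have hIW₁ : BlowUp.IsEffCartierIdeal (W.mod.comap β) :=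
    (Groth.Agent.S18732.result W.mod W.isEffCartier β).2
  -- `β` is an admissible blow-up
  have hprop : IsProper β := by
    refine Groth.Agent.Lib.Helper16.BlowUpProper.isProper_of_isBlowUp _ β hβ ?_
    intro x
    rw [eCW]
    exact exists_fg_sup_comap X.mod X.isEffCartier T.mod T.isEffCartier b.hom a.hom x
  have hle : ModPair.interior W.mod ≤
      ((X.mod.comap r ⊔ T.mod.comap q).comap u₀).support.compl := by
    intro x hx
    change x ∉ ((X.mod.comap r ⊔ T.mod.comap q).comap u₀).support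
    intro hx'
    apply hx
    rw [eCW, support_sup] at hx'
    exact Scheme.IdealSheafData.support_antitone b.cond hx'.1
  have hiso : IsIso (β ∣_ ModPair.interior W.mod) :=
    isIso_morphismRestrict_of_le β hle (isIso_morphismRestrict_of_isBlowUp _ β hβ)
  -- the lift to the blow-up
  obtain ⟨c₀, hc₀, -⟩ := hπ.2 W₁ (β ≫ u₀) (by rw [comap_comp]; exact hβ.1)
  -- the modulus condition
  have eA : ((X.mod.comap r).comap π).comap c₀ = X.mod.comap (β ≫ b.hom) := by
    rw [← comap_comp, hc₀, ← comap_comp, Category.assoc, hr₀]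
  have eB : ((T.mod.comap q).comap π).comap c₀ = T.mod.comap (β ≫ a.hom) := by
    rw [← comap_comp, hc₀, ← comap_comp, Category.assoc, hq₀]
  have eE : ((X.mod.comap r ⊔ T.mod.comap q).comap π).comap c₀ =
      X.mod.comap (β ≫ b.hom) ⊔ T.mod.comap (β ≫ a.hom) := by
    rw [comap_sup, comap_sup, eA, eB]
  have hE' : BlowUp.IsEffCartierIdeal
      (X.mod.comap (β ≫ b.hom) ⊔ T.mod.comap (β ≫ a.hom)) := by
    have h1 := hβ.1
    rw [eCW, comap_sup, ← comap_comp, ← comap_comp] at h1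
    exact h1
  have hA' : BlowUp.IsEffCartierIdeal (X.mod.comap (β ≫ b.hom)) := by
    haveI : IsSchemeTheoreticallyDominant ((β ≫ b.hom) ⁻¹ᵁ ModPair.interior X.mod).ι :=
      Groth.Agent.S18749.dominant_of_isBlowUp β _ hβ (ModPair.interior W.mod) _
        (fun y hy => apply_mem_interior_of_le b.hom b.cond hy)
    exact (Groth.Agent.S18732.result X.mod X.isEffCartier (β ≫ b.hom)).2
  have hB' : BlowUp.IsEffCartierIdeal (T.mod.comap (β ≫ a.hom)) := by
    haveI : IsSchemeTheoreticallyDominant ((β ≫ a.hom) ⁻¹ᵁ ModPair.interior T.mod).ι :=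
      Groth.Agent.S18749.dominant_of_isBlowUp β _ hβ (ModPair.interior W.mod) _
        (fun y hy => apply_mem_interior_of_le a.hom a.cond hy)
    exact (Groth.Agent.S18732.result T.mod T.isEffCartier (β ≫ a.hom)).2
  have hK' : K.comap c₀ * (X.mod.comap (β ≫ b.hom) ⊔ T.mod.comap (β ≫ a.hom)) =
      X.mod.comap (β ≫ b.hom) * T.mod.comap (β ≫ a.hom) := by
    have h1 := congrArg (fun L : Y.IdealSheafData => L.comap c₀) hKE
    simp only [Groth.Agent.S18755.comap_mul'] at h1
    rw [eE, eA, eB] at h1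
    exact h1
  obtain ⟨A₁, B₁, -, -, hA₁, hB₁, -, hmin⟩ := Groth.Agent.S18733.result _ _ hA' hB' hE'
  generalize hEdef : X.mod.comap (β ≫ b.hom) ⊔ T.mod.comap (β ≫ a.hom) = E' at *
  have hK'' : K.comap c₀ = A₁ * B₁ * E' := by
    refine Groth.Agent.S18755.mul_effCartier_cancel E' hE' _ _ ?_
    calc K.comap c₀ * E' = X.mod.comap (β ≫ b.hom) * T.mod.comap (β ≫ a.hom) := hK'
      _ = (A₁ * E') * (B₁ * E') := by rw [← hA₁, ← hB₁]
      _ = A₁ * B₁ * E' * E' := by ring
  have hcond : W.mod.comap β ≤ K.comap c₀ := by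
    rw [hK'']
    refine hmin (W.mod.comap β) hIW₁ ?_ ?_
    · rw [comap_comp]; exact comap_mono β b.cond
    · rw [comap_comp]; exact comap_mono β a.cond
  refine ⟨Pair.mk W₁ (W.mod.comap β) hIW₁, ⟨β, le_refl _⟩, ⟨rfl, hprop, hiso⟩, ⟨c₀, hcond⟩, ?_, ?_⟩
  · apply Pair.Hom.ext
    change c₀ ≫ π ≫ q = β ≫ a.hom
    rw [← Category.assoc, hc₀, Category.assoc, hq₀]
  · apply Pair.Hom.ext
    change c₀ ≫ π ≫ r = β ≫ b.hom
    rw [← Category.assoc, hc₀, Category.assoc, hr₀]

include hY in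
/-- Uniqueness of liftings to the ambient product. -/
theorem lift_unique (W : Pair.{u}) (c c' : W ⟶ Pair.mk Y K hK)
    (h1 : c ≫ (Pair.Hom.mk (P := Pair.mk Y K hK) (Q := T)
          (π ≫ ModPair.mprodι f.hom g.hom X.mod T.mod ≫ pullback.snd f.hom g.hom) hT) =
        c' ≫ (Pair.Hom.mk (P := Pair.mk Y K hK) (Q := T)
          (π ≫ ModPair.mprodι f.hom g.hom X.mod T.mod ≫ pullback.snd f.hom g.hom) hT))
    (h2 : c ≫ (Pair.Hom.mk (P := Pair.mk Y K hK) (Q := X)
          (π ≫ ModPair.mprodι f.hom g.hom X.mod T.mod ≫ pullback.fst f.hom g.hom) hX) =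
        c' ≫ (Pair.Hom.mk (P := Pair.mk Y K hK) (Q := X)
          (π ≫ ModPair.mprodι f.hom g.hom X.mod T.mod ≫ pullback.fst f.hom g.hom) hX)) :
    c = c' := by
  obtain ⟨hπ, hKE⟩ := hY
  unfold ModPair.prodCentre at hπ hKE
  have hh1 : c.hom ≫ π ≫ ModPair.mprodι f.hom g.hom X.mod T.mod ≫ pullback.snd f.hom g.hom =
      c'.hom ≫ π ≫ ModPair.mprodι f.hom g.hom X.mod T.mod ≫ pullback.snd f.hom g.hom :=
    congrArg Pair.Hom.hom h1
  have hh2 : c.hom ≫ π ≫ ModPair.mprodι f.hom g.hom X.mod T.mod ≫ pullback.fst f.hom g.hom =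
      c'.hom ≫ π ≫ ModPair.mprodι f.hom g.hom X.mod T.mod ≫ pullback.fst f.hom g.hom :=
    congrArg Pair.Hom.hom h2
  have e : c.hom ≫ π = c'.hom ≫ π := by
    rw [← cancel_mono (ModPair.mprodι f.hom g.hom X.mod T.mod)]
    apply pullback.hom_ext
    · simpa only [Category.assoc] using hh2
    · simpa only [Category.assoc] using hh1
  -- the exceptional ideal pulls back to an effective Cartier ideal on `W`
  have hKE' : K ≤ (X.mod.comap (ModPair.mprodι f.hom g.hom X.mod T.mod ≫ pullback.fst f.hom g.hom) ⊔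
      T.mod.comap (ModPair.mprodι f.hom g.hom X.mod T.mod ≫ pullback.snd f.hom g.hom)).comap π := by
    rw [comap_sup]
    refine le_trans ?_ le_sup_left
    have := hX
    unfold ModPair.IsAmbient at this
    rwa [comap_comp] at this
  haveI hdomW : IsSchemeTheoreticallyDominant (ModPair.interior W.mod).ι :=
    isSchemeTheoreticallyDominant_ι_compl_support W.mod W.isEffCartier
  haveI : IsSchemeTheoreticallyDominant (c.hom ⁻¹ᵁ ModPair.interior
      ((X.mod.comap (ModPair.mprodι f.hom g.hom X.mod T.mod ≫ pullback.fst f.hom g.hom) ⊔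
      T.mod.comap (ModPair.mprodι f.hom g.hom X.mod T.mod ≫ pullback.snd f.hom g.hom)).comap π)).ι := by
    refine dominant_of_le (O' := ModPair.interior W.mod) ?_
    intro w hw
    have h3 : c.hom w ∈ ModPair.interior K := apply_mem_interior_of_le c.hom c.cond hw
    change c.hom w ∉ _
    intro h4
    exact h3 (Scheme.IdealSheafData.support_antitone hKE' h4)
  have hEff := (Groth.Agent.S18732.result _ hπ.1 c.hom).2
  have huniq := hπ.2 W.total (c.hom ≫ π) (by rw [comap_comp]; exact hEff)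
  exact Pair.Hom.ext (huniq.unique rfl e.symm)

end

end Groth.Agent.Lib.Helper16.ModPairLift
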