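import Mathlib

set_option autoImplicit false

universe u

open CategoryTheory CategoryTheory.Limits AlgebraicGeometry

namespace Groth.Agent.Lib.Helper16.NeronFinNHD

/-- `A` Noetherian, `q` prime with `A_q` a domain: some `A_g` (`g ∉ q`) is a domain. -/
theorem exists_away_isDomain (A : Type u) [CommRing A] [IsNoetherianRing A] (q : Ideal A)
    [q.IsPrime] (S : Type u) [CommRing S] [Algebra A S] [IsLocalization.AtPrime S q]
    [IsDomain S] : ∃ g : A, g ∉ q ∧ IsDomain (Localization.Away g) := by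
  classical
  -- the kernel is killed by a single g ∉ q
  have hker : ∀ x : A, algebraMap A S x = 0 → ∃ s : A, s ∉ q ∧ s * x = 0 := by
    intro x hx
    obtain ⟨⟨s, hs⟩, hsx⟩ := (IsLocalization.map_eq_zero_iff q.primeCompl S x).mp hx
    exact ⟨s, hs, hsx⟩
  obtain ⟨T, hT⟩ : (RingHom.ker (algebraMap A S)).FG := IsNoetherian.noetherian _
  have hTker : ∀ t ∈ T, algebraMap A S t = 0 := by
    intro t ht
    have : t ∈ RingHom.ker (algebraMap A S) := hT ▸ Ideal.subset_span ht
    exact this
  have hfin : ∀ T' : Finset A, (∀ t ∈ T', algebraMap A S t = 0) →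
      ∃ g : A, g ∉ q ∧ ∀ t ∈ T', g * t = 0 := by
    intro T'
    induction T' using Finset.induction_on with
    | empty => exact fun _ => ⟨1, fun h => (Ideal.IsPrime.ne_top ‹q.IsPrime›)
        ((Ideal.eq_top_iff_one q).mpr h), fun t ht => absurd ht (Finset.notMem_empty t)⟩
    | insert a T' _ ih =>
      intro h
      obtain ⟨g, hg, hgT⟩ := ih (fun t ht => h t (Finset.mem_insert_of_mem ht))
      obtain ⟨s, hs, hsa⟩ := hker a (h a (Finset.mem_insert_self a T'))
      refine ⟨g * s, fun hgs => ?_, ?_⟩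
      · rcases (Ideal.IsPrime.mem_or_mem ‹q.IsPrime› hgs) with h1 | h1
        · exact hg h1
        · exact hs h1
      · intro t ht
        rcases Finset.mem_insert.mp ht with rfl | ht
        · rw [mul_assoc, hsa, mul_zero]
        · rw [mul_right_comm, hgT t ht, zero_mul]
  obtain ⟨g, hg, hgT⟩ := hfin T hTker
  have hgK : ∀ x : A, algebraMap A S x = 0 → g * x = 0 := by
    intro x hx
    have hxK : x ∈ Ideal.span (T : Set A) := by
      rw [hT]; exact hx
    refine Submodule.span_induction (p := fun x _ => g * x = 0) ?_ ?_ ?_ ?_ hxK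
    · intro t ht; exact hgT t ht
    · exact mul_zero g
    · intro a b _ _ ha hb; rw [mul_add, ha, hb, add_zero]
    · intro r a _ ha; rw [smul_eq_mul, mul_left_comm, ha, mul_zero]
  refine ⟨g, hg, ?_⟩
  have hgu : IsUnit (algebraMap A S g) :=
    IsLocalization.map_units S (⟨g, hg⟩ : q.primeCompl)
  let f : Localization.Away g →+* S := IsLocalization.Away.lift g hgu
  have hf : Function.Injective f := by
    rw [injective_iff_map_eq_zero]
    intro z hz
    obtain ⟨⟨a, s⟩, rfl⟩ := IsLocalization.mk'_surjective (Submonoid.powers g) z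
    have h1 : f (IsLocalization.mk' (Localization.Away g) a s) * algebraMap A S (s : A) =
        algebraMap A S a := by
      have h2 : algebraMap A S (s : A) = f (algebraMap A (Localization.Away g) (s : A)) :=
        (IsLocalization.Away.lift_eq g hgu (s : A)).symm
      rw [h2, ← map_mul]
      have h3 : IsLocalization.mk' (Localization.Away g) a s *
          algebraMap A (Localization.Away g) (s : A) = algebraMap A (Localization.Away g) a :=
        IsLocalization.mk'_spec (Localization.Away g) a s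
      rw [h3]
      exact IsLocalization.Away.lift_eq g hgu a
    rw [hz, zero_mul] at h1
    have h4 : g * a = 0 := hgK a h1.symm
    rw [IsLocalization.mk'_eq_zero_iff]
    exact ⟨⟨g, 1, pow_one g⟩, h4⟩
  exact hf.isDomain f

theorem exists_integral_affine_nhd {Y : Scheme.{u}} [IsLocallyNoetherian Y]
    (hY : ∀ y : Y, IsDomain (Y.presheaf.stalk y)) (y : Y) :
    ∃ W : Y.Opens, y ∈ W ∧ IsAffineOpen W ∧ IsIntegral W.toScheme := by
  obtain ⟨U, hU, hyU⟩ : ∃ U : Y.Opens, IsAffineOpen U ∧ y ∈ U := by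
    obtain ⟨_, ⟨U, hU, rfl⟩, hyU, -⟩ :=
      Y.isBasis_affineOpens.exists_subset_of_mem_open (Set.mem_univ y) isOpen_univ
    exact ⟨U, hU, hyU⟩
  haveI : IsNoetherianRing Γ(Y, U) := IsLocallyNoetherian.component_noetherian ⟨U, hU⟩
  letI : Algebra Γ(Y, U) (Y.presheaf.stalk y) :=
    TopCat.Presheaf.algebra_section_stalk Y.presheaf (⟨y, hyU⟩ : U)
  haveI : IsLocalization.AtPrime (Y.presheaf.stalk y) (hU.primeIdealOf ⟨y, hyU⟩).asIdeal :=
    hU.isLocalization_stalk ⟨y, hyU⟩
  haveI : IsDomain (Y.presheaf.stalk y) := hY y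
  obtain ⟨g, hg, hdom⟩ := exists_away_isDomain Γ(Y, U) (hU.primeIdealOf ⟨y, hyU⟩).asIdeal
    (Y.presheaf.stalk y)
  have hyg : y ∈ Y.basicOpen g := by
    rw [Y.mem_basicOpen g y hyU]
    exact (IsLocalization.AtPrime.isUnit_to_map_iff (Y.presheaf.stalk y)
      (hU.primeIdealOf ⟨y, hyU⟩).asIdeal g).mpr hg
  have hW : IsAffineOpen (Y.basicOpen g) := hU.basicOpen g
  haveI := hU.isLocalization_basicOpen g
  haveI : IsDomain Γ(Y, Y.basicOpen g) := by
    let e := (IsLocalization.algEquiv (Submonoid.powers g) Γ(Y, Y.basicOpen g)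
      (Localization.Away g))
    exact e.injective.isDomain e.toRingEquiv.toRingHom
  haveI : IsDomain Γ((Y.basicOpen g).toScheme, ⊤) := by
    let e := (Scheme.Opens.topIso (Y.basicOpen g)).commRingCatIsoToRingEquiv
    exact e.injective.isDomain e.toRingHom
  haveI : IsAffine (Y.basicOpen g).toScheme := hW
  haveI : Nonempty (Y.basicOpen g).toScheme := ⟨⟨y, hyg⟩⟩
  exact ⟨Y.basicOpen g, hyg, hW, isIntegral_of_isAffine_of_isDomain _⟩

end Groth.Agent.Lib.Helper16.NeronFinNHD
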