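import Mathlib
import Groth.Agent.Lib.Helper80.Node.Defs
set_option autoImplicit false
universe u
open Groth.Agent.Lib.Helper80.Node

namespace Groth.Agent.Lib.Helper16.NodeGB

open KaehlerDifferential in
theorem gb {V Q B : Type u} [CommRing V] [CommRing Q] [CommRing B] [Algebra V Q] [Algebra V B]
    [Algebra Q B] [IsScalarTower V Q B] (M : Submonoid Q) [IsLocalization M B] (x y : Q)
    (hQ : Submodule.span Q {KaehlerDifferential.D V Q x, KaehlerDifferential.D V Q y} = ⊤)
    (ω : Ω[B⁄V]) :
    ∃ a b : B, ω = a • KaehlerDifferential.D V B (algebraMap Q B x)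
      + b • KaehlerDifferential.D V B (algebraMap Q B y) := by
  have h := span_eq_top_of_isLocalizedModule B M (KaehlerDifferential.map V V Q B) hQ
  have hω : ω ∈ Submodule.span B (KaehlerDifferential.map V V Q B ''
      {KaehlerDifferential.D V Q x, KaehlerDifferential.D V Q y}) := by rw [h]; trivial
  rw [Set.image_pair, Submodule.mem_span_pair] at hω
  obtain ⟨a, b, hab⟩ := hω
  refine ⟨a, b, ?_⟩
  rw [← hab, KaehlerDifferential.map_D, KaehlerDifferential.map_D]

end Groth.Agent.Lib.Helper16.NodeGB
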