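import Mathlib
import Groth.Agent.Lib.Helper80.Node.Defs
set_option autoImplicit false
universe u
open Groth.Agent.Lib.Helper80.Node

namespace Groth.Agent.Lib.Helper16.NodeKB

theorem kb {V Q B : Type u} [CommRing V] [CommRing Q] [CommRing B] [Algebra V Q] [Algebra V B]
    [Algebra Q B] [IsScalarTower V Q B] (M : Submonoid Q) [IsLocalization M B] (x y : Q)
    (hQ : ∀ s t : Q, s • KaehlerDifferential.D V Q x + t • KaehlerDifferential.D V Q y = 0 →
      ∃ e : Q, s = e * y ∧ t = e * x) (s t : B)
    (h : s • KaehlerDifferential.D V B (algebraMap Q B x)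
      + t • KaehlerDifferential.D V B (algebraMap Q B y) = 0) :
    ∃ e : B, s = e * algebraMap Q B y ∧ t = e * algebraMap Q B x := by
  obtain ⟨⟨s0, u1⟩, hs⟩ := IsLocalization.surj M s
  obtain ⟨⟨t0, u2⟩, ht⟩ := IsLocalization.surj M t
  simp only at hs ht
  have h1 : KaehlerDifferential.map V V Q B ((s0 * u2) • KaehlerDifferential.D V Q x
      + (t0 * u1) • KaehlerDifferential.D V Q y) = 0 := by
    rw [map_add, map_smul, map_smul, KaehlerDifferential.map_D, KaehlerDifferential.map_D,
      ← algebraMap_smul B (s0 * (u2 : Q)), ← algebraMap_smul B (t0 * (u1 : Q)), map_mul, map_mul,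
      ← hs, ← ht]
    have : (s * algebraMap Q B u1 * algebraMap Q B u2) • KaehlerDifferential.D V B (algebraMap Q B x)
        + (t * algebraMap Q B u2 * algebraMap Q B u1) • KaehlerDifferential.D V B (algebraMap Q B y)
        = (algebraMap Q B u1 * algebraMap Q B u2) •
          (s • KaehlerDifferential.D V B (algebraMap Q B x)
            + t • KaehlerDifferential.D V B (algebraMap Q B y)) := by
      rw [smul_add, smul_smul, smul_smul]; congr 2 <;> ring
    rw [this, h, smul_zero]
  obtain ⟨v, hv⟩ := (IsLocalizedModule.eq_zero_iff M (KaehlerDifferential.map V V Q B)).mp h1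
  rw [Submonoid.smul_def, smul_add, smul_smul, smul_smul] at hv
  obtain ⟨e, he1, he2⟩ := hQ _ _ hv
  have hu : IsUnit (algebraMap Q B ((v * u1 * u2 : M) : Q)) :=
    IsLocalization.map_units B (v * u1 * u2)
  obtain ⟨w, hw⟩ := hu
  refine ⟨algebraMap Q B e * ↑w⁻¹, ?_, ?_⟩
  · have hsw : s * w = algebraMap Q B e * algebraMap Q B y := by
      rw [hw, Submonoid.coe_mul, Submonoid.coe_mul, ← map_mul, ← he1, map_mul, map_mul, map_mul,
        map_mul, ← hs]; ring
    calc s = s * w * ↑w⁻¹ := by rw [mul_assoc, Units.mul_inv, mul_one]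
      _ = _ := by rw [hsw]; ring
  · have htw : t * w = algebraMap Q B e * algebraMap Q B x := by
      rw [hw, Submonoid.coe_mul, Submonoid.coe_mul, ← map_mul, ← he2, map_mul, map_mul, map_mul,
        map_mul, ← ht]; ring
    calc t = t * w * ↑w⁻¹ := by rw [mul_assoc, Units.mul_inv, mul_one]
      _ = _ := by rw [htw]; ring

end Groth.Agent.Lib.Helper16.NodeKB
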