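import Mathlib
import Groth.Agent.S18468

/-!
# The group algebra of `ZMod p`: coefficients, power maps, Gauss-sum elements
-/

namespace Groth.Agent.Lib.Helper16.OTJ

universe u

variable (R : Type u) [CommRing R] (p : ℕ) [Fact p.Prime]

/-- the group algebra `R[T]/(T^p - 1)` -/
abbrev HH := MonoidAlgebra R (Multiplicative (ZMod p))

/-- `T^a` -/
noncomputable def Tp (a : ZMod p) : HH R p := MonoidAlgebra.single (Multiplicative.ofAdd a) 1

variable {R p}

/-- the coefficient of `T^a` -/
def co (x : HH R p) (a : ZMod p) : R := x.coeff (Multiplicative.ofAdd a)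

lemma Tp_zero : Tp R p 0 = 1 := rfl

lemma Tp_add (a b : ZMod p) : Tp R p (a + b) = Tp R p a * Tp R p b := by
  unfold Tp
  rw [MonoidAlgebra.single_mul_single, mul_one, ofAdd_add]

lemma Tp_pow (a : ZMod p) (n : ℕ) : Tp R p a ^ n = Tp R p (n • a) := by
  unfold Tp
  rw [MonoidAlgebra.single_pow, one_pow, ofAdd_nsmul]

@[simp] lemma co_zero (a : ZMod p) : co (0 : HH R p) a = 0 := rfl

@[simp] lemma co_add (x y : HH R p) (a : ZMod p) : co (x + y) a = co x a + co y a := rfl

@[simp] lemma co_smul (c : R) (x : HH R p) (a : ZMod p) : co (c • x) a = c * co x a := rfl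

@[simp] lemma co_neg (x : HH R p) (a : ZMod p) : co (-x) a = - co x a := by
  have h := co_add x (-x) a
  rw [add_neg_cancel, co_zero] at h
  linear_combination -h

@[simp] lemma co_sub (x y : HH R p) (a : ZMod p) : co (x - y) a = co x a - co y a := by
  rw [sub_eq_add_neg, co_add, co_neg, sub_eq_add_neg]

@[simp] lemma co_sum {ι : Type*} (s : Finset ι) (f : ι → HH R p) (a : ZMod p) :
    co (∑ i ∈ s, f i) a = ∑ i ∈ s, co (f i) a := by
  unfold co
  rw [MonoidAlgebra.coeff_sum, Finsupp.finset_sum_apply]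

lemma co_Tp (a b : ZMod p) : co (Tp R p a) b = if a = b then 1 else 0 := by
  unfold co Tp
  rw [MonoidAlgebra.coeff_single, Finsupp.single_apply]
  simp only [Multiplicative.ofAdd.injective.eq_iff]

lemma co_one (b : ZMod p) : co (1 : HH R p) b = if 0 = b then 1 else 0 := by
  rw [← Tp_zero, co_Tp]

lemma ext_co {x y : HH R p} (h : ∀ a, co x a = co y a) : x = y := by
  apply MonoidAlgebra.coeff_injective
  ext g
  exact h (Multiplicative.toAdd g)

lemma co_Tp_mul (a : ZMod p) (x : HH R p) (b : ZMod p) :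
    co (Tp R p a * x) b = co x (b - a) := by
  unfold co Tp
  rw [MonoidAlgebra.coeff_single_mul_apply, one_mul]
  congr 1
  rw [← ofAdd_neg, ← ofAdd_add]
  congr 1
  ring

lemma eq_sum_co (x : HH R p) : x = ∑ a : ZMod p, co x a • Tp R p a := by
  apply ext_co
  intro b
  rw [co_sum]
  simp only [co_smul, co_Tp, mul_ite, mul_one, mul_zero]
  rw [Finset.sum_ite_eq' Finset.univ b]
  simp

lemma co_mul (x y : HH R p) (c : ZMod p) :
    co (x * y) c = ∑ a : ZMod p, co x a * co y (c - a) := by
  conv_lhs => rw [eq_sum_co x]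
  rw [Finset.sum_mul, co_sum]
  refine Finset.sum_congr rfl fun a _ => ?_
  rw [smul_mul_assoc, co_smul, co_Tp_mul]

/-- the counit is the sum of the coefficients -/
lemma counit_eq (x : HH R p) :
    Bialgebra.counitAlgHom R (HH R p) x = ∑ a : ZMod p, co x a := by
  conv_lhs => rw [eq_sum_co x]
  rw [map_sum]
  refine Finset.sum_congr rfl fun a _ => ?_
  rw [map_smul, smul_eq_mul]
  have : Bialgebra.counitAlgHom R (HH R p) (Tp R p a) = 1 := by
    unfold Tp
    simp
  rw [this, mul_one]

end Groth.Agent.Lib.Helper16.OTJ
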