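import Groth.Agent.Lib.Helper16.OTJ1

/-!
# Power maps and Gauss-sum elements in the group algebra of `ZMod p`
-/

namespace Groth.Agent.Lib.Helper16.OTJ

universe u

open WithConv in
lemma powConv_groupLike {R : Type u} [CommRing R] {A : Type u} [CommRing A] [HopfAlgebra R A]
    (a : A) (ha : IsGroupLikeElem R a) (n : ℕ) :
    SGA3b.powConv R A n a = a ^ n := by
  induction n with
  | zero =>
    show ((WithConv.toConv (AlgHom.id R A)) ^ 0).ofConv a = _
    rw [pow_zero, pow_zero]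
    show (1 : WithConv (A →ₐ[R] A)) a = 1
    rw [AlgHom.convOne_apply, ha.counit_eq_one, map_one]
  | succ n ih =>
    show ((WithConv.toConv (AlgHom.id R A)) ^ (n + 1)).ofConv a = _
    rw [pow_succ]
    show ((WithConv.toConv (AlgHom.id R A)) ^ n * WithConv.toConv (AlgHom.id R A)) a = _
    rw [AlgHom.convMul_apply, ha.comul_eq_tmul_self, Algebra.TensorProduct.lift_tmul]
    rw [pow_succ, ← ih]
    rfl

variable {R : Type u} [CommRing R] {p : ℕ} [Fact p.Prime]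

/-- sum over `ZMod p` of a function vanishing at `0`, as a sum over the units -/
lemma sum_zmod_eq_sum_units (f : ZMod p → R) (h0 : f 0 = 0) :
    ∑ a : ZMod p, f a = ∑ m : (ZMod p)ˣ, f (m : ZMod p) := by
  rw [Fintype.sum_eq_add_sum_subtype_ne f 0, h0, zero_add]
  rw [← Equiv.sum_comp unitsEquivNeZero (fun i : {a : ZMod p // a ≠ 0} => f i)]
  rfl

/-- the power map `[m]` on the group algebra -/
noncomputable def EE (m : (ZMod p)ˣ) : HH R p →ₐ[R] HH R p :=
  SGA3b.powConv R (HH R p) (m : ZMod p).val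

lemma EE_Tp (m : (ZMod p)ˣ) (a : ZMod p) : EE m (Tp R p a) = Tp R p (m * a) := by
  unfold EE
  have hg : IsGroupLikeElem R (Tp R p a) := MonoidAlgebra.isGroupLikeElem_single_one _
  rw [powConv_groupLike _ hg, Tp_pow]
  congr 1
  rw [nsmul_eq_mul, ZMod.natCast_zmod_val]

lemma co_EE (m : (ZMod p)ˣ) (x : HH R p) (a : ZMod p) : co (EE m x) (m * a) = co x a := by
  conv_lhs => rw [eq_sum_co x]
  rw [map_sum, co_sum]
  simp only [map_smul, EE_Tp, co_smul, co_Tp, mul_ite, mul_one, mul_zero]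
  rw [Finset.sum_eq_single a]
  · simp
  · intro b _ hb
    rw [if_neg]
    intro h
    exact hb (m.isUnit.mul_right_injective h)
  · intro h
    exact absurd (Finset.mem_univ _) h

/-- extension by zero of a character -/
noncomputable def ext0 (ψ : (ZMod p)ˣ →* Rˣ) (a : ZMod p) : R :=
  if h : a = 0 then 0 else (ψ (Units.mk0 a h) : R)

lemma ext0_zero (ψ : (ZMod p)ˣ →* Rˣ) : ext0 ψ 0 = 0 := by
  unfold ext0; simp

lemma ext0_unit (ψ : (ZMod p)ˣ →* Rˣ) (m : (ZMod p)ˣ) : ext0 ψ (m : ZMod p) = (ψ m : R) := by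
  unfold ext0
  rw [dif_neg m.ne_zero]
  congr 2
  ext
  rfl

/-- the Gauss-sum element `∑_m ψ(m) T^m` -/
noncomputable def GG (ψ : (ZMod p)ˣ →* Rˣ) : HH R p :=
  ∑ m : (ZMod p)ˣ, (ψ m : R) • Tp R p (m : ZMod p)

/-- the character sum -/
noncomputable def SS (ψ : (ZMod p)ˣ →* Rˣ) : R := ∑ m : (ZMod p)ˣ, (ψ m : R)

lemma co_GG (ψ : (ZMod p)ˣ →* Rˣ) (a : ZMod p) : co (GG ψ) a = ext0 ψ a := by
  unfold GG
  rw [co_sum]
  simp only [co_smul, co_Tp, mul_ite, mul_one, mul_zero]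
  by_cases ha : a = 0
  · subst ha
    rw [ext0_zero]
    apply Finset.sum_eq_zero
    intro m _
    rw [if_neg m.ne_zero]
  · rw [Finset.sum_eq_single (Units.mk0 a ha)]
    · rw [if_pos (Units.val_mk0 ha)]
      have := ext0_unit ψ (Units.mk0 a ha)
      rw [← this]
      rfl
    · intro m _ hm
      rw [if_neg]
      intro h
      apply hm
      ext
      exact h
    · intro h
      exact absurd (Finset.mem_univ _) h

lemma EE_GG (ψ : (ZMod p)ˣ →* Rˣ) (m : (ZMod p)ˣ) :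
    EE m (GG ψ) = ((ψ m)⁻¹ : Rˣ) • GG ψ := by
  unfold GG
  rw [map_sum, Finset.smul_sum]
  rw [← Equiv.sum_comp (Equiv.mulLeft m)
    (fun n => ((ψ m)⁻¹ : Rˣ) • ((ψ n : R) • Tp R p (n : ZMod p)))]
  refine Finset.sum_congr rfl fun n _ => ?_
  rw [map_smul, EE_Tp, Equiv.coe_mulLeft, map_mul, Units.smul_def, smul_smul, Units.val_mul,
    ← mul_assoc]
  have h1 : ((ψ m)⁻¹ : Rˣ).val * (ψ m : R) = 1 := by
    rw [← Units.val_mul, inv_mul_cancel, Units.val_one]
  rw [h1, one_mul, Units.val_mul]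

/-- **eigen lemma** -/
lemma eigen (ψ : (ZMod p)ˣ →* Rˣ) (x : HH R p)
    (h : ∀ m : (ZMod p)ˣ, EE m x = ((ψ m)⁻¹ : Rˣ) • x) :
    x = co x 0 • (1 : HH R p) + co x 1 • GG ψ := by
  have hm : ∀ m : (ZMod p)ˣ, co x (m : ZMod p) = (ψ m : R) * co x 1 := by
    intro m
    have h1 := co_EE m x 1
    rw [h m, Units.smul_def, co_smul, mul_one] at h1
    rw [← h1, ← mul_assoc, ← Units.val_mul, mul_inv_cancel, Units.val_one, one_mul]
  apply ext_co
  intro a
  rw [co_add, co_smul, co_smul, co_one, co_GG]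
  by_cases ha : a = 0
  · subst ha
    rw [ext0_zero, if_pos rfl]
    ring
  · rw [if_neg (Ne.symm ha)]
    have := hm (Units.mk0 a ha)
    rw [Units.val_mk0] at this
    rw [this, ← ext0_unit ψ (Units.mk0 a ha), Units.val_mk0]
    ring

lemma counit_Tp (a : ZMod p) : Bialgebra.counitAlgHom R (HH R p) (Tp R p a) = 1 := by
  unfold Tp
  simp

lemma counit_GG (ψ : (ZMod p)ˣ →* Rˣ) : Bialgebra.counitAlgHom R (HH R p) (GG ψ) = SS ψ := by
  unfold GG SS
  rw [map_sum]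
  refine Finset.sum_congr rfl fun m _ => ?_
  rw [map_smul, counit_Tp, smul_eq_mul, mul_one]

/-- nontriviality in the strong sense needed over a ring -/
def NU (ψ : (ZMod p)ˣ →* Rˣ) : Prop := ∃ g : (ZMod p)ˣ, IsUnit ((ψ g : R) - 1)

lemma SS_eq_zero {ψ : (ZMod p)ˣ →* Rˣ} (h : NU ψ) : SS ψ = 0 := by
  obtain ⟨g, hg⟩ := h
  exact Groth.Agent.S18468.sum_char_eq_zero ψ g hg

lemma SS_one : SS (1 : (ZMod p)ˣ →* Rˣ) = ((p - 1 : ℕ) : R) := by
  unfold SS
  simp only [MonoidHom.one_apply, Units.val_one, Finset.sum_const, Finset.card_univ,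
    ZMod.card_units, nsmul_eq_mul, mul_one]

/-- the Jacobi sum, as the coefficient of `T` in the product of the Gauss-sum elements -/
noncomputable def JJ (ψ φ : (ZMod p)ˣ →* Rˣ) : R := co (GG ψ * GG φ) 1

lemma JJ_eq_sum (ψ φ : (ZMod p)ˣ →* Rˣ) :
    JJ ψ φ = ∑ a : ZMod p, ext0 ψ a * ext0 φ (1 - a) := by
  unfold JJ
  rw [co_mul]
  simp only [co_GG]

lemma co_GG_mul_zero (ψ φ : (ZMod p)ˣ →* Rˣ) :
    co (GG ψ * GG φ) 0 = (φ (-1) : R) * SS (ψ * φ) := by
  rw [co_mul]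
  simp only [co_GG, zero_sub]
  rw [sum_zmod_eq_sum_units _ (by rw [ext0_zero, zero_mul])]
  unfold SS
  rw [Finset.mul_sum]
  refine Finset.sum_congr rfl fun m _ => ?_
  have hneg : -(m : ZMod p) = ((-1 * m : (ZMod p)ˣ) : ZMod p) := by
    simp
  rw [ext0_unit, hneg, ext0_unit, map_mul, MonoidHom.mul_apply, Units.val_mul, Units.val_mul]
  ring

/-- **product formula** -/
theorem GG_mul (ψ φ : (ZMod p)ˣ →* Rˣ) :
    GG ψ * GG φ = ((φ (-1) : R) * SS (ψ * φ)) • (1 : HH R p) + JJ ψ φ • GG (ψ * φ) := by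
  have h := eigen (ψ * φ) (GG ψ * GG φ) (fun m => by
    rw [map_mul, EE_GG, EE_GG, MonoidHom.mul_apply, mul_inv, smul_mul_smul_comm])
  rw [co_GG_mul_zero] at h
  exact h

end Groth.Agent.Lib.Helper16.OTJ
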