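import Groth.Agent.Lib.Helper16.OTJ2

/-!
# The norm element and the relation `J(ψ,φ) J(ψ⁻¹,φ⁻¹) = p`
-/

namespace Groth.Agent.Lib.Helper16.OTJ

universe u

variable {R : Type u} [CommRing R] {p : ℕ} [Fact p.Prime]

variable (R p) in
/-- the norm element `N = ∑_a T^a` -/
noncomputable def NN : HH R p := ∑ a : ZMod p, Tp R p a

variable (R p) in
/-- `p - N` -/
noncomputable def pN : HH R p := (p : R) • (1 : HH R p) - NN R p

lemma Tp_mul_NN (a : ZMod p) : Tp R p a * NN R p = NN R p := by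
  unfold NN
  rw [Finset.mul_sum]
  rw [← Equiv.sum_comp (Equiv.addLeft a) (fun b => Tp R p b)]
  refine Finset.sum_congr rfl fun b _ => ?_
  rw [← Tp_add]
  rfl

lemma NN_mul_NN : NN R p * NN R p = (p : R) • NN R p := by
  have h1 : NN R p * NN R p = ∑ a : ZMod p, Tp R p a * NN R p := by
    conv_lhs => rw [show NN R p * NN R p = (∑ a : ZMod p, Tp R p a) * NN R p from rfl]
    rw [Finset.sum_mul]
  rw [h1]
  simp only [Tp_mul_NN]
  rw [Finset.sum_const, Finset.card_univ, ZMod.card, ← Nat.cast_smul_eq_nsmul R]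

lemma pN_mul_pN : pN R p * pN R p = (p : R) • pN R p := by
  unfold pN
  rw [sub_mul, mul_sub, mul_sub, NN_mul_NN]
  simp only [smul_mul_assoc, mul_smul_comm, one_mul, mul_one, smul_sub]
  abel

lemma co_NN (a : ZMod p) : co (NN R p) a = 1 := by
  unfold NN
  rw [co_sum]
  simp only [co_Tp]
  rw [Finset.sum_ite_eq' Finset.univ a]
  simp

lemma one_ne_zero_zmod : (1 : ZMod p) ≠ 0 := by
  haveI : Fact (1 < p) := ⟨(Fact.out : p.Prime).one_lt⟩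
  exact one_ne_zero

lemma co_pN_one : co (pN R p) 1 = -1 := by
  unfold pN
  rw [co_sub, co_smul, co_one, co_NN, if_neg (fun h => one_ne_zero_zmod (p := p) h.symm)]
  ring

lemma GG_one : GG (1 : (ZMod p)ˣ →* Rˣ) = NN R p - 1 := by
  apply ext_co
  intro a
  rw [co_GG, co_sub, co_NN, co_one]
  by_cases ha : a = 0
  · subst ha
    rw [ext0_zero, if_pos rfl, sub_self]
  · rw [if_neg (Ne.symm ha), sub_zero]
    have := ext0_unit (1 : (ZMod p)ˣ →* Rˣ) (Units.mk0 a ha)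
    rw [Units.val_mk0] at this
    rw [this]
    simp

lemma NU_inv {ψ : (ZMod p)ˣ →* Rˣ} (h : NU ψ) : NU ψ⁻¹ := by
  obtain ⟨g, hg⟩ := h
  refine ⟨g, ?_⟩
  have : ((ψ⁻¹ g : Rˣ) : R) - 1 = -(((ψ g)⁻¹ : Rˣ) : R) * ((ψ g : R) - 1) := by
    rw [MonoidHom.inv_apply]
    have e : (((ψ g)⁻¹ : Rˣ) : R) * (ψ g : R) = 1 := by
      rw [← Units.val_mul, inv_mul_cancel, Units.val_one]
    linear_combination e
  rw [this]
  exact (((ψ g)⁻¹).isUnit.neg).mul hg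

lemma char_neg_one_sq (ψ : (ZMod p)ˣ →* Rˣ) : ψ (-1) * ψ (-1) = 1 := by
  rw [← map_mul]
  simp

variable (u : R) (hu : u * ((p - 1 : ℕ) : R) = 1)

include hu in
/-- `G(ψ) G(ψ⁻¹) = ψ(-1) (p - N)` -/
theorem GG_mul_inv {ψ : (ZMod p)ˣ →* Rˣ} (h : NU ψ) :
    GG ψ * GG ψ⁻¹ = ((ψ⁻¹ (-1) : Rˣ) : R) • pN R p := by
  have h1 := GG_mul ψ ψ⁻¹
  have e1 : ψ * ψ⁻¹ = 1 := mul_inv_cancel ψ
  rw [e1, SS_one, GG_one] at h1
  have h2 := congrArg (Bialgebra.counitAlgHom R (HH R p)) h1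
  rw [map_mul, counit_GG, counit_GG, SS_eq_zero h, zero_mul, map_add, map_smul, map_smul,
    map_sub, map_one, smul_eq_mul, smul_eq_mul, mul_one] at h2
  have h3 : Bialgebra.counitAlgHom R (HH R p) (NN R p) = (p : R) := by
    rw [counit_eq]
    simp only [co_NN, Finset.sum_const, Finset.card_univ, ZMod.card, nsmul_eq_mul, mul_one]
  rw [h3] at h2
  have hp1 : (p : R) - 1 = ((p - 1 : ℕ) : R) := by
    rw [Nat.cast_sub (Fact.out : p.Prime).one_le, Nat.cast_one]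
  rw [hp1] at h2
  have hJ : JJ ψ ψ⁻¹ = -((ψ⁻¹ (-1) : Rˣ) : R) := by
    have : (((ψ⁻¹ (-1) : Rˣ) : R) + JJ ψ ψ⁻¹) * (((p - 1 : ℕ) : R) * u) = 0 := by
      linear_combination (-u) * h2
    rw [mul_comm _ u, hu, mul_one] at this
    linear_combination this
  rw [h1, hJ]
  unfold pN
  rw [← hp1]
  simp only [smul_sub, sub_smul, mul_smul, neg_smul, one_smul]
  abel

include hu in
/-- `J(ψ,φ) J(ψ⁻¹,φ⁻¹) = p` -/
theorem JJ_mul_JJ_inv {ψ φ : (ZMod p)ˣ →* Rˣ} (hψ : NU ψ) (hφ : NU φ) (hψφ : NU (ψ * φ)) :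
    JJ ψ φ * JJ ψ⁻¹ φ⁻¹ = (p : R) := by
  have hA : GG ψ * GG φ = JJ ψ φ • GG (ψ * φ) := by
    rw [GG_mul, SS_eq_zero hψφ, mul_zero, zero_smul, zero_add]
  have e2 : ψ⁻¹ * φ⁻¹ = (ψ * φ)⁻¹ := (mul_inv ψ φ).symm
  have hA' : GG ψ⁻¹ * GG φ⁻¹ = JJ ψ⁻¹ φ⁻¹ • GG (ψ * φ)⁻¹ := by
    rw [GG_mul, e2, SS_eq_zero (NU_inv hψφ), mul_zero, zero_smul, zero_add]
  have h1 : (GG ψ * GG φ) * (GG ψ⁻¹ * GG φ⁻¹) = (GG ψ * GG ψ⁻¹) * (GG φ * GG φ⁻¹) := by ring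
  rw [hA, hA', GG_mul_inv u hu hψ, GG_mul_inv u hu hφ, smul_mul_smul_comm, smul_mul_smul_comm,
    GG_mul_inv u hu hψφ, pN_mul_pN] at h1
  have h2 := congrArg (fun x => co x 1) h1
  simp only [co_smul, co_pN_one] at h2
  have hc : ((ψ⁻¹ (-1) : Rˣ) : R) * ((φ⁻¹ (-1) : Rˣ) : R) = (((ψ * φ)⁻¹ (-1) : Rˣ) : R) := by
    rw [← e2, MonoidHom.mul_apply, Units.val_mul]
  rw [hc] at h2
  have hunit : IsUnit ((((ψ * φ)⁻¹ (-1) : Rˣ) : R)) := Units.isUnit _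
  have h3 : (((ψ * φ)⁻¹ (-1) : Rˣ) : R) * (JJ ψ φ * JJ ψ⁻¹ φ⁻¹ - (p : R)) = 0 := by
    linear_combination -h2
  have := (hunit.mul_right_eq_zero).mp h3
  linear_combination this

end Groth.Agent.Lib.Helper16.OTJ
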