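import Groth.Agent.Lib.Helper16.OTJ3

/-!
# The Jacobi sums `J(χ⁻¹, χ⁻ʲ)` modulo `p`, and their invertibility
-/

namespace Groth.Agent.Lib.Helper16.OTJ

universe u

section field

variable {p : ℕ} [Fact p.Prime]

lemma sum_pow_zmod (e : ℕ) (he : 1 ≤ e) :
    ∑ a : ZMod p, a ^ e = if p - 1 ∣ e then -1 else 0 := by
  rw [sum_zmod_eq_sum_units (fun a : ZMod p => a ^ e) (zero_pow (by omega))]
  have := FiniteField.sum_pow_units (ZMod p) e
  rw [ZMod.card] at this
  exact this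

/-- `∑_a a^(p-2) (1-a)^b = b` in `ZMod p` for `1 ≤ b ≤ p - 2` -/
theorem sum_pow_mul_one_sub_pow (hp3 : 3 ≤ p) (b : ℕ) (hb1 : 1 ≤ b) (hb2 : b ≤ p - 2) :
    ∑ a : ZMod p, a ^ (p - 2) * (1 - a) ^ b = (b : ZMod p) := by
  have hexp : ∀ a : ZMod p, a ^ (p - 2) * (1 - a) ^ b =
      ∑ m ∈ Finset.range (b + 1), ((-1) ^ m * (b.choose m : ZMod p)) * a ^ (p - 2 + m) := by
    intro a
    have h1 : (1 - a) ^ b = (-a + 1) ^ b := by ring_nf
    rw [h1, add_pow, Finset.mul_sum]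
    refine Finset.sum_congr rfl fun m _ => ?_
    rw [one_pow, mul_one, neg_pow, pow_add]
    ring
  simp only [hexp]
  rw [Finset.sum_comm]
  simp only [← Finset.mul_sum]
  rw [Finset.sum_eq_single 1]
  · rw [sum_pow_zmod _ (by omega)]
    have h2 : p - 2 + 1 = p - 1 := by omega
    rw [h2, if_pos (dvd_refl _), Nat.choose_one_right]
    ring
  · intro m hm hm1
    rw [Finset.mem_range] at hm
    rw [sum_pow_zmod _ (by omega), if_neg, mul_zero]
    intro hdvd
    obtain ⟨c, hc⟩ := hdvd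
    have hc1 : c = 1 := by
      rcases c with _ | _ | c
      · omega
      · rfl
      · exfalso
        have : (p - 1) * (c + 1 + 1) ≥ (p - 1) * 2 := Nat.mul_le_mul_left _ (by omega)
        omega
    subst hc1
    omega
  · intro h
    exact absurd (Finset.mem_range.mpr (by omega)) h

end field

variable {R : Type u} [CommRing R] {p : ℕ} [Fact p.Prime]

/-- an element congruent mod `p` to an integer prime to `p` and dividing `p` is a unit -/
lemma isUnit_of_mul_eq_prime (J J' : R) (n : ℕ) (hn : Nat.Coprime n p)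
    (hJ : J * J' = (p : R)) (hcong : J - (n : R) ∈ Ideal.span ({(p : R)} : Set R)) : IsUnit J := by
  obtain ⟨r, hr⟩ := Ideal.mem_span_singleton'.mp hcong
  have hco : IsCoprime (n : ℤ) (p : ℤ) := Nat.isCoprime_iff_coprime.mpr hn
  obtain ⟨s, t, hst⟩ := hco
  have hst' : (s : R) * (n : R) + (t : R) * (p : R) = 1 := by
    have := congrArg (Int.cast : ℤ → R) hst
    push_cast at this
    exact this
  apply IsUnit.of_mul_eq_one ((s : R) + J' * ((t : R) - (s : R) * r))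
  linear_combination hst' + (-(s : R)) * hr + ((t : R) - (s : R) * r) * hJ

variable (χ : (ZMod p)ˣ →* Rˣ)
  (hχp : ∀ m : (ZMod p)ˣ,
    ((χ m : Rˣ) : R) - (((m : ZMod p).val : ℕ) : R) ∈ Ideal.span ({(p : R)} : Set R))

/-- the ring homomorphism `ZMod p → R/p` -/
noncomputable def iota : ZMod p →+* R ⧸ Ideal.span ({(p : R)} : Set R) :=
  ZMod.castHom (ringChar.dvd (by
    rw [← map_natCast (Ideal.Quotient.mk (Ideal.span ({(p : R)} : Set R))),
      Ideal.Quotient.eq_zero_iff_mem]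
    exact Ideal.mem_span_singleton_self _)) (R ⧸ Ideal.span ({(p : R)} : Set R))

lemma iota_eq (a : ZMod p) :
    iota (R := R) a = Ideal.Quotient.mk (Ideal.span ({(p : R)} : Set R)) ((a.val : ℕ) : R) := by
  conv_lhs => rw [← ZMod.natCast_zmod_val a]
  rw [map_natCast, map_natCast]

include hχp in
lemma mk_chi (m : (ZMod p)ˣ) :
    Ideal.Quotient.mk (Ideal.span ({(p : R)} : Set R)) (χ m : R) = iota (R := R) (m : ZMod p) := by
  rw [iota_eq, Ideal.Quotient.eq]
  exact hχp m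

include hχp in
/-- `χ⁻ʲ` extended by zero is congruent to `a ↦ a^(p-1-j)` -/
lemma mk_ext0_inv_pow (j : ℕ) (hj1 : 1 ≤ j) (hj2 : j ≤ p - 2) (a : ZMod p) :
    Ideal.Quotient.mk (Ideal.span ({(p : R)} : Set R)) (ext0 (χ⁻¹ ^ j) a) =
      iota (R := R) (a ^ (p - 1 - j)) := by
  by_cases ha : a = 0
  · subst ha
    rw [ext0_zero, map_zero, zero_pow (by omega), map_zero]
  · have h1 := ext0_unit (χ⁻¹ ^ j) (Units.mk0 a ha)
    rw [Units.val_mk0] at h1
    rw [h1]
    have h2 : ((χ⁻¹ ^ j) (Units.mk0 a ha) : Rˣ) = χ ((Units.mk0 a ha)⁻¹ ^ j) := by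
      rw [MonoidHom.pow_apply, MonoidHom.inv_apply, map_pow, map_inv]
    rw [h2, mk_chi χ hχp]
    congr 1
    have h3 : (Units.mk0 a ha)⁻¹ ^ j = (Units.mk0 a ha) ^ (p - 1 - j) := by
      rw [inv_pow, inv_eq_iff_mul_eq_one, ← pow_add]
      have : j + (p - 1 - j) = p - 1 := by omega
      rw [this]
      exact ZMod.units_pow_card_sub_one_eq_one p _
    rw [h3, Units.val_pow_eq_pow_val, Units.val_mk0]

include hχp in
/-- `J(χ⁻¹, χ⁻ʲ) ≡ p - 1 - j` modulo `p` -/
theorem JJ_congr (hp3 : 3 ≤ p) (j : ℕ) (hj1 : 1 ≤ j) (hj2 : j ≤ p - 3) :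
    JJ χ⁻¹ (χ⁻¹ ^ j) - ((p - 1 - j : ℕ) : R) ∈ Ideal.span ({(p : R)} : Set R) := by
  rw [← Ideal.Quotient.eq, JJ_eq_sum, map_sum]
  have h1 : ∀ a : ZMod p, Ideal.Quotient.mk (Ideal.span ({(p : R)} : Set R))
      (ext0 χ⁻¹ a * ext0 (χ⁻¹ ^ j) (1 - a)) =
      iota (R := R) (a ^ (p - 2) * (1 - a) ^ (p - 1 - j)) := by
    intro a
    rw [map_mul, map_mul, ← mk_ext0_inv_pow χ hχp j hj1 (by omega) (1 - a)]
    congr 1
    have := mk_ext0_inv_pow χ hχp 1 le_rfl (by omega) a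
    have e : χ⁻¹ ^ 1 = χ⁻¹ := pow_one _
    rw [e] at this
    rw [this]
    congr 2
  simp only [h1]
  rw [← map_sum, sum_pow_mul_one_sub_pow hp3 (p - 1 - j) (by omega) (by omega), map_natCast,
    map_natCast]

end Groth.Agent.Lib.Helper16.OTJ
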