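import Groth.Agent.Lib.Helper16.OTJ4

/-!
# The elements `y_i`: explicit form, basis of the augmentation ideal
-/

namespace Groth.Agent.Lib.Helper16.OTJ

universe u

variable {R : Type u} [CommRing R] {p : ℕ} [Fact p.Prime]

variable (u : R) (χ : (ZMod p)ˣ →* Rˣ)

lemma muT_eq : OortTate.muT R p = Tp R p 1 := rfl

lemma inv_pow_apply (i : ℕ) (m : (ZMod p)ˣ) :
    (((χ⁻¹ ^ i) m : Rˣ) : R) = ((χ m⁻¹ : Rˣ) : R) ^ i := by
  rw [MonoidHom.pow_apply, MonoidHom.inv_apply, map_inv, Units.val_pow_eq_pow_val]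

/-- `y_i = u ∑_m χ(m⁻¹)^i (T^m - 1)` -/
lemma ygen_eq_sum (i : ℕ) :
    OortTate.ygen R p u χ i =
      u • ∑ m : (ZMod p)ˣ, (((χ m⁻¹ : Rˣ) : R) ^ i) • (Tp R p (m : ZMod p) - 1) := by
  show OortTate.proj R (HH R p) p u χ i (OortTate.muT R p - 1) = _
  rw [Groth.Agent.S18468.proj_apply]
  congr 1
  refine Finset.sum_congr rfl fun m _ => ?_
  congr 1
  show EE m (OortTate.muT R p - 1) = _
  rw [map_sub, map_one, muT_eq, EE_Tp, mul_one]

/-- `y_i = u (G(χ⁻ⁱ) - S(χ⁻ⁱ))` -/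
lemma ygen_eq (i : ℕ) :
    OortTate.ygen R p u χ i = u • (GG (χ⁻¹ ^ i) - SS (χ⁻¹ ^ i) • (1 : HH R p)) := by
  rw [ygen_eq_sum]
  congr 1
  unfold GG SS
  rw [Finset.sum_smul, ← Finset.sum_sub_distrib]
  refine Finset.sum_congr rfl fun m _ => ?_
  rw [smul_sub, inv_pow_apply]

lemma co_ygen (i : ℕ) (m : (ZMod p)ˣ) :
    co (OortTate.ygen R p u χ i) (m : ZMod p) = u * ((χ m⁻¹ : Rˣ) : R) ^ i := by
  rw [ygen_eq, co_smul, co_sub, co_smul, co_one, co_GG, ext0_unit, if_neg (Ne.symm m.ne_zero),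
    mul_zero, sub_zero, inv_pow_apply]

lemma counit_ygen (i : ℕ) :
    Bialgebra.counitAlgHom R (HH R p) (OortTate.ygen R p u χ i) = 0 := by
  rw [ygen_eq_sum, map_smul, map_sum]
  have : ∀ m : (ZMod p)ˣ, Bialgebra.counitAlgHom R (HH R p)
      ((((χ m⁻¹ : Rˣ) : R) ^ i) • (Tp R p (m : ZMod p) - 1)) = 0 := by
    intro m
    rw [map_smul, map_sub, counit_Tp, map_one, sub_self, smul_zero]
  simp only [this, Finset.sum_const_zero, smul_zero]

variable (hu : u * ((p - 1 : ℕ) : R) = 1)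
  (hχ : ∀ m : (ZMod p)ˣ, m ≠ 1 → IsUnit ((χ m : R) - 1))

include hu hχ in
/-- the inverse relation `T^m - 1 = ∑_i χ(m)^i y_i` -/
theorem Tp_sub_one_eq (m : (ZMod p)ˣ) :
    Tp R p (m : ZMod p) - 1 =
      ∑ i ∈ Finset.range (p - 1), (((χ m : Rˣ) : R) ^ i) • OortTate.ygen R p u χ i := by
  have key : ∀ n : (ZMod p)ˣ, ∑ i ∈ Finset.range (p - 1),
      ((χ m : Rˣ) : R) ^ i * ((χ n⁻¹ : Rˣ) : R) ^ i = if n = m then ((p - 1 : ℕ) : R) else 0 := by
    intro n
    split_ifs with hnm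
    · subst hnm
      have h1 : ∀ i : ℕ, ((χ n : Rˣ) : R) ^ i * ((χ n⁻¹ : Rˣ) : R) ^ i = 1 := by
        intro i
        rw [← mul_pow, ← Units.val_mul, ← map_mul, mul_inv_cancel, map_one, Units.val_one,
          one_pow]
      simp only [h1, Finset.sum_const, Finset.card_range, nsmul_eq_mul, mul_one]
    · have h2 : ∀ i : ℕ, ((χ m : Rˣ) : R) ^ i * ((χ n⁻¹ : Rˣ) : R) ^ i =
          ((χ (n * m⁻¹)⁻¹ : Rˣ) : R) ^ i := by
        intro i
        rw [← mul_pow, ← Units.val_mul, ← map_mul]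
        congr 3
      simp only [h2]
      exact Groth.Agent.S18468.geom χ hχ (n * m⁻¹) (by
        intro h
        apply hnm
        rw [mul_inv_eq_one] at h
        exact h)
  have h3 : ∀ i : ℕ, (((χ m : Rˣ) : R) ^ i) • OortTate.ygen R p u χ i =
      ∑ n : (ZMod p)ˣ, (u * (((χ m : Rˣ) : R) ^ i * ((χ n⁻¹ : Rˣ) : R) ^ i)) •
        (Tp R p (n : ZMod p) - 1) := by
    intro i
    rw [ygen_eq_sum, Finset.smul_sum, Finset.smul_sum]
    refine Finset.sum_congr rfl fun n _ => ?_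
    rw [smul_smul, smul_smul]
    congr 1
    ring
  simp only [h3]
  rw [Finset.sum_comm]
  simp only [← Finset.sum_smul, ← Finset.mul_sum, key]
  rw [Finset.sum_eq_single m]
  · rw [if_pos rfl, hu, one_smul]
  · intro n _ hn
    rw [if_neg hn, mul_zero, zero_smul]
  · intro h
    exact absurd (Finset.mem_univ _) h

include hu hχ in
theorem span_ygen :
    Submodule.span R (Set.range (fun i : Fin (p - 1) => OortTate.ygen R p u χ (i : ℕ))) =
      LinearMap.ker (Bialgebra.counitAlgHom R (HH R p)).toLinearMap := by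
  apply le_antisymm
  · rw [Submodule.span_le]
    rintro _ ⟨i, rfl⟩
    exact counit_ygen u χ i
  · intro x hx
    have hx' : Bialgebra.counitAlgHom R (HH R p) x = 0 := hx
    rw [counit_eq] at hx'
    have h1 : x = ∑ a : ZMod p, co x a • (Tp R p a - 1) := by
      conv_lhs => rw [eq_sum_co x]
      simp only [smul_sub]
      rw [Finset.sum_sub_distrib, ← Finset.sum_smul, hx', zero_smul, sub_zero]
    rw [h1]
    refine Submodule.sum_mem _ fun a _ => Submodule.smul_mem _ _ ?_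
    by_cases ha : a = 0
    · subst ha
      rw [Tp_zero, sub_self]
      exact Submodule.zero_mem _
    · have := Tp_sub_one_eq u χ hu hχ (Units.mk0 a ha)
      rw [Units.val_mk0] at this
      rw [this, ← Fin.sum_univ_eq_sum_range
        (fun i => ((χ (Units.mk0 a ha) : Rˣ) : R) ^ i • OortTate.ygen R p u χ i)]
      refine Submodule.sum_mem _ fun i _ => Submodule.smul_mem _ _ ?_
      exact Submodule.subset_span ⟨i, rfl⟩

include hu hχ in
theorem linearIndependent_ygen :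
    LinearIndependent R (fun i : Fin (p - 1) => OortTate.ygen R p u χ (i : ℕ)) := by
  rw [Fintype.linearIndependent_iff]
  intro g hg j
  have hco : ∀ m : (ZMod p)ˣ, ∑ i : Fin (p - 1), g i * (u * ((χ m⁻¹ : Rˣ) : R) ^ (i : ℕ)) = 0 := by
    intro m
    have := congrArg (fun x => co x (m : ZMod p)) hg
    simp only [co_sum, co_smul, co_ygen, co_zero] at this
    exact this
  have h2 : ∑ m : (ZMod p)ˣ, ((χ m : Rˣ) : R) ^ (j : ℕ) *
      ∑ i : Fin (p - 1), g i * (u * ((χ m⁻¹ : Rˣ) : R) ^ (i : ℕ)) = 0 := by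
    simp only [hco, mul_zero, Finset.sum_const_zero]
  simp only [Finset.mul_sum] at h2
  rw [Finset.sum_comm] at h2
  have h3 : ∀ i : Fin (p - 1), ∑ m : (ZMod p)ˣ,
      ((χ m : Rˣ) : R) ^ (j : ℕ) * (g i * (u * ((χ m⁻¹ : Rˣ) : R) ^ (i : ℕ))) =
      g i * u * ∑ m : (ZMod p)ˣ, ((χ m⁻¹ : Rˣ) : R) ^ (i : ℕ) * ((χ m : Rˣ) : R) ^ (j : ℕ) := by
    intro i
    rw [Finset.mul_sum]
    refine Finset.sum_congr rfl fun m _ => ?_
    ring
  simp only [h3] at h2
  rw [Finset.sum_eq_single j] at h2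
  · have h4 : ∀ m : (ZMod p)ˣ, ((χ m⁻¹ : Rˣ) : R) ^ (j : ℕ) * ((χ m : Rˣ) : R) ^ (j : ℕ) = 1 := by
      intro m
      rw [← mul_pow, ← Units.val_mul, ← map_mul, inv_mul_cancel, map_one, Units.val_one, one_pow]
    simp only [h4, Finset.sum_const, Finset.card_univ, ZMod.card_units, nsmul_eq_mul,
      mul_one] at h2
    rw [mul_assoc, hu, mul_one] at h2
    exact h2
  · intro i _ hij
    rw [Groth.Agent.S18468.orth χ hχ i j i.2 j.2 (fun h => hij (Fin.ext h)), mul_zero]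
  · intro h
    exact absurd (Finset.mem_univ _) h

end Groth.Agent.Lib.Helper16.OTJ
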