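import Groth.Agent.Lib.Helper16.OTJ5

/-!
# Powers of `y_1`
-/

namespace Groth.Agent.Lib.Helper16.OTJ

universe u

variable {R : Type u} [CommRing R] {p : ℕ} [Fact p.Prime]

variable (u : R) (χ : (ZMod p)ˣ →* Rˣ)

lemma chi_pow_card (m : (ZMod p)ˣ) : ((χ m : Rˣ) : R) ^ (p - 1) = 1 := by
  rw [← Units.val_pow_eq_pow_val, ← map_pow, ZMod.units_pow_card_sub_one_eq_one, map_one,
    Units.val_one]

lemma ygen_periodic (i : ℕ) :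
    OortTate.ygen R p u χ (i + (p - 1)) = OortTate.ygen R p u χ i := by
  rw [ygen_eq_sum, ygen_eq_sum]
  congr 1
  refine Finset.sum_congr rfl fun m _ => ?_
  rw [pow_add, chi_pow_card, mul_one]

lemma inv_pow_card : χ⁻¹ ^ (p - 1) = 1 := by
  ext m
  rw [inv_pow_apply, chi_pow_card]
  rfl

lemma inv_pow_pred (hp3 : 3 ≤ p) : χ⁻¹ ^ (p - 2) = (χ⁻¹)⁻¹ := by
  have h1 : χ⁻¹ ^ (p - 2) * χ⁻¹ = 1 := by
    have h2 : χ⁻¹ ^ (p - 2) * χ⁻¹ = χ⁻¹ ^ (p - 2 + 1) := (pow_succ χ⁻¹ (p - 2)).symm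
    rw [h2]
    have h3 : p - 2 + 1 = p - 1 := by omega
    rw [h3]
    exact inv_pow_card χ
  exact eq_inv_of_mul_eq_one_left (G := (ZMod p)ˣ →* Rˣ) (a := χ⁻¹ ^ (p - 2)) (b := χ⁻¹) h1

lemma pN_mul_GG {ψ : (ZMod p)ˣ →* Rˣ} (h : NU ψ) : pN R p * GG ψ = (p : R) • GG ψ := by
  have h1 : NN R p * GG ψ = 0 := by
    unfold GG
    rw [Finset.mul_sum]
    have : ∀ m : (ZMod p)ˣ, NN R p * ((ψ m : R) • Tp R p (m : ZMod p)) = (ψ m : R) • NN R p := by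
      intro m
      rw [mul_smul_comm, mul_comm, Tp_mul_NN]
    simp only [this]
    rw [← Finset.sum_smul]
    have h2 := SS_eq_zero h
    unfold SS at h2
    rw [h2, zero_smul]
  unfold pN
  rw [sub_mul, h1, sub_zero, smul_mul_assoc, one_mul]

variable (hu : u * ((p - 1 : ℕ) : R) = 1)
  (hχ : ∀ m : (ZMod p)ˣ, m ≠ 1 → IsUnit ((χ m : R) - 1))

include hu in
lemma isUnit_u : IsUnit u := IsUnit.of_mul_eq_one _ hu

include hχ in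
lemma NU_inv_pow (i : ℕ) (hi : ¬ (p - 1) ∣ i) : NU (χ⁻¹ ^ i) := by
  obtain ⟨g, hg⟩ := Groth.Agent.S18468.exists_gen (p := p)
  refine ⟨g, ?_⟩
  have h1 : ((χ⁻¹ ^ i) g : Rˣ) = χ ((g ^ i)⁻¹) := by
    rw [MonoidHom.pow_apply, MonoidHom.inv_apply, ← map_inv, ← map_pow, inv_pow]
  rw [h1]
  apply hχ
  intro h
  rw [inv_eq_one, ← orderOf_dvd_iff_pow_eq_one, hg] at h
  exact hi h

include hχ in
lemma ygen_eq_smul_GG (i : ℕ) (hi : ¬ (p - 1) ∣ i) :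
    OortTate.ygen R p u χ i = u • GG (χ⁻¹ ^ i) := by
  rw [ygen_eq, SS_eq_zero (NU_inv_pow χ hχ i hi), zero_smul, sub_zero]

lemma ygen_zero : OortTate.ygen R p u χ 0 = (-u) • pN R p := by
  rw [ygen_eq]
  have e : χ⁻¹ ^ 0 = 1 := pow_zero _
  rw [e, GG_one, SS_one]
  unfold pN
  have hp1 : ((p - 1 : ℕ) : R) = (p : R) - 1 := by
    rw [Nat.cast_sub (Fact.out : p.Prime).one_le, Nat.cast_one]
  rw [hp1, neg_smul, ← smul_neg]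
  congr 1
  rw [sub_smul, one_smul]
  abel

lemma not_dvd_of_lt {i : ℕ} (h1 : 1 ≤ i) (h2 : i ≤ p - 2) : ¬ (p - 1) ∣ i := by
  intro h
  have := Nat.le_of_dvd (by omega) h
  have hp := (Fact.out : p.Prime).two_le
  omega

include hu hχ in
lemma ygen_one_mul (j : ℕ) (hj1 : 1 ≤ j) (hj2 : j + 1 ≤ p - 2) :
    OortTate.ygen R p u χ 1 * OortTate.ygen R p u χ j =
      (u * JJ χ⁻¹ (χ⁻¹ ^ j)) • OortTate.ygen R p u χ (j + 1) := by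
  have e1 : χ⁻¹ ^ 1 = χ⁻¹ := pow_one _
  have e2 : χ⁻¹ * χ⁻¹ ^ j = χ⁻¹ ^ (j + 1) := (pow_succ' χ⁻¹ j).symm
  rw [ygen_eq_smul_GG u χ hχ 1 (not_dvd_of_lt le_rfl (by omega)),
    ygen_eq_smul_GG u χ hχ j (not_dvd_of_lt hj1 (by omega)),
    ygen_eq_smul_GG u χ hχ (j + 1) (not_dvd_of_lt (by omega) hj2), e1,
    smul_mul_smul_comm, GG_mul, e2,
    SS_eq_zero (NU_inv_pow χ hχ (j + 1) (not_dvd_of_lt (by omega) hj2)), mul_zero, zero_smul,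
    zero_add, smul_smul, smul_smul]
  congr 1
  ring

variable (hχp : ∀ m : (ZMod p)ˣ,
    ((χ m : Rˣ) : R) - (((m : ZMod p).val : ℕ) : R) ∈ Ideal.span ({(p : R)} : Set R))

include hu hχ hχp in
lemma isUnit_JJ (hp3 : 3 ≤ p) (j : ℕ) (hj1 : 1 ≤ j) (hj2 : j ≤ p - 3) :
    IsUnit (JJ χ⁻¹ (χ⁻¹ ^ j)) := by
  have e1 : χ⁻¹ ^ 1 = χ⁻¹ := pow_one _
  have e2 : χ⁻¹ * χ⁻¹ ^ j = χ⁻¹ ^ (j + 1) := (pow_succ' χ⁻¹ j).symm
  have hN1 : NU χ⁻¹ := by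
    rw [← e1]
    exact NU_inv_pow χ hχ 1 (not_dvd_of_lt le_rfl (by omega))
  have hNj : NU (χ⁻¹ ^ j) := NU_inv_pow χ hχ j (not_dvd_of_lt hj1 (by omega))
  have hN1j : NU (χ⁻¹ * χ⁻¹ ^ j) := by
    rw [e2]
    exact NU_inv_pow χ hχ (j + 1) (not_dvd_of_lt (by omega) (by omega))
  refine isUnit_of_mul_eq_prime (p := p) _ _ (p - 1 - j) ?_
    (JJ_mul_JJ_inv u hu hN1 hNj hN1j) (JJ_congr χ hχp hp3 j hj1 hj2)
  apply Nat.Coprime.symm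
  rw [Nat.Prime.coprime_iff_not_dvd (Fact.out : p.Prime)]
  intro h
  have := Nat.le_of_dvd (by omega) h
  omega

include hu hχ in
lemma ygen_one_mul_last (hp3 : 3 ≤ p) :
    OortTate.ygen R p u χ 1 * OortTate.ygen R p u χ (p - 2) =
      (-(u * (((χ⁻¹)⁻¹ (-1) : Rˣ) : R))) • OortTate.ygen R p u χ 0 := by
  have e1 : χ⁻¹ ^ 1 = χ⁻¹ := pow_one _
  have hN1 : NU χ⁻¹ := by
    rw [← e1]
    exact NU_inv_pow χ hχ 1 (not_dvd_of_lt le_rfl (by omega))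
  rw [ygen_eq_smul_GG u χ hχ 1 (not_dvd_of_lt le_rfl (by omega)),
    ygen_eq_smul_GG u χ hχ (p - 2) (not_dvd_of_lt (by omega) le_rfl), e1, inv_pow_pred χ hp3,
    smul_mul_smul_comm, GG_mul_inv u hu hN1, ygen_zero, smul_smul, smul_smul]
  congr 1
  ring

include hu hχ hχp in
/-- `y_1^j` is a unit multiple of `y_j` for `1 ≤ j ≤ p - 2` -/
theorem ygen_one_pow (hp3 : 3 ≤ p) (j : ℕ) (hj1 : 1 ≤ j) (hj2 : j ≤ p - 2) :
    ∃ c : R, IsUnit c ∧ OortTate.ygen R p u χ 1 ^ j = c • OortTate.ygen R p u χ j := by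
  induction j, hj1 using Nat.le_induction with
  | base => exact ⟨1, isUnit_one, by rw [pow_one, one_smul]⟩
  | succ j hj1 ih =>
    obtain ⟨c, hc, hcj⟩ := ih (by omega)
    refine ⟨c * (u * JJ χ⁻¹ (χ⁻¹ ^ j)),
      hc.mul ((isUnit_u u hu).mul (isUnit_JJ u χ hu hχ hχp hp3 j hj1 (by omega))), ?_⟩
    rw [pow_succ, hcj, smul_mul_assoc, mul_comm, ygen_one_mul u χ hu hχ j hj1 hj2, smul_smul]

include hu hχ hχp in
/-- `y_1^(p-1)` is a unit multiple of `y_0` -/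
theorem ygen_one_pow_pred (hp3 : 3 ≤ p) :
    ∃ c : R, IsUnit c ∧ OortTate.ygen R p u χ 1 ^ (p - 1) = c • OortTate.ygen R p u χ 0 := by
  obtain ⟨c, hc, hcj⟩ := ygen_one_pow u χ hu hχ hχp hp3 (p - 2) (by omega) le_rfl
  refine ⟨c * (-(u * (((χ⁻¹)⁻¹ (-1) : Rˣ) : R))),
    hc.mul (((isUnit_u u hu).mul (Units.isUnit _)).neg), ?_⟩
  have h1 : p - 1 = p - 2 + 1 := by omega
  rw [h1, pow_succ, hcj, smul_mul_assoc, mul_comm, ygen_one_mul_last u χ hu hχ hp3, smul_smul]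

end Groth.Agent.Lib.Helper16.OTJ
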