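import Groth.Agent.Lib.Helper16.OTJ6

/-!
# `y_1` generates the group algebra, and `y_1^p = w y_1`
-/

namespace Groth.Agent.Lib.Helper16.OTJ

universe u

variable {R : Type u} [CommRing R] {p : ℕ} [Fact p.Prime]

variable (u : R) (χ : (ZMod p)ˣ →* Rˣ)
  (hu : u * ((p - 1 : ℕ) : R) = 1)
  (hχ : ∀ m : (ZMod p)ˣ, m ≠ 1 → IsUnit ((χ m : R) - 1))
  (hχp : ∀ m : (ZMod p)ˣ,
    ((χ m : Rˣ) : R) - (((m : ZMod p).val : ℕ) : R) ∈ Ideal.span ({(p : R)} : Set R))

lemma two_or_three_le : p = 2 ∨ 3 ≤ p := by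
  have := (Fact.out : p.Prime).two_le
  omega

lemma ygen_one_eq_zero_of_two (hp2 : p = 2) :
    OortTate.ygen R p u χ 1 = OortTate.ygen R p u χ 0 := by
  have h := ygen_periodic u χ 0
  have h1 : 0 + (p - 1) = 1 := by omega
  rw [h1] at h
  exact h

include hu hχ hχp in
lemma exists_pow_pred_eq :
    ∃ c : R, IsUnit c ∧ OortTate.ygen R p u χ 1 ^ (p - 1) = c • OortTate.ygen R p u χ 0 := by
  rcases two_or_three_le (p := p) with hp2 | hp3
  · refine ⟨1, isUnit_one, ?_⟩
    have h1 : p - 1 = 1 := by omega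
    rw [h1, pow_one, one_smul, ygen_one_eq_zero_of_two u χ hp2]
  · exact ygen_one_pow_pred u χ hu hχ hχp hp3

include hu hχ in
lemma ygen_zero_mul_one :
    OortTate.ygen R p u χ 0 * OortTate.ygen R p u χ 1 =
      (-(u * (p : R))) • OortTate.ygen R p u χ 1 := by
  rcases two_or_three_le (p := p) with hp2 | hp3
  · rw [ygen_one_eq_zero_of_two u χ hp2, ygen_zero, smul_mul_smul_comm, pN_mul_pN, smul_smul,
      smul_smul]
    congr 1
    ring
  · have e1 : χ⁻¹ ^ 1 = χ⁻¹ := pow_one _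
    have hN1 : NU χ⁻¹ := by
      rw [← e1]
      exact NU_inv_pow χ hχ 1 (not_dvd_of_lt le_rfl (by omega))
    rw [ygen_zero, ygen_eq_smul_GG u χ hχ 1 (not_dvd_of_lt le_rfl (by omega)), e1,
      smul_mul_smul_comm, pN_mul_GG hN1, smul_smul, smul_smul]
    congr 1
    ring

include hu hχ hχp in
theorem existsUnique_w :
    ∃! w : R, OortTate.ygen R p u χ 1 ^ p = w • OortTate.ygen R p u χ 1 := by
  obtain ⟨c, -, hc⟩ := exists_pow_pred_eq u χ hu hχ hχp
  refine ⟨c * (-(u * (p : R))), ?_, ?_⟩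
  · show OortTate.ygen R p u χ 1 ^ p = _
    have h1 : OortTate.ygen R p u χ 1 ^ p =
        OortTate.ygen R p u χ 1 ^ (p - 1) * OortTate.ygen R p u χ 1 := by
      rw [← pow_succ]
      congr 1
      have := (Fact.out : p.Prime).two_le
      omega
    rw [h1, hc, smul_mul_assoc, ygen_zero_mul_one u χ hu hχ, smul_smul]
  · intro w' hw'
    have h1 : OortTate.ygen R p u χ 1 ^ p =
        OortTate.ygen R p u χ 1 ^ (p - 1) * OortTate.ygen R p u χ 1 := by
      rw [← pow_succ]
      congr 1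
      have := (Fact.out : p.Prime).two_le
      omega
    rw [h1, hc, smul_mul_assoc, ygen_zero_mul_one u χ hu hχ, smul_smul] at hw'
    have hco : co (OortTate.ygen R p u χ 1) (1 : ZMod p) = u := by
      have := co_ygen u χ 1 (1 : (ZMod p)ˣ)
      simpa using this
    have h2 := congrArg (fun x => co x (1 : ZMod p)) hw'
    simp only [co_smul, hco] at h2
    have h3 := congrArg (fun x => x * ((p - 1 : ℕ) : R)) h2
    simp only [mul_assoc, hu, mul_one] at h3
    exact h3.symm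

include hu hχ hχp in
lemma ygen_mem_adjoin (i : ℕ) (hi : i < p - 1) :
    OortTate.ygen R p u χ i ∈ Algebra.adjoin R ({OortTate.ygen R p u χ 1} : Set (HH R p)) := by
  have hself : OortTate.ygen R p u χ 1 ∈
      Algebra.adjoin R ({OortTate.ygen R p u χ 1} : Set (HH R p)) :=
    Algebra.self_mem_adjoin_singleton R _
  rcases Nat.eq_zero_or_pos i with h0 | hpos
  · subst h0
    obtain ⟨c, hc, hc1⟩ := exists_pow_pred_eq u χ hu hχ hχp
    obtain ⟨c', rfl⟩ := hc
    have h1 : OortTate.ygen R p u χ 0 =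
        ((c'⁻¹ : Rˣ) : R) • OortTate.ygen R p u χ 1 ^ (p - 1) := by
      rw [hc1, smul_smul, ← Units.val_mul, inv_mul_cancel, Units.val_one, one_smul]
    rw [h1]
    exact Subalgebra.smul_mem _ (Subalgebra.pow_mem _ hself _) _
  · have hp3 : 3 ≤ p := by omega
    obtain ⟨c, hc, hc1⟩ := ygen_one_pow u χ hu hχ hχp hp3 i hpos (by omega)
    obtain ⟨c', rfl⟩ := hc
    have h1 : OortTate.ygen R p u χ i =
        ((c'⁻¹ : Rˣ) : R) • OortTate.ygen R p u χ 1 ^ i := by
      rw [hc1, smul_smul, ← Units.val_mul, inv_mul_cancel, Units.val_one, one_smul]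
    rw [h1]
    exact Subalgebra.smul_mem _ (Subalgebra.pow_mem _ hself _) _

include hu hχ hχp in
theorem adjoin_ygen_one :
    Algebra.adjoin R ({OortTate.ygen R p u χ 1} : Set (HH R p)) = ⊤ := by
  rw [eq_top_iff]
  intro x _
  have hT : Tp R p 1 ∈ Algebra.adjoin R ({OortTate.ygen R p u χ 1} : Set (HH R p)) := by
    have h1 := Tp_sub_one_eq u χ hu hχ 1
    simp only [map_one, Units.val_one, one_pow, one_smul] at h1
    have h2 : Tp R p 1 = 1 + ∑ i ∈ Finset.range (p - 1), OortTate.ygen R p u χ i := by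
      rw [← h1]; ring
    rw [h2]
    refine Subalgebra.add_mem _ (Subalgebra.one_mem _) (Subalgebra.sum_mem _ fun i hi => ?_)
    exact ygen_mem_adjoin u χ hu hχ hχp i (Finset.mem_range.mp hi)
  rw [eq_sum_co x]
  refine Subalgebra.sum_mem _ fun a _ => Subalgebra.smul_mem _ ?_ _
  have h3 : Tp R p a = Tp R p 1 ^ a.val := by
    rw [Tp_pow, nsmul_eq_mul, mul_one, ZMod.natCast_zmod_val]
  rw [h3]
  exact Subalgebra.pow_mem _ hT _

end Groth.Agent.Lib.Helper16.OTJ
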