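import Groth.Agent.Lib.Helper16.Hoch6
import Groth.Prelude.Def_Conn

namespace Groth.Agent.Lib.Helper16.PCurvApp

open TensorProduct Groth.Agent.Lib.Helper16.Hoch

universe v u

variable {A : Type v} {B M : Type u} [CommRing A] [CommRing B] [Algebra A B]
  [AddCommGroup M] [Module B M] [Module A M] [IsScalarTower A B M]

/-- scalar multiplication operators on `M`. -/
noncomputable def iM : B →+* Module.End A M := (Algebra.lsmul A A M : B →ₐ[A] Module.End A M)

lemma iM_apply (b : B) (m : M) : (iM (A := A) b) m = b • m := rfl

/-- multiplication operators on `B`. -/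
noncomputable def iB : B →+* Module.End A B := (Algebra.lmul A B : B →ₐ[A] Module.End A B)

lemma iB_apply (b x : B) : (iB (A := A) b) x = b * x := rfl

section rankone

variable (bΩ : Module.Basis (Fin 1) B (KaehlerDifferential A B)) (θ₀ : Derivation A B B)
  (hθ₀ : θ₀.liftKaehlerDifferential (bΩ 0) = 1)

/-- the coefficient of a derivation with respect to `θ₀`. -/
noncomputable def cf (θ : Derivation A B B) : B := θ.liftKaehlerDifferential (bΩ 0)

include hθ₀ in
lemma lift_eq (θ : Derivation A B B) :
    θ.liftKaehlerDifferential = cf bΩ θ • θ₀.liftKaehlerDifferential := by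
  apply bΩ.ext
  intro i
  have : i = 0 := Subsingleton.elim _ _
  subst this
  rw [LinearMap.smul_apply, hθ₀, smul_eq_mul, mul_one]
  rfl

include hθ₀ in
lemma der_eq (θ : Derivation A B B) (b : B) : θ b = cf bΩ θ * θ₀ b := by
  rw [← Derivation.liftKaehlerDifferential_comp_D θ b, lift_eq bΩ θ₀ hθ₀ θ, LinearMap.smul_apply,
    Derivation.liftKaehlerDifferential_comp_D, smul_eq_mul]

include hθ₀ in
lemma cf_unique (θ : Derivation A B B) (c : B) (h : ∀ b, θ b = c * θ₀ b) : cf bΩ θ = c := by
  have : θ.liftKaehlerDifferential = c • θ₀.liftKaehlerDifferential := by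
    apply Derivation.liftKaehlerDifferential_unique
    ext b
    change θ.liftKaehlerDifferential (KaehlerDifferential.D A B b) =
      (c • θ₀.liftKaehlerDifferential) (KaehlerDifferential.D A B b)
    rw [LinearMap.smul_apply, Derivation.liftKaehlerDifferential_comp_D,
      Derivation.liftKaehlerDifferential_comp_D, smul_eq_mul]
    exact h b
  unfold cf
  rw [this, LinearMap.smul_apply, hθ₀, smul_eq_mul, mul_one]

variable (nabla : M →ₗ[A] M ⊗[B] KaehlerDifferential A B)

include hθ₀ in
lemma alongDer_eq (θ : Derivation A B B) :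
    Conn.alongDer nabla θ = iM (A := A) (cf bΩ θ) * Conn.alongDer nabla θ₀ := by
  apply LinearMap.ext
  intro m
  rw [Module.End.mul_apply, iM_apply]
  unfold Conn.alongDer
  rw [Conn.along_apply, Conn.along_apply, lift_eq bΩ θ₀ hθ₀ θ, TensorProduct.map_smul_right,
    LinearMap.smul_apply, map_smul]

variable (hc : Conn.IsConn (KaehlerDifferential.D A B) nabla)

include hc in
lemma alongDer_leibniz (θ : Derivation A B B) (b : B) :
    Conn.alongDer nabla θ * iM (A := A) b =
      iM (A := A) b * Conn.alongDer nabla θ + iM (A := A) (θ b) := by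
  apply LinearMap.ext
  intro m
  simp only [Module.End.mul_apply, LinearMap.add_apply, iM_apply]
  unfold Conn.alongDer
  rw [Conn.along_apply, Conn.along_apply, hc b m, map_add, map_add, map_smul, map_smul,
    TensorProduct.map_tmul, TensorProduct.rid_tmul, LinearMap.id_apply,
    Derivation.liftKaehlerDifferential_comp_D]

end rankone

end Groth.Agent.Lib.Helper16.PCurvApp
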