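import Groth.Agent.Lib.Helper16.PCurvApp1

namespace Groth.Agent.Lib.Helper16.PCurvApp

open TensorProduct Groth.Agent.Lib.Helper16.Hoch

universe v u

variable {A : Type v} {B M : Type u} [CommRing A] [CommRing B] [Algebra A B]
  [AddCommGroup M] [Module B M] [Module A M] [IsScalarTower A B M]

variable (p : ℕ) [Fact p.Prime] [CharP B p]

/-- a derivation as an additive map. -/
def dA (θ : Derivation A B B) : B →+ B := ((θ : B →ₗ[A] B) : B →+ B)

lemma dA_apply (θ : Derivation A B B) (b : B) : dA θ b = θ b := rfl

lemma dA_leibniz (θ : Derivation A B B) (x y : B) : dA θ (x * y) = x * dA θ y + y * dA θ x := by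
  simp only [dA_apply, Derivation.leibniz, smul_eq_mul]

/-- a derivation as an endomorphism. -/
def dE (θ : Derivation A B B) : Module.End A B := (θ : B →ₗ[A] B)

lemma dE_apply (θ : Derivation A B B) (b : B) : dE θ b = θ b := rfl

lemma hDB (θ : Derivation A B B) (b : B) :
    dE θ * iB (A := A) b = iB (A := A) b * dE θ + iB (A := A) (dA θ b) := by
  apply LinearMap.ext
  intro x
  simp only [Module.End.mul_apply, LinearMap.add_apply, iB_apply, dE_apply, dA_apply,
    Derivation.leibniz, smul_eq_mul]
  ring

include p in
lemma endB_char (x : Module.End A B) : p • x = 0 := by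
  apply LinearMap.ext
  intro b
  rw [LinearMap.smul_apply, nsmul_eq_mul, CharP.cast_eq_zero B p, zero_mul, LinearMap.zero_apply]

lemma dE_pow_apply (θ : Derivation A B B) (n : ℕ) (b : B) : (dE θ ^ n) b = (⇑θ)^[n] b := by
  rw [Module.End.pow_apply]
  rfl

/-- the `p`-th power of a derivation in characteristic `p`. -/
noncomputable def powDer (θ : Derivation A B B) : Derivation A B B where
  toLinearMap := dE θ ^ p
  map_one_eq_zero' := by
    rw [dE_pow_apply]
    obtain ⟨q, hq⟩ : ∃ q, p = q + 1 := ⟨p - 1, by have := (Fact.out : p.Prime).one_lt; omega⟩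
    rw [hq, Function.iterate_succ_apply, Derivation.map_one_eq_zero]
    clear hq
    induction q with
    | zero => rfl
    | succ q ih => rw [Function.iterate_succ_apply', ih, map_zero]
  leibniz' a b := by
    have h := pow_p_comm p (iB (A := A)) (dE θ) (dA θ) (hDB θ) (endB_char (A := A) p) a
    have h2 := congrArg (fun T : Module.End A B => T b) h
    simp only [Module.End.mul_apply, LinearMap.add_apply, iB_apply] at h2
    rw [h2, smul_eq_mul, smul_eq_mul]
    have h3 : (dA θ)^[p] a = (dE θ ^ p) a := by
      rw [dE_pow_apply]; rfl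
    rw [h3]
    ring

lemma powDer_apply (θ : Derivation A B B) (b : B) : powDer p θ b = (⇑θ)^[p] b :=
  dE_pow_apply θ p b

lemma isIterPow_powDer (θ : Derivation A B B) : Conn.IsIterPow θ p (powDer p θ) :=
  fun b => powDer_apply p θ b

end Groth.Agent.Lib.Helper16.PCurvApp
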