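import Groth.Agent.Lib.Helper16.PCurvApp2

namespace Groth.Agent.Lib.Helper16.PCurvApp

open TensorProduct Groth.Agent.Lib.Helper16.Hoch

universe v u

theorem main {A : Type v} {B M : Type u} [CommRing A] [CommRing B]
    [Algebra A B] (p : ℕ) [Fact p.Prime] [CharP B p]
    [AddCommGroup M] [Module B M] [Module A M] [IsScalarTower A B M]
    (bΩ : Module.Basis (Fin 1) B (KaehlerDifferential A B)) (θ₀ : Derivation A B B)
    (hθ₀ : θ₀.liftKaehlerDifferential (bΩ 0) = 1)
    (nabla : M →ₗ[A] M ⊗[B] KaehlerDifferential A B)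
    (hc : Conn.IsConn (KaehlerDifferential.D A B) nabla) :
    (∀ θ θp : Derivation A B B, Conn.IsIterPow θ p θp → Conn.pCurv p nabla θ θp = 0) ↔
      (∀ θp : Derivation A B B, Conn.IsIterPow θ₀ p θp → Conn.pCurv p nabla θ₀ θp = 0) := by
  constructor
  · intro H θp h
    exact H θ₀ θp h
  · intro H θ θp hθp
    set DM := Conn.alongDer nabla θ₀ with hDM
    set θ₀p := powDer p θ₀ with hθ₀p
    set g := cf bΩ θ₀p with hg
    set f := cf bΩ θ with hf
    set c := (fun b => f * dA θ₀ b)^[p-1] f with hcdef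
    -- the hypothesis for θ₀
    have H0 : DM ^ p = iM (A := A) g * DM := by
      have := H θ₀p (isIterPow_powDer p θ₀)
      unfold Conn.pCurv at this
      rw [sub_eq_zero] at this
      rw [this, alongDer_eq bΩ θ₀ hθ₀ nabla θ₀p]
    -- Hochschild on M
    have hochM := hochschild p (iM (A := A) (M := M)) DM (dA θ₀) (dA_leibniz θ₀)
      (fun b => alongDer_leibniz nabla hc θ₀ b) f
    -- Hochschild on B
    have hochB := hochschild p (iB (A := A)) (dE θ₀) (dA θ₀) (dA_leibniz θ₀) (hDB θ₀) f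
    -- θ as an operator
    have hθ : (⇑θ : B → B) = ⇑(iB (A := A) f * dE θ₀) := by
      funext b
      rw [Module.End.mul_apply, iB_apply, dE_apply, der_eq bΩ θ₀ hθ₀ θ b]
    have hθp' : ∀ b, θp b = (f ^ p * g + c) * θ₀ b := by
      intro b
      rw [hθp b, hθ, ← Module.End.pow_apply, hochB]
      simp only [LinearMap.add_apply, Module.End.mul_apply, iB_apply, dE_apply]
      rw [dE_pow_apply, ← powDer_apply p θ₀ b, der_eq bΩ θ₀ hθ₀ (powDer p θ₀) b]
      ring
    have hcf : cf bΩ θp = f ^ p * g + c := cf_unique bΩ θ₀ hθ₀ θp _ hθp'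
    unfold Conn.pCurv
    rw [alongDer_eq bΩ θ₀ hθ₀ nabla θ, alongDer_eq bΩ θ₀ hθ₀ nabla θp, hcf, hochM, H0, map_add,
      map_mul, add_mul, mul_assoc, sub_self]

end Groth.Agent.Lib.Helper16.PCurvApp
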