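import Mathlib
import Groth.Prelude.Def_HTop
import Groth.Agent.Lib.Helper16.HCoverProper

/-!
# Finite coproducts of proper morphisms are proper; finite jointly surjective families of proper
morphisms are ph coverings.
-/

set_option autoImplicit false
universe w u
open CategoryTheory CategoryTheory.Limits AlgebraicGeometry Opposite

namespace Groth.Agent.Lib.Helper16.PhCoverProper

open HTop Groth.Agent.Lib.Helper16.HCoverProper

section SigmaProper

variable {ι : Type u} (Y : ι → Scheme.{u})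

theorem isClosed_range_sigmaι (j : ι) : IsClosed (Set.range (Sigma.ι Y j)) := by
  have h : Set.range (Sigma.ι Y j) =
      (sigmaMk Y) '' (Set.range (@Sigma.mk ι (fun i => ↥(Y i)) j)) := by
    ext x
    constructor
    · rintro ⟨y, rfl⟩
      exact ⟨⟨j, y⟩, ⟨y, rfl⟩, sigmaMk_mk Y j y⟩
    · rintro ⟨_, ⟨y, rfl⟩, rfl⟩
      exact ⟨y, (sigmaMk_mk Y j y).symm⟩
  rw [h]
  exact (sigmaMk Y).isClosedMap _ isClosed_range_sigmaMk

omit Y in
theorem quasiSeparatedSpace_sigma_top {ι : Type*} [Finite ι] {σ : ι → Type*}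
    [∀ i, TopologicalSpace (σ i)] [∀ i, QuasiSeparatedSpace (σ i)] :
    QuasiSeparatedSpace (Σ i, σ i) := by
  constructor
  intro U V hU hUc hV hVc
  have h : U ∩ V = ⋃ i, Sigma.mk i '' ((Sigma.mk i ⁻¹' U) ∩ (Sigma.mk i ⁻¹' V)) := by
    ext ⟨i, x⟩
    simp only [Set.mem_inter_iff, Set.mem_iUnion, Set.mem_image, Set.mem_preimage]
    constructor
    · rintro ⟨h1, h2⟩
      exact ⟨i, x, ⟨h1, h2⟩, rfl⟩
    · rintro ⟨i', x', ⟨h1, h2⟩, he⟩
      rw [← he]
      exact ⟨h1, h2⟩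
  rw [h]
  refine isCompact_iUnion fun i => IsCompact.image ?_ continuous_sigmaMk
  exact QuasiSeparatedSpace.inter_isCompact _ _ (hU.preimage continuous_sigmaMk)
    (Topology.IsClosedEmbedding.sigmaMk.isCompact_preimage hUc)
    (hV.preimage continuous_sigmaMk)
    (Topology.IsClosedEmbedding.sigmaMk.isCompact_preimage hVc)

theorem quasiSeparatedSpace_sigma [Finite ι] [∀ j, QuasiSeparatedSpace (Y j)] :
    QuasiSeparatedSpace ↥(∐ Y) := by
  haveI : QuasiSeparatedSpace (Σ i, (Y i : Type u)) :=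
    quasiSeparatedSpace_sigma_top (σ := fun i => ↥(Y i))
  exact QuasiSeparatedSpace.of_isOpenEmbedding (sigmaMk Y).symm.isOpenEmbedding

variable {T : Scheme.{u}} (f : ∀ j, Y j ⟶ T)

theorem existence_sigmaDesc (hf : ∀ j, ValuativeCriterion.Existence (f j)) :
    ValuativeCriterion.Existence (Sigma.desc f) := by
  intro S
  let pt : ↥(Spec (CommRingCat.of S.K)) := (⟨⊥, Ideal.isPrime_bot⟩ : PrimeSpectrum S.K)
  obtain ⟨j, y, hy⟩ := (sigmaOpenCover Y).exists_eq (S.i₁ pt)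
  have hy' : Sigma.ι Y j y = S.i₁ pt := hy
  have hr : Set.range S.i₁ ⊆ Set.range (Sigma.ι Y j) := by
    rintro _ ⟨z, rfl⟩
    have hz : z = pt := @Subsingleton.elim (PrimeSpectrum S.K) _ z pt
    rw [hz]
    exact ⟨y, hy'⟩
  let i₁' : Spec (CommRingCat.of S.K) ⟶ Y j := IsOpenImmersion.lift (Sigma.ι Y j) S.i₁ hr
  have hi₁' : i₁' ≫ Sigma.ι Y j = S.i₁ := IsOpenImmersion.lift_fac _ _ _
  have hc : CommSq i₁' (Spec.map (CommRingCat.ofHom (algebraMap S.R S.K))) (f j) S.i₂ := ⟨by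
    rw [← S.commSq.w, ← hi₁', Category.assoc, Sigma.ι_desc]⟩
  let S' : ValuativeCommSq (f j) := ⟨S.R, S.K, i₁', S.i₂, hc⟩
  obtain ⟨⟨l⟩⟩ := hf j S'
  have hl1 : Spec.map (CommRingCat.ofHom (algebraMap S.R S.K)) ≫ l.l = i₁' := l.fac_left
  have hl2 : l.l ≫ f j = S.i₂ := l.fac_right
  refine ⟨⟨⟨l.l ≫ Sigma.ι Y j, ?_, ?_⟩⟩⟩
  · rw [← Category.assoc, hl1, hi₁']
  · rw [Category.assoc, Sigma.ι_desc, hl2]

theorem uniqueness_sigmaDesc (hf : ∀ j, ValuativeCriterion.Uniqueness (f j)) :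
    ValuativeCriterion.Uniqueness (Sigma.desc f) := by
  intro S
  constructor
  intro l₁ l₂
  let pt : ↥(Spec (CommRingCat.of S.K)) := (⟨⊥, Ideal.isPrime_bot⟩ : PrimeSpectrum S.K)
  obtain ⟨j, y, hy⟩ := (sigmaOpenCover Y).exists_eq (S.i₁ pt)
  have hy' : Sigma.ι Y j y = S.i₁ pt := hy
  have hr : Set.range S.i₁ ⊆ Set.range (Sigma.ι Y j) := by
    rintro _ ⟨z, rfl⟩
    have hz : z = pt := @Subsingleton.elim (PrimeSpectrum S.K) _ z pt
    rw [hz]
    exact ⟨y, hy'⟩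
  let i₁' : Spec (CommRingCat.of S.K) ⟶ Y j := IsOpenImmersion.lift (Sigma.ι Y j) S.i₁ hr
  have hi₁' : i₁' ≫ Sigma.ι Y j = S.i₁ := IsOpenImmersion.lift_fac _ _ _
  have hc : CommSq i₁' (Spec.map (CommRingCat.ofHom (algebraMap S.R S.K))) (f j) S.i₂ := ⟨by
    rw [← S.commSq.w, ← hi₁', Category.assoc, Sigma.ι_desc]⟩
  let S' : ValuativeCommSq (f j) := ⟨S.R, S.K, i₁', S.i₂, hc⟩
  -- the generic point of `Spec R`
  let η : ↥(Spec (CommRingCat.of S.R)) :=
    (Spec.map (CommRingCat.ofHom (algebraMap S.R S.K))) pt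
  have hηbot : (η : PrimeSpectrum S.R).asIdeal = ⊥ := by
    change Ideal.comap (algebraMap S.R S.K) ⊥ = ⊥
    rw [← RingHom.ker_eq_comap_bot]
    exact (RingHom.injective_iff_ker_eq_bot _).1 (IsFractionRing.injective S.R S.K)
  have key : ∀ l : S.commSq.LiftStruct, Set.range l.l ⊆ Set.range (Sigma.ι Y j) := by
    intro l
    rintro _ ⟨w, rfl⟩
    have hηw : η ⤳ w := by
      refine (PrimeSpectrum.le_iff_specializes (η : PrimeSpectrum S.R) w).mp ?_
      change (η : PrimeSpectrum S.R).asIdeal ≤ (w : PrimeSpectrum S.R).asIdeal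
      rw [hηbot]
      exact bot_le
    have h1 : l.l η ∈ Set.range (Sigma.ι Y j) := by
      refine ⟨y, ?_⟩
      rw [hy']
      have hl : Spec.map (CommRingCat.ofHom (algebraMap S.R S.K)) ≫ l.l = S.i₁ := l.fac_left
      have h3 : (Spec.map (CommRingCat.ofHom (algebraMap S.R S.K)) ≫ l.l) pt = S.i₁ pt := by
        rw [hl]
      exact h3.symm
    exact (hηw.map l.l.continuous).mem_closed (isClosed_range_sigmaι Y j) h1
  let m₁ : Spec (CommRingCat.of S.R) ⟶ Y j := IsOpenImmersion.lift (Sigma.ι Y j) l₁.l (key l₁)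
  let m₂ : Spec (CommRingCat.of S.R) ⟶ Y j := IsOpenImmersion.lift (Sigma.ι Y j) l₂.l (key l₂)
  have hm₁ : m₁ ≫ Sigma.ι Y j = l₁.l := IsOpenImmersion.lift_fac _ _ _
  have hm₂ : m₂ ≫ Sigma.ι Y j = l₂.l := IsOpenImmersion.lift_fac _ _ _
  have hl₁1 : Spec.map (CommRingCat.ofHom (algebraMap S.R S.K)) ≫ l₁.l = S.i₁ := l₁.fac_left
  have hl₂1 : Spec.map (CommRingCat.ofHom (algebraMap S.R S.K)) ≫ l₂.l = S.i₁ := l₂.fac_left
  have hl₁2 : l₁.l ≫ Sigma.desc f = S.i₂ := l₁.fac_right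
  have hl₂2 : l₂.l ≫ Sigma.desc f = S.i₂ := l₂.fac_right
  let L₁ : S'.commSq.LiftStruct := ⟨m₁, by
    change Spec.map (CommRingCat.ofHom (algebraMap S.R S.K)) ≫ m₁ = i₁'
    rw [← cancel_mono (Sigma.ι Y j), Category.assoc, hm₁, hl₁1, hi₁'], by
    change m₁ ≫ f j = S.i₂
    rw [← Sigma.ι_desc f j, ← Category.assoc, hm₁, hl₁2]⟩
  let L₂ : S'.commSq.LiftStruct := ⟨m₂, by
    change Spec.map (CommRingCat.ofHom (algebraMap S.R S.K)) ≫ m₂ = i₁'
    rw [← cancel_mono (Sigma.ι Y j), Category.assoc, hm₂, hl₂1, hi₁'], by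
    change m₂ ≫ f j = S.i₂
    rw [← Sigma.ι_desc f j, ← Category.assoc, hm₂, hl₂2]⟩
  have hL : L₁ = L₂ := (hf j S').elim L₁ L₂
  have hm : m₁ = m₂ := congrArg CommSq.LiftStruct.l hL
  apply CommSq.LiftStruct.ext
  rw [← hm₁, ← hm₂, hm]

theorem isProper_sigmaDesc [IsAffine T] [Finite ι] (hf : ∀ j, IsProper (f j)) :
    IsProper (Sigma.desc f) := by
  haveI : ∀ j, QuasiCompact (f j) := fun j => by
    haveI := hf j
    infer_instance
  haveI : QuasiCompact (Sigma.desc f) := quasiCompact_sigmaDesc Y f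
  haveI : LocallyOfFiniteType (Sigma.desc f) :=
    IsZariskiLocalAtSource.sigmaDesc (P := @LocallyOfFiniteType) (fun j => by
      haveI := hf j
      infer_instance)
  haveI : ∀ j, QuasiSeparatedSpace (Y j) := fun j => by
    haveI := hf j
    exact quasiSeparatedSpace_of_quasiSeparated (f j)
  haveI : QuasiSeparatedSpace ↥(∐ Y) := quasiSeparatedSpace_sigma Y
  haveI : QuasiSeparated (Sigma.desc f) := inferInstance
  apply IsProper.of_valuativeCriterion
  rw [ValuativeCriterion.iff]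
  refine ⟨existence_sigmaDesc Y f (fun j => ?_), uniqueness_sigmaDesc Y f (fun j => ?_)⟩
  · haveI := hf j
    have h : (ValuativeCriterion.Existence ⊓ @QuasiCompact) (f j) := by
      rw [← UniversallyClosed.eq_valuativeCriterion]
      infer_instance
    exact h.1
  · haveI := hf j
    exact IsSeparated.valuativeCriterion (f j)

end SigmaProper

/-- A finite jointly surjective family of proper morphisms is a ph covering. -/
theorem isPhCover_of_isProper {T : Scheme.{u}} (E : PreZeroHypercover.{u} T) [Finite E.I₀]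
    (hp : ∀ j, IsProper (E.f j)) (hs : ∀ t : T, ∃ j, t ∈ Set.range (E.f j)) :
    HTop.IsPhCover E := by
  classical
  refine ⟨fun j => by
    haveI := hp j
    infer_instance, ?_⟩
  intro U
  haveI : IsAffine ((U : T.Opens) : Scheme.{u}) := U.2
  let Q : E.I₀ → Scheme.{u} := fun j =>
    ((E.f j ⁻¹ᵁ (U : T.Opens) : (E.X j).Opens) : Scheme.{u})
  let q : ∀ j, Q j ⟶ ((U : T.Opens) : Scheme.{u}) := fun j => E.f j ∣_ (U : T.Opens)
  have hq : ∀ j, IsProper (q j) := fun j => IsZariskiLocalAtTarget.restrict (hp j) _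
  let P : Scheme.{u} := ∐ Q
  let p : P ⟶ ((U : T.Opens) : Scheme.{u}) := Sigma.desc q
  haveI hp1 : IsProper p := isProper_sigmaDesc Q q hq
  have hp2 : Surjective p := by
    refine ⟨fun x => ?_⟩
    obtain ⟨j, y, hy⟩ := hs x.1
    have hyU : y ∈ E.f j ⁻¹ᵁ (U : T.Opens) := by
      change E.f j y ∈ (U : T.Opens)
      rw [hy]
      exact x.2
    refine ⟨Sigma.ι Q j ⟨y, hyU⟩, ?_⟩
    rw [← Scheme.Hom.comp_apply, Sigma.ι_desc]
    apply Subtype.ext
    change ((E.f j ∣_ (U : T.Opens)) ⟨y, hyU⟩).1 = x.1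
    rw [morphismRestrict_base_coe]
    exact hy
  haveI : CompactSpace P := QuasiCompact.compactSpace_of_compactSpace p
  have h2 : ∀ x : P, ∃ (j : E.I₀) (V : (Q j).Opens), IsAffineOpen V ∧
      x ∈ (Sigma.ι Q j) '' (V : Set (Q j)) := by
    intro x
    obtain ⟨j, y, hy⟩ := (sigmaOpenCover Q).exists_eq x
    obtain ⟨V, hV, hyV, -⟩ := exists_isAffineOpen_mem_and_subset (X := Q j) (x := y)
      (U := ⊤) trivial
    exact ⟨j, V, hV, y, hyV, hy⟩
  choose jx V hVaff hxV using h2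
  obtain ⟨t, ht⟩ := isCompact_univ.elim_finite_subcover
    (fun x : P => (Sigma.ι Q (jx x)) '' ((V x : (Q (jx x)).Opens) : Set (Q (jx x))))
    (fun x => (Sigma.ι Q (jx x)).isOpenEmbedding.isOpenMap _ (V x).isOpen)
    (fun x _ => Set.mem_iUnion.2 ⟨x, hxV x⟩)
  let n := t.card
  let e : Fin n ≃ t := t.equivFin.symm
  let pts : Fin n → P := fun k => (e k : P)
  let F : PreZeroHypercover.{0} ((U : T.Opens) : Scheme.{u}) :=
    { I₀ := Fin n
      X := fun k => (V (pts k)).toScheme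
      f := fun k => (V (pts k)).ι ≫ q (jx (pts k)) }
  refine ⟨F, ⟨inferInstance, inferInstanceAs (Finite (Fin n)), fun k => hVaff (pts k), ?_⟩, ?_⟩
  · refine ⟨P, p, fun k => (V (pts k)).ι ≫ Sigma.ι Q (jx (pts k)), hp1, hp2, fun k => ?_,
      fun k => ?_, ?_⟩
    · change IsOpenImmersion ((V (pts k)).ι ≫ Sigma.ι Q (jx (pts k)))
      infer_instance
    · change ((V (pts k)).ι ≫ Sigma.ι Q (jx (pts k))) ≫ Sigma.desc q =
        (V (pts k)).ι ≫ q (jx (pts k))
      rw [Category.assoc, Sigma.ι_desc]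
    · intro x
      have hx := ht (Set.mem_univ x)
      simp only [Set.mem_iUnion] at hx
      obtain ⟨y, hy, v, hv, hvx⟩ := hx
      refine ⟨e.symm ⟨y, hy⟩, ?_⟩
      change x ∈ Set.range ((V (pts (e.symm ⟨y, hy⟩))).ι ≫
        Sigma.ι Q (jx (pts (e.symm ⟨y, hy⟩)))).base
      have hpts : pts (e.symm ⟨y, hy⟩) = y := by simp [pts]
      rw [hpts]
      exact ⟨⟨v, hv⟩, hvx⟩
  · intro k
    refine ⟨jx (pts k), (V (pts k)).ι ≫ (E.f (jx (pts k)) ⁻¹ᵁ (U : T.Opens)).ι, ?_⟩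
    change ((V (pts k)).ι ≫ (E.f (jx (pts k)) ⁻¹ᵁ (U : T.Opens)).ι) ≫ E.f (jx (pts k)) =
      ((V (pts k)).ι ≫ q (jx (pts k))) ≫ (U : T.Opens).ι
    rw [Category.assoc, Category.assoc, morphismRestrict_ι]

end Groth.Agent.Lib.Helper16.PhCoverProper
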