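import Mathlib
import Groth.Prelude.Def_HTop3
import Groth.Agent.Lib.Helper16.HSquare
import Groth.Agent.Lib.Helper16.PhCoverProper
import Groth.Agent.Lib.Helper16.BlowUpProper
import Groth.Agent.Lib.Helper46.IdealFG

/-!
# A ph sheaf turns a blow up square into a cartesian square
-/

set_option autoImplicit false
universe w u
open CategoryTheory CategoryTheory.Limits AlgebraicGeometry TopologicalSpace Opposite

namespace Groth.Agent.Lib.Helper16.AlmostBlowUp

open AlgebraicGeometry.Scheme.IdealSheafData Groth.Agent.Lib.Helper82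
open Groth.Agent.Lib.Helper16.HCoverProper Groth.Agent.Lib.Helper16.PhCoverProper

/-- A sheaf for the topology generated by a precoverage of schemes, on schemes over `S`,
satisfies the sheaf condition for every family in `Over S` whose underlying family of schemes is
covering. -/
theorem isSheafFor_ofArrows_over_of_mem (K : Precoverage Scheme.{u}) (S : Scheme.{u})
    {F : (Over S)ᵒᵖ ⥤ Type w} (hF : Presieve.IsSheaf (K.toGrothendieck.over S) F) {T : Over S}
    {ι : Type u} (A : ι → Over S) (f : ∀ k, A k ⟶ T)
    (hE : Presieve.ofArrows (fun k => (A k).left) (fun k => (f k).left) ∈ K T.left) :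
    Presieve.IsSheafFor F (Presieve.ofArrows A f) := by
  rw [Presieve.isSheafFor_iff_generate]
  apply hF
  rw [GrothendieckTopology.mem_over_iff]
  have h3 := Precoverage.generate_mem_toGrothendieck hE
  have h4 : Sieve.overEquiv T (Sieve.generate (Presieve.ofArrows A f)) =
      Sieve.ofArrows (fun k => (A k).left) (fun k => (f k).left) :=
    Sieve.overEquiv_ofArrows A f
  rw [h4]
  exact h3

/-- Separatedness and gluing from the sheaf condition for a two-member family. -/
theorem pair_sheaf_of_isSheafFor (S : Scheme.{u}) {F : (Over S)ᵒᵖ ⥤ Type w}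
    {T A₁ A₂ : Over S} (u₁ : A₁ ⟶ T) (u₂ : A₂ ⟶ T)
    (hS : Presieve.IsSheafFor F (Presieve.ofArrows (pairObj S A₁ A₂) (pairHom S u₁ u₂))) :
    (∀ x y : F.obj (op T), F.map u₁.op x = F.map u₁.op y → F.map u₂.op x = F.map u₂.op y →
      x = y) ∧
    (∀ (a₁ : F.obj (op A₁)) (a₂ : F.obj (op A₂)),
      (∀ (Y : Over S) (g g' : Y ⟶ A₁), g ≫ u₁ = g' ≫ u₁ → F.map g.op a₁ = F.map g'.op a₁) →
      (∀ (Y : Over S) (g : Y ⟶ A₁) (g' : Y ⟶ A₂), g ≫ u₁ = g' ≫ u₂ →
        F.map g.op a₁ = F.map g'.op a₂) →
      (∀ (Y : Over S) (g g' : Y ⟶ A₂), g ≫ u₂ = g' ≫ u₂ → F.map g.op a₂ = F.map g'.op a₂) →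
      ∃ s : F.obj (op T), F.map u₁.op s = a₁ ∧ F.map u₂.op s = a₂) := by
  constructor
  · intro x y h1 h2
    refine hS.isSeparatedFor.ext ?_
    rintro _ _ ⟨j⟩
    obtain ⟨k⟩ := j
    cases k
    · exact h2
    · exact h1
  · intro a₁ a₂ c11 c12 c22
    rw [Presieve.isSheafFor_arrows_iff] at hS
    let x : ∀ k : ULift.{u} Bool, F.obj (op (pairObj S A₁ A₂ k)) := fun k =>
      match k with
      | ⟨true⟩ => a₁
      | ⟨false⟩ => a₂
    have hx : Presieve.Arrows.Compatible F (pairHom S u₁ u₂) x := by
      rintro ⟨k⟩ ⟨l⟩ Z gk gl hkl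
      cases k <;> cases l
      · exact c22 Z gk gl hkl
      · exact (c12 Z gl gk hkl.symm).symm
      · exact c12 Z gk gl hkl
      · exact c11 Z gk gl hkl
    obtain ⟨s, hs, -⟩ := hS x hx
    exact ⟨s, hs ⟨true⟩, hs ⟨false⟩⟩

/-- A ph sheaf satisfies the sheaf condition for a jointly surjective pair of proper
morphisms. -/
theorem isSheafFor_pair_ph (S : Scheme.{u}) {F : (Over S)ᵒᵖ ⥤ Type w}
    (hF : Presieve.IsSheaf (HTop.Jph S) F) {T A₁ A₂ : Over S} (u₁ : A₁ ⟶ T) (u₂ : A₂ ⟶ T)
    (hp₁ : IsProper u₁.left) (hp₂ : IsProper u₂.left)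
    (hs : ∀ t : T.left, t ∈ Set.range u₁.left ∨ t ∈ Set.range u₂.left) :
    Presieve.IsSheafFor F (Presieve.ofArrows (pairObj S A₁ A₂) (pairHom S u₁ u₂)) := by
  apply isSheafFor_ofArrows_over_of_mem HTop.phPrecoverage S hF
  have hcov : HTop.IsPhCover (pairCover S u₁ u₂) := by
    haveI : Finite (pairCover S u₁ u₂).I₀ := inferInstanceAs (Finite (ULift.{u} Bool))
    apply isPhCover_of_isProper
    · intro j
      change ULift.{u} Bool at j
      obtain ⟨_ | _⟩ := j
      · exact hp₂
      · exact hp₁
    · intro t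
      rcases hs t with h | h
      · exact ⟨(⟨true⟩ : ULift.{u} Bool), h⟩
      · exact ⟨(⟨false⟩ : ULift.{u} Bool), h⟩
  exact (HTop.presieve₀_mem_phPrecoverage_iff _).2 hcov

/-- A presheaf satisfying the sheaf condition for two-member jointly surjective families of proper
morphisms (with an auxiliary property `Q`) turns a fibre square with proper right side, closed
immersion as bottom side, whose right and bottom sides are jointly surjective and whose right side
is a monomorphism off the bottom side, into a cartesian square of sets. -/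
theorem existsUnique_of_square_of_pairSheaf (S : Scheme.{u}) (F : (Over S)ᵒᵖ ⥤ Type w)
    (Q : ∀ ⦃A B : Scheme.{u}⦄, (A ⟶ B) → Prop)
    (hpair : ∀ {T A₁ A₂ : Over S} (u₁ : A₁ ⟶ T) (u₂ : A₂ ⟶ T), IsProper u₁.left → Q u₁.left →
      IsProper u₂.left → Q u₂.left →
      (∀ t : T.left, t ∈ Set.range u₁.left ∨ t ∈ Set.range u₂.left) →
      Presieve.IsSheafFor F (Presieve.ofArrows (pairObj S A₁ A₂) (pairHom S u₁ u₂)))
    {E Z X' X : Over S} (e : E ⟶ X') (π : E ⟶ Z)
    (b : X' ⟶ X) (i : Z ⟶ X)
    (hci : IsClosedImmersion i.left) (hfi : Q i.left)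
    (hpb : IsProper b.left) (hfb : Q b.left)
    (hΔQ : Q (pullback.diagonal b.left))
    (hεQ : Q (pullback.fst (pullback.fst b.left b.left ≫ b.left) i.left))
    (hsq : IsPullback e.left π.left b.left i.left)
    (hs1 : ∀ x : X.left, x ∈ Set.range i.left ∨ x ∈ Set.range b.left)
    (hs2 : ∀ x : ↑(pullback b.left b.left),
      (pullback.fst b.left b.left ≫ b.left) x ∈ Set.range i.left ∨
        x ∈ Set.range (pullback.diagonal b.left)) (t : F.obj (op Z))
    (s' : F.obj (op X')) (hts : F.map π.op t = F.map e.op s') :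
    ∃! s : F.obj (op X), F.map i.op s = t ∧ F.map b.op s = s' := by
  haveI := hci
  haveI := hpb
  -- the family `{i, b}` is an h covering
  obtain ⟨hsep, hglue⟩ := pair_sheaf_of_isSheafFor S i b
    (hpair i b inferInstance hfi hpb hfb hs1)
  -- compatibility on `Z ×_X Z`
  have hZZ : ∀ (Y : Over S) (g g' : Y ⟶ Z), g ≫ i = g' ≫ i → F.map g.op t = F.map g'.op t := by
    intro Y g g' hg
    haveI : Mono i := (Over.forget S).mono_of_mono_map (inferInstanceAs (Mono i.left))
    rw [(cancel_mono i).1 hg]
  -- compatibility on `Z ×_X X'`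
  have hZX : ∀ (Y : Over S) (g : Y ⟶ Z) (g' : Y ⟶ X'), g ≫ i = g' ≫ b →
      F.map g.op t = F.map g'.op s' := by
    intro Y g g' hg
    have hgl : g'.left ≫ b.left = g.left ≫ i.left := by
      have := congrArg CommaMorphism.left hg
      exact this.symm
    obtain ⟨k, hke, hkπ⟩ : ∃ k : Y ⟶ E, k ≫ e = g' ∧ k ≫ π = g := by
      refine ⟨Over.homMk (hsq.lift g'.left g.left hgl) ?_, ?_, ?_⟩
      · rw [← Over.w e, ← Category.assoc, hsq.lift_fst, Over.w g']
      · apply Over.OverMorphism.ext
        change hsq.lift g'.left g.left hgl ≫ e.left = g'.left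
        exact hsq.lift_fst _ _ _
      · apply Over.OverMorphism.ext
        change hsq.lift g'.left g.left hgl ≫ π.left = g.left
        exact hsq.lift_snd _ _ _
    rw [← hkπ, ← hke, map_op_comp_apply, map_op_comp_apply, hts]
  -- compatibility on `X' ×_X X'`
  have hXX : ∀ (Y : Over S) (g g' : Y ⟶ X'), g ≫ b = g' ≫ b →
      F.map g.op s' = F.map g'.op s' := by
    intro Y g g' hg
    have hgl : g.left ≫ b.left = g'.left ≫ b.left := congrArg CommaMorphism.left hg
    let P : Over S := Over.mk (pullback.fst b.left b.left ≫ X'.hom)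
    let p₁ : P ⟶ X' := Over.homMk (pullback.fst b.left b.left) rfl
    have hp₂ : pullback.snd b.left b.left ≫ X'.hom = pullback.fst b.left b.left ≫ X'.hom := by
      rw [← Over.w b, ← Category.assoc, ← Category.assoc, pullback.condition]
    let p₂ : P ⟶ X' := Over.homMk (pullback.snd b.left b.left) hp₂
    obtain ⟨m, hm₁, hm₂⟩ : ∃ m : Y ⟶ P, m ≫ p₁ = g ∧ m ≫ p₂ = g' := by
      refine ⟨Over.homMk (pullback.lift g.left g'.left hgl) ?_, ?_, ?_⟩
      · change pullback.lift g.left g'.left hgl ≫ pullback.fst b.left b.left ≫ X'.hom = Y.hom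
        rw [← Category.assoc, pullback.lift_fst, Over.w g]
      · apply Over.OverMorphism.ext
        change pullback.lift g.left g'.left hgl ≫ pullback.fst b.left b.left = g.left
        exact pullback.lift_fst _ _ _
      · apply Over.OverMorphism.ext
        change pullback.lift g.left g'.left hgl ≫ pullback.snd b.left b.left = g'.left
        exact pullback.lift_snd _ _ _
    suffices hP : F.map p₁.op s' = F.map p₂.op s' by
      rw [← hm₁, ← hm₂, map_op_comp_apply, map_op_comp_apply, hP]
    -- the covering of `X' ×_X X'` by the diagonal and the part over `Z`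
    let Δ : X' ⟶ P := Over.homMk (pullback.diagonal b.left) (by
      change pullback.diagonal b.left ≫ pullback.fst b.left b.left ≫ X'.hom = X'.hom
      rw [← Category.assoc, pullback.diagonal_fst, Category.id_comp])
    let Q' : Over S :=
      Over.mk (pullback.fst (pullback.fst b.left b.left ≫ b.left) i.left ≫ P.hom)
    let ε : Q' ⟶ P := Over.homMk (pullback.fst (pullback.fst b.left b.left ≫ b.left) i.left) rfl
    have hΔ₁ : Δ ≫ p₁ = 𝟙 X' := by
      apply Over.OverMorphism.ext
      change pullback.diagonal b.left ≫ pullback.fst b.left b.left = 𝟙 X'.left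
      exact pullback.diagonal_fst _
    have hΔ₂ : Δ ≫ p₂ = 𝟙 X' := by
      apply Over.OverMorphism.ext
      change pullback.diagonal b.left ≫ pullback.snd b.left b.left = 𝟙 X'.left
      exact pullback.diagonal_snd _
    have hcov2 : Presieve.IsSheafFor F
        (Presieve.ofArrows (pairObj S X' Q') (pairHom S Δ ε)) := by
      have hΔp : IsProper Δ.left := by
        change IsProper (pullback.diagonal b.left)
        infer_instance
      have hΔf : Q Δ.left := by
        change Q (pullback.diagonal b.left)
        exact hΔQ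
      have hεp : IsProper ε.left := by
        change IsProper (pullback.fst (pullback.fst b.left b.left ≫ b.left) i.left)
        infer_instance
      have hεf : Q ε.left := by
        change Q (pullback.fst (pullback.fst b.left b.left ≫ b.left) i.left)
        exact hεQ
      refine hpair Δ ε hΔp hΔf hεp hεf ?_
      intro x
      change ↑(pullback b.left b.left) at x
      rcases hs2 x with hx | hx
      · right
        change x ∈ Set.range (pullback.fst (pullback.fst b.left b.left ≫ b.left) i.left)
        rw [Scheme.Pullback.range_fst]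
        exact hx
      · left
        exact hx
    obtain ⟨hsep2, -⟩ := pair_sheaf_of_isSheafFor S Δ ε hcov2
    apply hsep2
    · rw [← map_op_comp_apply, ← map_op_comp_apply, hΔ₁, hΔ₂]
    · have hc₁ : (ε.left ≫ p₁.left) ≫ b.left =
          pullback.snd (pullback.fst b.left b.left ≫ b.left) i.left ≫ i.left := by
        change (pullback.fst (pullback.fst b.left b.left ≫ b.left) i.left ≫
          pullback.fst b.left b.left) ≫ b.left = _
        rw [Category.assoc]
        exact pullback.condition
      have hc₂ : (ε.left ≫ p₂.left) ≫ b.left =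
          pullback.snd (pullback.fst b.left b.left ≫ b.left) i.left ≫ i.left := by
        change (pullback.fst (pullback.fst b.left b.left ≫ b.left) i.left ≫
          pullback.snd b.left b.left) ≫ b.left = _
        rw [Category.assoc, ← pullback.condition (f := b.left) (g := b.left)]
        exact pullback.condition
      obtain ⟨q₁, hq₁e, hq₁π⟩ : ∃ q : Q' ⟶ E, q ≫ e = ε ≫ p₁ ∧
          q.left ≫ π.left = pullback.snd (pullback.fst b.left b.left ≫ b.left) i.left := by
        refine ⟨Over.homMk (hsq.lift (ε.left ≫ p₁.left) _ hc₁) ?_, ?_, ?_⟩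
        · rw [← Over.w e, ← Category.assoc, hsq.lift_fst]
          rfl
        · apply Over.OverMorphism.ext
          change hsq.lift (ε.left ≫ p₁.left) _ hc₁ ≫ e.left = ε.left ≫ p₁.left
          exact hsq.lift_fst _ _ _
        · change hsq.lift (ε.left ≫ p₁.left) _ hc₁ ≫ π.left = _
          exact hsq.lift_snd _ _ _
      obtain ⟨q₂, hq₂e, hq₂π⟩ : ∃ q : Q' ⟶ E, q ≫ e = ε ≫ p₂ ∧
          q.left ≫ π.left = pullback.snd (pullback.fst b.left b.left ≫ b.left) i.left := by
        refine ⟨Over.homMk (hsq.lift (ε.left ≫ p₂.left) _ hc₂) ?_, ?_, ?_⟩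
        · rw [← Over.w e, ← Category.assoc, hsq.lift_fst]
          change (pullback.fst (pullback.fst b.left b.left ≫ b.left) i.left ≫
            pullback.snd b.left b.left) ≫ X'.hom = pullback.fst
              (pullback.fst b.left b.left ≫ b.left) i.left ≫ pullback.fst b.left b.left ≫ X'.hom
          rw [Category.assoc, hp₂]
        · apply Over.OverMorphism.ext
          change hsq.lift (ε.left ≫ p₂.left) _ hc₂ ≫ e.left = ε.left ≫ p₂.left
          exact hsq.lift_fst _ _ _
        · change hsq.lift (ε.left ≫ p₂.left) _ hc₂ ≫ π.left = _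
          exact hsq.lift_snd _ _ _
      have hqπ : q₁ ≫ π = q₂ ≫ π := by
        apply Over.OverMorphism.ext
        change q₁.left ≫ π.left = q₂.left ≫ π.left
        rw [hq₁π, hq₂π]
      calc F.map ε.op (F.map p₁.op s') = F.map (ε ≫ p₁).op s' := (map_op_comp_apply F _ _ _).symm
        _ = F.map (q₁ ≫ e).op s' := by rw [hq₁e]
        _ = F.map q₁.op (F.map e.op s') := map_op_comp_apply F _ _ _
        _ = F.map q₁.op (F.map π.op t) := by rw [hts]
        _ = F.map (q₁ ≫ π).op t := (map_op_comp_apply F _ _ _).symm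
        _ = F.map (q₂ ≫ π).op t := by rw [hqπ]
        _ = F.map q₂.op (F.map π.op t) := map_op_comp_apply F _ _ _
        _ = F.map q₂.op (F.map e.op s') := by rw [hts]
        _ = F.map (q₂ ≫ e).op s' := (map_op_comp_apply F _ _ _).symm
        _ = F.map (ε ≫ p₂).op s' := by rw [hq₂e]
        _ = F.map ε.op (F.map p₂.op s') := map_op_comp_apply F _ _ _
  obtain ⟨s, hs1, hs2⟩ := hglue t s' hZZ hZX hXX
  refine ⟨s, ⟨hs1, hs2⟩, ?_⟩
  rintro s₂ ⟨h1, h2⟩
  exact hsep _ _ (h1.trans hs1.symm) (h2.trans hs2.symm)


/-- A ph sheaf turns a blow up square, with centre a closed subscheme of finite presentation, into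
a cartesian square of sets. -/
theorem existsUnique_of_blowUpSquare_ph (S : Scheme.{u}) (F : (Over S)ᵒᵖ ⥤ Type w)
    (hF : Presieve.IsSheaf (HTop.Jph S) F) {E Z X' X : Over S} (e : E ⟶ X') (π : E ⟶ Z)
    (b : X' ⟶ X) (i : Z ⟶ X) [IsClosedImmersion i.left] [LocallyOfFinitePresentation i.left]
    (hb : BlowUp.IsBlowUp b.left i.left.ker) (hE : IsPullback e.left π.left b.left i.left)
    (t : F.obj (op Z)) (s' : F.obj (op X')) (hts : F.map π.op t = F.map e.op s') :
    ∃! s : F.obj (op X), F.map i.op s = t ∧ F.map b.op s = s' := by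
  have hpb : IsProper b.left :=
    Groth.Agent.Lib.Helper16.BlowUpProper.isProper_of_isBlowUp i.left.ker b.left hb (fun x => by
      obtain ⟨U, hU, hxU, -⟩ := exists_isAffineOpen_mem_and_subset (X := X.left) (x := x)
        (U := ⊤) trivial
      exact ⟨⟨U, hU⟩, hxU,
        Groth.Agent.Lib.Helper46.ker_ideal_fg_of_locallyOfFinitePresentation i.left ⟨U, hU⟩⟩)
  have hEffTop : ∀ {T : Scheme.{u}} (g : T ⟶ X.left), (∀ z : T, g z ∉ i.left.ker.support) →
      BlowUp.IsEffCartierIdeal (i.left.ker.comap g) := by
    intro T g hg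
    have hr : Set.range g ⊆ Set.range (Scheme.Opens.ι (X := X.left) i.left.ker.support.compl) := by
      rintro _ ⟨z, rfl⟩
      rw [Scheme.Opens.range_ι]
      exact hg z
    have hfac : IsOpenImmersion.lift (Scheme.Opens.ι (X := X.left) i.left.ker.support.compl) g hr ≫
        Scheme.Opens.ι (X := X.left) i.left.ker.support.compl = g := IsOpenImmersion.lift_fac _ _ _
    rw [← hfac, comap_comp, comap_ι_support_compl, comap_top]
    exact isEffCartierIdeal_top _
  refine existsUnique_of_square_of_pairSheaf S F (fun _ _ _ => True)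
    (fun u₁ u₂ h1 _ h2 _ hs => isSheafFor_pair_ph S hF u₁ u₂ h1 h2 hs)
    e π b i inferInstance trivial hpb trivial trivial trivial hE ?_ ?_ t s' hts
  · intro x
    by_cases hx : x ∈ i.left.ker.support
    · left
      exact (range_eq_support_ker i.left x).1 hx
    · right
      obtain ⟨σ, hσ, -⟩ := hb.2 _ (Scheme.Opens.ι (X := X.left) i.left.ker.support.compl) (by
        rw [comap_ι_support_compl]
        exact isEffCartierIdeal_top _)
      refine ⟨σ ⟨x, hx⟩, ?_⟩
      rw [← Scheme.Hom.comp_apply, hσ]
      rfl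
  · intro x
    by_cases hx : (pullback.fst b.left b.left ≫ b.left) x ∈ i.left.ker.support
    · left
      exact (range_eq_support_ker i.left _).1 hx
    · right
      let PO : (pullback b.left b.left).Opens :=
        (pullback.fst b.left b.left ≫ b.left) ⁻¹ᵁ i.left.ker.support.compl
      have hxPO : x ∈ PO := hx
      have hmem : ∀ z : (PO : Scheme.{u}),
          (pullback.fst b.left b.left ≫ b.left) (PO.ι z) ∉ i.left.ker.support := fun z => z.2
      have hEff : BlowUp.IsEffCartierIdeal
          (i.left.ker.comap ((PO.ι ≫ pullback.fst b.left b.left) ≫ b.left)) := by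
        apply hEffTop
        intro z
        rw [Category.assoc, Scheme.Hom.comp_apply]
        exact hmem z
      obtain ⟨g₀, -, huniq⟩ := hb.2 _ _ hEff
      have e1 : PO.ι ≫ pullback.fst b.left b.left = g₀ := huniq _ rfl
      have e2 : PO.ι ≫ pullback.snd b.left b.left = g₀ := by
        apply huniq
        change (PO.ι ≫ pullback.snd b.left b.left) ≫ b.left =
          (PO.ι ≫ pullback.fst b.left b.left) ≫ b.left
        rw [Category.assoc, Category.assoc, pullback.condition]
      have hf : PO.ι ≫ pullback.fst b.left b.left = PO.ι ≫ pullback.snd b.left b.left := by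
        rw [e1, e2]
      have hι : PO.ι = (PO.ι ≫ pullback.fst b.left b.left) ≫ pullback.diagonal b.left := by
        apply pullback.hom_ext
        · rw [Category.assoc, pullback.diagonal_fst, Category.comp_id]
        · rw [Category.assoc, pullback.diagonal_snd, Category.comp_id, hf]
      refine ⟨(PO.ι ≫ pullback.fst b.left b.left) ⟨x, hxPO⟩, ?_⟩
      rw [← Scheme.Hom.comp_apply, ← hι]
      rfl

end Groth.Agent.Lib.Helper16.AlmostBlowUp
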