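import Mathlib

set_option autoImplicit false

universe v u

namespace Helper16.Pic

open CategoryTheory MonoidalCategory

section Obj

variable (A : Type u)

/-- objects of the free Picard category: formal expressions -/
inductive PObj : Type u
  | of : A → PObj
  | unit : PObj
  | tensor : PObj → PObj → PObj
  | inv : PObj → PObj

end Obj

variable {A : Type u} [Category.{v} A] [MonoidalCategory A] [SymmetricCategory A]

/-- formal morphisms -/
inductive PHom : PObj A → PObj A → Type (max u v)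
  | id (X : PObj A) : PHom X X
  | comp {X Y Z : PObj A} (f : PHom X Y) (g : PHom Y Z) : PHom X Z
  | symm {X Y : PObj A} (f : PHom X Y) : PHom Y X
  | tensor {W X Y Z : PObj A} (f : PHom W Y) (g : PHom X Z) : PHom (W.tensor X) (Y.tensor Z)
  | α (X Y Z : PObj A) : PHom ((X.tensor Y).tensor Z) (X.tensor (Y.tensor Z))
  | l (X : PObj A) : PHom (PObj.unit.tensor X) X
  | r (X : PObj A) : PHom (X.tensor PObj.unit) X
  | β (X Y : PObj A) : PHom (X.tensor Y) (Y.tensor X)
  | η (X : PObj A) : PHom (X.tensor X.inv) PObj.unit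
  | ofMap {a b : A} (f : a ⟶ b) : PHom (PObj.of a) (PObj.of b)
  | μ (a b : A) : PHom ((PObj.of a).tensor (PObj.of b)) (PObj.of (a ⊗ b))
  | ε : PHom PObj.unit (PObj.of (𝟙_ A))

/-- the relations -/
inductive PRel : ∀ {X Y : PObj A}, PHom X Y → PHom X Y → Prop
  | refl {X Y : PObj A} (f : PHom X Y) : PRel f f
  | symm' {X Y : PObj A} (f g : PHom X Y) : PRel f g → PRel g f
  | trans {X Y : PObj A} {f g h : PHom X Y} : PRel f g → PRel g h → PRel f h
  | comp {X Y Z : PObj A} {f f' : PHom X Y} {g g' : PHom Y Z} :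
      PRel f f' → PRel g g' → PRel (f.comp g) (f'.comp g')
  | tensor {W X Y Z : PObj A} {f f' : PHom W X} {g g' : PHom Y Z} :
      PRel f f' → PRel g g' → PRel (f.tensor g) (f'.tensor g')
  | congr_symm {X Y : PObj A} {f f' : PHom X Y} : PRel f f' → PRel f.symm f'.symm
  | comp_id {X Y : PObj A} (f : PHom X Y) : PRel (f.comp (PHom.id _)) f
  | id_comp {X Y : PObj A} (f : PHom X Y) : PRel ((PHom.id _).comp f) f
  | assoc {X Y U V : PObj A} (f : PHom X U) (g : PHom U V) (h : PHom V Y) :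
      PRel ((f.comp g).comp h) (f.comp (g.comp h))
  | comp_symm {X Y : PObj A} (f : PHom X Y) : PRel (f.comp f.symm) (PHom.id _)
  | symm_comp {X Y : PObj A} (f : PHom X Y) : PRel (f.symm.comp f) (PHom.id _)
  | tensor_id {X Y : PObj A} : PRel ((PHom.id X).tensor (PHom.id Y)) (PHom.id _)
  | tensor_comp {X₁ Y₁ Z₁ X₂ Y₂ Z₂ : PObj A} (f₁ : PHom X₁ Y₁) (f₂ : PHom X₂ Y₂)
      (g₁ : PHom Y₁ Z₁) (g₂ : PHom Y₂ Z₂) :
      PRel ((f₁.tensor f₂).comp (g₁.tensor g₂)) ((f₁.comp g₁).tensor (f₂.comp g₂))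
  | α_nat {X₁ X₂ X₃ Y₁ Y₂ Y₃ : PObj A} (f₁ : PHom X₁ Y₁) (f₂ : PHom X₂ Y₂) (f₃ : PHom X₃ Y₃) :
      PRel (((f₁.tensor f₂).tensor f₃).comp (PHom.α Y₁ Y₂ Y₃))
        ((PHom.α X₁ X₂ X₃).comp (f₁.tensor (f₂.tensor f₃)))
  | l_nat {X Y : PObj A} (f : PHom X Y) :
      PRel (((PHom.id PObj.unit).tensor f).comp (PHom.l Y)) ((PHom.l X).comp f)
  | r_nat {X Y : PObj A} (f : PHom X Y) :
      PRel ((f.tensor (PHom.id PObj.unit)).comp (PHom.r Y)) ((PHom.r X).comp f)
  | pentagon {W X Y Z : PObj A} :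
      PRel (((PHom.α W X Y).tensor (PHom.id Z)).comp
          ((PHom.α W (X.tensor Y) Z).comp ((PHom.id W).tensor (PHom.α X Y Z))))
        ((PHom.α (W.tensor X) Y Z).comp (PHom.α W X (Y.tensor Z)))
  | triangle {X Y : PObj A} :
      PRel ((PHom.α X PObj.unit Y).comp ((PHom.id X).tensor (PHom.l Y)))
        ((PHom.r X).tensor (PHom.id Y))
  | β_nat {X Y X' Y' : PObj A} (f : PHom X Y) (g : PHom X' Y') :
      PRel ((f.tensor g).comp (PHom.β Y Y')) ((PHom.β X X').comp (g.tensor f))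
  | hexagon_forward {X Y Z : PObj A} :
      PRel ((PHom.α X Y Z).comp ((PHom.β X (Y.tensor Z)).comp (PHom.α Y Z X)))
        (((PHom.β X Y).tensor (PHom.id Z)).comp
          ((PHom.α Y X Z).comp ((PHom.id Y).tensor (PHom.β X Z))))
  | hexagon_reverse {X Y Z : PObj A} :
      PRel ((PHom.α X Y Z).symm.comp ((PHom.β (X.tensor Y) Z).comp (PHom.α Z X Y).symm))
        (((PHom.id X).tensor (PHom.β Y Z)).comp
          ((PHom.α X Z Y).symm.comp ((PHom.β X Z).tensor (PHom.id Y))))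
  | symmetry {X Y : PObj A} : PRel ((PHom.β X Y).comp (PHom.β Y X)) (PHom.id _)
  | ofMap_id (a : A) : PRel (PHom.ofMap (𝟙 a)) (PHom.id _)
  | ofMap_comp {a b c : A} (f : a ⟶ b) (g : b ⟶ c) :
      PRel (PHom.ofMap (f ≫ g)) ((PHom.ofMap f).comp (PHom.ofMap g))
  | μ_nat {a b a' b' : A} (f : a ⟶ b) (g : a' ⟶ b') :
      PRel (((PHom.ofMap f).tensor (PHom.ofMap g)).comp (PHom.μ b b'))
        ((PHom.μ a a').comp (PHom.ofMap (f ⊗ₘ g)))
  | μ_assoc (a b c : A) :
      PRel (((PHom.μ a b).tensor (PHom.id (PObj.of c))).comp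
          ((PHom.μ (a ⊗ b) c).comp (PHom.ofMap (α_ a b c).hom)))
        ((PHom.α (PObj.of a) (PObj.of b) (PObj.of c)).comp
          (((PHom.id (PObj.of a)).tensor (PHom.μ b c)).comp (PHom.μ a (b ⊗ c))))
  | μ_left_unit (a : A) :
      PRel (PHom.l (PObj.of a))
        (((PHom.ε).tensor (PHom.id (PObj.of a))).comp
          ((PHom.μ (𝟙_ A) a).comp (PHom.ofMap (λ_ a).hom)))
  | μ_right_unit (a : A) :
      PRel (PHom.r (PObj.of a))
        (((PHom.id (PObj.of a)).tensor PHom.ε).comp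
          ((PHom.μ a (𝟙_ A)).comp (PHom.ofMap (ρ_ a).hom)))
  | μ_braided (a b : A) :
      PRel ((PHom.μ a b).comp (PHom.ofMap (β_ a b).hom))
        ((PHom.β (PObj.of a) (PObj.of b)).comp (PHom.μ b a))

instance setoidHom (X Y : PObj A) : Setoid (PHom X Y) :=
  ⟨PRel, ⟨PRel.refl, PRel.symm' _ _, PRel.trans⟩⟩

instance categoryPObj : Category.{max u v} (PObj A) where
  Hom X Y := Quotient (setoidHom X Y)
  id X := ⟦PHom.id X⟧
  comp := Quotient.map₂ PHom.comp (fun _ _ hf _ _ hg => PRel.comp hf hg)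
  id_comp := by
    rintro X Y ⟨f⟩
    exact Quotient.sound (PRel.id_comp f)
  comp_id := by
    rintro X Y ⟨f⟩
    exact Quotient.sound (PRel.comp_id f)
  assoc := by
    rintro W X Y Z ⟨f⟩ ⟨g⟩ ⟨h⟩
    exact Quotient.sound (PRel.assoc f g h)

/-- The abbreviation for `⟦f⟧`. -/
abbrev homMk {X Y : PObj A} (f : PHom X Y) : X ⟶ Y := ⟦f⟧

instance : MonoidalCategoryStruct (PObj A) where
  tensorObj X Y := X.tensor Y
  tensorHom := Quotient.map₂ PHom.tensor (fun _ _ hf _ _ hg => PRel.tensor hf hg)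
  whiskerLeft X _ _ f :=
    Quotient.map₂ PHom.tensor (fun _ _ hf _ _ hg => PRel.tensor hf hg) (homMk (PHom.id X)) f
  whiskerRight f Y :=
    Quotient.map₂ PHom.tensor (fun _ _ hf _ _ hg => PRel.tensor hf hg) f (homMk (PHom.id Y))
  tensorUnit := PObj.unit
  associator X Y Z :=
    ⟨homMk (PHom.α X Y Z), homMk (PHom.α X Y Z).symm, Quotient.sound (PRel.comp_symm _),
      Quotient.sound (PRel.symm_comp _)⟩
  leftUnitor X :=
    ⟨homMk (PHom.l X), homMk (PHom.l X).symm, Quotient.sound (PRel.comp_symm _),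
      Quotient.sound (PRel.symm_comp _)⟩
  rightUnitor X :=
    ⟨homMk (PHom.r X), homMk (PHom.r X).symm, Quotient.sound (PRel.comp_symm _),
      Quotient.sound (PRel.symm_comp _)⟩

instance : MonoidalCategory (PObj A) :=
  MonoidalCategory.ofTensorHom
    (id_tensorHom_id := fun _ _ => Quotient.sound PRel.tensor_id)
    (id_tensorHom := fun _ _ _ _ => rfl)
    (tensorHom_id := fun _ _ => rfl)
    (tensorHom_comp_tensorHom := by
      rintro X₁ Y₁ Z₁ X₂ Y₂ Z₂ ⟨f₁⟩ ⟨f₂⟩ ⟨g₁⟩ ⟨g₂⟩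
      exact Quotient.sound (PRel.tensor_comp _ _ _ _))
    (associator_naturality := by
      rintro X₁ X₂ X₃ Y₁ Y₂ Y₃ ⟨f₁⟩ ⟨f₂⟩ ⟨f₃⟩
      exact Quotient.sound (PRel.α_nat _ _ _))
    (leftUnitor_naturality := by
      rintro X Y ⟨f⟩
      exact Quotient.sound (PRel.l_nat _))
    (rightUnitor_naturality := by
      rintro X Y ⟨f⟩
      exact Quotient.sound (PRel.r_nat _))
    (pentagon := fun _ _ _ _ => Quotient.sound PRel.pentagon)
    (triangle := fun _ _ => Quotient.sound PRel.triangle)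

instance : SymmetricCategory (PObj A) where
  braiding X Y :=
    ⟨homMk (PHom.β X Y), homMk (PHom.β Y X), Quotient.sound PRel.symmetry,
      Quotient.sound PRel.symmetry⟩
  braiding_naturality_right := by
    rintro X Y Z ⟨f⟩
    exact Quotient.sound (PRel.β_nat _ _)
  braiding_naturality_left := by
    rintro X Y ⟨f⟩ Z
    exact Quotient.sound (PRel.β_nat _ _)
  hexagon_forward := fun _ _ _ => Quotient.sound PRel.hexagon_forward
  hexagon_reverse := fun _ _ _ => Quotient.sound PRel.hexagon_reverse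
  symmetry := fun _ _ => Quotient.sound PRel.symmetry

instance : IsGroupoid (PObj A) where
  all_isIso := by
    rintro X Y ⟨f⟩
    exact ⟨⟨homMk f.symm, Quotient.sound (PRel.comp_symm f), Quotient.sound (PRel.symm_comp f)⟩⟩

variable (A) in
/-- the inclusion functor -/
def incl : A ⥤ PObj A where
  obj := PObj.of
  map f := homMk (PHom.ofMap f)
  map_id a := Quotient.sound (PRel.ofMap_id a)
  map_comp f g := Quotient.sound (PRel.ofMap_comp f g)

instance inclLaxMonoidal : (incl A).LaxMonoidal :=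
  Functor.LaxMonoidal.ofTensorHom (F := incl A)
    (ε := homMk PHom.ε)
    (μ := fun a b => homMk (PHom.μ a b))
    (μ_natural := fun f g => Quotient.sound (PRel.μ_nat f g))
    (associativity := fun a b c => Quotient.sound (PRel.μ_assoc a b c))
    (left_unitality := fun a => Quotient.sound (PRel.μ_left_unit a))
    (right_unitality := fun a => Quotient.sound (PRel.μ_right_unit a))

instance inclLaxBraided : (incl A).LaxBraided where
  braided := fun a b => Quotient.sound (PRel.μ_braided a b)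

end Helper16.Pic
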