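import Groth.Agent.Lib.Helper16.Pic1

set_option autoImplicit false

universe v u v₁ u₁

namespace Helper16.Pic

open CategoryTheory MonoidalCategory

section General

variable {C : Type u₁} [Category.{v₁} C] [MonoidalCategory C]

theorem tensorLeft_isEquivalence_of_inverse (X X' : C) (e : X ⊗ X' ≅ 𝟙_ C) (e' : X' ⊗ X ≅ 𝟙_ C) :
    (tensorLeft X).IsEquivalence := by
  let unitIso : 𝟭 C ≅ tensorLeft X ⋙ tensorLeft X' :=
    (leftUnitorNatIso C).symm ≪≫ (tensoringLeft C).mapIso e'.symm ≪≫ tensorLeftTensor X' X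
  let counitIso : tensorLeft X' ⋙ tensorLeft X ≅ 𝟭 C :=
    (tensorLeftTensor X X').symm ≪≫ (tensoringLeft C).mapIso e ≪≫ leftUnitorNatIso C
  exact (CategoryTheory.Equivalence.mk (tensorLeft X) (tensorLeft X') unitIso counitIso).isEquivalence_functor

theorem tensorRight_isEquivalence_of_inverse (X X' : C) (e : X ⊗ X' ≅ 𝟙_ C) (e' : X' ⊗ X ≅ 𝟙_ C) :
    (tensorRight X).IsEquivalence := by
  let unitIso : 𝟭 C ≅ tensorRight X ⋙ tensorRight X' :=
    (rightUnitorNatIso C).symm ≪≫ (tensoringRight C).mapIso e.symm ≪≫ tensorRightTensor X X'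
  let counitIso : tensorRight X' ⋙ tensorRight X ≅ 𝟭 C :=
    (tensorRightTensor X' X).symm ≪≫ (tensoringRight C).mapIso e' ≪≫ rightUnitorNatIso C
  exact (CategoryTheory.Equivalence.mk (tensorRight X) (tensorRight X') unitIso counitIso).isEquivalence_functor

end General

variable {A : Type u} [Category.{v} A] [MonoidalCategory A] [SymmetricCategory A]

/-- the formal inverse isomorphism -/
def etaIso (X : PObj A) : X ⊗ PObj.inv X ≅ 𝟙_ (PObj A) :=
  ⟨homMk (PHom.η X), homMk (PHom.η X).symm, Quotient.sound (PRel.comp_symm _),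
    Quotient.sound (PRel.symm_comp _)⟩

theorem picard (X : PObj A) : (tensorLeft X).IsEquivalence ∧ (tensorRight X).IsEquivalence :=
  ⟨tensorLeft_isEquivalence_of_inverse X (PObj.inv X) (etaIso X) ((β_ _ _) ≪≫ etaIso X),
    tensorRight_isEquivalence_of_inverse X (PObj.inv X) (etaIso X) ((β_ _ _) ≪≫ etaIso X)⟩

theorem mk_comp {X Y Z : PObj A} (f : PHom X Y) (g : PHom Y Z) :
    homMk (f.comp g) = homMk f ≫ homMk g := rfl

theorem mk_tensor {W X Y Z : PObj A} (f : PHom W Y) (g : PHom X Z) :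
    homMk (f.tensor g) = homMk f ⊗ₘ homMk g := rfl

theorem mk_id (X : PObj A) : homMk (PHom.id X) = 𝟙 X := rfl

theorem mk_symm {X Y : PObj A} (f : PHom X Y) : homMk f.symm = CategoryTheory.inv (homMk f) := by
  symm
  apply IsIso.inv_eq_of_hom_inv_id
  exact Quotient.sound (PRel.comp_symm f)

theorem mk_α (X Y Z : PObj A) : homMk (PHom.α X Y Z) = (α_ X Y Z).hom := rfl
theorem mk_l (X : PObj A) : homMk (PHom.l X) = (λ_ X).hom := rfl
theorem mk_r (X : PObj A) : homMk (PHom.r X) = (ρ_ X).hom := rfl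
theorem mk_β (X Y : PObj A) : homMk (PHom.β X Y) = (β_ X Y).hom := rfl
theorem mk_η (X : PObj A) : homMk (PHom.η X) = (etaIso X).hom := rfl
theorem mk_ofMap {a b : A} (f : a ⟶ b) : homMk (PHom.ofMap f) = (incl A).map f := rfl
theorem mk_μ (a b : A) : homMk (PHom.μ a b) = Functor.LaxMonoidal.μ (incl A) a b := rfl
theorem mk_ε : homMk (PHom.ε : PHom PObj.unit (PObj.of (𝟙_ A))) = Functor.LaxMonoidal.ε (incl A) :=
  rfl

theorem tensor_eq (X Y : PObj A) : X.tensor Y = X ⊗ Y := rfl
theorem unit_eq : (PObj.unit : PObj A) = 𝟙_ (PObj A) := rfl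
theorem of_eq (a : A) : PObj.of a = (incl A).obj a := rfl

/-- induction principle for morphisms of the free Picard category -/
theorem hom_induction {motive : {X Y : PObj A} → (X ⟶ Y) → Prop} {X Y : PObj A} (t : X ⟶ Y)
    (id : ∀ X : PObj A, motive (𝟙 X))
    (comp : ∀ {X Y Z : PObj A} (f : X ⟶ Y) (g : Y ⟶ Z), motive f → motive g → motive (f ≫ g))
    (inv : ∀ {X Y : PObj A} (f : X ⟶ Y), motive f → motive (CategoryTheory.inv f))
    (tensor : ∀ {W X Y Z : PObj A} (f : W ⟶ Y) (g : X ⟶ Z), motive f → motive g →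
      motive (f ⊗ₘ g))
    (α : ∀ X Y Z : PObj A, motive (α_ X Y Z).hom)
    (l : ∀ X : PObj A, motive (λ_ X).hom)
    (r : ∀ X : PObj A, motive (ρ_ X).hom)
    (β : ∀ X Y : PObj A, motive (β_ X Y).hom)
    (η : ∀ X : PObj A, motive (etaIso X).hom)
    (ofMap : ∀ {a b : A} (f : a ⟶ b), motive ((incl A).map f))
    (μ : ∀ a b : A, motive (Functor.LaxMonoidal.μ (incl A) a b))
    (ε : motive (Functor.LaxMonoidal.ε (incl A))) :
    motive t := by
  induction t using Quotient.inductionOn with | _ f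
  induction f with
  | id X => exact id X
  | comp f g hf hg => exact comp _ _ hf hg
  | symm f hf =>
    change motive (homMk f.symm)
    rw [mk_symm]
    exact inv _ hf
  | tensor f g hf hg => exact tensor _ _ hf hg
  | α X Y Z => exact α X Y Z
  | l X => exact l X
  | r X => exact r X
  | β X Y => exact β X Y
  | η X => exact η X
  | ofMap f => exact ofMap f
  | μ a b => exact μ a b
  | ε => exact ε

/-- induction principle for objects -/
theorem obj_induction {motive : PObj A → Prop} (X : PObj A)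
    (of : ∀ a : A, motive ((incl A).obj a))
    (unit : motive (𝟙_ (PObj A)))
    (tensor : ∀ X Y : PObj A, motive X → motive Y → motive (X ⊗ Y))
    (inv : ∀ X : PObj A, motive X → motive (PObj.inv X)) : motive X := by
  induction X with
  | of a => exact of a
  | unit => exact unit
  | tensor X Y hX hY => exact tensor X Y hX hY
  | inv X hX => exact inv X hX

end Helper16.Pic
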