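import Groth.Agent.Lib.Helper16.Pic2

set_option autoImplicit false

universe v u v' u'

namespace Helper16.Pic

open CategoryTheory MonoidalCategory

/-- a choice of inverse objects in a monoidal category -/
structure PicData (P : Type u') [Category.{v'} P] [MonoidalCategory P] where
  /-- inverse object -/
  inv : P → P
  /-- the contraction -/
  η : ∀ Y : P, Y ⊗ inv Y ≅ 𝟙_ P

variable {A : Type u} [Category.{v} A] [MonoidalCategory A] [SymmetricCategory A]
variable {P : Type u'} [Category.{v'} P] [MonoidalCategory P] [SymmetricCategory P] [IsGroupoid P]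
variable (D : PicData P) (Φ : A ⥤ P) [Φ.LaxBraided]

/-- object map of the extension -/
def psiObj : PObj A → P
  | .of a => Φ.obj a
  | .unit => 𝟙_ P
  | .tensor X Y => psiObj X ⊗ psiObj Y
  | .inv X => D.inv (psiObj X)

/-- morphism map of the extension on formal morphisms -/
noncomputable def psiMapAux : ∀ {X Y : PObj A}, PHom X Y → (psiObj D Φ X ⟶ psiObj D Φ Y)
  | _, _, .id _ => 𝟙 _
  | _, _, .comp f g => psiMapAux f ≫ psiMapAux g
  | _, _, .symm f => CategoryTheory.inv (psiMapAux f)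
  | _, _, .tensor f g => psiMapAux f ⊗ₘ psiMapAux g
  | _, _, .α _ _ _ => (α_ _ _ _).hom
  | _, _, .l _ => (λ_ _).hom
  | _, _, .r _ => (ρ_ _).hom
  | _, _, .β _ _ => (β_ _ _).hom
  | _, _, .η X => (D.η (psiObj D Φ X)).hom
  | _, _, .ofMap f => Φ.map f
  | _, _, .μ a b => Functor.LaxMonoidal.μ Φ a b
  | _, _, .ε => Functor.LaxMonoidal.ε Φ

theorem psiMapAux_rel {X Y : PObj A} (f g : PHom X Y) (h : PRel f g) :
    psiMapAux D Φ f = psiMapAux D Φ g := by
  induction h with
  | refl => rfl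
  | symm' _ _ _ h => exact h.symm
  | trans _ _ h1 h2 => exact h1.trans h2
  | comp _ _ hf hg => dsimp only [psiMapAux, psiObj]; rw [hf, hg]
  | tensor _ _ hf hg => dsimp only [psiMapAux, psiObj]; rw [hf, hg]
  | congr_symm _ hf => dsimp only [psiMapAux, psiObj]; simp only [hf]
  | comp_id => dsimp only [psiMapAux, psiObj]; rw [Category.comp_id]
  | id_comp => dsimp only [psiMapAux, psiObj]; rw [Category.id_comp]
  | assoc => dsimp only [psiMapAux, psiObj]; rw [Category.assoc]
  | comp_symm => dsimp only [psiMapAux, psiObj]; rw [IsIso.hom_inv_id]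
  | symm_comp => dsimp only [psiMapAux, psiObj]; rw [IsIso.inv_hom_id]
  | tensor_id => dsimp only [psiMapAux, psiObj]; rw [MonoidalCategory.id_tensorHom_id]
  | tensor_comp => dsimp only [psiMapAux, psiObj]; rw [MonoidalCategory.tensorHom_comp_tensorHom]
  | α_nat => dsimp only [psiMapAux, psiObj]; rw [MonoidalCategory.associator_naturality]
  | l_nat =>
    dsimp only [psiMapAux, psiObj]
    rw [MonoidalCategory.id_tensorHom, MonoidalCategory.leftUnitor_naturality]
  | r_nat =>
    dsimp only [psiMapAux, psiObj]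
    rw [MonoidalCategory.tensorHom_id, MonoidalCategory.rightUnitor_naturality]
  | pentagon =>
    dsimp only [psiMapAux, psiObj]
    rw [MonoidalCategory.tensorHom_id, MonoidalCategory.id_tensorHom, MonoidalCategory.pentagon]
  | triangle =>
    dsimp only [psiMapAux, psiObj]
    rw [MonoidalCategory.tensorHom_id, MonoidalCategory.id_tensorHom, MonoidalCategory.triangle]
  | β_nat => dsimp only [psiMapAux, psiObj]; rw [BraidedCategory.braiding_naturality]
  | hexagon_forward =>
    dsimp only [psiMapAux, psiObj]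
    rw [MonoidalCategory.tensorHom_id, MonoidalCategory.id_tensorHom,
      BraidedCategory.hexagon_forward]
  | hexagon_reverse =>
    dsimp only [psiMapAux, psiObj]
    rw [MonoidalCategory.tensorHom_id, MonoidalCategory.id_tensorHom, IsIso.Iso.inv_hom,
      IsIso.Iso.inv_hom, IsIso.Iso.inv_hom, BraidedCategory.hexagon_reverse]
  | symmetry => dsimp only [psiMapAux, psiObj]; rw [SymmetricCategory.symmetry]
  | ofMap_id => dsimp only [psiMapAux, psiObj]; rw [Φ.map_id]
  | ofMap_comp => dsimp only [psiMapAux, psiObj]; rw [Φ.map_comp]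
  | μ_nat => dsimp only [psiMapAux, psiObj]; rw [Functor.LaxMonoidal.μ_natural]
  | μ_assoc =>
    dsimp only [psiMapAux, psiObj]
    rw [MonoidalCategory.tensorHom_id, MonoidalCategory.id_tensorHom,
      Functor.LaxMonoidal.associativity]
  | μ_left_unit =>
    dsimp only [psiMapAux, psiObj]
    rw [MonoidalCategory.tensorHom_id, Functor.LaxMonoidal.left_unitality]
  | μ_right_unit =>
    dsimp only [psiMapAux, psiObj]
    rw [MonoidalCategory.id_tensorHom, Functor.LaxMonoidal.right_unitality]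
  | μ_braided => dsimp only [psiMapAux, psiObj]; rw [Functor.LaxBraided.braided]

/-- the extension functor -/
noncomputable def psi : PObj A ⥤ P where
  obj := psiObj D Φ
  map := Quotient.lift (psiMapAux D Φ) (psiMapAux_rel D Φ)
  map_id _ := rfl
  map_comp := by rintro _ _ _ ⟨_⟩ ⟨_⟩; rfl

theorem psi_map_mk {X Y : PObj A} (f : PHom X Y) : (psi D Φ).map (homMk f) = psiMapAux D Φ f := rfl

section helpers

omit [SymmetricCategory P] [IsGroupoid P] in
theorem aux_assoc (x y z : P) :
    (𝟙 (x ⊗ y) ⊗ₘ 𝟙 z) ≫ 𝟙 _ ≫ (α_ x y z).hom = (α_ x y z).hom ≫ (𝟙 x ⊗ₘ 𝟙 (y ⊗ z)) ≫ 𝟙 _ := by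
  simp

omit [SymmetricCategory P] [IsGroupoid P] in
theorem aux_left (x : P) : (λ_ x).hom = (𝟙 (𝟙_ P) ⊗ₘ 𝟙 x) ≫ 𝟙 _ ≫ (λ_ x).hom := by simp

omit [SymmetricCategory P] [IsGroupoid P] in
theorem aux_right (x : P) : (ρ_ x).hom = (𝟙 x ⊗ₘ 𝟙 (𝟙_ P)) ≫ 𝟙 _ ≫ (ρ_ x).hom := by simp

omit [IsGroupoid P] in
theorem aux_braid (x y : P) : 𝟙 _ ≫ (β_ x y).hom = (β_ x y).hom ≫ 𝟙 _ := by simp

omit [MonoidalCategory P] [SymmetricCategory P] [IsGroupoid P] in
theorem aux_id {x y : P} (g : x ⟶ y) : (𝟙 x ≫ g) ≫ 𝟙 y = g := by simp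

omit [SymmetricCategory P] [IsGroupoid P] in
theorem aux_id2 {x y z : P} (g : x ⊗ y ⟶ z) : (𝟙 _ ≫ g) ≫ 𝟙 _ = (𝟙 x ⊗ₘ 𝟙 y) ≫ g := by simp

end helpers

noncomputable instance psiLaxMonoidal : (psi D Φ).LaxMonoidal :=
  Functor.LaxMonoidal.ofTensorHom (F := psi D Φ)
    (ε := 𝟙 _)
    (μ := fun _ _ => 𝟙 _)
    (μ_natural := by
      rintro X Y X' Y' ⟨f⟩ ⟨g⟩
      exact (Category.comp_id (psiMapAux D Φ f ⊗ₘ psiMapAux D Φ g)).trans (Category.id_comp _).symm)
    (associativity := fun X Y Z => aux_assoc (psiObj D Φ X) (psiObj D Φ Y) (psiObj D Φ Z))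
    (left_unitality := fun X => aux_left (psiObj D Φ X))
    (right_unitality := fun X => aux_right (psiObj D Φ X))

theorem psi_ε : Functor.LaxMonoidal.ε (psi D Φ) = 𝟙 _ := rfl
theorem psi_μ (X Y : PObj A) : Functor.LaxMonoidal.μ (psi D Φ) X Y = 𝟙 _ := rfl

noncomputable instance psiLaxBraided : (psi D Φ).LaxBraided where
  braided := fun X Y => aux_braid (psiObj D Φ X) (psiObj D Φ Y)

/-- the comparison isomorphism -/
noncomputable def psiIso : incl A ⋙ psi D Φ ≅ Φ :=
  NatIso.ofComponents (fun a => Iso.refl _) (by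
    intro a b f
    exact (Category.comp_id (Φ.map f)).trans (Category.id_comp _).symm)

theorem psiIso_hom_app (a : A) : (psiIso D Φ).hom.app a = 𝟙 _ := rfl

instance psiIso_isMonoidal : NatTrans.IsMonoidal (psiIso D Φ).hom where
  unit := aux_id (Functor.LaxMonoidal.ε Φ)
  tensor := fun a b => aux_id2 (Functor.LaxMonoidal.μ Φ a b)

end Helper16.Pic
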