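import Groth.Agent.Lib.Helper16.Pic3

set_option autoImplicit false

universe v₁ u₁ v₂ u₂

namespace Helper16.Pic

open CategoryTheory MonoidalCategory Functor.LaxMonoidal

section Generic

variable {C : Type u₁} [Category.{v₁} C] [MonoidalCategory C]
variable {D : Type u₂} [Category.{v₂} D] [MonoidalCategory D] [IsGroupoid D]
variable (F G : C ⥤ D) [F.LaxMonoidal] [G.LaxMonoidal]
variable (t : ∀ X : C, F.obj X ⟶ G.obj X)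

/-- compatibility of a family with the tensorators at a pair of objects -/
def TC (X Y : C) : Prop := μ F X Y ≫ t (X ⊗ Y) = (t X ⊗ₘ t Y) ≫ μ G X Y

/-- naturality of a family at a morphism -/
def Nat {X Y : C} (f : X ⟶ Y) : Prop := F.map f ≫ t Y = t X ≫ G.map f

omit [MonoidalCategory C] [MonoidalCategory D] [IsGroupoid D] [F.LaxMonoidal] [G.LaxMonoidal] in
theorem nat_id (X : C) : Nat F G t (𝟙 X) := by
  unfold Nat
  rw [F.map_id, G.map_id, Category.id_comp, Category.comp_id]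

omit [MonoidalCategory C] [MonoidalCategory D] [IsGroupoid D] [F.LaxMonoidal] [G.LaxMonoidal] in
theorem nat_comp {X Y Z : C} (f : X ⟶ Y) (g : Y ⟶ Z) (hf : Nat F G t f) (hg : Nat F G t g) :
    Nat F G t (f ≫ g) := by
  unfold Nat at *
  rw [F.map_comp, G.map_comp, Category.assoc, hg, ← Category.assoc, hf, Category.assoc]

omit [MonoidalCategory C] [MonoidalCategory D] [IsGroupoid D] [F.LaxMonoidal] [G.LaxMonoidal] in
theorem nat_inv {X Y : C} (f : X ⟶ Y) [IsIso f] (hf : Nat F G t f) :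
    Nat F G t (CategoryTheory.inv f) := by
  unfold Nat at *
  rw [F.map_inv, G.map_inv, IsIso.inv_comp_eq, ← Category.assoc, IsIso.eq_comp_inv, hf]

theorem nat_tensor {W X Y Z : C} (f : W ⟶ Y) (g : X ⟶ Z) (hWX : TC F G t W X)
    (hYZ : TC F G t Y Z) (hf : Nat F G t f) (hg : Nat F G t g) : Nat F G t (f ⊗ₘ g) := by
  unfold Nat TC at *
  rw [← cancel_epi (μ F W X)]
  calc μ F W X ≫ F.map (f ⊗ₘ g) ≫ t (Y ⊗ Z)
      = (F.map f ⊗ₘ F.map g) ≫ μ F Y Z ≫ t (Y ⊗ Z) := by rw [μ_natural_assoc]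
    _ = ((F.map f ≫ t Y) ⊗ₘ (F.map g ≫ t Z)) ≫ μ G Y Z := by
      rw [hYZ, ← Category.assoc, tensorHom_comp_tensorHom]
    _ = ((t W ≫ G.map f) ⊗ₘ (t X ≫ G.map g)) ≫ μ G Y Z := by rw [hf, hg]
    _ = (t W ⊗ₘ t X) ≫ (G.map f ⊗ₘ G.map g) ≫ μ G Y Z := by
      rw [← tensorHom_comp_tensorHom, Category.assoc]
    _ = (t W ⊗ₘ t X) ≫ μ G W X ≫ G.map (f ⊗ₘ g) := by rw [μ_natural]
    _ = μ F W X ≫ t (W ⊗ X) ≫ G.map (f ⊗ₘ g) := by rw [← Category.assoc, ← hWX, Category.assoc]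

theorem nat_assoc (X Y Z : C) (hXY : TC F G t X Y) (hXY_Z : TC F G t (X ⊗ Y) Z)
    (hYZ : TC F G t Y Z) (hX_YZ : TC F G t X (Y ⊗ Z)) : Nat F G t (α_ X Y Z).hom := by
  unfold Nat TC at *
  rw [← cancel_epi (μ F X Y ▷ F.obj Z ≫ μ F (X ⊗ Y) Z)]
  have h1 : (μ F X Y ▷ F.obj Z ≫ μ F (X ⊗ Y) Z) ≫ F.map (α_ X Y Z).hom =
      (α_ _ _ _).hom ≫ F.obj X ◁ μ F Y Z ≫ μ F X (Y ⊗ Z) := by
    rw [Category.assoc, associativity]
  have h2 : (μ G X Y ▷ G.obj Z ≫ μ G (X ⊗ Y) Z) ≫ G.map (α_ X Y Z).hom =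
      (α_ _ _ _).hom ≫ G.obj X ◁ μ G Y Z ≫ μ G X (Y ⊗ Z) := by
    rw [Category.assoc, associativity]
  have h3 : (F.obj X ◁ μ F Y Z ≫ μ F X (Y ⊗ Z)) ≫ t (X ⊗ (Y ⊗ Z)) =
      (t X ⊗ₘ (t Y ⊗ₘ t Z)) ≫ (G.obj X ◁ μ G Y Z ≫ μ G X (Y ⊗ Z)) := by
    rw [Category.assoc, hX_YZ, whiskerLeft_comp_tensorHom_assoc, hYZ,
      ← tensorHom_comp_whiskerLeft_assoc]
  have h4 : (μ F X Y ▷ F.obj Z ≫ μ F (X ⊗ Y) Z) ≫ t ((X ⊗ Y) ⊗ Z) =
      ((t X ⊗ₘ t Y) ⊗ₘ t Z) ≫ (μ G X Y ▷ G.obj Z ≫ μ G (X ⊗ Y) Z) := by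
    rw [Category.assoc, hXY_Z, whiskerRight_comp_tensorHom_assoc, hXY,
      ← tensorHom_comp_whiskerRight_assoc]
  calc (μ F X Y ▷ F.obj Z ≫ μ F (X ⊗ Y) Z) ≫ F.map (α_ X Y Z).hom ≫ t (X ⊗ (Y ⊗ Z))
      = ((μ F X Y ▷ F.obj Z ≫ μ F (X ⊗ Y) Z) ≫ F.map (α_ X Y Z).hom) ≫ t (X ⊗ (Y ⊗ Z)) := by
        simp only [Category.assoc]
    _ = (α_ _ _ _).hom ≫ (F.obj X ◁ μ F Y Z ≫ μ F X (Y ⊗ Z)) ≫ t (X ⊗ (Y ⊗ Z)) := by
        rw [h1, Category.assoc]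
    _ = ((t X ⊗ₘ t Y) ⊗ₘ t Z) ≫ (α_ _ _ _).hom ≫ (G.obj X ◁ μ G Y Z ≫ μ G X (Y ⊗ Z)) := by
        rw [h3, ← associator_naturality_assoc]
    _ = ((t X ⊗ₘ t Y) ⊗ₘ t Z) ≫ (μ G X Y ▷ G.obj Z ≫ μ G (X ⊗ Y) Z) ≫ G.map (α_ X Y Z).hom := by
        rw [h2]
    _ = (μ F X Y ▷ F.obj Z ≫ μ F (X ⊗ Y) Z) ≫ t ((X ⊗ Y) ⊗ Z) ≫ G.map (α_ X Y Z).hom := by
        rw [← Category.assoc, ← h4, Category.assoc]

theorem nat_left (X : C) (hu : ε F ≫ t (𝟙_ C) = ε G) (h1X : TC F G t (𝟙_ C) X) :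
    Nat F G t (λ_ X).hom := by
  unfold Nat TC at *
  rw [← cancel_epi (ε F ▷ F.obj X ≫ μ F (𝟙_ C) X)]
  have h1 : (ε F ▷ F.obj X ≫ μ F (𝟙_ C) X) ≫ F.map (λ_ X).hom = (λ_ (F.obj X)).hom := by
    rw [left_unitality F X, Category.assoc]
  have h2 : (ε G ▷ G.obj X ≫ μ G (𝟙_ C) X) ≫ G.map (λ_ X).hom = (λ_ (G.obj X)).hom := by
    rw [left_unitality G X, Category.assoc]
  have h3 : (ε F ▷ F.obj X ≫ μ F (𝟙_ C) X) ≫ t (𝟙_ C ⊗ X) =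
      𝟙_ D ◁ t X ≫ (ε G ▷ G.obj X ≫ μ G (𝟙_ C) X) := by
    rw [Category.assoc, h1X, whiskerRight_comp_tensorHom_assoc, hu, tensorHom_def',
      Category.assoc]
  rw [← Category.assoc, h1, ← Category.assoc, h3, Category.assoc, h2, leftUnitor_naturality]

theorem nat_right (X : C) (hu : ε F ≫ t (𝟙_ C) = ε G) (hX1 : TC F G t X (𝟙_ C)) :
    Nat F G t (ρ_ X).hom := by
  unfold Nat TC at *
  rw [← cancel_epi (F.obj X ◁ ε F ≫ μ F X (𝟙_ C))]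
  have h1 : (F.obj X ◁ ε F ≫ μ F X (𝟙_ C)) ≫ F.map (ρ_ X).hom = (ρ_ (F.obj X)).hom := by
    rw [right_unitality F X, Category.assoc]
  have h2 : (G.obj X ◁ ε G ≫ μ G X (𝟙_ C)) ≫ G.map (ρ_ X).hom = (ρ_ (G.obj X)).hom := by
    rw [right_unitality G X, Category.assoc]
  have h3 : (F.obj X ◁ ε F ≫ μ F X (𝟙_ C)) ≫ t (X ⊗ 𝟙_ C) =
      t X ▷ 𝟙_ D ≫ (G.obj X ◁ ε G ≫ μ G X (𝟙_ C)) := by
    rw [Category.assoc, hX1, whiskerLeft_comp_tensorHom_assoc, hu,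
      MonoidalCategory.tensorHom_def, Category.assoc]
  rw [← Category.assoc, h1, ← Category.assoc, h3, Category.assoc, h2, rightUnitor_naturality]

end Generic

section Braid

variable {C : Type u₁} [Category.{v₁} C] [MonoidalCategory C] [BraidedCategory C]
variable {D : Type u₂} [Category.{v₂} D] [MonoidalCategory D] [BraidedCategory D] [IsGroupoid D]
variable (F G : C ⥤ D) [F.LaxBraided] [G.LaxBraided]
variable (t : ∀ X : C, F.obj X ⟶ G.obj X)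

theorem nat_braid (X Y : C) (hXY : TC F G t X Y) (hYX : TC F G t Y X) :
    Nat F G t (β_ X Y).hom := by
  unfold Nat TC at *
  rw [← cancel_epi (μ F X Y)]
  calc μ F X Y ≫ F.map (β_ X Y).hom ≫ t (Y ⊗ X)
      = (β_ _ _).hom ≫ μ F Y X ≫ t (Y ⊗ X) := by
        rw [← Category.assoc, Functor.LaxBraided.braided, Category.assoc]
    _ = (β_ _ _).hom ≫ (t Y ⊗ₘ t X) ≫ μ G Y X := by rw [hYX]
    _ = (t X ⊗ₘ t Y) ≫ (β_ _ _).hom ≫ μ G Y X := by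
        rw [← Category.assoc, ← BraidedCategory.braiding_naturality, Category.assoc]
    _ = (t X ⊗ₘ t Y) ≫ μ G X Y ≫ G.map (β_ X Y).hom := by rw [Functor.LaxBraided.braided]
    _ = μ F X Y ≫ t (X ⊗ Y) ≫ G.map (β_ X Y).hom := by
        rw [← Category.assoc, ← hXY, Category.assoc]

end Braid

end Helper16.Pic
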