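import Groth.Agent.Lib.Helper16.Pic4

set_option autoImplicit false

universe v u v' u'

namespace Helper16.Pic

open CategoryTheory MonoidalCategory Functor.LaxMonoidal

variable {A : Type u} [Category.{v} A] [MonoidalCategory A] [SymmetricCategory A]
variable {P : Type u'} [Category.{v'} P] [MonoidalCategory P] [SymmetricCategory P] [IsGroupoid P]
variable (hP : ∀ X : P, (tensorLeft X).IsEquivalence ∧ (tensorRight X).IsEquivalence)

section cancel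

include hP

/-- cancelling a tensor factor on the left in a Picard category -/
noncomputable def cancelLeft (Y : P) {Z W : P} (g : Y ⊗ Z ⟶ Y ⊗ W) : Z ⟶ W :=
  haveI := (hP Y).1
  (tensorLeft Y).preimage g

omit [SymmetricCategory P] [IsGroupoid P] in
theorem whiskerLeft_cancelLeft (Y : P) {Z W : P} (g : Y ⊗ Z ⟶ Y ⊗ W) :
    Y ◁ cancelLeft hP Y g = g := by
  haveI := (hP Y).1
  exact (tensorLeft Y).map_preimage g

omit [SymmetricCategory P] [IsGroupoid P] in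
theorem whiskerLeft_inj (Y : P) {Z W : P} (g g' : Z ⟶ W) (h : Y ◁ g = Y ◁ g') : g = g' := by
  haveI := (hP Y).1
  exact (tensorLeft Y).map_injective h

end cancel

variable (Ψ Ψ' : PObj A ⥤ P) [Ψ.LaxBraided] [Ψ'.LaxBraided]
variable (τ : incl A ⋙ Ψ ⟶ incl A ⋙ Ψ')

/-- the components of the extended transformation -/
noncomputable def thetaApp : ∀ X : PObj A, Ψ.obj X ⟶ Ψ'.obj X
  | .of a => τ.app a
  | .unit => inv (ε Ψ) ≫ ε Ψ'
  | .tensor X Y => inv (μ Ψ X Y) ≫ (thetaApp X ⊗ₘ thetaApp Y) ≫ μ Ψ' X Y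
  | .inv X => cancelLeft hP (Ψ'.obj X)
      (inv (thetaApp X) ▷ Ψ.obj (PObj.inv X) ≫ μ Ψ X (PObj.inv X) ≫ Ψ.map (etaIso X).hom ≫
        inv (ε Ψ) ≫ ε Ψ' ≫ inv (Ψ'.map (etaIso X).hom) ≫ inv (μ Ψ' X (PObj.inv X)))

theorem theta_of (a : A) : thetaApp hP Ψ Ψ' τ ((incl A).obj a) = τ.app a := rfl

theorem theta_unit : ε Ψ ≫ thetaApp hP Ψ Ψ' τ (𝟙_ (PObj A)) = ε Ψ' := by
  show ε Ψ ≫ inv (ε Ψ) ≫ ε Ψ' = ε Ψ'
  rw [IsIso.hom_inv_id_assoc]

theorem theta_tensor (X Y : PObj A) : TC Ψ Ψ' (thetaApp hP Ψ Ψ' τ) X Y := by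
  show μ Ψ X Y ≫ inv (μ Ψ X Y) ≫ (thetaApp hP Ψ Ψ' τ X ⊗ₘ thetaApp hP Ψ Ψ' τ Y) ≫ μ Ψ' X Y = _
  rw [IsIso.hom_inv_id_assoc]

theorem theta_inv (X : PObj A) :
    (thetaApp hP Ψ Ψ' τ X ⊗ₘ thetaApp hP Ψ Ψ' τ (PObj.inv X)) ≫ μ Ψ' X (PObj.inv X) ≫
      Ψ'.map (etaIso X).hom =
    μ Ψ X (PObj.inv X) ≫ Ψ.map (etaIso X).hom ≫ thetaApp hP Ψ Ψ' τ (𝟙_ (PObj A)) := by
  have h1 : Ψ'.obj X ◁ thetaApp hP Ψ Ψ' τ (PObj.inv X) =
      (inv (thetaApp hP Ψ Ψ' τ X) ▷ Ψ.obj (PObj.inv X) ≫ μ Ψ X (PObj.inv X) ≫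
        Ψ.map (etaIso X).hom ≫
        inv (ε Ψ) ≫ ε Ψ' ≫ inv (Ψ'.map (etaIso X).hom) ≫ inv (μ Ψ' X (PObj.inv X))) :=
    whiskerLeft_cancelLeft hP _ _
  have h2 : thetaApp hP Ψ Ψ' τ (𝟙_ (PObj A)) = inv (ε Ψ) ≫ ε Ψ' := rfl
  rw [MonoidalCategory.tensorHom_def, h1, h2]
  simp only [Category.assoc, IsIso.inv_hom_id, Category.comp_id, IsIso.inv_hom_id_assoc]
  rw [← comp_whiskerRight_assoc, IsIso.hom_inv_id, id_whiskerRight, Category.id_comp]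

variable [NatTrans.IsMonoidal τ]

theorem theta_nat {X Y : PObj A} (f : X ⟶ Y) : Nat Ψ Ψ' (thetaApp hP Ψ Ψ' τ) f := by
  refine hom_induction (motive := fun {X Y} f => Nat Ψ Ψ' (thetaApp hP Ψ Ψ' τ) f) f
    ?_ ?_ ?_ ?_ ?_ ?_ ?_ ?_ ?_ ?_ ?_ ?_
  · exact fun X => nat_id _ _ _ X
  · exact fun f g hf hg => nat_comp _ _ _ f g hf hg
  · exact fun f hf => nat_inv _ _ _ f hf
  · exact fun f g hf hg => nat_tensor _ _ _ f g (theta_tensor hP Ψ Ψ' τ _ _)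
      (theta_tensor hP Ψ Ψ' τ _ _) hf hg
  · exact fun X Y Z => nat_assoc _ _ _ X Y Z (theta_tensor hP Ψ Ψ' τ _ _)
      (theta_tensor hP Ψ Ψ' τ _ _) (theta_tensor hP Ψ Ψ' τ _ _) (theta_tensor hP Ψ Ψ' τ _ _)
  · exact fun X => nat_left _ _ _ X (theta_unit hP Ψ Ψ' τ) (theta_tensor hP Ψ Ψ' τ _ _)
  · exact fun X => nat_right _ _ _ X (theta_unit hP Ψ Ψ' τ) (theta_tensor hP Ψ Ψ' τ _ _)
  · exact fun X Y => nat_braid _ _ _ X Y (theta_tensor hP Ψ Ψ' τ _ _) (theta_tensor hP Ψ Ψ' τ _ _)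
  · intro X
    unfold Nat
    rw [← cancel_epi (μ Ψ X (PObj.inv X)), ← theta_inv hP Ψ Ψ' τ X,
      ← Category.assoc (μ Ψ X (PObj.inv X)), theta_tensor hP Ψ Ψ' τ X (PObj.inv X), Category.assoc]
  · intro a b f
    exact τ.naturality f
  · intro a b
    unfold Nat
    rw [← cancel_epi (μ Ψ ((incl A).obj a) ((incl A).obj b)),
      ← Category.assoc (μ Ψ ((incl A).obj a) ((incl A).obj b)) (thetaApp hP Ψ Ψ' τ _),
      theta_tensor hP Ψ Ψ' τ ((incl A).obj a) ((incl A).obj b), Category.assoc]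
    have h := NatTrans.IsMonoidal.tensor (τ := τ) a b
    rw [Functor.LaxMonoidal.comp_μ, Functor.LaxMonoidal.comp_μ, Category.assoc] at h
    exact h
  · unfold Nat
    rw [← cancel_epi (ε Ψ), ← Category.assoc (ε Ψ) (thetaApp hP Ψ Ψ' τ _), theta_unit hP Ψ Ψ' τ]
    have h := NatTrans.IsMonoidal.unit (τ := τ)
    rw [Functor.LaxMonoidal.comp_ε, Functor.LaxMonoidal.comp_ε, Category.assoc] at h
    exact h

/-- the extended transformation -/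
noncomputable def theta : Ψ ⟶ Ψ' where
  app := thetaApp hP Ψ Ψ' τ
  naturality _ _ f := theta_nat hP Ψ Ψ' τ f

instance theta_isMonoidal : NatTrans.IsMonoidal (theta hP Ψ Ψ' τ) where
  unit := theta_unit hP Ψ Ψ' τ
  tensor := fun X Y => theta_tensor hP Ψ Ψ' τ X Y

theorem whiskerLeft_theta : Functor.whiskerLeft (incl A) (theta hP Ψ Ψ' τ) = τ := by
  ext a
  rfl

theorem theta_unique (θ' : Ψ ⟶ Ψ') [NatTrans.IsMonoidal θ']
    (h : Functor.whiskerLeft (incl A) θ' = τ) : θ' = theta hP Ψ Ψ' τ := by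
  ext X
  show θ'.app X = thetaApp hP Ψ Ψ' τ X
  refine obj_induction (motive := fun X => θ'.app X = thetaApp hP Ψ Ψ' τ X) X ?_ ?_ ?_ ?_
  · intro a
    rw [theta_of, ← h]
    rfl
  · rw [← cancel_epi (ε Ψ), theta_unit, NatTrans.IsMonoidal.unit]
  · intro X Y hX hY
    rw [← cancel_epi (μ Ψ X Y), theta_tensor hP Ψ Ψ' τ X Y, NatTrans.IsMonoidal.tensor, hX, hY]
  · intro X hX
    apply whiskerLeft_inj hP (Ψ'.obj X)
    rw [← cancel_epi (thetaApp hP Ψ Ψ' τ X ▷ Ψ.obj (PObj.inv X)),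
      ← MonoidalCategory.tensorHom_def, ← MonoidalCategory.tensorHom_def,
      ← cancel_mono (μ Ψ' X (PObj.inv X) ≫ Ψ'.map (etaIso X).hom), theta_inv hP Ψ Ψ' τ X, ← hX]
    have h1 := NatTrans.IsMonoidal.tensor (τ := θ') X (PObj.inv X)
    have h2 := θ'.naturality (etaIso X).hom
    have h3 : θ'.app (𝟙_ (PObj A)) = thetaApp hP Ψ Ψ' τ (𝟙_ (PObj A)) := by
      rw [← cancel_epi (ε Ψ), theta_unit, NatTrans.IsMonoidal.unit]
    rw [← Category.assoc, ← h1, Category.assoc, ← h2, h3]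

end Helper16.Pic

namespace Helper16.Pic

open CategoryTheory MonoidalCategory


/-- inverse data from the Picard property -/
noncomputable def picDataOf {P : Type u'} [Category.{v'} P] [MonoidalCategory P]
    (hP : ∀ X : P, (tensorLeft X).IsEquivalence ∧ (tensorRight X).IsEquivalence) : PicData P where
  inv Y :=
    haveI := (hP Y).1
    (tensorLeft Y).objPreimage (𝟙_ P)
  η Y :=
    haveI := (hP Y).1
    (tensorLeft Y).objObjPreimageIso (𝟙_ P)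

end Helper16.Pic
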