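import Mathlib
import Groth.Prelude.Def_W4c1imperftorsorsPerf

/-!
# Preperfection of an algebra `B = R·1 + R·α` : abstract computation
-/

namespace Groth.Agent.Lib.Helper16.PrePerf

open TensorProduct W4c1imperftorsors

universe u v

variable (p : ℕ) [Fact p.Prime] (R : Type u) [CommRing R] [CharP R p]
  (B : Type v) [CommRing B] [Algebra R B]

/-- an element of `B` viewed in the copy `ASrc`. -/
def inA (j : ℕ) (b : B) : ASrc p R B j := (aEquiv p R B j).symm b

/-- the pure tensor `r ⊗ b` in the `j`-th twist. -/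
noncomputable def t (j : ℕ) (r : R) (b : B) : Twist p R B j := r ⊗ₜ[Src p R j] inA p R B j b

variable {p R B}

lemma inA_add (j : ℕ) (b b' : B) : inA p R B j (b + b') = inA p R B j b + inA p R B j b' :=
  map_add _ _ _

lemma t_add_right (j : ℕ) (r : R) (b b' : B) : t p R B j r (b + b') = t p R B j r b + t p R B j r b' := by
  unfold t
  rw [inA_add, tmul_add]

lemma t_add_left (j : ℕ) (r r' : R) (b : B) : t p R B j (r + r') b = t p R B j r b + t p R B j r' b := by
  unfold t
  rw [add_tmul]

lemma t_zero_right (j : ℕ) (r : R) : t p R B j r 0 = 0 := by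
  unfold t inA
  rw [map_zero, tmul_zero]

lemma t_zero_left (j : ℕ) (b : B) : t p R B j 0 b = 0 := by
  unfold t
  rw [zero_tmul]

lemma t_smul (j : ℕ) (a r : R) (b : B) : t p R B j (a ^ (p ^ j) * r) b = t p R B j r (a • b) := by
  unfold t
  have h1 : ((srcEquiv p R j).symm a) • r = a ^ (p ^ j) * r := by
    rw [Algebra.smul_def, algebraMap_src, RingEquiv.apply_symm_apply]
  have h2 : ((srcEquiv p R j).symm a) • inA p R B j b = inA p R B j (a • b) := by
    rw [Algebra.smul_def, algebraMap_aSrc, RingEquiv.apply_symm_apply]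
    unfold inA
    rw [Algebra.smul_def, map_mul]
  rw [← h1, ← h2, TensorProduct.smul_tmul]

lemma algebraMap_twist (j : ℕ) (r : R) : algebraMap R (Twist p R B j) r = t p R B j r 1 := by
  rw [Algebra.TensorProduct.algebraMap_apply]
  unfold t inA
  rw [map_one]
  rfl

variable [CharP B p]

lemma relFrob_t (j : ℕ) (r : R) (b : B) :
    relFrob p R B j (t p R B (j+1) r b) = t p R B j r (b ^ p) := by
  unfold t
  change relFrobAux p R B j (r ⊗ₜ[Src p R (j+1)] inA p R B (j+1) b) = _
  rw [relFrobAux, Algebra.TensorProduct.lift_tmul]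
  change algebraMap R (Twist p R B j) r * ((1 : R) ⊗ₜ[Src p R j] (aEquiv p R B j).symm
    (frobenius B p (aEquiv p R B (j+1) (inA p R B (j+1) b)))) = _
  rw [Algebra.TensorProduct.algebraMap_apply, Algebra.TensorProduct.tmul_mul_tmul, mul_one, one_mul]
  unfold inA
  rw [RingEquiv.apply_symm_apply, frobenius_def]
  rfl

end Groth.Agent.Lib.Helper16.PrePerf
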