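import Groth.Agent.Lib.Helper16.PrePerf1

namespace Groth.Agent.Lib.Helper16.PrePerf

open TensorProduct W4c1imperftorsors

universe u v

variable {p : ℕ} [Fact p.Prime] {R : Type u} [CommRing R] [CharP R p]
  {B : Type v} [CommRing B] [Algebra R B]

/-- generic additive functional on the `j`-th twist: `r ⊗ b ↦ q r * φ b`. -/
noncomputable def coord (j : ℕ) {T : Type*} [CommRing T] (q : R →+* T) (φ : B →+ T)
    (hφ : ∀ (a : R) (b : B), φ (a • b) = q (a ^ (p ^ j)) * φ b) : Twist p R B j →+ T :=
  TensorProduct.liftAddHom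
    (AddMonoidHom.mk' (fun r : R => (AddMonoidHom.mulLeft (q r)).comp
        (φ.comp (aEquiv p R B j).toAddMonoidHom))
      (by
        intro r r'
        ext b
        simp [add_mul]))
    (by
      intro s r b
      simp only [AddMonoidHom.mk'_apply, AddMonoidHom.coe_comp, Function.comp_apply,
        AddMonoidHom.coe_mulLeft]
      have h1 : s • r = (srcEquiv p R j s) ^ (p ^ j) * r := by
        rw [Algebra.smul_def, algebraMap_src]
      have h2 : (aEquiv p R B j).toAddMonoidHom (s • b) =
          (srcEquiv p R j s) • (aEquiv p R B j b) := by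
        rw [Algebra.smul_def, algebraMap_aSrc]
        change (aEquiv p R B j) (_ * b) = _
        rw [map_mul, RingEquiv.apply_symm_apply, Algebra.smul_def]
      rw [h1, h2, hφ, map_mul]
      have h3 : (aEquiv p R B j).toAddMonoidHom b = aEquiv p R B j b := rfl
      rw [h3]
      ring)

lemma coord_t (j : ℕ) {T : Type*} [CommRing T] (q : R →+* T) (φ : B →+ T)
    (hφ : ∀ (a : R) (b : B), φ (a • b) = q (a ^ (p ^ j)) * φ b) (r : R) (b : B) :
    coord j q φ hφ (t p R B j r b) = q r * φ b := by
  unfold coord t inA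
  rw [TensorProduct.liftAddHom_tmul]
  simp

/-- every element of the `j`-th twist is `r ⊗ 1 + s ⊗ α`. -/
lemma exists_rep (α : B) (hgen : ∀ b : B, ∃ a a' : R, b = a • (1 : B) + a' • α) (j : ℕ)
    (x : Twist p R B j) : ∃ r s : R, x = t p R B j r 1 + t p R B j s α := by
  induction x using TensorProduct.induction_on with
  | zero => exact ⟨0, 0, by rw [t_zero_left, t_zero_left, add_zero]⟩
  | tmul r b =>
    obtain ⟨a, a', hb⟩ := hgen (aEquiv p R B j b)
    refine ⟨a ^ (p ^ j) * r, a' ^ (p ^ j) * r, ?_⟩
    rw [t_smul, t_smul, ← t_add_right, ← hb]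
    unfold t inA
    rw [RingEquiv.symm_apply_apply]
  | add x y hx hy =>
    obtain ⟨r, s, rfl⟩ := hx
    obtain ⟨r', s', rfl⟩ := hy
    refine ⟨r + r', s + s', ?_⟩
    rw [t_add_left, t_add_left]
    abel

end Groth.Agent.Lib.Helper16.PrePerf
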