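import Groth.Agent.Lib.Helper16.PrePerf2

namespace Groth.Agent.Lib.Helper16.PrePerf

open TensorProduct W4c1imperftorsors

universe u v

variable {p : ℕ} [Fact p.Prime] {R : Type u} [CommRing R] [CharP R p]
  {B : Type v} [CommRing B] [Algebra R B]

/-- Frobenius-induced map `R/(u) → R/(u^(p^j))`. -/
noncomputable def psi (u : R) (j : ℕ) :
    R ⧸ Ideal.span {u} →+* R ⧸ Ideal.span {u ^ (p ^ j)} :=
  Ideal.Quotient.lift _ ((Ideal.Quotient.mk (Ideal.span {u ^ (p ^ j)})).comp (iterateFrobenius R p j))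
    (by
      intro a ha
      obtain ⟨c, rfl⟩ := Ideal.mem_span_singleton'.1 ha
      rw [RingHom.comp_apply, iterateFrobenius_def, mul_pow, Ideal.Quotient.eq_zero_iff_mem]
      exact Ideal.mul_mem_left _ _ (Ideal.subset_span rfl))

lemma psi_mk (u : R) (j : ℕ) (a : R) :
    psi (p := p) u j (Ideal.Quotient.mk _ a) = Ideal.Quotient.mk _ (a ^ (p ^ j)) := by
  unfold psi
  rw [Ideal.Quotient.lift_mk, RingHom.comp_apply, iterateFrobenius_def]

/-- constant coordinate. -/
noncomputable def c0 (π0 : B →ₗ[R] R) (j : ℕ) : Twist p R B j →+ R :=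
  coord j (RingHom.id R) (((iterateFrobenius R p j : R →+* R) : R →+ R).comp π0.toAddMonoidHom)
    (by
      intro a b
      simp only [AddMonoidHom.coe_comp, Function.comp_apply, LinearMap.toAddMonoidHom_coe,
        map_smul, smul_eq_mul, RingHom.id_apply]
      change iterateFrobenius R p j (a * π0 b) = a ^ p ^ j * iterateFrobenius R p j (π0 b)
      rw [map_mul, iterateFrobenius_def])

lemma c0_t (π0 : B →ₗ[R] R) (j : ℕ) (r : R) (b : B) :
    c0 π0 j (t p R B j r b) = r * (π0 b) ^ (p ^ j) := by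
  unfold c0
  rw [coord_t]
  simp only [RingHom.id_apply, AddMonoidHom.coe_comp, Function.comp_apply,
    LinearMap.toAddMonoidHom_coe]
  change r * iterateFrobenius R p j (π0 b) = _
  rw [iterateFrobenius_def]

/-- `α`-coordinate. -/
noncomputable def c1 (u : R) (π1 : B →ₗ[R] R ⧸ Ideal.span {u}) (j : ℕ) :
    Twist p R B j →+ R ⧸ Ideal.span {u ^ (p ^ j)} :=
  coord j (Ideal.Quotient.mk (Ideal.span {u ^ (p ^ j)}))
    (((psi (p := p) u j : _ →+* _) : _ →+ _).comp π1.toAddMonoidHom)
    (by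
      intro a b
      simp only [AddMonoidHom.coe_comp, Function.comp_apply, LinearMap.toAddMonoidHom_coe,
        map_smul]
      change psi (p := p) u j (a • π1 b) = _ * psi (p := p) u j (π1 b)
      rw [Algebra.smul_def, Ideal.Quotient.algebraMap_eq, map_mul, psi_mk])

lemma c1_t (u : R) (π1 : B →ₗ[R] R ⧸ Ideal.span {u}) (j : ℕ) (r : R) (b : B) :
    c1 u π1 j (t p R B j r b) = Ideal.Quotient.mk _ r * psi (p := p) u j (π1 b) := by
  unfold c1
  rw [coord_t]
  rfl

end Groth.Agent.Lib.Helper16.PrePerf
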