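import Groth.Agent.Lib.Helper16.PrePerf3

namespace Groth.Agent.Lib.Helper16.PrePerf

open TensorProduct W4c1imperftorsors

universe u v

theorem main_abstract (p : ℕ) [Fact p.Prime] (R : Type u) [CommRing R] [CharP R p]
    (B : Type v) [CommRing B] [Algebra R B] [CharP B p]
    (u v : R) (α : B)
    (hgen : ∀ b : B, ∃ a a' : R, b = a • (1 : B) + a' • α)
    (π0 : B →ₗ[R] R) (h01 : π0 1 = 1) (h0α : π0 α = 0)
    (π1 : B →ₗ[R] R ⧸ Ideal.span {u}) (h11 : π1 1 = 0) (h1α : π1 α = 1)
    (huα : u • α = 0) (hαp : α ^ p = (v ^ (p - 1)) • α)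
    (hsep : ∀ N : ℕ, 1 ≤ N → ∀ g : R,
      (∀ n : ℕ, g ∈ Ideal.span {v ^ n} ⊔ Ideal.span {u ^ N}) → g ∈ Ideal.span {u ^ N}) :
    Function.Bijective (algebraMap R ↥(prePerf p R B)) := by
  have hp0 : ∀ j : ℕ, p ^ j ≠ 0 := fun j => pow_ne_zero _ (Fact.out : p.Prime).ne_zero
  have hp1 : 1 ≤ p - 1 := by
    have := (Fact.out : p.Prime).two_le
    omega
  -- values of the coordinates
  have v00 : ∀ j r, c0 π0 j (t p R B j r 1) = r := by
    intro j r; rw [c0_t, h01, one_pow, mul_one]
  have v0α : ∀ j s, c0 π0 j (t p R B j s α) = 0 := by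
    intro j s; rw [c0_t, h0α, zero_pow (hp0 j), mul_zero]
  have v10 : ∀ j r, c1 u π1 j (t p R B j r 1) = 0 := by
    intro j r; rw [c1_t, h11, map_zero, mul_zero]
  have v1α : ∀ j s, c1 u π1 j (t p R B j s α) = Ideal.Quotient.mk _ s := by
    intro j s; rw [c1_t, h1α, map_one, mul_one]
  have halg : ∀ (r : R) (j : ℕ), ((algebraMap R ↥(prePerf p R B) r : ↥(prePerf p R B)) :
      (j : ℕ) → Twist p R B j) j = t p R B j r 1 := by
    intro r j
    rw [Subalgebra.coe_algebraMap, Pi.algebraMap_apply, algebraMap_twist]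
  constructor
  · intro r r' h
    have h0 := congrArg (fun x : ↥(prePerf p R B) => (x : (j : ℕ) → Twist p R B j) 0) h
    simp only [halg] at h0
    have := congrArg (c0 π0 0) h0
    rwa [v00, v00] at this
  · intro x
    have hx : ∀ j, relFrob p R B j ((x : (j : ℕ) → Twist p R B j) (j+1)) =
        (x : (j : ℕ) → Twist p R B j) j := by
      intro j
      have hmem := x.2
      unfold prePerf at hmem
      rw [Algebra.mem_iInf] at hmem
      have := hmem j
      rw [AlgHom.mem_equalizer] at this
      exact this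
    choose r s hrs using fun j => exists_rep α hgen j ((x : (j : ℕ) → Twist p R B j) j)
    have compat : ∀ j, t p R B j (r j) 1 + t p R B j (s j) α =
        t p R B j (r (j+1)) 1 + t p R B j ((v ^ (p - 1)) ^ (p ^ j) * s (j+1)) α := by
      intro j
      have := hx j
      rw [hrs (j+1), hrs j, map_add, relFrob_t, relFrob_t, one_pow, hαp, ← t_smul] at this
      exact this.symm
    have hr : ∀ j, r (j+1) = r j := by
      intro j
      have := congrArg (c0 π0 j) (compat j)
      rw [map_add, map_add, v00, v00, v0α, v0α, add_zero, add_zero] at this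
      exact this.symm
    have hs : ∀ j, s j - (v ^ (p - 1)) ^ (p ^ j) * s (j+1) ∈ Ideal.span {u ^ (p ^ j)} := by
      intro j
      have := congrArg (c1 u π1 j) (compat j)
      rw [map_add, map_add, v10, v10, v1α, v1α, zero_add, zero_add] at this
      exact Ideal.Quotient.eq.1 this
    have key : ∀ m j, s j ∈ Ideal.span {v ^ m} ⊔ Ideal.span {u ^ (p ^ j)} := by
      intro m
      induction m with
      | zero =>
        intro j
        rw [pow_zero, Ideal.span_singleton_one, top_sup_eq]
        trivial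
      | succ m ih =>
        intro j
        have e : s j = (s j - (v ^ (p - 1)) ^ (p ^ j) * s (j+1)) +
            (v ^ (p - 1)) ^ (p ^ j) * s (j+1) := by ring
        rw [e]
        refine Ideal.add_mem _ (Ideal.mem_sup_right (hs j)) ?_
        obtain ⟨y, hy, z, hz, hyz⟩ := Submodule.mem_sup.1 (ih (j+1))
        rw [← hyz, mul_add]
        refine Ideal.add_mem _ (Ideal.mem_sup_left ?_) (Ideal.mem_sup_right ?_)
        · obtain ⟨c, rfl⟩ := Ideal.mem_span_singleton'.1 hy
          rw [Ideal.mem_span_singleton, ← pow_mul]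
          have h1 : 1 ≤ (p - 1) * p ^ j := Nat.one_le_iff_ne_zero.2
            (Nat.mul_ne_zero (by omega) (hp0 j))
          have : (v ^ ((p - 1) * p ^ j)) * (c * v ^ m) = v ^ ((p - 1) * p ^ j + m) * c := by
            rw [pow_add]; ring
          rw [this]
          exact Dvd.dvd.mul_right (pow_dvd_pow v (by omega)) c
        · obtain ⟨c, rfl⟩ := Ideal.mem_span_singleton'.1 hz
          rw [Ideal.mem_span_singleton]
          have : u ^ (p ^ j) ∣ u ^ (p ^ (j+1)) :=
            pow_dvd_pow u (Nat.pow_le_pow_right (Fact.out : p.Prime).pos (Nat.le_succ j))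
          exact Dvd.dvd.mul_left (Dvd.dvd.mul_left this c) _
    have hs0 : ∀ j, t p R B j (s j) α = 0 := by
      intro j
      have := hsep (p ^ j) (Nat.one_le_iff_ne_zero.2 (hp0 j)) (s j) (fun n => key n j)
      obtain ⟨c, hc⟩ := Ideal.mem_span_singleton'.1 this
      rw [← hc, mul_comm, t_smul, huα, t_zero_right]
    have hr0 : ∀ j, r j = r 0 := by
      intro j
      induction j with
      | zero => rfl
      | succ j ih => rw [hr, ih]
    refine ⟨r 0, ?_⟩
    apply Subtype.ext
    funext j
    rw [halg, hrs j, hs0, add_zero, hr0 j]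

end Groth.Agent.Lib.Helper16.PrePerf
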