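import Groth.Agent.Lib.Helper16.PrePerf4

namespace Groth.Agent.Lib.Helper16.PrePerf

open Polynomial

universe u

section concrete

variable (R : Type u) [CommRing R] (u v : R)

/-- the ideal `(uX, X² - v²)`. -/
noncomputable abbrev II : Ideal R[X] := Ideal.span {(C u * X : R[X]), X ^ 2 - C (v ^ 2)}

/-- the class of `X`. -/
noncomputable def alpha : R[X] ⧸ II R u v := Ideal.Quotient.mk _ X

variable {R u v}

lemma smul_mk (a : R) (f : R[X]) :
    a • (Ideal.Quotient.mk (II R u v) f) = Ideal.Quotient.mk (II R u v) (a • f) :=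
  (map_smul (Ideal.Quotient.mkₐ R (II R u v)) a f).symm

lemma u_smul_alpha : u • alpha R u v = 0 := by
  unfold alpha
  rw [smul_mk, Ideal.Quotient.eq_zero_iff_mem, smul_eq_C_mul]
  exact Ideal.subset_span (by simp)

lemma alpha_sq : alpha R u v ^ 2 = (v ^ 2) • (1 : R[X] ⧸ II R u v) := by
  unfold alpha
  rw [← map_one (Ideal.Quotient.mk (II R u v)), smul_mk, ← map_pow, Ideal.Quotient.eq,
    smul_eq_C_mul, mul_one]
  exact Ideal.subset_span (by simp)

lemma alpha_pow_odd (m : ℕ) : alpha R u v ^ (2 * m + 1) = (v ^ (2 * m)) • alpha R u v := by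
  rw [pow_succ, pow_mul, alpha_sq, _root_.smul_pow, one_pow, smul_mul_assoc, one_mul, ← pow_mul]

lemma gen (b : R[X] ⧸ II R u v) :
    ∃ a a' : R, b = a • (1 : R[X] ⧸ II R u v) + a' • alpha R u v := by
  obtain ⟨f, rfl⟩ := Ideal.Quotient.mk_surjective b
  induction f using Polynomial.induction_on with
  | C a =>
    refine ⟨a, 0, ?_⟩
    rw [zero_smul, add_zero, ← map_one (Ideal.Quotient.mk (II R u v)), smul_mk, smul_eq_C_mul,
      mul_one]
  | add f g hf hg =>
    obtain ⟨a, a', h⟩ := hf
    obtain ⟨c, c', h'⟩ := hg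
    refine ⟨a + c, a' + c', ?_⟩
    rw [map_add, h, h', add_smul, add_smul]
    abel
  | monomial n a h =>
    obtain ⟨c, c', hc⟩ := h
    refine ⟨c' * v ^ 2, c, ?_⟩
    have e : Ideal.Quotient.mk (II R u v) (C a * X ^ (n + 1)) =
        Ideal.Quotient.mk (II R u v) (C a * X ^ n) * alpha R u v := by
      unfold alpha
      rw [← map_mul, pow_succ, mul_assoc]
    rw [e, hc, add_mul, smul_mul_assoc, one_mul, smul_mul_assoc, ← pow_two, alpha_sq, smul_smul]
    abel

variable (huv : u * v = 0)

include huv in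
lemma eval_mem_zero (w : R) (hw : w = v ∨ w = -v) :
    ∀ f : R[X], f ∈ II R u v → (Polynomial.aeval w : R[X] →ₐ[R] R) f = 0 := by
  intro f hf
  have hle : II R u v ≤ RingHom.ker ((Polynomial.aeval w : R[X] →ₐ[R] R) : R[X] →+* R) := by
    rw [Ideal.span_le]
    intro g hg
    simp only [Set.mem_insert_iff, Set.mem_singleton_iff] at hg
    rw [SetLike.mem_coe, RingHom.mem_ker]
    rcases hg with rfl | rfl
    · rcases hw with rfl | rfl
      · simp [huv]
      · simp [huv]
    · rcases hw with rfl | rfl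
      · simp
      · simp
  exact hle hf

/-- evaluation at `±v`. -/
noncomputable def ev (w : R) (hw : w = v ∨ w = -v) : (R[X] ⧸ II R u v) →ₐ[R] R :=
  Ideal.Quotient.liftₐ (II R u v) (Polynomial.aeval w) (eval_mem_zero huv w hw)

lemma ev_alpha (w : R) (hw : w = v ∨ w = -v) : ev huv w hw (alpha R u v) = w := by
  unfold ev alpha
  rw [Ideal.Quotient.liftₐ_apply, Ideal.Quotient.lift_mk]
  simp

end concrete

end Groth.Agent.Lib.Helper16.PrePerf
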