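import Groth.Agent.Lib.Helper16.PrePerf5

namespace Groth.Agent.Lib.Helper16.PrePerf

open Polynomial

universe u

section concrete

variable {R : Type u} [CommRing R] {u v : R}

/-- the quotient `R/(u)`. -/
abbrev Q (R : Type u) [CommRing R] (u : R) := R ⧸ Ideal.span {u}

/-- the polynomial `X² - v̄²` over `R/(u)`. -/
noncomputable def gg (R : Type u) [CommRing R] (u v : R) : (Q R u)[X] :=
  X ^ 2 - C ((Ideal.Quotient.mk (Ideal.span {u}) v) ^ 2)

lemma gg_monic : (gg R u v).Monic := monic_X_pow_sub_C _ two_ne_zero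

/-- reduction `B → (R/u)[X]/(X² - v̄²)`. -/
noncomputable def rho (R : Type u) [CommRing R] (u v : R) :
    (R[X] ⧸ II R u v) →+* AdjoinRoot (gg R u v) :=
  Ideal.Quotient.lift (II R u v)
    ((AdjoinRoot.mk (gg R u v)).comp (mapRingHom (Ideal.Quotient.mk (Ideal.span {u}))))
    (by
      intro f hf
      have hle : II R u v ≤ RingHom.ker
          ((AdjoinRoot.mk (gg R u v)).comp (mapRingHom (Ideal.Quotient.mk (Ideal.span {u})))) := by
        rw [Ideal.span_le]
        intro g hg
        simp only [Set.mem_insert_iff, Set.mem_singleton_iff] at hg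
        rw [SetLike.mem_coe, RingHom.mem_ker]
        rcases hg with rfl | rfl
        · have : (Ideal.Quotient.mk (Ideal.span {u})) u = 0 :=
            Ideal.Quotient.eq_zero_iff_mem.2 (Ideal.subset_span rfl)
          simp [this]
        · have : (mapRingHom (Ideal.Quotient.mk (Ideal.span {u}))) (X ^ 2 - C (v ^ 2)) = gg R u v := by
            simp [gg]
          rw [RingHom.comp_apply, this, AdjoinRoot.mk_self]
      exact hle hf)

lemma rho_mk (f : R[X]) : rho R u v (Ideal.Quotient.mk _ f) =
    AdjoinRoot.mk (gg R u v) (f.map (Ideal.Quotient.mk (Ideal.span {u}))) := by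
  unfold rho
  rw [Ideal.Quotient.lift_mk]
  rfl

lemma rho_smul (a : R) (b : R[X] ⧸ II R u v) :
    rho R u v (a • b) = (Ideal.Quotient.mk (Ideal.span {u}) a) • rho R u v b := by
  obtain ⟨f, rfl⟩ := Ideal.Quotient.mk_surjective b
  rw [smul_mk, rho_mk, rho_mk, smul_eq_C_mul, Polynomial.map_mul, Polynomial.map_C, map_mul,
    Algebra.smul_def]
  rfl

/-- the `α`-coordinate on `B`. -/
noncomputable def pi1 (R : Type u) [CommRing R] (u v : R) :
    (R[X] ⧸ II R u v) →ₗ[R] Q R u where
  toFun b := (AdjoinRoot.modByMonicHom gg_monic (rho R u v b)).coeff 1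
  map_add' b b' := by
    simp only [map_add, coeff_add]
  map_smul' a b := by
    simp only [rho_smul, map_smul, coeff_smul, RingHom.id_apply]
    rw [Algebra.smul_def (R := R), Ideal.Quotient.algebraMap_eq]
    rfl

lemma pi1_mk (f : R[X]) : pi1 R u v (Ideal.Quotient.mk _ f) =
    ((f.map (Ideal.Quotient.mk (Ideal.span {u}))) %ₘ gg R u v).coeff 1 := by
  change (AdjoinRoot.modByMonicHom gg_monic (rho R u v _)).coeff 1 = _
  rw [rho_mk, AdjoinRoot.modByMonicHom_mk]

lemma pi1_one : pi1 R u v 1 = 0 := by
  rcases subsingleton_or_nontrivial (Q R u) with h | h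
  · exact Subsingleton.elim _ _
  · rw [← map_one (Ideal.Quotient.mk (II R u v)), pi1_mk, Polynomial.map_one,
      (modByMonic_eq_self_iff gg_monic).2]
    · simp [coeff_one]
    · unfold gg
      rw [degree_X_pow_sub_C (by norm_num), degree_one]
      norm_num

lemma pi1_alpha : pi1 R u v (alpha R u v) = 1 := by
  rcases subsingleton_or_nontrivial (Q R u) with h | h
  · exact Subsingleton.elim _ _
  · unfold alpha
    rw [pi1_mk, Polynomial.map_X, (modByMonic_eq_self_iff gg_monic).2]
    · simp
    · unfold gg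
      rw [degree_X_pow_sub_C (by norm_num), degree_X]
      norm_num

end concrete

end Groth.Agent.Lib.Helper16.PrePerf
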