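import Groth.Agent.Lib.Helper16.PrePerf6

namespace Groth.Agent.Lib.Helper16.PrePerf

open Polynomial W4c1imperftorsors

universe u

theorem main (p : ℕ) [Fact p.Prime] (hp : p ≠ 2) (R : Type u) [CommRing R] [CharP R p]
    (u v : R) (huv : u * v = 0)
    (hsep : ∀ N : ℕ, 1 ≤ N → ∀ g : R,
      (∀ n : ℕ, g ∈ Ideal.span {v ^ n} ⊔ Ideal.span {u ^ N}) → g ∈ Ideal.span {u ^ N})
    [CharP (R[X] ⧸ II R u v) p] :
    Function.Bijective (algebraMap R ↥(prePerf p R (R[X] ⧸ II R u v))) := by
  have hodd : Odd p := (Fact.out : p.Prime).eq_two_or_odd'.resolve_left hp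
  obtain ⟨m, hm⟩ := hodd
  set half : R := ((m + 1 : ℕ) : R) with hhalf
  have h2 : half * 2 = 1 := by
    have : ((p : ℕ) : R) = 0 := CharP.cast_eq_zero R p
    rw [hm] at this
    push_cast at this
    rw [hhalf]
    push_cast
    linear_combination this
  set evp := ev huv v (Or.inl rfl) with hevp
  set evm := ev huv (-v) (Or.inr rfl) with hevm
  set π0 : (R[X] ⧸ II R u v) →ₗ[R] R := half • (evp.toLinearMap + evm.toLinearMap) with hπ0
  apply main_abstract p R (R[X] ⧸ II R u v) u v (alpha R u v) gen π0 ?_ ?_ (pi1 R u v)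
    pi1_one pi1_alpha u_smul_alpha ?_ hsep
  · rw [hπ0]
    simp only [LinearMap.smul_apply, LinearMap.add_apply, AlgHom.toLinearMap_apply, map_one,
      smul_eq_mul]
    linear_combination h2
  · rw [hπ0]
    simp only [LinearMap.smul_apply, LinearMap.add_apply, AlgHom.toLinearMap_apply, smul_eq_mul]
    rw [hevp, hevm, ev_alpha, ev_alpha]
    ring
  · have : p - 1 = 2 * m := by omega
    rw [this, hm, alpha_pow_odd]

end Groth.Agent.Lib.Helper16.PrePerf
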