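import Mathlib
import Groth.Agent.Lib.Helper60.Pic2
import Groth.Agent.Lib.Helper93.ProjOverIso
import Groth.Agent.Lib.Helper7.ProjSpaceProper

/-!
# Projective space over a scheme is smooth over the base

The standard charts `D₊(X i)` of `Proj R[X_0..X_n]` are spectra of polynomial rings
(`Helper60.PicPn.chartEquiv`), so `P^n_R ⟶ Spec R` is smooth; base change gives smoothness of
`CohB1.ProjSpaceOver.toBase n S`.
-/

set_option autoImplicit false
universe u
open CategoryTheory CategoryTheory.Limits AlgebraicGeometry HomogeneousLocalization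

namespace Groth.Agent.Lib.Helper16.ProjSpaceSmooth

open Groth.Agent.Lib.Helper60.PicPn Groth.Agent.Lib.Helper60.ProjUPLib

variable (n : ℕ) (R : Type u) [CommRing R]

/-- the structure map `R → A_(X i)` of the chart ring -/
noncomputable def ρ (i : Fin (n + 1)) :
    R →+* Away (CohB1.polyGrading n R) (MvPolynomial.X i : MvPolynomial (Fin (n + 1)) R) :=
  (fromZeroRingHom (CohB1.polyGrading n R) (Submonoid.powers (MvPolynomial.X i))).comp
    (algebraMap R (CohB1.polyGrading n R 0))

theorem chartFwd_ρ (i : Fin (n + 1)) (c : R) :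
    chartFwd n R i (ρ n R i c) = MvPolynomial.C c := by
  have h0 : ρ n R i c = Away.mk (CohB1.polyGrading n R) (hX n R i) 0
      (MvPolynomial.C c) (by
        rw [zero_smul]
        exact (algebraMap R (CohB1.polyGrading n R 0) c).2) := by
    apply HomogeneousLocalization.val_injective
    rw [Away.val_mk]
    unfold ρ
    rw [RingHom.comp_apply]
    unfold fromZeroRingHom
    simp only [RingHom.coe_mk, MonoidHom.coe_mk, OneHom.coe_mk, val_mk]
    rw [Localization.mk_eq_mk_iff, Localization.r_iff_exists]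
    refine ⟨1, ?_⟩
    simp only [OneMemClass.coe_one, one_mul, pow_zero]
    erw [one_mul]
    rfl
  rw [h0]
  unfold chartFwd
  rw [awayLift_mk (CohB1.polyGrading n R) (evOne n R i) (MvPolynomial.X i) _ (hX n R i)
      (evOne_X_self n R i), evOne_C]

theorem chartEquiv_comp_ρ (i : Fin (n + 1)) :
    ((chartEquiv n R i : Away (CohB1.polyGrading n R) (MvPolynomial.X i) →+*
        MvPolynomial {j : Fin (n + 1) // j ≠ i} R)).comp (ρ n R i) = MvPolynomial.C :=
  RingHom.ext (chartFwd_ρ n R i)

theorem ρ_eq (i : Fin (n + 1)) :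
    ρ n R i = ((chartEquiv n R i).symm : MvPolynomial {j : Fin (n + 1) // j ≠ i} R →+*
        Away (CohB1.polyGrading n R) (MvPolynomial.X i)).comp MvPolynomial.C := by
  refine RingHom.ext fun c => ?_
  change ρ n R i c = (chartEquiv n R i).symm (MvPolynomial.C c)
  rw [RingEquiv.eq_symm_apply]
  exact chartFwd_ρ n R i c

theorem smooth_ρ (i : Fin (n + 1)) : (ρ n R i).Smooth := by
  rw [ρ_eq]
  refine RingHom.Smooth.comp ?_ (RingHom.Smooth.of_bijective (chartEquiv n R i).symm.bijective)
  have hsm : Algebra.Smooth R (MvPolynomial {j : Fin (n + 1) // j ≠ i} R) :=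
    { formallySmooth := inferInstance
      finitePresentation := inferInstance }
  have : (algebraMap R (MvPolynomial {j : Fin (n + 1) // j ≠ i} R)).Smooth :=
    RingHom.smooth_algebraMap.mpr hsm
  exact this

/-- The composite of a standard chart with the structure morphism. -/
theorem awayι_toSpec' (i : Fin (n + 1)) :
    Proj.awayι (CohB1.polyGrading n R) (MvPolynomial.X i) (hX n R i) one_pos ≫
      (Proj.toSpecZero (CohB1.polyGrading n R) ≫
        Spec.map (CommRingCat.ofHom (algebraMap R (CohB1.polyGrading n R 0)))) =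
      Spec.map (CommRingCat.ofHom (ρ n R i)) := by
  rw [Proj.awayι_toSpecZero_assoc, ← Spec.map_comp, ← CommRingCat.ofHom_comp]
  rfl

/-- The standard chart, as a morphism to `ProjSpace n R`. -/
noncomputable def chart (i : Fin (n + 1)) :
    Spec (CommRingCat.of (Away (CohB1.polyGrading n R)
      (MvPolynomial.X i : MvPolynomial (Fin (n + 1)) R))) ⟶ CohB1.ProjSpace n R :=
  Proj.awayι (CohB1.polyGrading n R) (MvPolynomial.X i) (hX n R i) one_pos

instance (i : Fin (n + 1)) : IsOpenImmersion (chart n R i) :=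
  inferInstanceAs (IsOpenImmersion
    (Proj.awayι (CohB1.polyGrading n R) (MvPolynomial.X i) (hX n R i) one_pos))

theorem awayι_toSpec (i : Fin (n + 1)) :
    chart n R i ≫ CohB1.ProjSpace.toSpec n R = Spec.map (CommRingCat.ofHom (ρ n R i)) :=
  awayι_toSpec' n R i

/-- `P^n_R ⟶ Spec R` is smooth. -/
instance smooth_toSpec : Smooth (CohB1.ProjSpace.toSpec n R) := by
  let 𝒰 : (Proj (CohB1.polyGrading n R)).AffineOpenCover :=
    Proj.affineOpenCoverOfIrrelevantLESpan (CohB1.polyGrading n R)
      (fun i : Fin (n + 1) => (MvPolynomial.X i : MvPolynomial (Fin (n + 1)) R))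
      (m := fun _ => 1) (fun i => hX n R i) (fun _ => one_pos) (by
        refine (Groth.Agent.Lib.Helper93.ProjOverIso.irrelevant_le_span_X n R).trans ?_
        rw [Set.image_univ])
  refine IsZariskiLocalAtSource.of_openCover (P := @Smooth) 𝒰.openCover ?_
  intro i
  change Smooth (chart n R i ≫ CohB1.ProjSpace.toSpec n R)
  rw [awayι_toSpec, HasRingHomProperty.Spec_iff (P := @Smooth)]
  exact smooth_ρ n R i

/-- `P^n_S ⟶ S` is smooth. -/
instance smooth_toBase (S : Scheme.{u}) : Smooth (CohB1.ProjSpaceOver.toBase n S) := by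
  unfold CohB1.ProjSpaceOver.toBase
  haveI := smooth_toSpec n (ULift.{u} ℤ)
  exact MorphismProperty.IsStableUnderBaseChange.of_isPullback (P := @Smooth)
    (IsPullback.of_hasPullback _ _) (inferInstance : Smooth (CohB1.ProjSpace.toSpec n (ULift.{u} ℤ)))

end Groth.Agent.Lib.Helper16.ProjSpaceSmooth

namespace Groth.Agent.Lib.Helper16.ProjSpaceSmooth

variable (n : ℕ)

/-- The base change morphism `P^n_{S'} ⟶ P^n_S` along `g : S' ⟶ S`. -/
noncomputable def mapBase {S' S : Scheme.{u}} (g : S' ⟶ S) :
    CohB1.ProjSpaceOver n S' ⟶ CohB1.ProjSpaceOver n S :=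
  pullback.lift (pullback.fst (CohB1.ProjSpace.toSpec n (ULift.{u} ℤ))
      (specULiftZIsTerminal.from S')) (pullback.snd (CohB1.ProjSpace.toSpec n (ULift.{u} ℤ))
      (specULiftZIsTerminal.from S') ≫ g) (by
    refine (pullback.condition (f := CohB1.ProjSpace.toSpec n (ULift.{u} ℤ))
      (g := specULiftZIsTerminal.from S')).trans ?_
    rw [Category.assoc]
    congr 1
    exact specULiftZIsTerminal.hom_ext _ _)

theorem mapBase_fst {S' S : Scheme.{u}} (g : S' ⟶ S) :
    mapBase n g ≫ pullback.fst _ _ = pullback.fst _ _ := pullback.lift_fst _ _ _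

theorem isPullback_mapBase {S' S : Scheme.{u}} (g : S' ⟶ S) :
    IsPullback (mapBase n g) (CohB1.ProjSpaceOver.toBase n S') (CohB1.ProjSpaceOver.toBase n S)
      g := by
  have big : IsPullback (mapBase n g ≫ pullback.fst (CohB1.ProjSpace.toSpec n (ULift.{u} ℤ))
        (specULiftZIsTerminal.from S)) (CohB1.ProjSpaceOver.toBase n S')
      (CohB1.ProjSpace.toSpec n (ULift.{u} ℤ)) (g ≫ specULiftZIsTerminal.from S) := by
    rw [mapBase_fst, show g ≫ specULiftZIsTerminal.from S =
      specULiftZIsTerminal.from S' from specULiftZIsTerminal.hom_ext _ _]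
    exact IsPullback.of_hasPullback _ _
  refine IsPullback.of_right big ?_ (IsPullback.of_hasPullback _ _)
  exact pullback.lift_snd _ _ _

end Groth.Agent.Lib.Helper16.ProjSpaceSmooth
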