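import Mathlib
set_option autoImplicit false
universe u
open CategoryTheory CategoryTheory.Limits AlgebraicGeometry

namespace Groth.Agent.Lib.Helper16.QfM2

/-- common core: if the target is a single point, and `p : P ⟶ X` is surjective and either inducing
or open, with `P` having discrete fibres over a one-point scheme, then `f` is locally
quasi-finite. -/
theorem locallyQuasiFinite_of_discrete_univ {X Y : Scheme.{u}} (f : X ⟶ Y) [LocallyOfFiniteType f]
    (h : _root_.IsDiscrete (Set.univ : Set X)) : LocallyQuasiFinite f := by
  rw [locallyQuasiFinite_iff_isDiscrete_preimage_singleton]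
  intro y
  exact h.mono (Set.subset_univ _)

theorem isDiscrete_univ_of_locallyQuasiFinite {P Z : Scheme.{u}} (q : P ⟶ Z) [LocallyQuasiFinite q]
    [Subsingleton Z] : _root_.IsDiscrete (Set.univ : Set P) := by
  by_cases hP : Nonempty P
  · obtain ⟨w⟩ := hP
    have h := q.isDiscrete_preimage_singleton (q w)
    have e : q ⁻¹' {q w} = Set.univ := by
      ext x
      simp only [Set.mem_preimage, Set.mem_singleton_iff, Set.mem_univ, iff_true]
      exact Subsingleton.elim _ _
    rwa [e] at h
  · have : (Set.univ : Set P) = ∅ := by
      ext x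
      exact (hP ⟨x⟩).elim
    rw [this]
    exact Set.subsingleton_empty.isDiscrete

theorem locallyQuasiFinite_of_residue (A : Type u) [CommRing A] [IsArtinianRing A] [IsLocalRing A]
    {X : Scheme.{u}} (f : X ⟶ Spec (CommRingCat.of A)) [LocallyOfFiniteType f]
    [LocallyQuasiFinite (pullback.snd f (Spec.map (CommRingCat.ofHom
      (algebraMap A (IsLocalRing.ResidueField A)))))] : LocallyQuasiFinite f := by
  let g : Spec (CommRingCat.of (IsLocalRing.ResidueField A)) ⟶ Spec (CommRingCat.of A) :=
    Spec.map (CommRingCat.ofHom (algebraMap A (IsLocalRing.ResidueField A)))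
  haveI hsubA : Subsingleton (Spec (CommRingCat.of A)) := by
    constructor
    intro P Q
    apply PrimeSpectrum.ext
    have hP : P.asIdeal.IsMaximal := IsArtinianRing.isMaximal_of_isPrime P.asIdeal
    have hQ : Q.asIdeal.IsMaximal := IsArtinianRing.isMaximal_of_isPrime Q.asIdeal
    rw [IsLocalRing.eq_maximalIdeal hP, IsLocalRing.eq_maximalIdeal hQ]
  haveI hsubK : Subsingleton (Spec (CommRingCat.of (IsLocalRing.ResidueField A))) :=
    (inferInstance : Subsingleton (PrimeSpectrum (IsLocalRing.ResidueField A)))
  haveI : IsClosedImmersion g :=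
    IsClosedImmersion.spec_of_surjective _ IsLocalRing.residue_surjective
  haveI : Surjective g :=
    ⟨fun y => ⟨IsLocalRing.closedPoint (IsLocalRing.ResidueField A), Subsingleton.elim _ _⟩⟩
  haveI : Surjective (pullback.fst f g) := inferInstance
  haveI : IsClosedImmersion (pullback.fst f g) := inferInstance
  have hP : _root_.IsDiscrete (Set.univ : Set ↥(pullback f g)) :=
    isDiscrete_univ_of_locallyQuasiFinite (pullback.snd f g)
  have hX : _root_.IsDiscrete (Set.univ : Set X) := by
    have := hP.image (pullback.fst f g).isEmbedding.isInducing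
    rwa [Set.image_univ, (pullback.fst f g).surjective.range_eq] at this
  exact locallyQuasiFinite_of_discrete_univ f hX

end Groth.Agent.Lib.Helper16.QfM2
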