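import Mathlib
import Groth.Agent.Lib.Helper16.QfM2
set_option autoImplicit false
universe u
open CategoryTheory CategoryTheory.Limits AlgebraicGeometry

namespace Groth.Agent.Lib.Helper16.QfM1

open Groth.Agent.Lib.Helper16.QfM2

theorem locallyQuasiFinite_of_baseChange (k K : Type u) [Field k] [Field K]
    (j : Spec (CommRingCat.of K) ⟶ Spec (CommRingCat.of k)) {X : Scheme.{u}}
    (f : X ⟶ Spec (CommRingCat.of k)) [LocallyOfFiniteType f]
    [LocallyQuasiFinite (pullback.snd f j)] : LocallyQuasiFinite f := by
  haveI hsubk : Subsingleton (Spec (CommRingCat.of k)) :=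
    (inferInstance : Subsingleton (PrimeSpectrum k))
  haveI hsubK : Subsingleton (Spec (CommRingCat.of K)) :=
    (inferInstance : Subsingleton (PrimeSpectrum K))
  haveI : UniversallyOpen j := inferInstance
  haveI : Surjective j :=
    ⟨fun y => ⟨IsLocalRing.closedPoint K, Subsingleton.elim _ _⟩⟩
  haveI : Surjective (pullback.fst f j) := inferInstance
  haveI : UniversallyOpen (pullback.fst f j) := inferInstance
  have hP : _root_.IsDiscrete (Set.univ : Set ↥(pullback f j)) :=
    isDiscrete_univ_of_locallyQuasiFinite (pullback.snd f j)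
  have hX : _root_.IsDiscrete (Set.univ : Set X) := by
    have := hP.image_of_isOpenMap_of_isOpen (pullback.fst f j).isOpenMap isOpen_univ
    rwa [Set.image_univ, (pullback.fst f j).surjective.range_eq] at this
  exact locallyQuasiFinite_of_discrete_univ f hX

end Groth.Agent.Lib.Helper16.QfM1
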