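import Mathlib
import Groth.Agent.Lib.Helper41.Glue2

/-!
# Gluing two schemes along mutual quasi-dominations

If `X₁` quasi-dominates `X₂` via `(W₁, φ)` and `X₂` quasi-dominates `X₁` via `(W₂, ψ)` (closed
graphs), compatibly with a common schematically dense open `U`, then `φ : W₁ ≅ W₂` and the
gluing of `X₁` and `X₂` along `W₁ ≅ W₂` is separated.
-/

set_option autoImplicit false
set_option linter.style.haveILetI false
set_option linter.unusedSectionVars false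
set_option linter.unusedVariables false

universe u

open CategoryTheory CategoryTheory.Limits AlgebraicGeometry TopologicalSpace

namespace Groth.Agent.Lib.Helper16.QuasiDomGlue

/-- If `f ≫ g` is a preimmersion then so is `f`. -/
theorem isPreimmersion_of_comp {X Y Z : Scheme.{u}} (f : X ⟶ Y) (g : Y ⟶ Z)
    [IsPreimmersion (f ≫ g)] : IsPreimmersion f where
  isEmbedding := by
    have h := (f ≫ g).isEmbedding
    exact Topology.IsEmbedding.of_comp f.continuous g.continuous h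
  stalkMap_surjective x := by
    have h := (f ≫ g).stalkMap_surjective x
    rw [Scheme.Hom.stalkMap_comp] at h
    exact Function.Surjective.of_comp h

/-- Two morphisms into a separated `Z`-scheme which agree on a scheme-theoretically dominant
morphism are equal. -/
theorem ext_of_schemeDominant {W X Y Z : Scheme.{u}} {f g : X ⟶ Y}
    (s : Y ⟶ Z) [IsSeparated s] (h : f ≫ s = g ≫ s)
    (ι : W ⟶ X) [IsSchemeTheoreticallyDominant ι] (hU : ι ≫ f = ι ≫ g) : f = g := by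
  let X' : Over Z := Over.mk (f ≫ s)
  let Y' : Over Z := Over.mk s
  let U' : Over Z := Over.mk (ι ≫ f ≫ s)
  let f' : X' ⟶ Y' := Over.homMk f rfl
  let g' : X' ⟶ Y' := Over.homMk g h.symm
  let ι' : U' ⟶ X' := Over.homMk ι rfl
  haveI : IsSeparated Y'.hom := ‹_›
  have hι : ι' ≫ f' = ι' ≫ g' := by
    ext1
    exact hU
  have hfac : (equalizer.lift ι' hι).left ≫ (equalizer.ι f' g').left = ι := by
    rw [← Over.comp_left, equalizer.lift_ι]
    rfl
  have hker : (equalizer.ι f' g').left.ker = ⊥ := by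
    have h1 : (equalizer.ι f' g').left.ker ≤
        ((equalizer.lift ι' hι).left ≫ (equalizer.ι f' g').left).ker :=
      Scheme.Hom.le_ker_comp _ _
    rw [hfac, ι.ker_eq_bot] at h1
    exact le_bot_iff.mp h1
  haveI : IsIso (equalizer.ι f' g').left := IsClosedImmersion.isIso_iff_ker_eq_bot.mpr hker
  rw [← cancel_epi (equalizer.ι f' g').left]
  exact congr($(equalizer.condition f' g').left)

/-- A morphism is scheme-theoretically dominant as soon as it is injective on sections over a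
covering family of affine opens of the target. -/
theorem isSchemeTheoreticallyDominant_of_app_injective {X Y : Scheme.{u}} (f : X ⟶ Y)
    {ι : Type*} (V : ι → Y.affineOpens) (hV : ⨆ i, (V i).1 = ⊤)
    (H : ∀ i, Function.Injective (f.app (V i).1)) : IsSchemeTheoreticallyDominant f := by
  rw [isSchemeTheoreticallyDominant_iff]
  refine Scheme.IdealSheafData.ext_of_iSup_eq_top V hV fun i => ?_
  simp only [Scheme.IdealSheafData.ideal_bot, Pi.bot_apply]
  rw [eq_bot_iff]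
  exact (f.ideal_ker_le (V i)).trans (le_of_eq ((RingHom.injective_iff_ker_eq_bot _).mp (H i)))

/-- Sections over an open inside the range of an open immersion `i` inject into sections of a
scheme-theoretically dominant `j` followed by `i`. -/
theorem app_comp_injective_of_le_opensRange {U X Y : Scheme.{u}} (j : U ⟶ X) (i : X ⟶ Y)
    [IsOpenImmersion i] [IsSchemeTheoreticallyDominant j] [QuasiCompact j] (V : Y.Opens)
    (hV : V ≤ i.opensRange) : Function.Injective ((j ≫ i).app V) := by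
  haveI := Scheme.Hom.isIso_app i V hV
  intro a b hab
  have hab' : (j.app (i ⁻¹ᵁ V)) ((i.app V) a) = (j.app (i ⁻¹ᵁ V)) ((i.app V) b) := hab
  exact (ConcreteCategory.bijective_of_isIso (i.app V)).1 (j.app_injective _ hab')

/-- With closed graph of `ψ` and dense `U` in `W₁`, the morphism `φ` lands in `W₂`. -/
theorem range_subset_of_closed_graph {S X₁ X₂ U : Scheme.{u}}
    (p₁ : X₁ ⟶ S) (p₂ : X₂ ⟶ S) (j₁ : U ⟶ X₁) (j₂ : U ⟶ X₂)
    (W₁ : X₁.Opens) (φ : (↑W₁ : Scheme.{u}) ⟶ X₂) (hφ : W₁.ι ≫ p₁ = φ ≫ p₂)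
    (k₁ : U ⟶ ↑W₁) (hk₁ : k₁ ≫ W₁.ι = j₁) (hk₁' : k₁ ≫ φ = j₂) (hk₁d : DenseRange k₁)
    (W₂ : X₂.Opens) (ψ : (↑W₂ : Scheme.{u}) ⟶ X₁) (hψ : W₂.ι ≫ p₂ = ψ ≫ p₁)
    (hψc : IsClosed (Set.range (fun w => (pullback.lift W₂.ι ψ hψ) w)))
    (k₂ : U ⟶ ↑W₂) (hk₂ : k₂ ≫ W₂.ι = j₂) (hk₂' : k₂ ≫ ψ = j₁) :
    Set.range φ ⊆ Set.range W₂.ι := by
  rintro _ ⟨w₁, rfl⟩
  have hδ : k₁ ≫ pullback.lift W₁.ι φ hφ ≫ (pullbackSymmetry p₁ p₂).hom =
      k₂ ≫ pullback.lift W₂.ι ψ hψ := by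
    apply pullback.hom_ext
    · simp only [Category.assoc, pullbackSymmetry_hom_comp_fst, pullback.lift_snd,
        pullback.lift_fst]
      rw [hk₁', hk₂]
    · simp only [Category.assoc, pullbackSymmetry_hom_comp_snd, pullback.lift_fst,
        pullback.lift_snd]
      rw [hk₁, hk₂']
  have hcl : IsClosed (Set.range (pullback.lift W₂.ι ψ hψ)) := hψc
  have hmem : (pullback.lift W₁.ι φ hφ ≫ (pullbackSymmetry p₁ p₂).hom) w₁ ∈
      closure (Set.range (pullback.lift W₂.ι ψ hψ)) := by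
    refine map_mem_closure (pullback.lift W₁.ι φ hφ ≫ (pullbackSymmetry p₁ p₂).hom).continuous
      (hk₁d w₁) ?_
    rintro _ ⟨u, rfl⟩
    refine ⟨k₂ u, ?_⟩
    have := congr($(hδ) u)
    simpa only [Scheme.Hom.comp_apply] using this.symm
  rw [hcl.closure_eq] at hmem
  obtain ⟨w₂, hw₂⟩ := hmem
  refine ⟨w₂, ?_⟩
  have e1 : pullback.lift W₂.ι ψ hψ ≫ pullback.fst p₂ p₁ = W₂.ι := pullback.lift_fst _ _ _
  have e2 : (pullback.lift W₁.ι φ hφ ≫ (pullbackSymmetry p₁ p₂).hom) ≫ pullback.fst p₂ p₁ = φ := by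
    rw [Category.assoc, pullbackSymmetry_hom_comp_fst, pullback.lift_snd]
  have h3 : (pullback.fst p₂ p₁) ((pullback.lift W₂.ι ψ hψ) w₂) =
      (pullback.fst p₂ p₁) ((pullback.lift W₁.ι φ hφ ≫ (pullbackSymmetry p₁ p₂).hom) w₁) := by
    rw [hw₂]
  rw [← Scheme.Hom.comp_apply, ← Scheme.Hom.comp_apply, e1, e2] at h3
  exact h3

/-- The gluing theorem. -/
theorem exists_glue {S X₁ X₂ U : Scheme.{u}} [IsNoetherian S]
    (p₁ : X₁ ⟶ S) (p₂ : X₂ ⟶ S) [IsSeparated p₁] [QuasiCompact p₁] [LocallyOfFiniteType p₁]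
    [IsSeparated p₂] [QuasiCompact p₂] [LocallyOfFiniteType p₂]
    (j₁ : U ⟶ X₁) (j₂ : U ⟶ X₂) [IsOpenImmersion j₁] [IsOpenImmersion j₂]
    [IsSchemeTheoreticallyDominant j₁] [IsSchemeTheoreticallyDominant j₂] (hj : j₁ ≫ p₁ = j₂ ≫ p₂)
    (W₁ : X₁.Opens) (φ : (↑W₁ : Scheme.{u}) ⟶ X₂)
    (hφ : W₁.ι ≫ p₁ = φ ≫ p₂)
    (hφc : IsClosed (Set.range (fun w => (Limits.pullback.lift W₁.ι φ hφ) w)))
    (k₁ : U ⟶ ↑W₁) (hk₁ : k₁ ≫ W₁.ι = j₁) (hk₁' : k₁ ≫ φ = j₂)
    (W₂ : X₂.Opens) (ψ : (↑W₂ : Scheme.{u}) ⟶ X₁)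
    (hψ : W₂.ι ≫ p₂ = ψ ≫ p₁)
    (hψc : IsClosed (Set.range (fun w => (Limits.pullback.lift W₂.ι ψ hψ) w)))
    (k₂ : U ⟶ ↑W₂) (hk₂ : k₂ ≫ W₂.ι = j₂) (hk₂' : k₂ ≫ ψ = j₁) :
    ∃ (Y : Scheme.{u}) (q : Y ⟶ S) (i₁ : X₁ ⟶ Y) (i₂ : X₂ ⟶ Y), IsSeparated q ∧ QuasiCompact q ∧
      LocallyOfFiniteType q ∧ IsOpenImmersion i₁ ∧ IsOpenImmersion i₂ ∧ i₁ ≫ q = p₁ ∧ i₂ ≫ q = p₂ ∧
      j₁ ≫ i₁ = j₂ ≫ i₂ ∧ QuasiCompact (j₁ ≫ i₁) ∧ IsSchemeTheoreticallyDominant (j₁ ≫ i₁) := by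
  haveI : IsLocallyNoetherian X₁ := LocallyOfFiniteType.isLocallyNoetherian p₁
  haveI : IsLocallyNoetherian X₂ := LocallyOfFiniteType.isLocallyNoetherian p₂
  -- `k₁`, `k₂` are quasi-compact schematically dominant open immersions
  haveI : IsOpenImmersion (k₁ ≫ W₁.ι) := by rw [hk₁]; infer_instance
  haveI : IsOpenImmersion k₁ := IsOpenImmersion.of_comp k₁ W₁.ι
  haveI : IsOpenImmersion (k₂ ≫ W₂.ι) := by rw [hk₂]; infer_instance
  haveI : IsOpenImmersion k₂ := IsOpenImmersion.of_comp k₂ W₂.ι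
  haveI : QuasiCompact j₁ := inferInstance
  haveI : QuasiCompact j₂ := inferInstance
  haveI : IsSchemeTheoreticallyDominant k₁ :=
    IsSchemeTheoreticallyDominant.of_isPullback (f := j₁) (g := W₁.ι) (pX := 𝟙 U) (pY := k₁)
      (IsPullback.of_horiz_isIso_mono ⟨by rw [Category.id_comp, hk₁]⟩)
  haveI : IsSchemeTheoreticallyDominant k₂ :=
    IsSchemeTheoreticallyDominant.of_isPullback (f := j₂) (g := W₂.ι) (pX := 𝟙 U) (pY := k₂)
      (IsPullback.of_horiz_isIso_mono ⟨by rw [Category.id_comp, hk₂]⟩)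
  haveI : QuasiCompact k₁ := inferInstance
  haveI : QuasiCompact k₂ := inferInstance
  have hk₁d : DenseRange k₁ := k₁.denseRange
  have hk₂d : DenseRange k₂ := k₂.denseRange
  -- `φ` lands in `W₂` and `ψ` lands in `W₁`
  have hφW : Set.range φ ⊆ Set.range W₂.ι :=
    range_subset_of_closed_graph p₁ p₂ j₁ j₂ W₁ φ hφ k₁ hk₁ hk₁' hk₁d W₂ ψ hψ hψc k₂ hk₂ hk₂'
  have hψW : Set.range ψ ⊆ Set.range W₁.ι :=
    range_subset_of_closed_graph p₂ p₁ j₂ j₁ W₂ ψ hψ k₂ hk₂ hk₂' hk₂d W₁ φ hφ hφc k₁ hk₁ hk₁'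
  let φ' : (↑W₁ : Scheme.{u}) ⟶ ↑W₂ := IsOpenImmersion.lift W₂.ι φ hφW
  let ψ' : (↑W₂ : Scheme.{u}) ⟶ ↑W₁ := IsOpenImmersion.lift W₁.ι ψ hψW
  have hφ' : φ' ≫ W₂.ι = φ := IsOpenImmersion.lift_fac _ _ _
  have hψ' : ψ' ≫ W₁.ι = ψ := IsOpenImmersion.lift_fac _ _ _
  have hkφ : k₁ ≫ φ' = k₂ := by rw [← cancel_mono W₂.ι, Category.assoc, hφ', hk₁', hk₂]
  have hkψ : k₂ ≫ ψ' = k₁ := by rw [← cancel_mono W₁.ι, Category.assoc, hψ', hk₂', hk₁]
  have h12 : φ' ≫ ψ' = 𝟙 _ := by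
    rw [← cancel_mono W₁.ι, Category.assoc, hψ', Category.id_comp]
    refine ext_of_schemeDominant p₁ ?_ k₁ ?_
    · rw [Category.assoc, ← hψ, ← Category.assoc, hφ', ← hφ]
    · rw [← Category.assoc, hkφ, hk₂', hk₁]
  have h21 : ψ' ≫ φ' = 𝟙 _ := by
    rw [← cancel_mono W₂.ι, Category.assoc, hφ', Category.id_comp]
    refine ext_of_schemeDominant p₂ ?_ k₂ ?_
    · rw [Category.assoc, ← hφ, ← Category.assoc, hψ', ← hψ]
    · rw [← Category.assoc, hkψ, hk₁', hk₂]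
  haveI : IsIso φ' := ⟨ψ', h12, h21⟩
  haveI : IsOpenImmersion φ := by rw [← hφ']; infer_instance
  -- the glued scheme
  have hq₁ : pushout.inl W₁.ι φ ≫ pushout.desc p₁ p₂ hφ = p₁ := pushout.inl_desc _ _ _
  have hq₂ : pushout.inr W₁.ι φ ≫ pushout.desc p₁ p₂ hφ = p₂ := pushout.inr_desc _ _ _
  have hji : j₁ ≫ pushout.inl W₁.ι φ = j₂ ≫ pushout.inr W₁.ι φ := by
    rw [← hk₁, ← hk₁', Category.assoc, Category.assoc, pushout.condition]
  -- separatedness
  haveI : IsPreimmersion (pullback.lift W₁.ι φ hφ ≫ pullback.fst p₁ p₂) := by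
    rw [pullback.lift_fst]; infer_instance
  haveI : IsPreimmersion (pullback.lift W₁.ι φ hφ) :=
    isPreimmersion_of_comp _ (pullback.fst p₁ p₂)
  have hci : IsClosedImmersion (pullback.lift W₁.ι φ hφ : (↑W₁ : Scheme.{u}) ⟶ pullback p₁ p₂) :=
    IsClosedImmersion.of_isPreimmersion _ hφc
  haveI hsep : IsSeparated (pushout.desc p₁ p₂ hφ) :=
    Groth.Agent.Lib.Helper41.isSeparated_pushout_desc W₁.ι φ p₁ p₂ hφ hci
  -- finite type
  haveI hlft : LocallyOfFiniteType (pushout.desc p₁ p₂ hφ) := by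
    refine IsZariskiLocalAtSource.of_openCover (P := @LocallyOfFiniteType)
      (Groth.Agent.Lib.Helper41.pushoutCover W₁.ι φ) ?_
    rintro (_ | _)
    · change LocallyOfFiniteType (pushout.inl W₁.ι φ ≫ pushout.desc p₁ p₂ hφ)
      rw [hq₁]; infer_instance
    · change LocallyOfFiniteType (pushout.inr W₁.ι φ ≫ pushout.desc p₁ p₂ hφ)
      rw [hq₂]; infer_instance
  -- compactness
  haveI : CompactSpace X₁ := QuasiCompact.compactSpace_of_compactSpace p₁
  haveI : CompactSpace X₂ := QuasiCompact.compactSpace_of_compactSpace p₂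
  haveI hcomp : CompactSpace ↥(pushout W₁.ι φ) := by
    constructor
    have huniv : (Set.univ : Set ↥(pushout W₁.ι φ)) =
        Set.range (pushout.inl W₁.ι φ) ∪ Set.range (pushout.inr W₁.ι φ) := by
      ext y
      simp only [Set.mem_univ, true_iff]
      rcases Groth.Agent.Lib.Helper41.pushout_jointly_surjective W₁.ι φ y with ⟨y₁, h⟩ | ⟨y₂, h⟩
      · exact Or.inl ⟨y₁, h⟩
      · exact Or.inr ⟨y₂, h⟩
    rw [huniv]
    exact (isCompact_range (pushout.inl W₁.ι φ).continuous).union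
      (isCompact_range (pushout.inr W₁.ι φ).continuous)
  haveI : IsLocallyNoetherian (pushout W₁.ι φ) :=
    LocallyOfFiniteType.isLocallyNoetherian (pushout.desc p₁ p₂ hφ)
  haveI : IsNoetherian (pushout W₁.ι φ) :=
    { toIsLocallyNoetherian := inferInstance, toCompactSpace := inferInstance }
  haveI hqc : QuasiCompact (pushout.desc p₁ p₂ hφ) := inferInstance
  haveI hqc' : QuasiCompact (j₁ ≫ pushout.inl W₁.ι φ) := inferInstance
  -- schematic density
  have hstd : IsSchemeTheoreticallyDominant (j₁ ≫ pushout.inl W₁.ι φ) := by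
    refine isSchemeTheoreticallyDominant_of_app_injective (j₁ ≫ pushout.inl W₁.ι φ)
      (ι := {V : (pushout W₁.ι φ).affineOpens // V.1 ≤ (pushout.inl W₁.ι φ).opensRange ∨
        V.1 ≤ (pushout.inr W₁.ι φ).opensRange}) (fun V => V.1) ?_ ?_
    · rw [eq_top_iff]
      intro y _
      rcases Groth.Agent.Lib.Helper41.pushout_jointly_surjective W₁.ι φ y with ⟨y₁, rfl⟩ | ⟨y₂, rfl⟩
      · have hy : (pushout.inl W₁.ι φ) y₁ ∈ (pushout.inl W₁.ι φ).opensRange :=
          Set.mem_range_self y₁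
        obtain ⟨_, ⟨V, hV, rfl⟩, hyV, hVU⟩ :=
          (pushout W₁.ι φ).isBasis_affineOpens.exists_subset_of_mem_open hy
            (pushout.inl W₁.ι φ).opensRange.isOpen
        exact Opens.mem_iSup.mpr ⟨⟨⟨V, hV⟩, Or.inl hVU⟩, hyV⟩
      · have hy : (pushout.inr W₁.ι φ) y₂ ∈ (pushout.inr W₁.ι φ).opensRange :=
          Set.mem_range_self y₂
        obtain ⟨_, ⟨V, hV, rfl⟩, hyV, hVU⟩ :=
          (pushout W₁.ι φ).isBasis_affineOpens.exists_subset_of_mem_open hy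
            (pushout.inr W₁.ι φ).opensRange.isOpen
        exact Opens.mem_iSup.mpr ⟨⟨⟨V, hV⟩, Or.inr hVU⟩, hyV⟩
    · rintro ⟨V, hV | hV⟩
      · exact app_comp_injective_of_le_opensRange j₁ (pushout.inl W₁.ι φ) V.1 hV
      · rw [hji]
        exact app_comp_injective_of_le_opensRange j₂ (pushout.inr W₁.ι φ) V.1 hV
  exact ⟨pushout W₁.ι φ, pushout.desc p₁ p₂ hφ, pushout.inl W₁.ι φ, pushout.inr W₁.ι φ, hsep, hqc,
    hlft, inferInstance, inferInstance, hq₁, hq₂, hji, hqc', hstd⟩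

end Groth.Agent.Lib.Helper16.QuasiDomGlue
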