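import Mathlib

/-!
# Residues of `g^(n-1) dg` for Laurent series, in every characteristic (helper16)

* `derivative_zpow` : derivative of an integer power of a unit power series.
* `coeff_identity` : for a power series unit `V` with constant coefficient `1` over ANY commutative
  ring, `m • [X^N] V^n + [X^(N-1)] (V^(n-1) V') = 0` whenever `m * n = -N`, `N > 0`
  (proved over torsion-free rings by differentiating, then transported from the universal case
  `MvPolynomial ℕ ℤ`).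
-/

namespace Groth.Agent.Lib.Helper16.ResPow

open PowerSeries

section Units

variable {A : Type*} [CommRing A]

theorem derivative_zpow (U : A⟦X⟧ˣ) (n : ℤ) :
    d⁄dX A ((U ^ n : A⟦X⟧ˣ) : A⟦X⟧) =
      n • (((U ^ (n - 1) : A⟦X⟧ˣ) : A⟦X⟧) * d⁄dX A (U : A⟦X⟧)) := by
  have key : ∀ (V : A⟦X⟧ˣ) (k : ℕ), d⁄dX A ((V ^ (k : ℤ) : A⟦X⟧ˣ) : A⟦X⟧) =
      (k : ℤ) • (((V ^ ((k : ℤ) - 1) : A⟦X⟧ˣ) : A⟦X⟧) * d⁄dX A (V : A⟦X⟧)) := by
    intro V k
    cases k with
    | zero => simp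
    | succ j =>
      rw [zpow_natCast, Units.val_pow_eq_pow_val, derivative_pow]
      have : ((j + 1 : ℕ) : ℤ) - 1 = (j : ℤ) := by push_cast; ring
      rw [this, zpow_natCast, Units.val_pow_eq_pow_val, Nat.add_sub_cancel, natCast_zsmul,
        nsmul_eq_mul, mul_assoc]
  obtain ⟨k, rfl | rfl⟩ := n.eq_nat_or_neg
  · exact key U k
  · have h := key U⁻¹ k
    rw [derivative_inv] at h
    have e : ((U⁻¹ ^ ((k : ℤ) - 1) : A⟦X⟧ˣ) : A⟦X⟧) * ((U⁻¹ : A⟦X⟧ˣ) : A⟦X⟧) ^ 2 =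
        ((U ^ (-(k : ℤ) - 1) : A⟦X⟧ˣ) : A⟦X⟧) := by
      rw [← Units.val_pow_eq_pow_val, ← Units.val_mul]
      congr 1
      rw [inv_zpow', ← zpow_natCast (U⁻¹) 2, inv_zpow', ← zpow_add]
      congr 1
      push_cast
      ring
    rw [← inv_zpow', h, ← e, neg_smul]
    simp only [mul_assoc, neg_mul, mul_neg, smul_neg]

/-- The coefficient identity over a torsion-free ring. -/
theorem coeff_identity_tf [IsAddTorsionFree A] (U : A⟦X⟧ˣ) (m n : ℤ) (N : ℕ) (hN : 0 < N)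
    (h : m * n = -(N : ℤ)) (hn : n ≠ 0) :
    m • coeff N ((U ^ n : A⟦X⟧ˣ) : A⟦X⟧) +
      coeff (N - 1) (((U ^ (n - 1) : A⟦X⟧ˣ) : A⟦X⟧) * d⁄dX A (U : A⟦X⟧)) = 0 := by
  apply zsmul_right_injective hn
  simp only
  have e1 : n • coeff (N - 1) (((U ^ (n - 1) : A⟦X⟧ˣ) : A⟦X⟧) * d⁄dX A (U : A⟦X⟧)) =
      coeff N ((U ^ n : A⟦X⟧ˣ) : A⟦X⟧) * (N : A) := by
    rw [← map_zsmul, ← derivative_zpow, coeff_derivative, Nat.sub_add_cancel hN]
    have : ((N - 1 : ℕ) : A) + 1 = (N : A) := by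
      rw [← Nat.cast_add_one, Nat.sub_add_cancel hN]
    rw [this]
  rw [smul_zero, smul_add, smul_smul, mul_comm n m, h, e1, neg_smul, natCast_zsmul, nsmul_eq_mul]
  ring

end Units

section Universal

/-- The universal power series with constant coefficient one. -/
noncomputable def Hu : (MvPolynomial ℕ ℤ)⟦X⟧ :=
  PowerSeries.mk fun i => if i = 0 then 1 else MvPolynomial.X i

theorem constantCoeff_Hu : constantCoeff Hu = 1 := by
  rw [← coeff_zero_eq_constantCoeff_apply, Hu, coeff_mk, if_pos rfl]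

/-- The universal unit. -/
noncomputable def Uu : ((MvPolynomial ℕ ℤ)⟦X⟧)ˣ :=
  (PowerSeries.isUnit_iff_constantCoeff.mpr (by rw [constantCoeff_Hu]; exact isUnit_one)).unit

theorem coe_Uu : (Uu : (MvPolynomial ℕ ℤ)⟦X⟧) = Hu := IsUnit.unit_spec _

variable {A : Type*} [CommRing A]

/-- Evaluation of the universal coefficients at the coefficients of `v`. -/
noncomputable def ev (v : A⟦X⟧) : MvPolynomial ℕ ℤ →+* A :=
  MvPolynomial.eval₂Hom (Int.castRingHom A) fun i => coeff i v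

theorem map_ev_Hu (v : A⟦X⟧) (hv : constantCoeff v = 1) : PowerSeries.map (ev v) Hu = v := by
  ext i
  rw [coeff_map, Hu, coeff_mk]
  split_ifs with hi
  · subst hi
    rw [map_one, coeff_zero_eq_constantCoeff_apply, hv]
  · simp [ev]

theorem derivative_map {B : Type*} [CommRing B] (f : A →+* B) (p : A⟦X⟧) :
    d⁄dX B (PowerSeries.map f p) = PowerSeries.map f (d⁄dX A p) := by
  ext i
  simp [coeff_derivative, coeff_map]

/-- The coefficient identity over an arbitrary commutative ring, for units with constant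
coefficient one. -/
theorem coeff_identity (V : A⟦X⟧ˣ) (hV : constantCoeff (V : A⟦X⟧) = 1) (m n : ℤ) (N : ℕ)
    (hN : 0 < N) (h : m * n = -(N : ℤ)) (hn : n ≠ 0) :
    m • coeff N ((V ^ n : A⟦X⟧ˣ) : A⟦X⟧) +
      coeff (N - 1) (((V ^ (n - 1) : A⟦X⟧ˣ) : A⟦X⟧) * d⁄dX A (V : A⟦X⟧)) = 0 := by
  have hVU : V = Units.map (PowerSeries.map (ev (V : A⟦X⟧)) : _ →* _) Uu := by
    ext1
    rw [Units.coe_map, coe_Uu]
    exact (map_ev_Hu _ hV).symm
  have hz : ∀ j : ℤ, ((V ^ j : A⟦X⟧ˣ) : A⟦X⟧) =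
      PowerSeries.map (ev (V : A⟦X⟧)) ((Uu ^ j : _ˣ) : (MvPolynomial ℕ ℤ)⟦X⟧) := by
    intro j
    conv_lhs => rw [hVU]
    rw [← map_zpow, Units.coe_map]
    rfl
  have hd : d⁄dX A (V : A⟦X⟧) =
      PowerSeries.map (ev (V : A⟦X⟧)) (d⁄dX _ (Uu : (MvPolynomial ℕ ℤ)⟦X⟧)) := by
    rw [← derivative_map, coe_Uu, map_ev_Hu _ hV]
  have := congrArg (ev (V : A⟦X⟧)) (coeff_identity_tf Uu m n N hN h hn)
  rw [map_zero, map_add, map_zsmul, ← coeff_map, ← coeff_map, map_mul, ← hz, ← hz, ← hd] at this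
  exact this

end Universal

end Groth.Agent.Lib.Helper16.ResPow
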