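import Mathlib
import Groth.Prelude.Def_LocRes
import Groth.Agent.Lib.Helper16.ResPow

/-!
# Residue of `g^(n-1) dg` for Laurent series over a field (helper16)

`coeff_neg_one_zpow_mul_derivative` : for `g ≠ 0` in `F⸨X⸩`,
`(g^(n-1) * g').coeff (-1) = if n = 0 then g.order else 0`, in every characteristic.
-/

namespace Groth.Agent.Lib.Helper16.ResPow

open PowerSeries HahnSeries LaurentSeries

variable {F : Type*} [Field F]

theorem exists_decomp (g : F⸨X⸩) (hg : g ≠ 0) :
    ∃ (c : F) (V : F⟦X⟧ˣ), c ≠ 0 ∧ constantCoeff (V : F⟦X⟧) = 1 ∧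
      g = single g.order c * HahnSeries.ofPowerSeries ℤ F (V : F⟦X⟧) := by
  set P := powerSeriesPart g with hP
  set c := constantCoeff P with hc
  have hc0 : c ≠ 0 := by
    rw [hc, ← coeff_zero_eq_constantCoeff_apply, powerSeriesPart_coeff]
    simpa using (HahnSeries.coeff_order_eq_zero.not.mpr hg)
  have hv : constantCoeff (PowerSeries.C c⁻¹ * P) = 1 := by
    rw [map_mul, constantCoeff_C, ← hc, inv_mul_cancel₀ hc0]
  refine ⟨c, (PowerSeries.isUnit_iff_constantCoeff.mpr (by rw [hv]; exact isUnit_one)).unit, hc0,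
    by rw [IsUnit.unit_spec]; exact hv, ?_⟩
  rw [IsUnit.unit_spec, map_mul, HahnSeries.ofPowerSeries_C, HahnSeries.C_apply, ← mul_assoc,
    HahnSeries.single_mul_single, add_zero, mul_inv_cancel₀ hc0]
  exact (single_order_mul_powerSeriesPart g).symm

theorem single_zpow' (m : ℤ) (c : F) (j : ℤ) :
    (single m c : F⸨X⸩) ^ j = single (j * m) (c ^ j) := by
  obtain ⟨k, rfl | rfl⟩ := j.eq_nat_or_neg
  · rw [zpow_natCast, zpow_natCast, HahnSeries.single_pow, nsmul_eq_mul]
  · rw [zpow_neg, zpow_neg, zpow_natCast, zpow_natCast, HahnSeries.single_pow,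
      HahnSeries.inv_single, nsmul_eq_mul, neg_mul]

theorem ofPowerSeries_zpow (V : F⟦X⟧ˣ) (j : ℤ) :
    (HahnSeries.ofPowerSeries ℤ F (V : F⟦X⟧)) ^ j =
      HahnSeries.ofPowerSeries ℤ F ((V ^ j : F⟦X⟧ˣ) : F⟦X⟧) := by
  have h1 : ((Units.map (HahnSeries.ofPowerSeries ℤ F : F⟦X⟧ →* F⸨X⸩) V ^ j : (F⸨X⸩)ˣ) : F⸨X⸩) =
      (HahnSeries.ofPowerSeries ℤ F (V : F⟦X⟧)) ^ j := by
    rw [Units.val_zpow_eq_zpow_val, Units.coe_map]
    rfl
  rw [← h1, ← map_zpow, Units.coe_map]
  rfl

theorem coeff_ofPowerSeries_neg (p : F⟦X⟧) (i : ℤ) (hi : i < 0) :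
    (HahnSeries.ofPowerSeries ℤ F p).coeff i = 0 := by
  have := PowerSeries.coeff_coe (R := F) (f := p) i
  rw [if_pos hi] at this
  exact this

theorem coeff_ofPowerSeries_nat (p : F⟦X⟧) (i : ℕ) :
    (HahnSeries.ofPowerSeries ℤ F p).coeff (i : ℤ) = PowerSeries.coeff i p := by
  exact LaurentSeries.coeff_coe_powerSeries p i

/-- The residue of `g^(n-1) dg`: the order of `g` if `n = 0` and zero otherwise. -/
theorem coeff_neg_one_zpow_mul_derivative (g : F⸨X⸩) (hg : g ≠ 0) (n : ℤ) :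
    (g ^ (n - 1) * LaurentSeries.derivative F g).coeff (-1) =
      if n = 0 then ((g.order : ℤ) : F) else 0 := by
  obtain ⟨c, V, hc, hV, hgV⟩ := exists_decomp g hg
  set m := g.order with hm
  have hD : LaurentSeries.derivative F g =
      single m c * HahnSeries.ofPowerSeries ℤ F (d⁄dX F (V : F⟦X⟧)) +
        single (m - 1) (m • c) * HahnSeries.ofPowerSeries ℤ F (V : F⟦X⟧) := by
    conv_lhs => rw [hgV]
    rw [LocRes.derivative_single_mul, LocRes.derivative_coe]
  have hP : g ^ (n - 1) = single ((n - 1) * m) (c ^ (n - 1)) *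
      HahnSeries.ofPowerSeries ℤ F ((V ^ (n - 1) : F⟦X⟧ˣ) : F⟦X⟧) := by
    conv_lhs => rw [hgV]
    rw [mul_zpow, single_zpow' m c, ofPowerSeries_zpow]
  have hVV : ((V ^ (n - 1) : F⟦X⟧ˣ) : F⟦X⟧) * (V : F⟦X⟧) = ((V ^ n : F⟦X⟧ˣ) : F⟦X⟧) := by
    rw [← Units.val_mul, ← zpow_add_one, sub_add_cancel]
  have hprod : g ^ (n - 1) * LaurentSeries.derivative F g =
      single (n * m) (c ^ n) * HahnSeries.ofPowerSeries ℤ F
          (((V ^ (n - 1) : F⟦X⟧ˣ) : F⟦X⟧) * d⁄dX F (V : F⟦X⟧)) +
        single (n * m - 1) (m • c ^ n) *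
          HahnSeries.ofPowerSeries ℤ F ((V ^ n : F⟦X⟧ˣ) : F⟦X⟧) := by
    rw [hP, hD, mul_add, ← hVV, map_mul, map_mul]
    have e1 : single ((n - 1) * m) (c ^ (n - 1)) * single m c = (single (n * m) (c ^ n) : F⸨X⸩) := by
      rw [HahnSeries.single_mul_single, ← zpow_add_one₀ hc, sub_add_cancel,
        show (n - 1) * m + m = n * m by ring]
    have e2 : single ((n - 1) * m) (c ^ (n - 1)) * single (m - 1) (m • c) =
        (single (n * m - 1) (m • c ^ n) : F⸨X⸩) := by
      rw [HahnSeries.single_mul_single, mul_smul_comm, ← zpow_add_one₀ hc, sub_add_cancel,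
        show (n - 1) * m + (m - 1) = n * m - 1 by ring]
    rw [← e1, ← e2]
    ring
  rw [hprod, HahnSeries.coeff_add, HahnSeries.coeff_single_mul, HahnSeries.coeff_single_mul]
  have i1 : (-1 : ℤ) - n * m = -(n * m) - 1 := by ring
  have i2 : (-1 : ℤ) - (n * m - 1) = -(n * m) := by ring
  rw [i1, i2]
  by_cases hn : n = 0
  · subst hn
    rw [if_pos rfl, zero_mul, neg_zero, zero_sub, coeff_ofPowerSeries_neg _ _ (by norm_num),
      mul_zero, zero_add, zpow_zero, zpow_zero, Units.val_one, map_one, HahnSeries.coeff_one,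
      if_pos rfl, mul_one, zsmul_eq_mul, mul_one]
  · rw [if_neg hn]
    rcases lt_trichotomy (-(n * m)) 0 with hlt | heq | hgt
    · rw [coeff_ofPowerSeries_neg _ _ hlt, coeff_ofPowerSeries_neg _ _ (by omega), mul_zero,
        mul_zero, add_zero]
    · have hm0 : m = 0 := by
        have : n * m = 0 := by omega
        rcases mul_eq_zero.mp this with h | h
        · exact absurd h hn
        · exact h
      rw [heq, zero_sub, coeff_ofPowerSeries_neg _ _ (by norm_num), hm0, zero_smul, zero_mul,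
        mul_zero, add_zero]
    · obtain ⟨N, hN⟩ := Int.eq_ofNat_of_zero_le hgt.le
      have hNpos : 0 < N := by omega
      have hN1 : -(n * m) - 1 = ((N - 1 : ℕ) : ℤ) := by omega
      rw [hN1, hN, coeff_ofPowerSeries_nat, coeff_ofPowerSeries_nat]
      have hid := coeff_identity V hV m n N hNpos (by rw [mul_comm]; omega) hn
      rw [smul_mul_assoc, ← mul_smul_comm, ← mul_add, add_comm, hid, mul_zero]

/-- The `X`-adic valuation of a nonzero Laurent series is `exp (-order)`. -/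
theorem valued_eq_exp_neg_order (g : F⸨X⸩) (hg : g ≠ 0) :
    Valued.v g = WithZero.exp (-g.order) := by
  have hv : Valued.v g ≠ 0 := (Valuation.ne_zero_iff _).mpr hg
  set a : ℤ := -WithZero.log (Valued.v g) with ha
  have hva : Valued.v g = WithZero.exp (-a) := by
    rw [ha, neg_neg, WithZero.exp_log hv]
  have h1 : g.order ≤ a := by
    have : Valued.v g ≤ WithZero.exp (-g.order) := by
      rw [LaurentSeries.valuation_le_iff_coeff_lt_eq_zero]
      intro n hn
      exact HahnSeries.coeff_eq_zero_of_lt_order hn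
    rw [hva, WithZero.exp_le_exp] at this
    omega
  have h2 : a ≤ g.order := by
    by_contra hlt
    push Not at hlt
    have : Valued.v g ≤ WithZero.exp (-a) := hva.le
    rw [LaurentSeries.valuation_le_iff_coeff_lt_eq_zero] at this
    exact (HahnSeries.coeff_order_eq_zero.not.mpr hg) (this _ hlt)
  rw [hva, le_antisymm h2 h1]

end Groth.Agent.Lib.Helper16.ResPow
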