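import Groth.Prelude.Def_W4sga3xxiRoot
import Mathlib.LinearAlgebra.RootSystem.Base
import Mathlib.LinearAlgebra.Basis.Basic
import Mathlib.Tactic

set_option autoImplicit false

namespace Groth.Agent.Lib.Helper16

open RootD

variable {ι M N : Type*} [AddCommGroup M] [AddCommGroup N] (P : RootPairing ι ℤ M N)

theorem root_negIdx (i : ι) : P.root (P.reflectionPerm i i) = -P.root i := by
  rw [P.root_reflectionPerm, P.reflection_apply_self]

include P in
theorem torsionFreeM : Module.IsTorsionFree ℤ M := by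
  have : Module.IsReflexive ℤ M := Module.IsReflexive.of_isPerfPair P.toLinearMap
  infer_instance

include P in
theorem nsmul_eq_zero_imp (n : ℕ) (hn : 0 < n) (x : M) (h : n • x = 0) : x = 0 := by
  have := torsionFreeM P
  have h' : (n : ℤ) • x = 0 := by rwa [natCast_zsmul]
  rcases smul_eq_zero.mp h' with h0 | h0
  · omega
  · exact h0

/-- The span of the simple roots. -/
abbrev spanΔ (Δ : Set ι) : Submodule ℤ M := Submodule.span ℤ (Set.range (fun l : Δ => P.root l))

theorem natSpan_le_spanΔ (Δ : Set ι) : natSpan P Δ ≤ (spanΔ P Δ).toAddSubmonoid := by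
  unfold natSpan
  rw [AddSubmonoid.closure_le]
  rintro _ ⟨l, hl, rfl⟩
  exact Submodule.subset_span ⟨⟨l, hl⟩, rfl⟩

variable {P} {Δ : Set ι} (hΔ : IsSimpleSys P Δ)

include hΔ in
theorem root_mem_spanΔ (k : ι) : P.root k ∈ spanΔ P Δ := by
  rcases hΔ.mem_or_neg_mem k with h | h
  · exact natSpan_le_spanΔ P Δ h
  · have := natSpan_le_spanΔ P Δ h
    have h2 : -P.root k ∈ spanΔ P Δ := this
    simpa using (spanΔ P Δ).neg_mem h2

include hΔ in
theorem linInd' : LinearIndependent ℤ (fun l : Δ => P.root l) := hΔ.linInd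

/-- The basis of the span of the simple roots given by the simple roots. -/
noncomputable def bas : Module.Basis Δ ℤ (spanΔ P Δ) := Module.Basis.span (linInd' hΔ)

theorem bas_apply (l : Δ) : (bas hΔ l : M) = P.root l := by
  unfold bas
  rw [Module.Basis.span_apply]

/-- Coordinates of a vector in the span. -/
noncomputable def coV (x : spanΔ P Δ) : Δ →₀ ℤ := (bas hΔ).repr x

/-- Coordinates of a root. -/
noncomputable def co (k : ι) : Δ →₀ ℤ := coV hΔ ⟨P.root k, root_mem_spanΔ hΔ k⟩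

theorem coV_nonneg_of_mem_natSpan (x : M) (hx : x ∈ natSpan P Δ) (l : Δ) :
    0 ≤ coV hΔ ⟨x, natSpan_le_spanΔ P Δ hx⟩ l := by
  classical
  have key : ∀ y (hy : y ∈ natSpan P Δ), ∀ l, 0 ≤ coV hΔ ⟨y, natSpan_le_spanΔ P Δ hy⟩ l := by
    intro y hy
    unfold natSpan at hy
    induction hy using AddSubmonoid.closure_induction with
    | mem z hz =>
      obtain ⟨j, hj, rfl⟩ := hz
      intro l
      have : (⟨P.root j, natSpan_le_spanΔ P Δ (AddSubmonoid.subset_closure ⟨j, hj, rfl⟩)⟩ :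
          spanΔ P Δ) = bas hΔ ⟨j, hj⟩ := Subtype.ext (bas_apply hΔ ⟨j, hj⟩).symm
      unfold coV
      rw [this, Module.Basis.repr_self]
      rw [Finsupp.single_apply]
      split_ifs <;> norm_num
    | zero =>
      intro l
      have : (⟨0, natSpan_le_spanΔ P Δ (AddSubmonoid.zero_mem _)⟩ : spanΔ P Δ) = 0 := rfl
      unfold coV
      rw [this, map_zero]
      simp
    | add a b ha hb iha ihb =>
      intro l
      have : (⟨a + b, natSpan_le_spanΔ P Δ (AddSubmonoid.add_mem _ ha hb)⟩ : spanΔ P Δ) =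
          ⟨a, natSpan_le_spanΔ P Δ ha⟩ + ⟨b, natSpan_le_spanΔ P Δ hb⟩ := rfl
      unfold coV at iha ihb ⊢
      rw [this, map_add, Finsupp.add_apply]
      exact add_nonneg (iha l) (ihb l)
  exact key x hx l

theorem mem_natSpan_of_coV_nonneg (x : spanΔ P Δ) (h : ∀ l, 0 ≤ coV hΔ x l) :
    (x : M) ∈ natSpan P Δ := by
  have h1 : (x : M) = ∑ l ∈ (coV hΔ x).support, (coV hΔ x l).toNat • P.root l := by
    have h2 := (bas hΔ).linearCombination_repr x
    have h3 := congrArg (Subtype.val) h2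
    rw [Finsupp.linearCombination_apply, Finsupp.sum] at h3
    rw [← h3]
    simp only [AddSubmonoidClass.coe_finsetSum, Submodule.coe_smul]
    apply Finset.sum_congr rfl
    intro l _
    rw [bas_apply]
    have : ((coV hΔ x l).toNat : ℤ) = coV hΔ x l := Int.toNat_of_nonneg (h l)
    rw [← natCast_zsmul, this]
    rfl
  rw [h1]
  apply AddSubmonoid.sum_mem
  intro l _
  apply AddSubmonoid.nsmul_mem
  exact AddSubmonoid.subset_closure ⟨l, l.2, rfl⟩

/-- A root as an element of the span of the simple roots. -/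
def rootV (k : ι) : spanΔ P Δ := ⟨P.root k, root_mem_spanΔ hΔ k⟩

theorem co_def (k : ι) : co hΔ k = coV hΔ (rootV hΔ k) := rfl

theorem coV_injective : Function.Injective (coV hΔ) := (bas hΔ).repr.injective

theorem coV_add (x y : spanΔ P Δ) : coV hΔ (x + y) = coV hΔ x + coV hΔ y := map_add _ _ _

theorem coV_sub (x y : spanΔ P Δ) : coV hΔ (x - y) = coV hΔ x - coV hΔ y := map_sub _ _ _

theorem coV_neg (x : spanΔ P Δ) : coV hΔ (-x) = -coV hΔ x := map_neg _ _

theorem coV_zsmul (n : ℤ) (x : spanΔ P Δ) : coV hΔ (n • x) = n • coV hΔ x := map_smul _ _ _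

theorem coV_nsmul (n : ℕ) (x : spanΔ P Δ) : coV hΔ (n • x) = n • coV hΔ x := map_nsmul _ _ _

theorem co_add {i j k : ι} (h : P.root k = P.root i + P.root j) :
    co hΔ k = co hΔ i + co hΔ j := by
  rw [co_def, co_def, co_def, ← coV_add]
  congr 1
  exact Subtype.ext h

theorem co_sub {i j k : ι} (h : P.root k = P.root i - P.root j) :
    co hΔ k = co hΔ i - co hΔ j := by
  rw [co_def, co_def, co_def, ← coV_sub]
  congr 1
  exact Subtype.ext h

theorem co_zsmul_eq {j k : ι} (n : ℤ) (h : n • P.root j = P.root k) :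
    co hΔ k = n • co hΔ j := by
  rw [co_def, co_def, ← coV_zsmul]
  congr 1
  exact Subtype.ext h.symm

theorem co_negIdx (i : ι) : co hΔ (P.reflectionPerm i i) = -co hΔ i := by
  rw [co_def, co_def, ← coV_neg]
  congr 1
  exact Subtype.ext (root_negIdx P i)

theorem co_simple (l : ι) (hl : l ∈ Δ) : co hΔ l = Finsupp.single ⟨l, hl⟩ 1 := by
  have : rootV hΔ l = bas hΔ ⟨l, hl⟩ := Subtype.ext (bas_apply hΔ ⟨l, hl⟩).symm
  rw [co_def, this]
  unfold coV
  rw [Module.Basis.repr_self]

theorem co_ne_zero (k : ι) : co hΔ k ≠ 0 := by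
  intro h
  have h0 : coV hΔ (rootV hΔ k) = coV hΔ 0 := by
    rw [← co_def, h]
    unfold coV
    rw [map_zero]
  have := coV_injective hΔ h0
  have h1 : P.root k = 0 := congrArg Subtype.val this
  exact P.ne_zero k h1

theorem co_reflection (i k : ι) :
    co hΔ (P.reflectionPerm i k) = co hΔ k - P.pairing k i • co hΔ i := by
  rw [co_def, co_def, co_def, ← coV_zsmul, ← coV_sub]
  congr 1
  apply Subtype.ext
  change P.root (P.reflectionPerm i k) = P.root k - P.pairing k i • P.root i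
  rw [P.root_reflectionPerm, P.reflection_apply_root]

theorem mem_posOf_iff (k : ι) : k ∈ posOf P Δ ↔ ∀ l, 0 ≤ co hΔ k l := by
  constructor
  · intro hk l
    exact coV_nonneg_of_mem_natSpan hΔ (P.root k) hk l
  · intro h
    exact mem_natSpan_of_coV_nonneg hΔ (rootV hΔ k) h

theorem neg_mem_natSpan_iff (k : ι) : -P.root k ∈ natSpan P Δ ↔ ∀ l, co hΔ k l ≤ 0 := by
  have hneg : ∀ l, coV hΔ (-rootV hΔ k) l = -co hΔ k l := by
    intro l
    rw [coV_neg, Finsupp.neg_apply, co_def]
  constructor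
  · intro hk l
    have := coV_nonneg_of_mem_natSpan hΔ (-P.root k) hk l
    have h2 : (⟨-P.root k, natSpan_le_spanΔ P Δ hk⟩ : spanΔ P Δ) = -rootV hΔ k := rfl
    rw [h2, hneg] at this
    linarith
  · intro h
    have := mem_natSpan_of_coV_nonneg hΔ (-rootV hΔ k) (fun l => by rw [hneg]; linarith [h l])
    exact this

theorem co_sign (k : ι) : (∀ l, 0 ≤ co hΔ k l) ∨ (∀ l, co hΔ k l ≤ 0) := by
  rcases hΔ.mem_or_neg_mem k with h | h
  · exact Or.inl ((mem_posOf_iff hΔ k).mp h)
  · exact Or.inr ((neg_mem_natSpan_iff hΔ k).mp h)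

theorem mem_posOf_iff_exists_pos (k : ι) : k ∈ posOf P Δ ↔ ∃ l, 0 < co hΔ k l := by
  constructor
  · intro hk
    by_contra hne
    push Not at hne
    have h0 := (mem_posOf_iff hΔ k).mp hk
    apply co_ne_zero hΔ k
    ext l
    exact le_antisymm (hne l) (h0 l)
  · rintro ⟨l, hl⟩
    rcases co_sign hΔ k with h | h
    · exact (mem_posOf_iff hΔ k).mpr h
    · exact absurd (h l) (not_le.mpr hl)

theorem negIdx_mem_posOf_iff (k : ι) :
    P.reflectionPerm k k ∈ posOf P Δ ↔ ∀ l, co hΔ k l ≤ 0 := by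
  rw [mem_posOf_iff hΔ]
  constructor
  · intro h l
    have h1 := h l
    rw [co_negIdx hΔ k, Finsupp.neg_apply] at h1
    exact neg_nonneg.mp h1
  · intro h l
    rw [co_negIdx hΔ k, Finsupp.neg_apply]
    exact neg_nonneg.mpr (h l)

include hΔ in
theorem not_mem_posOf_iff (k : ι) : k ∉ posOf P Δ ↔ P.reflectionPerm k k ∈ posOf P Δ := by
  rw [negIdx_mem_posOf_iff hΔ, mem_posOf_iff_exists_pos hΔ]
  push Not
  rfl

theorem simple_mem_posOf (l : ι) (hl : l ∈ Δ) : l ∈ posOf P Δ :=
  AddSubmonoid.subset_closure ⟨l, hl, rfl⟩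

end Groth.Agent.Lib.Helper16
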