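import Groth.Agent.Lib.Helper16.RootD9
import Groth.Agent.S5448

set_option autoImplicit false

namespace Groth.Agent.Lib.Helper16

open RootD

variable {ι M N : Type*} [AddCommGroup M] [AddCommGroup N] {P : RootPairing ι ℤ M N}

/-- The product of the reflections of a word. -/
noncomputable def wordProd (P : RootPairing ι ℤ M N) (l : List ι) : P.Aut :=
  (l.map fun a => RootPairing.Equiv.reflection P a).prod

theorem wordProd_nil : wordProd P [] = 1 := rfl

theorem wordProd_cons (a : ι) (l : List ι) :
    wordProd P (a :: l) = RootPairing.Equiv.reflection P a * wordProd P l := by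
  unfold wordProd
  rw [List.map_cons, List.prod_cons]

theorem wordProd_append (l₁ l₂ : List ι) :
    wordProd P (l₁ ++ l₂) = wordProd P l₁ * wordProd P l₂ := by
  unfold wordProd
  rw [List.map_append, List.prod_append]

theorem wordProd_singleton (a : ι) : wordProd P [a] = RootPairing.Equiv.reflection P a := by
  rw [wordProd_cons, wordProd_nil, mul_one]

theorem wordProd_mem_weylGroup (l : List ι) : wordProd P l ∈ P.weylGroup := by
  induction l with
  | nil => exact one_mem _
  | cons a l ih =>
    rw [wordProd_cons]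
    exact mul_mem (P.reflection_mem_weylGroup a) ih

theorem reflection_mul_self (a : ι) :
    RootPairing.Equiv.reflection P a * RootPairing.Equiv.reflection P a = 1 := by
  rw [mul_eq_one_iff_inv_eq, RootPairing.Equiv.reflection_inv]

theorem wordProd_reverse (l : List ι) : wordProd P l.reverse = (wordProd P l)⁻¹ := by
  induction l with
  | nil => simp [wordProd_nil]
  | cons a l ih =>
    rw [List.reverse_cons, wordProd_append, wordProd_singleton, wordProd_cons, ih, mul_inv_rev,
      RootPairing.Equiv.reflection_inv]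

theorem isIndiv_smul (g : P.Aut) (k : ι) (hk : IsIndiv P k) : IsIndiv P (g • k) := by
  intro j hj
  apply hk (g⁻¹ • j)
  rw [root_smul, ← smul_comm, hj, ← root_smul, inv_smul_smul]

theorem exists_word_of_mem_weylSub {Δ : Set ι} {g : P.Aut} (hg : g ∈ weylSub P Δ) :
    ∃ l : List ι, (∀ a ∈ l, a ∈ Δ) ∧ wordProd P l = g := by
  unfold weylSub at hg
  induction hg using Subgroup.closure_induction'' with
  | one => exact ⟨[], by simp, wordProd_nil⟩
  | mem w hw =>
    obtain ⟨i, hi, rfl⟩ := hw
    exact ⟨[i], by simpa using hi, wordProd_singleton i⟩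
  | inv_mem w hw =>
    obtain ⟨i, hi, rfl⟩ := hw
    refine ⟨[i], by simpa using hi, ?_⟩
    rw [wordProd_singleton, RootPairing.Equiv.reflection_inv]
  | mul w₁ w₂ _ _ h₁ h₂ =>
    obtain ⟨l₁, hl₁, rfl⟩ := h₁
    obtain ⟨l₂, hl₂, rfl⟩ := h₂
    refine ⟨l₁ ++ l₂, ?_, wordProd_append l₁ l₂⟩
    intro a ha
    rcases List.mem_append.mp ha with h | h
    · exact hl₁ a h
    · exact hl₂ a h

variable [Finite ι] {Δ : Set ι} (hΔ : IsSimpleSys P Δ)

include hΔ in
/-- Exchange: if a word sends a positive indivisible root to a negative root, one letter can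
be located where the sign changes. -/
theorem exists_split_of_neg (l₀ : List ι) (hl₀ : ∀ a ∈ l₀, a ∈ Δ) (b : ι) (hb : b ∈ posOf P Δ)
    (hbind : IsIndiv P b) (hneg : wordProd P l₀ • b ∉ posOf P Δ) :
    ∃ (l₁ : List ι) (c : ι) (l₂ : List ι), l₀ = l₁ ++ c :: l₂ ∧ wordProd P l₂ • b = c := by
  induction l₀ with
  | nil =>
    exfalso
    apply hneg
    rw [wordProd_nil, one_smul]
    exact hb
  | cons c t ih =>
    have ht : ∀ a ∈ t, a ∈ Δ := fun a ha => hl₀ a (List.mem_cons_of_mem _ ha)
    by_cases hk : wordProd P t • b ∈ posOf P Δ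
    · refine ⟨[], c, t, rfl, ?_⟩
      have hc : c ∈ Δ := hl₀ c List.mem_cons_self
      rw [wordProd_cons, mul_smul, reflection_smul_idx] at hneg
      rcases pos_dichotomy hΔ c hc _ hk with h | h | h
      · exact absurd h hneg
      · exact h
      · exfalso
        exact isIndiv_smul (wordProd P t) b hbind c h.symm
    · obtain ⟨l₁, c', l₂, hdec, hc'⟩ := ih ht hk
      exact ⟨c :: l₁, c', l₂, by rw [hdec]; rfl, hc'⟩

include hΔ in
theorem neg_of_minimal_word (l : List ι) (hl : ∀ a ∈ l, a ∈ Δ) (hne : l ≠ [])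
    (hmin : ∀ l' : List ι, (∀ a ∈ l', a ∈ Δ) → wordProd P l' = wordProd P l →
      l.length ≤ l'.length) :
    wordProd P l • l.getLast hne ∉ posOf P Δ := by
  set a := l.getLast hne with ha
  set l₀ := l.dropLast with hl₀def
  have hl_eq : l = l₀ ++ [a] := (List.dropLast_append_getLast hne).symm
  have haΔ : a ∈ Δ := hl a (List.getLast_mem hne)
  have hl₀ : ∀ x ∈ l₀, x ∈ Δ := fun x hx => hl x (List.mem_of_mem_dropLast hx)
  have hw : wordProd P l = wordProd P l₀ * RootPairing.Equiv.reflection P a := by
    conv_lhs => rw [hl_eq]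
    rw [wordProd_append, wordProd_singleton]
  intro hpos
  have h1 : wordProd P l • a = P.reflectionPerm (wordProd P l₀ • a) (wordProd P l₀ • a) := by
    rw [hw, mul_smul, reflection_smul_idx, smul_negIdx]
  rw [h1] at hpos
  have hneg : wordProd P l₀ • a ∉ posOf P Δ := (not_mem_posOf_iff hΔ _).mpr hpos
  obtain ⟨l₁, c, l₂, hdec, hc⟩ := exists_split_of_neg hΔ l₀ hl₀ a (simple_mem_posOf a haΔ)
    (Groth.Agent.S5448.result P Δ hΔ a haΔ) hneg
  have hconj := reflection_smul_eq_conj (wordProd_mem_weylGroup (P := P) l₂) a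
  rw [hc] at hconj
  have hnew : wordProd P (l₁ ++ l₂) = wordProd P l := by
    rw [hw, hdec, wordProd_append, wordProd_append, wordProd_cons, hconj]
    have := reflection_mul_self (P := P) a
    group
    rw [mul_assoc, this, mul_one]
  have hlen := hmin (l₁ ++ l₂) (by
    intro x hx
    apply hl₀
    rw [hdec]
    rcases List.mem_append.mp hx with h | h
    · exact List.mem_append_left _ h
    · exact List.mem_append_right _ (List.mem_cons_of_mem _ h)) hnew
  have hlen2 : l.length = l₁.length + l₂.length + 2 := by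
    conv_lhs => rw [hl_eq, hdec]
    simp
    omega
  rw [List.length_append] at hlen
  omega

include hΔ in
/-- An element of the Weyl group preserving the positive roots is trivial. -/
theorem eq_one_of_preserves_pos {g : P.Aut} (hg : g ∈ P.weylGroup)
    (hpos : ∀ k ∈ posOf P Δ, g • k ∈ posOf P Δ) : g = 1 := by
  classical
  rw [← weylSub_eq hΔ] at hg
  have hex : ∃ n : ℕ, ∃ l : List ι, (∀ a ∈ l, a ∈ Δ) ∧ wordProd P l = g ∧ l.length = n := by
    obtain ⟨l, hl, hlg⟩ := exists_word_of_mem_weylSub hg
    exact ⟨l.length, l, hl, hlg, rfl⟩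
  obtain ⟨l, hl, hlg, hlen⟩ := Nat.find_spec hex
  by_cases hne : l = []
  · rw [← hlg, hne, wordProd_nil]
  · exfalso
    have hmin : ∀ l' : List ι, (∀ a ∈ l', a ∈ Δ) → wordProd P l' = wordProd P l →
        l.length ≤ l'.length := by
      intro l' hl' hl'g
      rw [hlen]
      exact Nat.find_min' hex ⟨l', hl', hl'g.trans hlg, rfl⟩
    have h := neg_of_minimal_word hΔ l hl hne hmin
    apply h
    rw [hlg]
    exact hpos _ (simple_mem_posOf _ (hl _ (List.getLast_mem hne)))

end Groth.Agent.Lib.Helper16
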