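import Groth.Agent.Lib.Helper16.RootD10

set_option autoImplicit false

namespace Groth.Agent.Lib.Helper16

open RootD

variable {ι M N : Type*} [AddCommGroup M] [AddCommGroup N] {P : RootPairing ι ℤ M N}
  [Finite ι] {Δ : Set ι} (hΔ : IsSimpleSys P Δ)

/-- The positive roots made negative by `g`. -/
def invSet (P : RootPairing ι ℤ M N) (Δ : Set ι) (g : P.Aut) : Set ι :=
  {k | k ∈ posOf P Δ ∧ g • k ∉ posOf P Δ}

theorem preserves_pos_of_simple {g : P.Aut} (h : ∀ l ∈ Δ, g • l ∈ posOf P Δ) :
    ∀ k ∈ posOf P Δ, g • k ∈ posOf P Δ := by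
  intro k hk
  have hcl : IsClosedSub P {k | g • k ∈ posOf P Δ} := isClosedSub_preimage g (posOf_closed Δ)
  exact posOf_subset_of_closed hcl (fun l hl => h l hl) hk

include hΔ in
theorem invSet_mul_reflection_lt {g : P.Aut} (l : ι) (hl : l ∈ Δ) (hgl : g • l ∉ posOf P Δ) :
    (invSet P Δ (g * RootPairing.Equiv.reflection P l)).ncard < (invSet P Δ g).ncard := by
  classical
  have hlpos : l ∈ posOf P Δ := simple_mem_posOf l hl
  have hlA : l ∈ invSet P Δ g := ⟨hlpos, hgl⟩
  have hsub : (P.reflectionPerm l) '' (invSet P Δ (g * RootPairing.Equiv.reflection P l)) ⊆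
      invSet P Δ g \ {l} := by
    rintro _ ⟨k, ⟨hk, hgk⟩, rfl⟩
    rw [mul_smul, reflection_smul_idx] at hgk
    rcases pos_dichotomy hΔ l hl k hk with h | h | h
    · refine ⟨⟨h, hgk⟩, ?_⟩
      intro hkl
      rw [Set.mem_singleton_iff] at hkl
      have : k = P.reflectionPerm l l := by
        have h5 := P.reflectionPerm_self l k
        rw [hkl] at h5
        exact h5.symm
      rw [this] at hk
      exact posOf_disjoint hΔ l hlpos hk
    · exfalso
      apply hgk
      rw [h, smul_negIdx]
      exact (not_mem_posOf_iff hΔ _).mp hgl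
    · exfalso
      apply hgk
      have h1 : P.reflectionPerm l k = P.reflectionPerm k k := by
        apply P.root.injective
        rw [P.root_reflectionPerm, h, map_zsmul, P.reflection_apply_self, root_negIdx, h, smul_neg]
      rw [h1, smul_negIdx]
      apply (not_mem_posOf_iff hΔ _).mp
      intro hgkpos
      apply hgl
      have h2 : (2 : ℤ) • P.root (g • l) = P.root (g • k) := by
        rw [root_smul, root_smul, h, smul_comm]
      have h3 := co_zsmul_eq hΔ 2 h2
      rw [mem_posOf_iff hΔ] at hgkpos ⊢
      intro l'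
      have := hgkpos l'
      rw [h3, Finsupp.smul_apply, smul_eq_mul] at this
      omega
  have h1 : (invSet P Δ (g * RootPairing.Equiv.reflection P l)).ncard =
      ((P.reflectionPerm l) '' (invSet P Δ (g * RootPairing.Equiv.reflection P l))).ncard :=
    (Set.ncard_image_of_injective _ (P.reflectionPerm l).injective).symm
  have h2 := Set.ncard_le_ncard hsub (Set.toFinite _)
  have h3 : (invSet P Δ g \ {l}).ncard < (invSet P Δ g).ncard :=
    Set.ncard_diff_singleton_lt_of_mem hlA (Set.toFinite _)
  omega

end Groth.Agent.Lib.Helper16
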