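import Groth.Agent.Lib.Helper16.RootD11
import Groth.Agent.S5463

set_option autoImplicit false

namespace Groth.Agent.Lib.Helper16

open RootD

variable {ι M N : Type*} [AddCommGroup M] [AddCommGroup N] {P : RootPairing ι ℤ M N} [Finite ι]

/-- `R'` is the trace on the roots of a rational subspace. -/
def IsSat (P : RootPairing ι ℤ M N) (R' : Set ι) : Prop :=
  ∀ k : ι, (∃ n : ℕ, 0 < n ∧ n • P.root k ∈ Submodule.span ℤ (P.root '' R')) → k ∈ R'

/-- The subgroup generated by the reflections in the roots of `R'`. -/
noncomputable def subW (P : RootPairing ι ℤ M N) (R' : Set ι) : Subgroup P.Aut :=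
  Subgroup.closure ((fun i : ι => RootPairing.Equiv.reflection P i) '' R')

/-- The orbit of `k` under `subW P R'`. -/
noncomputable def orb (P : RootPairing ι ℤ M N) (R' : Set ι) (k : ι) : Finset ι :=
  (Set.toFinite {j : ι | ∃ w ∈ subW P R', w • k = j}).toFinset

theorem mem_orb (R' : Set ι) (k j : ι) : j ∈ orb P R' k ↔ ∃ w ∈ subW P R', w • k = j := by
  unfold orb
  rw [Set.Finite.mem_toFinset]
  rfl

theorem self_mem_orb (R' : Set ι) (k : ι) : k ∈ orb P R' k :=
  (mem_orb R' k k).mpr ⟨1, one_mem _, one_smul _ _⟩

/-- The sum of the roots in the orbit. -/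
noncomputable def orbSum (P : RootPairing ι ℤ M N) (R' : Set ι) (k : ι) : M :=
  ∑ j ∈ orb P R' k, P.root j

theorem smul_orbSum (R' : Set ι) (k : ι) (w : P.Aut) (hw : w ∈ subW P R') :
    w • orbSum P R' k = orbSum P R' k := by
  unfold orbSum
  rw [Finset.smul_sum]
  apply Finset.sum_bij (fun j _ => w • j)
  · intro j hj
    obtain ⟨w', hw', rfl⟩ := (mem_orb R' k j).mp hj
    exact (mem_orb R' k _).mpr ⟨w * w', mul_mem hw hw', mul_smul _ _ _⟩
  · intro j₁ _ j₂ _ h
    exact MulAction.injective w h
  · intro j hj
    obtain ⟨w', hw', rfl⟩ := (mem_orb R' k j).mp hj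
    refine ⟨w⁻¹ • w' • k, ?_, smul_inv_smul _ _⟩
    exact (mem_orb R' k _).mpr ⟨w⁻¹ * w', mul_mem (inv_mem hw) hw', mul_smul _ _ _⟩
  · intro j _
    exact (root_smul w j).symm

theorem pairing_orbSum_eq_zero (R' : Set ι) (k : ι) (j : ι) (hj : j ∈ R') :
    P.toLinearMap (orbSum P R' k) (P.coroot j) = 0 := by
  have h1 := smul_orbSum R' k (RootPairing.Equiv.reflection P j)
    (Subgroup.subset_closure ⟨j, hj, rfl⟩)
  rw [RootPairing.Equiv.reflection_smul, P.reflection_apply, sub_eq_self] at h1
  have := torsionFreeM P
  rcases smul_eq_zero.mp h1 with h | h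
  · exact h
  · exact absurd h (P.ne_zero j)

theorem orbSum_sub_mem_span (R' : Set ι) (k : ι) :
    orbSum P R' k - (orb P R' k).card • P.root k ∈ Submodule.span ℤ (P.root '' R') := by
  unfold orbSum
  rw [← Finset.sum_const, ← Finset.sum_sub_distrib]
  apply Submodule.sum_mem
  intro j hj
  obtain ⟨w, hw, rfl⟩ := (mem_orb R' k j).mp hj
  exact Groth.Agent.S5463.forward P R' w hw k

theorem orbSum_mem_rootSpan (R' : Set ι) (k : ι) : orbSum P R' k ∈ P.rootSpan ℤ := by
  unfold orbSum
  apply Submodule.sum_mem
  intro j _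
  exact Submodule.subset_span ⟨j, rfl⟩

/-- For `k` outside a saturated set `R'`, a functional vanishing on `R'` but not at `k`. -/
theorem exists_functional_of_not_mem {R' : Set ι} (hsat : IsSat P R') (k : ι) (hk : k ∉ R') :
    ∃ g : M →ₗ[ℤ] ℤ, (∀ j ∈ R', g (P.root j) = 0) ∧ g (P.root k) ≠ 0 := by
  classical
  have := Fintype.ofFinite ι
  set σ := orbSum P R' k with hσ
  refine ⟨P.RootForm σ, ?_, ?_⟩
  · intro j hj
    have h1 := P.rootForm_reflection_reflection_apply j σ (P.root j)
    have h2 : P.reflection j σ = σ := by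
      rw [P.reflection_apply]
      change σ - P.toLinearMap σ (P.coroot j) • P.root j = σ
      rw [pairing_orbSum_eq_zero R' k j hj, zero_smul, sub_zero]
    rw [h2, P.reflection_apply_self, map_neg] at h1
    omega
  · have hvan : ∀ v ∈ Submodule.span ℤ (P.root '' R'), P.RootForm σ v = 0 := by
      intro v hv
      induction hv using Submodule.span_induction with
      | mem x hx =>
        obtain ⟨j, hj, rfl⟩ := hx
        have h1 := P.rootForm_reflection_reflection_apply j σ (P.root j)
        have h2 : P.reflection j σ = σ := by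
          rw [P.reflection_apply]
          change σ - P.toLinearMap σ (P.coroot j) • P.root j = σ
          rw [pairing_orbSum_eq_zero R' k j hj, zero_smul, sub_zero]
        rw [h2, P.reflection_apply_self, map_neg] at h1
        omega
      | zero => exact map_zero _
      | add x y _ _ hx hy => rw [map_add, hx, hy, add_zero]
      | smul a x _ hx => rw [map_smul, hx, smul_zero]
    have hcard : 0 < (orb P R' k).card := Finset.card_pos.mpr ⟨k, self_mem_orb R' k⟩
    have hσne : σ ≠ 0 := by
      intro h0
      apply hk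
      apply hsat k
      refine ⟨(orb P R' k).card, hcard, ?_⟩
      have := orbSum_sub_mem_span (P := P) R' k
      rw [← hσ, h0, zero_sub] at this
      exact (Submodule.neg_mem_iff _).mp this
    have hpos := P.rootForm_pos_of_ne_zero (orbSum_mem_rootSpan R' k) hσne
    intro h0
    have h3 := hvan _ (orbSum_sub_mem_span (P := P) R' k)
    rw [← hσ, map_sub, map_nsmul, h0, smul_zero, sub_zero] at h3
    rw [← hσ] at hpos
    omega

/-- A functional whose zero set among the roots is exactly the saturated set `R'`. -/
theorem exists_functional_ker_eq {R' : Set ι} (hsat : IsSat P R') :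
    ∃ g : M →ₗ[ℤ] ℤ, ∀ k : ι, g (P.root k) = 0 ↔ k ∈ R' := by
  classical
  have := Fintype.ofFinite ι
  have key : ∀ T : Finset ι, (∀ k ∈ T, k ∉ R') →
      ∃ g : M →ₗ[ℤ] ℤ, (∀ j ∈ R', g (P.root j) = 0) ∧ ∀ k ∈ T, g (P.root k) ≠ 0 := by
    intro T
    induction T using Finset.induction_on with
    | empty =>
      intro _
      exact ⟨0, fun j _ => rfl, fun k hk => absurd hk (Finset.notMem_empty k)⟩
    | insert a T ha ih =>
      intro hT
      obtain ⟨g, hg0, hgT⟩ := ih (fun k hk => hT k (Finset.mem_insert_of_mem hk))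
      by_cases h0 : g (P.root a) = 0
      · obtain ⟨ga, hga0, hgaa⟩ := exists_functional_of_not_mem hsat a
          (hT a (Finset.mem_insert_self a T))
        set K : ℤ := 1 + ∑ i ∈ T, |ga (P.root i)| with hK
        refine ⟨K • g + ga, ?_, ?_⟩
        · intro j hj
          rw [LinearMap.add_apply, LinearMap.smul_apply, hg0 j hj, hga0 j hj, smul_zero, add_zero]
        · intro i hi
          rw [Finset.mem_insert] at hi
          rw [LinearMap.add_apply, LinearMap.smul_apply, smul_eq_mul]
          rcases hi with rfl | hi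
          · rw [h0, mul_zero, zero_add]
            exact hgaa
          · have h1 := hgT i hi
            have h2 : |ga (P.root i)| < K := by
              have := Finset.single_le_sum (f := fun i => |ga (P.root i)|)
                (fun j _ => abs_nonneg _) hi
              omega
            have h3 : 1 ≤ |g (P.root i)| := Int.one_le_abs h1
            have hKpos : 0 < K := lt_of_le_of_lt (abs_nonneg _) h2
            intro h4
            have h5 : ga (P.root i) = -(K * g (P.root i)) := by omega
            rw [h5, abs_neg, abs_mul, abs_of_pos hKpos] at h2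
            nlinarith
      · refine ⟨g, hg0, ?_⟩
        intro i hi
        rw [Finset.mem_insert] at hi
        rcases hi with rfl | hi
        · exact h0
        · exact hgT i hi
  obtain ⟨g, hg0, hgT⟩ := key (Finset.univ.filter (fun k => k ∉ R')) (by
    intro k hk
    exact (Finset.mem_filter.mp hk).2)
  refine ⟨g, fun k => ⟨fun h => ?_, fun h => hg0 k h⟩⟩
  by_contra hk
  exact hgT k (Finset.mem_filter.mpr ⟨Finset.mem_univ k, hk⟩) h

end Groth.Agent.Lib.Helper16
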