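import Groth.Agent.Lib.Helper16.RootD12

set_option autoImplicit false

namespace Groth.Agent.Lib.Helper16

open RootD

variable {ι M N : Type*} [AddCommGroup M] [AddCommGroup N] {P : RootPairing ι ℤ M N}

/-- Cast a natural-valued finitely supported function to an integer-valued one. -/
noncomputable def castZ (c : ι →₀ ℕ) : ι →₀ ℤ := c.mapRange (fun n : ℕ => (n : ℤ)) Nat.cast_zero

theorem castZ_apply (c : ι →₀ ℕ) (i : ι) : castZ c i = (c i : ℤ) := by
  unfold castZ
  rw [Finsupp.mapRange_apply]

theorem lc_castZ (c : ι →₀ ℕ) :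
    Finsupp.linearCombination ℤ P.root (castZ c) = Finsupp.linearCombination ℕ P.root c := by
  unfold castZ
  rw [Finsupp.linearCombination_apply, Finsupp.linearCombination_apply,
    Finsupp.sum_mapRange_index (by intro a; simp)]
  apply Finset.sum_congr rfl
  intro a _
  exact natCast_zsmul _ _

theorem castZ_mem_supported {S : Set ι} {c : ι →₀ ℕ} (hc : ↑c.support ⊆ S) :
    castZ c ∈ Finsupp.supported ℤ ℤ S := by
  rw [Finsupp.mem_supported]
  intro i hi
  apply hc
  rw [Finset.mem_coe, Finsupp.mem_support_iff] at hi ⊢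
  intro h
  apply hi
  rw [castZ_apply, h]
  rfl

theorem castZ_add (c c' : ι →₀ ℕ) : castZ (c + c') = castZ c + castZ c' := by
  ext i
  rw [Finsupp.add_apply, castZ_apply, castZ_apply, castZ_apply, Finsupp.add_apply]
  push_cast
  rfl

theorem castZ_eq_zero {c : ι →₀ ℕ} (h : castZ c = 0) : c = 0 := by
  ext i
  have := DFunLike.congr_fun h i
  rw [castZ_apply] at this
  simpa using this

/-- For linearly independent roots, `x` and `-x` cannot both be non-negative combinations
unless `x = 0`. -/
theorem eq_zero_of_mem_natSpan_of_neg_mem {Δ' : Set ι} (hli : LinearIndepOn ℤ P.root Δ') (x : M)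
    (hx : x ∈ natSpan P Δ') (hx' : -x ∈ natSpan P Δ') : x = 0 := by
  obtain ⟨c, hc, hcx⟩ := (mem_natSpan_iff_finsupp P Δ' x).mp hx
  obtain ⟨c', hc', hcx'⟩ := (mem_natSpan_iff_finsupp P Δ' (-x)).mp hx'
  have h1 : Finsupp.linearCombination ℤ P.root (castZ c + castZ c') = 0 := by
    rw [map_add, lc_castZ, lc_castZ, hcx, hcx', add_neg_cancel]
  have h2 := (linearIndepOn_iff.mp hli) _
    (Submodule.add_mem _ (castZ_mem_supported hc) (castZ_mem_supported hc')) h1
  rw [← castZ_add] at h2
  have h3 := castZ_eq_zero h2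
  have h4 : c = 0 := by
    ext i
    have := DFunLike.congr_fun h3 i
    rw [Finsupp.add_apply] at this
    simp only [Finsupp.coe_zero, Pi.zero_apply] at this ⊢
    omega
  rw [← hcx, h4, map_zero]

/-- A root of a linearly independent set is not the sum of two non-zero non-negative
combinations. -/
theorem not_sum_of_linIndep {Δ' : Set ι} (hli : LinearIndepOn ℤ P.root Δ') (l : ι) (hl : l ∈ Δ')
    (x y : M) (hx : x ∈ natSpan P Δ') (hy : y ∈ natSpan P Δ') (hx0 : x ≠ 0) (hy0 : y ≠ 0)
    (h : P.root l = x + y) : False := by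
  classical
  obtain ⟨c, hc, hcx⟩ := (mem_natSpan_iff_finsupp P Δ' x).mp hx
  obtain ⟨c', hc', hcy⟩ := (mem_natSpan_iff_finsupp P Δ' y).mp hy
  have h1 : Finsupp.linearCombination ℤ P.root (castZ c + castZ c') =
      Finsupp.linearCombination ℤ P.root (Finsupp.single l (1 : ℤ)) := by
    rw [map_add, lc_castZ, lc_castZ, hcx, hcy, Finsupp.linearCombination_single, one_smul, h]
  have hs : Finsupp.single l (1 : ℤ) ∈ Finsupp.supported ℤ ℤ Δ' := by
    rw [Finsupp.mem_supported]
    intro i hi
    rw [Finset.mem_coe, Finsupp.mem_support_iff, Finsupp.single_apply] at hi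
    by_cases hli' : l = i
    · rw [← hli']; exact hl
    · rw [if_neg hli'] at hi; exact absurd rfl hi
  have h2 := (linearIndepOn_iffₛ.mp hli) _
    (Submodule.add_mem _ (castZ_mem_supported hc) (castZ_mem_supported hc')) _ hs h1
  have hc0 : c ≠ 0 := by
    rintro rfl
    apply hx0
    rw [← hcx, map_zero]
  have hc'0 : c' ≠ 0 := by
    rintro rfl
    apply hy0
    rw [← hcy, map_zero]
  obtain ⟨i, hi⟩ := Finsupp.support_nonempty_iff.mpr hc0
  obtain ⟨i', hi'⟩ := Finsupp.support_nonempty_iff.mpr hc'0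
  rw [Finsupp.mem_support_iff] at hi hi'
  have e1 := DFunLike.congr_fun h2 i
  have e2 := DFunLike.congr_fun h2 i'
  rw [Finsupp.add_apply, castZ_apply, castZ_apply, Finsupp.single_apply] at e1 e2
  by_cases hli1 : l = i
  · by_cases hli2 : l = i'
    · rw [if_pos hli1] at e1
      rw [← hli2] at hi'
      rw [← hli1] at e1 hi
      omega
    · rw [if_neg hli2] at e2
      omega
  · rw [if_neg hli1] at e1
    omega

end Groth.Agent.Lib.Helper16
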