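import Groth.Agent.Lib.Helper16.RootD13

set_option autoImplicit false

namespace Groth.Agent.Lib.Helper16

open RootD

variable {ι M N : Type*} [AddCommGroup M] [AddCommGroup N] {P : RootPairing ι ℤ M N}

/-- The saturation of a subgroup. -/
def satSub (V : Submodule ℤ M) : Submodule ℤ M where
  carrier := {x | ∃ n : ℕ, 0 < n ∧ n • x ∈ V}
  add_mem' := by
    rintro x y ⟨n, hn, hx⟩ ⟨m, hm, hy⟩
    refine ⟨n * m, Nat.mul_pos hn hm, ?_⟩
    rw [smul_add]
    have h1 : (n * m) • x = m • (n • x) := by rw [mul_comm, mul_smul]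
    have h2 : (n * m) • y = n • (m • y) := mul_smul _ _ _
    rw [h1, h2]
    exact V.add_mem (V.nsmul_mem hx m) (V.nsmul_mem hy n)
  zero_mem' := ⟨1, Nat.one_pos, by rw [smul_zero]; exact V.zero_mem⟩
  smul_mem' := by
    rintro c x ⟨n, hn, hx⟩
    refine ⟨n, hn, ?_⟩
    rw [smul_comm]
    exact V.smul_mem c hx

theorem mem_satSub (V : Submodule ℤ M) (x : M) : x ∈ satSub V ↔ ∃ n : ℕ, 0 < n ∧ n • x ∈ V :=
  Iff.rfl

theorem le_satSub (V : Submodule ℤ M) : V ≤ satSub V :=
  fun x hx => ⟨1, Nat.one_pos, by rw [one_smul]; exact hx⟩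

theorem isSat_satSub [Finite ι] (V : Submodule ℤ M) : IsSat P {m | P.root m ∈ satSub V} := by
  rintro k ⟨n, hn, hmem⟩
  have hle : Submodule.span ℤ (P.root '' {m | P.root m ∈ satSub V}) ≤ satSub V := by
    rw [Submodule.span_le]
    rintro _ ⟨j, hj, rfl⟩
    exact hj
  obtain ⟨n', hn', h'⟩ := hle hmem
  exact ⟨n' * n, Nat.mul_pos hn' hn, by rw [mul_smul]; exact h'⟩

theorem exists_lex [Finite ι] (g r : M →ₗ[ℤ] ℤ) : ∃ K : ℤ, 0 < K ∧ ∀ m : ι,
    (0 < g (P.root m) → 0 < (K • g + r) (P.root m)) ∧
      (g (P.root m) < 0 → (K • g + r) (P.root m) < 0) := by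
  classical
  have := Fintype.ofFinite ι
  have hsum_nonneg : 0 ≤ ∑ m : ι, |r (P.root m)| := Finset.sum_nonneg (fun j _ => abs_nonneg _)
  refine ⟨1 + ∑ m : ι, |r (P.root m)|, by omega, fun m => ?_⟩
  have h2 : |r (P.root m)| < 1 + ∑ m : ι, |r (P.root m)| := by
    have := Finset.single_le_sum (f := fun m : ι => |r (P.root m)|)
      (fun j _ => abs_nonneg _) (Finset.mem_univ m)
    omega
  set K : ℤ := 1 + ∑ m : ι, |r (P.root m)| with hK
  have hKpos : 0 < K := by omega
  rw [LinearMap.add_apply, LinearMap.smul_apply, smul_eq_mul]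
  constructor
  · intro hpos
    have h3 : K ≤ K * g (P.root m) := by nlinarith
    have h4 := neg_abs_le (r (P.root m))
    linarith
  · intro hneg
    have h3 : K * g (P.root m) ≤ -K := by nlinarith
    have h4 := le_abs_self (r (P.root m))
    linarith

/-- Positive rational multiples of an indivisible root that are roots. -/
theorem root_eq_or_eq_two_smul [Finite ι] (i a : ι) (hind : IsIndiv P i)
    (hmem : P.root a ∈ satSub (Submodule.span ℤ {P.root i})) (hpos : 0 < P.pairing a i) :
    P.root a = P.root i ∨ P.root a = (2 : ℤ) • P.root i := by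
  have htf := torsionFreeM P
  obtain ⟨n, hn, hna⟩ := hmem
  obtain ⟨c, hc⟩ := Submodule.mem_span_singleton.mp hna
  have e1 : (n : ℤ) * P.pairing a i = 2 * c := by
    have h := congrArg (fun x => P.toLinearMap x (P.coroot i)) hc
    simp only [map_zsmul, map_nsmul, LinearMap.smul_apply, P.root_coroot_eq_pairing,
      P.pairing_same, smul_eq_mul, nsmul_eq_mul] at h
    linarith
  have e2 : 2 * (n : ℤ) = c * P.pairing i a := by
    have h := congrArg (fun x => P.toLinearMap x (P.coroot a)) hc
    simp only [map_zsmul, map_nsmul, LinearMap.smul_apply, P.root_coroot_eq_pairing,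
      P.pairing_same, smul_eq_mul, nsmul_eq_mul] at h
    linarith
  have hnpos : (0 : ℤ) < n := by exact_mod_cast hn
  have hcpos : 0 < c := by nlinarith
  have hpos2 : 0 < P.pairing i a := by nlinarith
  have hprod : P.pairing a i * P.pairing i a = 4 := by
    have h1 : ((n : ℤ) * c) * (P.pairing a i * P.pairing i a) = ((n : ℤ) * c) * 4 := by
      calc ((n : ℤ) * c) * (P.pairing a i * P.pairing i a)
          = ((n : ℤ) * P.pairing a i) * (c * P.pairing i a) := by ring
        _ = (2 * c) * (2 * n) := by rw [e1, e2]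
        _ = ((n : ℤ) * c) * 4 := by ring
    have h2 : (n : ℤ) * c ≠ 0 := by positivity
    exact mul_left_cancel₀ h2 h1
  have hle : P.pairing a i ≤ 4 := by nlinarith
  have hcases : P.pairing a i = 1 ∨ P.pairing a i = 2 ∨ P.pairing a i = 4 := by
    have h3 : P.pairing a i ∣ 4 := ⟨_, hprod.symm⟩
    have : P.pairing a i = 1 ∨ P.pairing a i = 2 ∨ P.pairing a i = 3 ∨ P.pairing a i = 4 := by
      omega
    rcases this with h | h | h | h
    · exact Or.inl h
    · exact Or.inr (Or.inl h)
    · rw [h] at h3; norm_num at h3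
    · exact Or.inr (Or.inr h)
  have hnz : (n : ℤ) • P.root a = c • P.root i := by rw [natCast_zsmul]; exact hc.symm
  rcases hcases with h | h | h
  · exfalso
    rw [h, mul_one] at e1
    rw [e1, mul_smul] at hnz
    have h5 : c • ((2 : ℤ) • P.root a - P.root i) = 0 := by
      rw [smul_sub, ← hnz, smul_comm, sub_self]
    rcases smul_eq_zero.mp h5 with h6 | h6
    · omega
    · exact hind a (sub_eq_zero.mp h6)
  · left
    rw [h] at e1
    have hcn : c = n := by omega
    rw [hcn] at hnz
    have h5 : (n : ℤ) • (P.root a - P.root i) = 0 := by rw [smul_sub, hnz, sub_self]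
    rcases smul_eq_zero.mp h5 with h6 | h6
    · omega
    · exact sub_eq_zero.mp h6
  · right
    rw [h] at e1
    have hcn : c = 2 * n := by omega
    rw [hcn, mul_comm, mul_smul] at hnz
    have h5 : (n : ℤ) • (P.root a - (2 : ℤ) • P.root i) = 0 := by rw [smul_sub, hnz, sub_self]
    rcases smul_eq_zero.mp h5 with h6 | h6
    · omega
    · exact sub_eq_zero.mp h6

end Groth.Agent.Lib.Helper16
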