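import Groth.Agent.Lib.Helper16.RootD14

set_option autoImplicit false

namespace Groth.Agent.Lib.Helper16

open RootD

variable {ι M N : Type*} [AddCommGroup M] [AddCommGroup N] {P : RootPairing ι ℤ M N}
  [Finite ι] {Δ₁ : Set ι} (hΔ₁ : IsSimpleSys P Δ₁)

theorem natSpan_le_of_subset_posOf {T : Set ι} (hT : T ⊆ posOf P Δ₁) :
    natSpan P T ≤ natSpan P Δ₁ := by
  unfold natSpan
  rw [AddSubmonoid.closure_le]
  rintro _ ⟨j, hj, rfl⟩
  exact hT hj

include hΔ₁ in
/-- If a positive multiple of a simple root is a non-negative combination of positive roots,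
one of them is a positive multiple of that simple root. -/
theorem exists_smul_simple_of_nsmul (l₁ : ι) (hl₁ : l₁ ∈ Δ₁) (n : ℕ) (c : ι →₀ ℕ)
    (hc : ∀ l ∈ c.support, l ∈ posOf P Δ₁)
    (hn : n • P.root l₁ = Finsupp.linearCombination ℕ P.root c) (hn0 : 0 < n) :
    ∃ l ∈ c.support, ∃ a : ℤ, 1 ≤ a ∧ a ≤ n ∧ P.root l = a • P.root l₁ := by
  classical
  have hc0 : c ≠ 0 := by
    rintro rfl
    rw [map_zero] at hn
    exact P.ne_zero l₁ (nsmul_eq_zero_imp P n hn0 _ hn)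
  obtain ⟨l, hl⟩ := Finsupp.support_nonempty_iff.mpr hc0
  refine ⟨l, hl, ?_⟩
  have hcl : 0 < c l := Nat.pos_of_ne_zero (Finsupp.mem_support_iff.mp hl)
  have hle : Finsupp.single l 1 ≤ c := by
    intro j
    rw [Finsupp.single_apply]
    split_ifs with h
    · rw [← h]; omega
    · exact Nat.zero_le _
  have hc_eq : c = (c - Finsupp.single l 1) + Finsupp.single l 1 :=
    (tsub_add_cancel_of_le hle).symm
  have hrest : Finsupp.linearCombination ℕ P.root (c - Finsupp.single l 1) ∈ natSpan P Δ₁ := by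
    apply natSpan_le_of_subset_posOf (T := posOf P Δ₁) (le_refl _)
    rw [mem_natSpan_iff_finsupp]
    refine ⟨c - Finsupp.single l 1, ?_, rfl⟩
    intro j hj
    apply hc
    rw [Finset.mem_coe] at hj
    rw [Finsupp.mem_support_iff] at hj ⊢
    intro h0
    apply hj
    rw [Finsupp.tsub_apply, h0, Nat.zero_sub]
  set rest := Finsupp.linearCombination ℕ P.root (c - Finsupp.single l 1) with hrestdef
  have hsum : n • P.root l₁ = rest + P.root l := by
    have e1 := congrArg (Finsupp.linearCombination ℕ P.root) hc_eq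
    rw [map_add, Finsupp.linearCombination_single, one_smul] at e1
    rw [hn, e1]
  have hV : n • rootV hΔ₁ l₁ =
      (⟨rest, natSpan_le_spanΔ P Δ₁ hrest⟩ : spanΔ P Δ₁) + rootV hΔ₁ l := by
    apply Subtype.ext
    exact hsum
  have hco := congrArg (coV hΔ₁) hV
  rw [coV_nsmul, coV_add, ← co_def, ← co_def, co_simple hΔ₁ l₁ hl₁] at hco
  have hrest_nn := coV_nonneg_of_mem_natSpan hΔ₁ rest hrest
  have hl_nn := (mem_posOf_iff hΔ₁ l).mp (hc l hl)
  have hcoord : ∀ m : Δ₁, (n : ℤ) * (Finsupp.single (⟨l₁, hl₁⟩ : Δ₁) (1 : ℤ)) m =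
      coV hΔ₁ ⟨rest, natSpan_le_spanΔ P Δ₁ hrest⟩ m + co hΔ₁ l m := by
    intro m
    have h5 := DFunLike.congr_fun hco m
    simp only [Finsupp.smul_apply, Finsupp.add_apply, nsmul_eq_mul] at h5
    exact h5
  have hother : ∀ m : Δ₁, m ≠ ⟨l₁, hl₁⟩ → co hΔ₁ l m = 0 := by
    intro m hm
    have h5 := hcoord m
    rw [Finsupp.single_eq_of_ne hm, mul_zero] at h5
    have := hrest_nn m
    have := hl_nn m
    omega
  have hcol : co hΔ₁ l = (co hΔ₁ l ⟨l₁, hl₁⟩) • co hΔ₁ l₁ := by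
    rw [co_simple hΔ₁ l₁ hl₁]
    ext m
    rw [Finsupp.smul_apply, Finsupp.single_apply]
    by_cases hm : (⟨l₁, hl₁⟩ : Δ₁) = m
    · rw [if_pos hm, ← hm]
      simp
    · rw [if_neg hm, hother m (Ne.symm hm)]
      simp
  refine ⟨co hΔ₁ l ⟨l₁, hl₁⟩, ?_, ?_, ?_⟩
  · have hne := co_ne_zero hΔ₁ l
    have h0 := hl_nn ⟨l₁, hl₁⟩
    by_contra hlt
    have hz : co hΔ₁ l ⟨l₁, hl₁⟩ = 0 := by omega
    apply hne
    rw [hcol, hz, zero_smul]
  · have h5 := hcoord ⟨l₁, hl₁⟩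
    rw [Finsupp.single_eq_same, mul_one] at h5
    have := hrest_nn ⟨l₁, hl₁⟩
    omega
  · rw [co_def, co_def hΔ₁ l₁, ← coV_zsmul] at hcol
    exact congrArg Subtype.val (coV_injective hΔ₁ hcol)

end Groth.Agent.Lib.Helper16
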