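import Groth.Agent.Lib.Helper16.RootD
import Mathlib.LinearAlgebra.RootSystem.Finite.Lemmas
import Mathlib.LinearAlgebra.RootSystem.Finite.CanonicalBilinear

set_option autoImplicit false

namespace Groth.Agent.Lib.Helper16

open RootD

variable {ι M N : Type*} [AddCommGroup M] [AddCommGroup N] (P : RootPairing ι ℤ M N)

theorem exists_pos_pairing_of_sum {α : Type*} (s : Finset α) (a : α → ι) (c : α → ℤ)
    (hc : ∀ i ∈ s, 0 ≤ c i) (k : ι) (h : P.root k = ∑ i ∈ s, c i • P.root (a i)) :
    ∃ i ∈ s, 0 < c i ∧ 0 < P.pairing (a i) k := by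
  have h2 : (2 : ℤ) = ∑ i ∈ s, c i * P.pairing (a i) k := by
    have h1 := P.pairing_same k
    rw [← P.root_coroot_eq_pairing, h, map_sum, LinearMap.sum_apply] at h1
    rw [← h1]
    apply Finset.sum_congr rfl
    intro i _
    rw [map_zsmul, LinearMap.smul_apply, P.root_coroot_eq_pairing, smul_eq_mul]
  by_contra hne
  push Not at hne
  have h3 : ∑ i ∈ s, c i * P.pairing (a i) k ≤ 0 := by
    apply Finset.sum_nonpos
    intro i hi
    rcases (hc i hi).eq_or_lt with h0 | hpos
    · rw [← h0, zero_mul]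
    · exact mul_nonpos_of_nonneg_of_nonpos (hc i hi) (hne i hi hpos)
  omega

theorem pairingIn_int_eq (i j : ι) : P.pairingIn ℤ i j = P.pairing i j := by
  have := P.algebraMap_pairingIn ℤ i j
  simpa using this

variable [Finite ι]

theorem pairing_pos_symm (i j : ι) (h : 0 < P.pairing i j) : 0 < P.pairing j i := by
  rw [← pairingIn_int_eq] at h ⊢
  exact (P.zero_lt_pairingIn_iff' ℤ).mp h

theorem root_sub_root_mem_of_pairing_pos (i j : ι) (h : 0 < P.pairing i j) (hij : i ≠ j) :
    ∃ k : ι, P.root k = P.root i - P.root j := by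
  rw [← pairingIn_int_eq] at h
  exact P.root_sub_root_mem_of_pairingIn_pos h hij

variable {P} {Δ : Set ι} (hΔ : IsSimpleSys P Δ)

theorem root_eq_sum (k : ι) :
    P.root k = ∑ l ∈ (co hΔ k).support, co hΔ k l • P.root l := by
  have h2 := (bas hΔ).linearCombination_repr (rootV hΔ k)
  have h3 := congrArg (Subtype.val) h2
  rw [Finsupp.linearCombination_apply, Finsupp.sum] at h3
  change _ = P.root k at h3
  rw [← h3]
  simp only [AddSubmonoidClass.coe_finsetSum, Submodule.coe_smul]
  apply Finset.sum_congr rfl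
  intro l _
  rw [bas_apply]
  rfl

theorem exists_simple_pos_pairing (k : ι) (hk : k ∈ posOf P Δ) :
    ∃ l : Δ, 0 < co hΔ k l ∧ 0 < P.pairing l k := by
  have h0 := (mem_posOf_iff hΔ k).mp hk
  obtain ⟨l, _, h1, h2⟩ := exists_pos_pairing_of_sum P (co hΔ k).support (fun l : Δ => (l : ι))
    (fun l => co hΔ k l) (fun l _ => h0 l) k (root_eq_sum hΔ k)
  exact ⟨l, h1, h2⟩

end Groth.Agent.Lib.Helper16
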