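import Groth.Agent.Lib.Helper16.RootD2

set_option autoImplicit false

namespace Groth.Agent.Lib.Helper16

open RootD

variable {ι M N : Type*} [AddCommGroup M] [AddCommGroup N] (P : RootPairing ι ℤ M N)

/-- Roots reachable from `S` by successively adding roots of `S`, staying among the roots. -/
inductive Reach (S : Set ι) : ι → Prop
  | base {i : ι} : i ∈ S → Reach S i
  | step {i j k : ι} : Reach S i → j ∈ S → P.root k = P.root i + P.root j → Reach S k

theorem reach_closed {S : Set ι} (hcl : IsClosedSub P S) {k : ι} (h : Reach P S k) : k ∈ S := by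
  induction h with
  | base hi => exact hi
  | step _ hj hk ih => exact hcl ih hj hk

theorem mem_natSpan_iff_finsupp (S : Set ι) (x : M) :
    x ∈ natSpan P S ↔ ∃ c : ι →₀ ℕ, (↑c.support ⊆ S) ∧ Finsupp.linearCombination ℕ P.root c = x := by
  unfold natSpan
  rw [← Submodule.span_nat_eq_addSubmonoidClosure, Submodule.mem_toAddSubmonoid,
    Finsupp.mem_span_image_iff_linearCombination]
  constructor
  · rintro ⟨c, hc, rfl⟩
    exact ⟨c, hc, rfl⟩
  · rintro ⟨c, hc, rfl⟩
    exact ⟨c, hc, rfl⟩

variable [Finite ι]

theorem reach_of_sum (S : Set ι) :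
    ∀ (T : ℕ) (m : ι →₀ ℕ) (k : ι), m.degree = T → (↑m.support ⊆ S) →
      P.root k = Finsupp.linearCombination ℕ P.root m → Reach P S k := by
  classical
  intro T
  induction T with
  | zero =>
    intro m k hT _ hk
    exfalso
    have hm0 : m = 0 := by
      rw [Finsupp.degree_eq_zero_iff] at hT
      exact hT
    apply P.ne_zero k
    rw [hk, hm0, map_zero]
  | succ T ih =>
    intro m k hT hS hk
    have hk' : P.root k = ∑ i ∈ m.support, ((m i : ℕ) : ℤ) • P.root i := by
      rw [hk, Finsupp.linearCombination_apply, Finsupp.sum]
      apply Finset.sum_congr rfl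
      intro i _
      rw [natCast_zsmul]
    obtain ⟨i, hisupp, hi1, hi2⟩ := exists_pos_pairing_of_sum P m.support (fun i => i)
      (fun i => (m i : ℤ)) (fun i _ => Int.natCast_nonneg _) k hk'
    have hmi : 0 < m i := by exact_mod_cast hi1
    have hiS : i ∈ S := hS hisupp
    by_cases hki : k = i
    · rw [hki]
      exact Reach.base hiS
    · have hpos := pairing_pos_symm P i k hi2
      obtain ⟨k', hk'root⟩ := root_sub_root_mem_of_pairing_pos P k i hpos hki
      have hle : Finsupp.single i 1 ≤ m := by
        intro j
        rw [Finsupp.single_apply]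
        split_ifs with h
        · rw [← h]; omega
        · exact Nat.zero_le _
      have hm_eq : m = (m - Finsupp.single i 1) + Finsupp.single i 1 :=
        (tsub_add_cancel_of_le hle).symm
      have hdeg : (m - Finsupp.single i 1).degree = T := by
        have h1 := congrArg Finsupp.degree hm_eq
        rw [map_add, Finsupp.degree_single, hT] at h1
        omega
      have hsupp : (↑(m - Finsupp.single i 1).support : Set ι) ⊆ S := by
        intro j hj
        apply hS
        rw [Finset.mem_coe, Finsupp.mem_support_iff] at hj ⊢
        intro h0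
        apply hj
        rw [Finsupp.tsub_apply, h0, Nat.zero_sub]
      have hlc : P.root k' = Finsupp.linearCombination ℕ P.root (m - Finsupp.single i 1) := by
        have h1 := congrArg (Finsupp.linearCombination ℕ P.root) hm_eq
        rw [map_add, Finsupp.linearCombination_single, one_smul, ← hk] at h1
        rw [hk'root, h1]
        abel
      have hreach := ih (m - Finsupp.single i 1) k' hdeg hsupp hlc
      exact Reach.step hreach hiS (by rw [hk'root]; abel)

theorem reach_of_sum' (S : Set ι) (m : ι →₀ ℕ) (k : ι) (hS : ↑m.support ⊆ S)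
    (hk : P.root k = Finsupp.linearCombination ℕ P.root m) : Reach P S k :=
  reach_of_sum P S m.degree m k rfl hS hk

end Groth.Agent.Lib.Helper16
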