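import Groth.Agent.Lib.Helper16.RootD3

set_option autoImplicit false

namespace Groth.Agent.Lib.Helper16

open RootD

variable {ι M N : Type*} [AddCommGroup M] [AddCommGroup N] {P : RootPairing ι ℤ M N}
  {Δ : Set ι} (hΔ : IsSimpleSys P Δ)

theorem span_image_le_spanΔ {Δ' : Set ι} (hsub : Δ' ⊆ Δ) :
    Submodule.span ℤ (P.root '' Δ') ≤ spanΔ P Δ := by
  apply Submodule.span_mono
  rintro _ ⟨i, hi, rfl⟩
  exact ⟨⟨i, hsub hi⟩, rfl⟩

theorem coV_eq_zero_of_mem_span {Δ' : Set ι} (hsub : Δ' ⊆ Δ) (l : Δ) (hl : (l : ι) ∉ Δ')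
    (x : M) (hx : x ∈ Submodule.span ℤ (P.root '' Δ')) :
    coV hΔ ⟨x, span_image_le_spanΔ hsub hx⟩ l = 0 := by
  classical
  induction hx using Submodule.span_induction with
  | mem x hx =>
    obtain ⟨i, hi, rfl⟩ := hx
    have h1 : coV hΔ ⟨P.root i, span_image_le_spanΔ hsub (Submodule.subset_span ⟨i, hi, rfl⟩)⟩
        = co hΔ i := rfl
    rw [h1, co_simple hΔ i (hsub hi), Finsupp.single_apply, if_neg]
    intro h
    apply hl
    rw [← h]
    exact hi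
  | zero =>
    have h1 : (⟨0, span_image_le_spanΔ hsub (Submodule.zero_mem _)⟩ : spanΔ P Δ) = 0 := rfl
    rw [h1]
    unfold coV
    rw [map_zero]
    rfl
  | add x y hx hy ihx ihy =>
    have h1 : (⟨x + y, span_image_le_spanΔ hsub (Submodule.add_mem _ hx hy)⟩ : spanΔ P Δ) =
        ⟨x, span_image_le_spanΔ hsub hx⟩ + ⟨y, span_image_le_spanΔ hsub hy⟩ := rfl
    rw [h1, coV_add, Finsupp.add_apply, ihx, ihy, add_zero]
  | smul a x hx ihx =>
    have h1 : (⟨a • x, span_image_le_spanΔ hsub (Submodule.smul_mem _ a hx)⟩ : spanΔ P Δ) =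
        a • ⟨x, span_image_le_spanΔ hsub hx⟩ := rfl
    rw [h1, coV_zsmul, Finsupp.smul_apply, ihx, smul_zero]

variable [Finite ι]

theorem mem_inSpan_iff {Δ' : Set ι} (hsub : Δ' ⊆ Δ) (k : ι) :
    k ∈ inSpan P Δ' ↔ ∀ l : Δ, (l : ι) ∉ Δ' → co hΔ k l = 0 := by
  constructor
  · intro hk l hl
    exact coV_eq_zero_of_mem_span hΔ hsub l hl _ hk
  · intro h
    change P.root k ∈ Submodule.span ℤ (P.root '' Δ')
    rw [root_eq_sum hΔ k]
    apply Submodule.sum_mem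
    intro l hl
    apply Submodule.smul_mem
    apply Submodule.subset_span
    refine ⟨(l : ι), ?_, rfl⟩
    by_contra hl'
    rw [Finsupp.mem_support_iff] at hl
    exact hl (h l hl')

theorem not_mem_inSpan_iff {Δ' : Set ι} (hsub : Δ' ⊆ Δ) (k : ι) :
    k ∉ inSpan P Δ' ↔ ∃ l : Δ, (l : ι) ∉ Δ' ∧ co hΔ k l ≠ 0 := by
  rw [mem_inSpan_iff hΔ hsub]
  push Not
  rfl

include hΔ in
theorem reflection_pos_notin {Δ' : Set ι} (hsub : Δ' ⊆ Δ) (i : ι) (hi : i ∈ Δ') (k : ι)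
    (hk : k ∈ posOf P Δ) (hk' : k ∉ inSpan P Δ') :
    P.reflectionPerm i k ∈ posOf P Δ ∧ P.reflectionPerm i k ∉ inSpan P Δ' := by
  classical
  obtain ⟨l, hl, hl0⟩ := (not_mem_inSpan_iff hΔ hsub k).mp hk'
  have hne : (⟨i, hsub hi⟩ : Δ) ≠ l := by
    intro h
    apply hl
    rw [← h]
    exact hi
  have hco : co hΔ (P.reflectionPerm i k) l = co hΔ k l := by
    rw [co_reflection, co_simple hΔ i (hsub hi), Finsupp.sub_apply, Finsupp.smul_apply,
      Finsupp.single_apply, if_neg hne]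
    simp
  constructor
  · rw [mem_posOf_iff_exists_pos hΔ]
    refine ⟨l, ?_⟩
    rw [hco]
    have := (mem_posOf_iff hΔ k).mp hk l
    omega
  · rw [not_mem_inSpan_iff hΔ hsub]
    exact ⟨l, hl, by rw [hco]; exact hl0⟩

end Groth.Agent.Lib.Helper16
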