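import Groth.Agent.Lib.Helper16.RootD4
import Mathlib.LinearAlgebra.RootSystem.BaseExists

set_option autoImplicit false

namespace Groth.Agent.Lib.Helper16

open RootD

variable {ι M N : Type*} [AddCommGroup M] [AddCommGroup N] (P : RootPairing ι ℤ M N)

theorem exists_coweight_ne_zero (s : Finset ι) :
    ∃ n : N, ∀ i ∈ s, P.toLinearMap (P.root i) n ≠ 0 := by
  classical
  induction s using Finset.induction_on with
  | empty => exact ⟨0, fun i hi => absurd hi (Finset.notMem_empty i)⟩
  | insert a s ha ih =>
    obtain ⟨n, hn⟩ := ih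
    by_cases h0 : P.toLinearMap (P.root a) n = 0
    · set K : ℤ := 1 + ∑ i ∈ s, |P.pairing i a| with hK
      refine ⟨K • n + P.coroot a, ?_⟩
      intro i hi
      rw [Finset.mem_insert] at hi
      rw [map_add, map_zsmul, P.root_coroot_eq_pairing, smul_eq_mul]
      rcases hi with rfl | hi
      · rw [h0, mul_zero, zero_add, P.pairing_same]
        norm_num
      · have h1 := hn i hi
        have h2 : |P.pairing i a| < K := by
          have := Finset.single_le_sum (f := fun i => |P.pairing i a|)
            (fun j _ => abs_nonneg _) hi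
          omega
        have h3 : 1 ≤ |P.toLinearMap (P.root i) n| := Int.one_le_abs h1
        have hKpos : 0 < K := lt_of_le_of_lt (abs_nonneg _) h2
        intro h4
        have h5 : P.pairing i a = -(K * P.toLinearMap (P.root i) n) := by omega
        rw [h5, abs_neg, abs_mul, abs_of_pos hKpos] at h2
        nlinarith
    · refine ⟨n, ?_⟩
      intro i hi
      rw [Finset.mem_insert] at hi
      rcases hi with rfl | hi
      · exact h0
      · exact hn i hi

variable [Finite ι]

theorem exists_generic : ∃ f : M →ₗ[ℤ] ℤ, ∀ i, f (P.root i) ≠ 0 := by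
  classical
  have := Fintype.ofFinite ι
  obtain ⟨n, hn⟩ := exists_coweight_ne_zero P Finset.univ
  exact ⟨P.toLinearMap.flip n, fun i => hn i (Finset.mem_univ i)⟩

/-- The simple system attached to a linear functional. -/
def simpleOf (f : M →ₗ[ℤ] ℤ) : Set ι :=
  IsAddIndecomposable.baseOf P.root (f : M →+ ℤ)

theorem natSpan_simpleOf (f : M →ₗ[ℤ] ℤ) :
    natSpan P (simpleOf P f) = AddSubmonoid.closure (P.root '' {i | 0 < f (P.root i)}) :=
  AddSubmonoid.closure_image_isAddIndecomposable_baseOf P.root (f : M →+ ℤ)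

theorem posOf_simpleOf (f : M →ₗ[ℤ] ℤ) :
    posOf P (simpleOf P f) = {i | 0 < f (P.root i)} := by
  ext i
  change P.root i ∈ natSpan P (simpleOf P f) ↔ _
  rw [natSpan_simpleOf]
  exact AddSubmonoid.mem_closure_image_pos_iff P.root (f : M →+ ℤ) i (P.ne_zero i)

theorem simpleOf_isSimpleSys (f : M →ₗ[ℤ] ℤ) (hf : ∀ i, f (P.root i) ≠ 0) :
    IsSimpleSys P (simpleOf P f) := by
  constructor
  · exact P.linearIndepOn_root_baseOf' (S := ℤ) f hf
  · intro i
    let _i := P.indexNeg
    exact IsAddIndecomposable.mem_or_neg_mem_closure_baseOf P.root (f : M →+ ℤ) i (hf i)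
      (by simp)

theorem exists_simpleSys : ∃ Δ : Set ι, IsSimpleSys P Δ := by
  obtain ⟨f, hf⟩ := exists_generic P
  exact ⟨_, simpleOf_isSimpleSys P f hf⟩

end Groth.Agent.Lib.Helper16
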