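import Groth.Agent.Lib.Helper16.RootD5
import Mathlib.LinearAlgebra.RootSystem.WeylGroup

set_option autoImplicit false

namespace Groth.Agent.Lib.Helper16

open RootD

variable {ι M N : Type*} [AddCommGroup M] [AddCommGroup N] {P : RootPairing ι ℤ M N}

theorem root_smul (g : P.Aut) (k : ι) : P.root (g • k) = g • P.root k :=
  RootPairing.Equiv.root_indexEquiv_eq_smul P k g

theorem smul_negIdx (g : P.Aut) (k : ι) :
    g • (P.reflectionPerm k k) = P.reflectionPerm (g • k) (g • k) := by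
  apply P.root.injective
  rw [root_smul, root_negIdx, root_negIdx, smul_neg, root_smul]

theorem reflection_smul_idx (i k : ι) :
    RootPairing.Equiv.reflection P i • k = P.reflectionPerm i k := rfl

theorem isClosedSub_preimage (g : P.Aut) {P' : Set ι} (hcl : IsClosedSub P P') :
    IsClosedSub P {k | g • k ∈ P'} := by
  intro i j k hi hj hk
  apply hcl hi hj
  rw [root_smul, root_smul, root_smul, hk, smul_add]

theorem cover_preimage (g : P.Aut) {P' : Set ι}
    (hP2 : ∀ i, i ∈ P' ∨ P.reflectionPerm i i ∈ P') :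
    ∀ i, i ∈ {k | g • k ∈ P'} ∨ P.reflectionPerm i i ∈ {k | g • k ∈ P'} := by
  intro i
  rcases hP2 (g • i) with h | h
  · left; exact h
  · right
    change g • _ ∈ P'
    rw [smul_negIdx]
    exact h

variable [Finite ι] {Δ : Set ι} (hΔ : IsSimpleSys P Δ)

include hΔ in
theorem pos_dichotomy (l : ι) (hl : l ∈ Δ) (k : ι) (hk : k ∈ posOf P Δ) :
    P.reflectionPerm l k ∈ posOf P Δ ∨ k = l ∨ P.root k = (2 : ℤ) • P.root l := by
  classical
  have hk0 := (mem_posOf_iff hΔ k).mp hk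
  by_cases hex : ∃ l' : Δ, l' ≠ ⟨l, hl⟩ ∧ 0 < co hΔ k l'
  · left
    obtain ⟨l', hl', hl'pos⟩ := hex
    rw [mem_posOf_iff_exists_pos hΔ]
    refine ⟨l', ?_⟩
    rw [co_reflection, co_simple hΔ l hl, Finsupp.sub_apply, Finsupp.smul_apply,
      Finsupp.single_apply, if_neg (Ne.symm hl')]
    simpa using hl'pos
  · right
    push Not at hex
    have hco : co hΔ k = (co hΔ k ⟨l, hl⟩) • co hΔ l := by
      rw [co_simple hΔ l hl]
      ext l'
      rw [Finsupp.smul_apply, Finsupp.single_apply]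
      by_cases hl' : (⟨l, hl⟩ : Δ) = l'
      · rw [if_pos hl', ← hl']
        simp
      · rw [if_neg hl']
        have := hex l' (Ne.symm hl')
        have := hk0 l'
        simp
        omega
    rw [co_def, co_def hΔ l, ← coV_zsmul] at hco
    have h1 := coV_injective hΔ hco
    have h2 : P.root k = (co hΔ k ⟨l, hl⟩) • P.root l := congrArg Subtype.val h1
    have h3 : (2 : ℤ) = co hΔ k ⟨l, hl⟩ * P.pairing l k := by
      have h4 := P.pairing_same k
      rw [← P.root_coroot_eq_pairing, h2, map_zsmul, LinearMap.smul_apply,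
        P.root_coroot_eq_pairing, smul_eq_mul] at h4
      exact h4.symm
    have hn : co hΔ k ⟨l, hl⟩ = 0 ∨ co hΔ k ⟨l, hl⟩ = 1 ∨ co hΔ k ⟨l, hl⟩ = 2 := by
      have hdvd : co hΔ k ⟨l, hl⟩ ∣ 2 := ⟨_, h3⟩
      have hle := Int.le_of_dvd (by norm_num) hdvd
      have := hk0 ⟨l, hl⟩
      omega
    rcases hn with hn | hn | hn
    · rw [hn, zero_mul] at h3
      norm_num at h3
    · left
      rw [hn, one_smul] at h2
      exact P.root.injective h2
    · right
      rw [hn] at h2
      exact h2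

include hΔ in
theorem step_ssubset {B : Set ι} (hcl : IsClosedSub P B)
    (hP2 : ∀ i, i ∈ B ∨ P.reflectionPerm i i ∈ B) (l : ι) (hl : l ∈ Δ) (hlB : l ∉ B) :
    {k | k ∈ posOf P Δ ∧ k ∈ B} ⊂ {k | P.reflectionPerm l k ∈ posOf P Δ ∧ k ∈ B} := by
  have hnl : P.reflectionPerm l l ∈ B := (hP2 l).resolve_left hlB
  have hsub : {k | k ∈ posOf P Δ ∧ k ∈ B} ⊆ {k | P.reflectionPerm l k ∈ posOf P Δ ∧ k ∈ B} := by
    rintro k ⟨hk, hkB⟩
    refine ⟨?_, hkB⟩
    rcases pos_dichotomy hΔ l hl k hk with h | rfl | h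
    · exact h
    · exact absurd hkB hlB
    · exfalso
      apply hlB
      apply hcl hkB hnl
      rw [root_negIdx, h]
      module
  rw [Set.ssubset_iff_of_subset hsub]
  refine ⟨P.reflectionPerm l l, ⟨?_, hnl⟩, ?_⟩
  · change P.reflectionPerm l (P.reflectionPerm l l) ∈ posOf P Δ
    rw [P.reflectionPerm_self]
    exact simple_mem_posOf l hl
  · rintro ⟨h1, _⟩
    exact (not_mem_posOf_iff hΔ l).mpr h1 (simple_mem_posOf l hl)

include hΔ in
theorem exists_weyl_pos_subset {P' : Set ι} (hcl : IsClosedSub P P')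
    (hP2 : ∀ i, i ∈ P' ∨ P.reflectionPerm i i ∈ P') :
    ∃ g : P.Aut, g ∈ P.weylGroup ∧ ∀ k ∈ posOf P Δ, g • k ∈ P' := by
  classical
  let Nf : P.Aut → ℕ := fun g => Set.ncard {k | k ∈ posOf P Δ ∧ g • k ∈ P'}
  have hbd : ∀ g, Nf g ≤ Nat.card ι := fun g => by
    calc Nf g ≤ (Set.univ : Set ι).ncard :=
          Set.ncard_le_ncard (Set.subset_univ _) (Set.toFinite _)
      _ = Nat.card ι := Set.ncard_univ ι
  obtain ⟨g, hgW, hmax⟩ : ∃ g ∈ P.weylGroup, ∀ g' ∈ P.weylGroup, Nf g' ≤ Nf g := by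
    let T : Set ℕ := Nf '' (P.weylGroup : Set P.Aut)
    have hTne : T.Nonempty := ⟨Nf 1, 1, one_mem _, rfl⟩
    have hTbdd : BddAbove T := ⟨Nat.card ι, by rintro _ ⟨g, _, rfl⟩; exact hbd g⟩
    obtain ⟨g, hg, hgeq⟩ := Nat.sSup_mem hTne hTbdd
    refine ⟨g, hg, fun g' hg' => ?_⟩
    rw [hgeq]
    exact le_csSup hTbdd ⟨g', hg', rfl⟩
  refine ⟨g, hgW, ?_⟩
  have hΔB : ∀ l ∈ Δ, g • l ∈ P' := by
    intro l hl
    by_contra hlB
    have hss := step_ssubset hΔ (isClosedSub_preimage g hcl) (cover_preimage g hP2) l hl hlB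
    have hlt := Set.ncard_lt_ncard hss (Set.toFinite _)
    have hg' : g * RootPairing.Equiv.reflection P l ∈ P.weylGroup :=
      mul_mem hgW (P.reflection_mem_weylGroup l)
    have hle := hmax _ hg'
    have heq : Nf (g * RootPairing.Equiv.reflection P l) =
        Set.ncard {k | P.reflectionPerm l k ∈ posOf P Δ ∧ k ∈ {k | g • k ∈ P'}} := by
      change Set.ncard _ = _
      rw [← Set.ncard_image_of_injective _ (P.reflectionPerm l).injective]
      congr 1
      ext k
      simp only [Set.mem_image, Set.mem_setOf_eq]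
      constructor
      · rintro ⟨k', ⟨h1, h2⟩, rfl⟩
        refine ⟨?_, ?_⟩
        · rw [P.reflectionPerm_self]; exact h1
        · rw [mul_smul] at h2; exact h2
      · rintro ⟨h1, h2⟩
        refine ⟨P.reflectionPerm l k, ⟨h1, ?_⟩, P.reflectionPerm_self l k⟩
        rw [mul_smul, reflection_smul_idx, P.reflectionPerm_self]
        exact h2
    change Nf g < _ at hlt
    omega
  intro k hk
  obtain ⟨c, hc, hck⟩ := (mem_natSpan_iff_finsupp P Δ _).mp hk
  have hreach := reach_of_sum' P {k | g • k ∈ P'} c k (fun i hi => hΔB i (hc hi)) hck.symm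
  exact reach_closed P (isClosedSub_preimage g hcl) hreach

end Groth.Agent.Lib.Helper16
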