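import Groth.Agent.Lib.Helper16.RootD6

set_option autoImplicit false

namespace Groth.Agent.Lib.Helper16

open RootD

variable {ι M N : Type*} [AddCommGroup M] [AddCommGroup N] {P : RootPairing ι ℤ M N}

theorem smul_injective_M (g : P.Aut) : Function.Injective (fun x : M => g • x) :=
  MulAction.injective g

theorem natSpan_image (g : P.Aut) (Δ : Set ι) :
    natSpan P ((fun i : ι => g • i) '' Δ) =
      (natSpan P Δ).map (DistribSMul.toAddMonoidHom M g) := by
  unfold natSpan
  rw [AddMonoidHom.map_mclosure]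
  congr 1
  ext x
  constructor
  · rintro ⟨_, ⟨i, hi, rfl⟩, rfl⟩
    exact ⟨P.root i, ⟨i, hi, rfl⟩, (root_smul g i).symm⟩
  · rintro ⟨_, ⟨i, hi, rfl⟩, rfl⟩
    exact ⟨g • i, ⟨i, hi, rfl⟩, root_smul g i⟩

theorem mem_natSpan_image_iff (g : P.Aut) (Δ : Set ι) (x : M) :
    g • x ∈ natSpan P ((fun i : ι => g • i) '' Δ) ↔ x ∈ natSpan P Δ := by
  rw [natSpan_image]
  constructor
  · rintro ⟨y, hy, hyx⟩
    have : y = x := smul_injective_M g hyx
    rw [← this]
    exact hy
  · intro hx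
    exact ⟨x, hx, rfl⟩

theorem smul_mem_posOf_image_iff (g : P.Aut) (Δ : Set ι) (k : ι) :
    g • k ∈ posOf P ((fun i : ι => g • i) '' Δ) ↔ k ∈ posOf P Δ := by
  change P.root (g • k) ∈ natSpan P _ ↔ P.root k ∈ natSpan P Δ
  rw [root_smul, mem_natSpan_image_iff]

theorem posOf_image (g : P.Aut) (Δ : Set ι) :
    posOf P ((fun i : ι => g • i) '' Δ) = (fun i : ι => g • i) '' posOf P Δ := by
  ext k
  constructor
  · intro hk
    refine ⟨g⁻¹ • k, ?_, smul_inv_smul g k⟩
    rw [← smul_mem_posOf_image_iff g, smul_inv_smul]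
    exact hk
  · rintro ⟨k', hk', rfl⟩
    exact (smul_mem_posOf_image_iff g Δ k').mpr hk'

theorem isSimpleSys_image (g : P.Aut) {Δ : Set ι} (hΔ : IsSimpleSys P Δ) :
    IsSimpleSys P ((fun i : ι => g • i) '' Δ) := by
  constructor
  · apply LinearIndepOn.image_of_comp
    have h1 : (P.root ∘ fun i : ι => g • i) = (DistribSMul.toLinearMap ℤ M g) ∘ P.root := by
      funext i
      exact root_smul g i
    rw [h1]
    exact hΔ.linInd.map_injOn _ ((smul_injective_M g).injOn)
  · intro i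
    have h2 : P.root i = g • P.root (g⁻¹ • i) := by
      rw [← root_smul, smul_inv_smul]
    rcases hΔ.mem_or_neg_mem (g⁻¹ • i) with h | h
    · left
      rw [h2, mem_natSpan_image_iff]
      exact h
    · right
      rw [h2, ← smul_neg, mem_natSpan_image_iff]
      exact h

variable [Finite ι]

/-- Two sets satisfying (P1) resp. (P2), one contained in the other, are equal. -/
theorem eq_of_subset_of_cover_disjoint {A B : Set ι} (hAB : A ⊆ B)
    (hA : ∀ i, i ∈ A ∨ P.reflectionPerm i i ∈ A) (hB : ∀ i ∈ B, P.reflectionPerm i i ∉ B) :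
    A = B := by
  apply Set.Subset.antisymm hAB
  intro k hk
  rcases hA k with h | h
  · exact h
  · exact absurd (hAB h) (hB k hk)

theorem isPosSys_closed {S : Set ι} (hS : IsPosSys P S) : IsClosedSub P S := by
  intro i j k hi hj hk
  apply hS.sat 1 Nat.one_pos
  rw [one_smul, hk]
  exact add_mem (AddSubmonoid.subset_closure ⟨i, hi, rfl⟩)
    (AddSubmonoid.subset_closure ⟨j, hj, rfl⟩)

theorem cover_image (g : P.Aut) {A : Set ι} (hA : ∀ i, i ∈ A ∨ P.reflectionPerm i i ∈ A) :
    ∀ i, i ∈ (fun i : ι => g • i) '' A ∨ P.reflectionPerm i i ∈ (fun i : ι => g • i) '' A := by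
  intro i
  rcases hA (g⁻¹ • i) with h | h
  · left
    exact ⟨_, h, smul_inv_smul g i⟩
  · right
    refine ⟨_, h, ?_⟩
    change g • _ = _
    rw [smul_negIdx, smul_inv_smul]

theorem posOf_cover {Δ : Set ι} (hΔ : IsSimpleSys P Δ) :
    ∀ i, i ∈ posOf P Δ ∨ P.reflectionPerm i i ∈ posOf P Δ := by
  intro i
  by_cases h : i ∈ posOf P Δ
  · left; exact h
  · right; exact (not_mem_posOf_iff hΔ i).mp h

theorem posOf_disjoint {Δ : Set ι} (hΔ : IsSimpleSys P Δ) :
    ∀ i ∈ posOf P Δ, P.reflectionPerm i i ∉ posOf P Δ := by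
  intro i hi h
  exact (not_mem_posOf_iff hΔ i).mpr h hi

/-- Every system of positive roots is the set of positive roots of a system of simple roots. -/
theorem exists_simpleSys_posOf_eq {S : Set ι} (hS : IsPosSys P S) :
    ∃ Δ : Set ι, IsSimpleSys P Δ ∧ posOf P Δ = S := by
  obtain ⟨Δ₀, hΔ₀⟩ := exists_simpleSys P
  obtain ⟨g, _, hg⟩ := exists_weyl_pos_subset hΔ₀ (isPosSys_closed hS) hS.cover
  refine ⟨(fun i : ι => g • i) '' Δ₀, isSimpleSys_image g hΔ₀, ?_⟩
  rw [posOf_image]
  apply eq_of_subset_of_cover_disjoint (P := P)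
  · rintro _ ⟨k, hk, rfl⟩
    exact hg k hk
  · exact cover_image g (posOf_cover hΔ₀)
  · exact fun i hi => hS.disjoint hi

end Groth.Agent.Lib.Helper16
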