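import Groth.Agent.Lib.Helper16.RootD7
import Groth.Agent.S5450

set_option autoImplicit false

namespace Groth.Agent.Lib.Helper16

open RootD

variable {ι M N : Type*} [AddCommGroup M] [AddCommGroup N] {P : RootPairing ι ℤ M N} [Finite ι]

theorem simpleSys_subset_of_posOf_eq {Δ₁ Δ₂ : Set ι} (h₁ : IsSimpleSys P Δ₁)
    (h₂ : IsSimpleSys P Δ₂) (h : posOf P Δ₁ = posOf P Δ₂) : Δ₁ ⊆ Δ₂ := by
  intro l hl
  have hl1 : l ∈ posOf P Δ₁ := simple_mem_posOf l hl
  have hl2 : l ∈ posOf P Δ₂ := h ▸ hl1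
  rw [Groth.Agent.S5450.result P Δ₂ h₂ l hl2]
  have h3 := (Groth.Agent.S5450.result P Δ₁ h₁ l hl1).mp hl
  rw [h] at h3
  exact h3

theorem simpleSys_eq_of_posOf_eq {Δ₁ Δ₂ : Set ι} (h₁ : IsSimpleSys P Δ₁)
    (h₂ : IsSimpleSys P Δ₂) (h : posOf P Δ₁ = posOf P Δ₂) : Δ₁ = Δ₂ :=
  Set.Subset.antisymm (simpleSys_subset_of_posOf_eq h₁ h₂ h)
    (simpleSys_subset_of_posOf_eq h₂ h₁ h.symm)

theorem posOf_closed (Δ : Set ι) : IsClosedSub P (posOf P Δ) := by
  intro i j k hi hj hk
  change P.root k ∈ natSpan P Δ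
  rw [hk]
  exact add_mem hi hj

theorem posOf_subset_of_closed {Δ : Set ι} {S : Set ι} (hcl : IsClosedSub P S) (hΔS : Δ ⊆ S) :
    posOf P Δ ⊆ S := by
  intro k hk
  obtain ⟨c, hc, hck⟩ := (mem_natSpan_iff_finsupp P Δ _).mp hk
  exact reach_closed P hcl (reach_of_sum' P S c k (fun i hi => hΔS (hc hi)) hck.symm)

theorem reach_of_mem_posOf {Δ : Set ι} {k : ι} (hk : k ∈ posOf P Δ) : Reach P Δ k := by
  obtain ⟨c, hc, hck⟩ := (mem_natSpan_iff_finsupp P Δ _).mp hk
  exact reach_of_sum' P Δ c k hc hck.symm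

theorem negIdx_negIdx (k : ι) :
    P.reflectionPerm (P.reflectionPerm k k) (P.reflectionPerm k k) = k := by
  apply P.root.injective
  rw [root_negIdx, root_negIdx, neg_neg]

theorem isClosedSub_negIdx {P' : Set ι} (hcl : IsClosedSub P P') :
    IsClosedSub P {k | P.reflectionPerm k k ∈ P'} := by
  intro i j k hi hj hk
  apply hcl hi hj
  rw [root_negIdx, root_negIdx, root_negIdx, hk]
  abel

/-- The structure of a closed set of roots containing the positive roots of `Δ`. -/
theorem closed_superset_posOf_eq {Δ : Set ι} (hΔ : IsSimpleSys P Δ) {P' : Set ι}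
    (hcl : IsClosedSub P P') (hSP : posOf P Δ ⊆ P') :
    P' = posOf P Δ ∪
      {k : ι | -P.root k ∈ natSpan P {i : ι | i ∈ Δ ∧ P.reflectionPerm i i ∈ P'}} := by
  apply Set.Subset.antisymm
  · intro k hk
    by_cases hkS : k ∈ posOf P Δ
    · left; exact hkS
    · right
      have hnk : P.reflectionPerm k k ∈ posOf P Δ := (not_mem_posOf_iff hΔ k).mp hkS
      have key : ∀ j : ι, Reach P Δ j → j ∈ P' ∧ (P.reflectionPerm j j ∈ P' →
          P.root j ∈ natSpan P {i : ι | i ∈ Δ ∧ P.reflectionPerm i i ∈ P'}) := by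
        intro j hj
        induction hj with
        | @base j hj =>
          refine ⟨hSP (simple_mem_posOf j hj), fun h => ?_⟩
          exact AddSubmonoid.subset_closure ⟨j, ⟨hj, h⟩, rfl⟩
        | @step i j₀ k' _ hj₀ hk' ih =>
          obtain ⟨hiP, ih⟩ := ih
          have hj₀P : j₀ ∈ P' := hSP (simple_mem_posOf j₀ hj₀)
          refine ⟨hcl hiP hj₀P hk', fun h => ?_⟩
          have h1 : P.reflectionPerm i i ∈ P' := by
            apply hcl h hj₀P
            rw [root_negIdx, root_negIdx, hk']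
            abel
          have h2 : P.reflectionPerm j₀ j₀ ∈ P' := by
            apply hcl h hiP
            rw [root_negIdx, root_negIdx, hk']
            abel
          rw [hk']
          exact add_mem (ih h1) (AddSubmonoid.subset_closure ⟨j₀, ⟨hj₀, h2⟩, rfl⟩)
      have h3 := (key _ (reach_of_mem_posOf hnk)).2 (by rw [negIdx_negIdx]; exact hk)
      rw [root_negIdx] at h3
      exact h3
  · rintro k (hk | hk)
    · exact hSP hk
    · change -P.root k ∈ natSpan P _ at hk
      rw [← root_negIdx] at hk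
      obtain ⟨c, hc, hck⟩ := (mem_natSpan_iff_finsupp P _ _).mp hk
      have hreach := reach_of_sum' P {k | P.reflectionPerm k k ∈ P'} c (P.reflectionPerm k k)
        (fun i hi => (hc hi).2) hck.symm
      have h4 := reach_closed P (isClosedSub_negIdx hcl) hreach
      change P.reflectionPerm _ _ ∈ P' at h4
      rw [negIdx_negIdx] at h4
      exact h4

end Groth.Agent.Lib.Helper16
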