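import Groth.Agent.Lib.Helper16.RootD8
import Groth.Agent.S5452
import Groth.Agent.S5467

set_option autoImplicit false

namespace Groth.Agent.Lib.Helper16

open RootD

variable {ι M N : Type*} [AddCommGroup M] [AddCommGroup N] {P : RootPairing ι ℤ M N}

theorem coroot_smul (g : P.Aut) (j : ι) : g.coweightMap (P.coroot (g • j)) = P.coroot j := by
  have h := RootPairing.Hom.coroot_coweightMap_apply P P (g • j) g.toHom
  rw [h]
  congr 1
  exact g.indexEquiv.symm_apply_apply j

theorem pairing_smul_smul (g : P.Aut) (a b : ι) : P.pairing (g • a) (g • b) = P.pairing a b := by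
  rw [← P.root_coroot_eq_pairing, ← P.root_coroot_eq_pairing, root_smul,
    Groth.Agent.S5452.pairing_smul, coroot_smul]

theorem reflectionPerm_smul (g : P.Aut) (i k : ι) :
    P.reflectionPerm (g • i) (g • k) = g • P.reflectionPerm i k := by
  apply P.root.injective
  rw [root_smul, P.root_reflectionPerm, P.root_reflectionPerm, P.reflection_apply,
    P.reflection_apply, P.root_coroot'_eq_pairing, P.root_coroot'_eq_pairing, pairing_smul_smul,
    root_smul, root_smul, smul_sub, smul_comm]

variable [Finite ι]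

theorem weyl_ext {g h : P.Aut} (hg : g ∈ P.weylGroup) (hh : h ∈ P.weylGroup)
    (H : ∀ k : ι, g • k = h • k) : g = h := by
  have h1 : g⁻¹ * h = 1 := by
    apply Groth.Agent.S5452.eq_one_of_indexEquiv P _ (mul_mem (inv_mem hg) hh)
    ext k
    change (g⁻¹ * h) • k = k
    rw [mul_smul, ← H k, inv_smul_smul]
  exact (inv_mul_eq_one.mp h1)

theorem reflection_smul_eq_conj {g : P.Aut} (hg : g ∈ P.weylGroup) (i : ι) :
    RootPairing.Equiv.reflection P (g • i) = g * RootPairing.Equiv.reflection P i * g⁻¹ := by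
  apply weyl_ext (P.reflection_mem_weylGroup _)
    (mul_mem (mul_mem hg (P.reflection_mem_weylGroup i)) (inv_mem hg))
  intro k
  rw [mul_smul, mul_smul, reflection_smul_idx, reflection_smul_idx, ← reflectionPerm_smul,
    smul_inv_smul]

include P in
theorem isAddTorsionFree_N : IsAddTorsionFree N := by
  have : Module.IsReflexive ℤ N := Module.IsReflexive.of_isPerfPair P.toLinearMap.flip
  rw [← Module.isTorsionFree_int_iff_isAddTorsionFree]
  infer_instance

theorem reflection_eq_of_root_eq_two_smul {k j : ι} (h : P.root k = (2 : ℤ) • P.root j) :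
    RootPairing.Equiv.reflection P k = RootPairing.Equiv.reflection P j := by
  have := isAddTorsionFree_N (P := P)
  have hco : (2 : ℤ) • P.coroot k = P.coroot j := P.smul_coroot_eq_of_root_eq_smul j k 2 h
  apply weyl_ext (P.reflection_mem_weylGroup _) (P.reflection_mem_weylGroup _)
  intro m
  rw [reflection_smul_idx, reflection_smul_idx]
  apply P.root.injective
  have e : P.coroot' j (P.root m) = 2 * P.coroot' k (P.root m) := by
    change P.toLinearMap (P.root m) (P.coroot j) = 2 * P.toLinearMap (P.root m) (P.coroot k)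
    rw [← hco, map_zsmul, smul_eq_mul]
  rw [P.root_reflectionPerm, P.root_reflectionPerm, P.reflection_apply, P.reflection_apply, h,
    e, smul_smul, mul_comm]

/-- The height functional on coordinates. -/
noncomputable def htF (Δ : Set ι) : (Δ →₀ ℤ) →ₗ[ℤ] ℤ :=
  Finsupp.linearCombination ℤ (fun _ : Δ => (1 : ℤ))

theorem htF_apply {Δ : Set ι} (c : Δ →₀ ℤ) : htF Δ c = ∑ l ∈ c.support, c l := by
  unfold htF
  rw [Finsupp.linearCombination_apply, Finsupp.sum]
  apply Finset.sum_congr rfl
  intro l _
  rw [smul_eq_mul, mul_one]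

theorem htF_single {Δ : Set ι} (l : Δ) (a : ℤ) : htF Δ (Finsupp.single l a) = a := by
  unfold htF
  rw [Finsupp.linearCombination_single, smul_eq_mul, mul_one]

variable {Δ : Set ι} (hΔ : IsSimpleSys P Δ)

/-- The height of a root with respect to a simple system. -/
noncomputable def ht (k : ι) : ℤ := htF Δ (co hΔ k)

theorem ht_pos_of_mem_posOf (k : ι) (hk : k ∈ posOf P Δ) : 0 < ht hΔ k := by
  unfold ht
  rw [htF_apply]
  obtain ⟨l, hl⟩ := (mem_posOf_iff_exists_pos hΔ k).mp hk
  have h0 := (mem_posOf_iff hΔ k).mp hk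
  apply Finset.sum_pos'
  · intro i _; exact h0 i
  · exact ⟨l, Finsupp.mem_support_iff.mpr (ne_of_gt hl), hl⟩

theorem ht_simple (l : ι) (hl : l ∈ Δ) : ht hΔ l = 1 := by
  unfold ht
  rw [co_simple hΔ l hl, htF_single]

theorem ht_reflection_simple (l : ι) (hl : l ∈ Δ) (k : ι) :
    ht hΔ (P.reflectionPerm l k) = ht hΔ k - P.pairing k l := by
  unfold ht
  rw [co_reflection, map_sub, map_zsmul, co_simple hΔ l hl, htF_single, smul_eq_mul, mul_one]

theorem isIndiv_reflectionPerm (i k : ι) (hk : IsIndiv P k) : IsIndiv P (P.reflectionPerm i k) := by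
  intro j hj
  apply hk (P.reflectionPerm i j)
  rw [P.root_reflectionPerm, ← map_zsmul, hj, ← P.root_reflectionPerm, P.reflectionPerm_self]

theorem isIndiv_negIdx (k : ι) (hk : IsIndiv P k) : IsIndiv P (P.reflectionPerm k k) :=
  isIndiv_reflectionPerm k k hk

/-- The subgroup generated by the simple reflections. -/
noncomputable def weylSub (P : RootPairing ι ℤ M N) (Δ : Set ι) : Subgroup P.Aut :=
  Subgroup.closure ((fun i : ι => RootPairing.Equiv.reflection P i) '' Δ)

theorem weylSub_le (Δ : Set ι) : weylSub P Δ ≤ P.weylGroup := by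
  unfold weylSub
  rw [Subgroup.closure_le]
  rintro _ ⟨i, _, rfl⟩
  exact P.reflection_mem_weylGroup i

theorem reflection_mem_weylSub {Δ : Set ι} (l : ι) (hl : l ∈ Δ) :
    RootPairing.Equiv.reflection P l ∈ weylSub P Δ :=
  Subgroup.subset_closure ⟨l, hl, rfl⟩

include hΔ in
theorem exists_weylSub_smul_simple_of_pos :
    ∀ (n : ℕ) (k : ι), k ∈ posOf P Δ → IsIndiv P k → (ht hΔ k).toNat = n →
      ∃ g : P.Aut, g ∈ weylSub P Δ ∧ ∃ i ∈ Δ, g • i = k := by
  intro n
  induction n using Nat.strong_induction_on with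
  | _ n ih =>
    intro k hk hind hn
    by_cases hkΔ : k ∈ Δ
    · exact ⟨1, one_mem _, k, hkΔ, one_smul _ _⟩
    · obtain ⟨i, hi, hpos, hk'⟩ := Groth.Agent.S5467.result P Δ hΔ k hk hkΔ hind
      have hht := ht_reflection_simple hΔ i hi k
      have hpos' := ht_pos_of_mem_posOf hΔ _ hk'
      have hlt : (ht hΔ (P.reflectionPerm i k)).toNat < n := by
        rw [← hn]
        omega
      obtain ⟨g, hg, i', hi', hgi⟩ := ih _ hlt (P.reflectionPerm i k) hk'
        (isIndiv_reflectionPerm i k hind) rfl
      refine ⟨RootPairing.Equiv.reflection P i * g,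
        mul_mem (reflection_mem_weylSub i hi) hg, i', hi', ?_⟩
      rw [mul_smul, hgi, reflection_smul_idx, P.reflectionPerm_self]

include hΔ in
theorem exists_weylSub_smul_simple (k : ι) (hind : IsIndiv P k) :
    ∃ g : P.Aut, g ∈ weylSub P Δ ∧ ∃ i ∈ Δ, g • i = k := by
  by_cases hk : k ∈ posOf P Δ
  · exact exists_weylSub_smul_simple_of_pos hΔ _ k hk hind rfl
  · have hk' := (not_mem_posOf_iff hΔ k).mp hk
    obtain ⟨g, hg, i, hi, hgi⟩ := exists_weylSub_smul_simple_of_pos hΔ _ _ hk'
      (isIndiv_negIdx k hind) rfl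
    refine ⟨g * RootPairing.Equiv.reflection P i,
      mul_mem hg (reflection_mem_weylSub i hi), i, hi, ?_⟩
    rw [mul_smul, reflection_smul_idx, smul_negIdx, hgi, negIdx_negIdx]

include hΔ in
theorem weylSub_eq : weylSub P Δ = P.weylGroup := by
  apply le_antisymm (weylSub_le Δ)
  unfold RootPairing.weylGroup
  rw [Subgroup.closure_le]
  rintro _ ⟨k, rfl⟩
  have hindiv : ∀ k : ι, IsIndiv P k → RootPairing.Equiv.reflection P k ∈ weylSub P Δ := by
    intro k hk
    obtain ⟨g, hg, i, hi, rfl⟩ := exists_weylSub_smul_simple hΔ k hk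
    rw [reflection_smul_eq_conj (weylSub_le Δ hg)]
    exact mul_mem (mul_mem hg (reflection_mem_weylSub i hi)) (inv_mem hg)
  by_cases hk : IsIndiv P k
  · exact hindiv k hk
  · unfold IsIndiv at hk
    push Not at hk
    obtain ⟨j, hj⟩ := hk
    have hjind : IsIndiv P j := by
      intro j' hj'
      have h4 : P.root k = (4 : ℤ) • P.root j' := by
        rw [← hj, ← hj', smul_smul]
        norm_num
      have h5 := P.pairing_same k
      rw [← P.root_coroot_eq_pairing, h4, map_zsmul, LinearMap.smul_apply, smul_eq_mul] at h5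
      omega
    rw [reflection_eq_of_root_eq_two_smul hj.symm]
    exact hindiv j hjind

end Groth.Agent.Lib.Helper16
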