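import Mathlib

/-!
# Baer-type lifting up to a multiplier from torsion of `Ext^1(R/J, Z)`
(sub-lemma L2 for helper24, S18639)
-/

open CategoryTheory Abelian IsLocalRing

universe u

namespace Groth.Agent.Lib.Helper16.S18639L2

theorem exists_smul_eq_of_ext_one {R : Type u} [CommRing R] (M : Submonoid R) (J : Ideal R)
    (Z : Type u) [AddCommGroup Z] [Module R Z]
    (hJ : ∀ x : Ext.{u} (ModuleCat.of R (R ⧸ J)) (ModuleCat.of R Z) 1, ∃ s ∈ M, s • x = 0)
    (h : ↥J →ₗ[R] Z) : ∃ s ∈ M, ∃ z : Z, ∀ r : ↥J, s • h r = (r : R) • z := by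
  let S : ShortComplex (ModuleCat.{u} R) :=
    ModuleCat.shortComplexOfCompEqZero J.subtype (Submodule.mkQ J)
      (by ext x; simpa using Ideal.Quotient.eq_zero_iff_mem.mpr x.2)
  have hS : S.ShortExact := by
    refine ModuleCat.shortComplex_shortExact S ?_ ?_ ?_
    · intro x
      change (Submodule.mkQ J) x = 0 ↔ x ∈ Set.range J.subtype
      simpa using Ideal.Quotient.eq_zero_iff_mem
    · exact Subtype.val_injective
    · exact Submodule.mkQ_surjective J
  obtain ⟨s, hs, hsx⟩ := hJ (hS.extClass.comp (Ext.mk₀ (ModuleCat.ofHom h)) (add_zero 1))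
  refine ⟨s, hs, ?_⟩
  have hsm : (ModuleCat.ofHom (s • h) : S.X₁ ⟶ ModuleCat.of R Z) = s • ModuleCat.ofHom h := rfl
  have h1 : hS.extClass.comp (Ext.mk₀ (ModuleCat.ofHom (s • h))) (add_zero 1) = 0 := by
    rw [hsm, Ext.mk₀_smul, Ext.comp_smul]
    exact hsx
  obtain ⟨x₂, hx₂⟩ := Ext.contravariant_sequence_exact₁ hS (ModuleCat.of R Z)
    (Ext.mk₀ (ModuleCat.ofHom (s • h))) (add_zero 1) h1
  obtain ⟨g', rfl⟩ := (Ext.mk₀_bijective _ _).2 x₂
  rw [Ext.mk₀_comp_mk₀] at hx₂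
  have h2 := (Ext.mk₀_bijective _ _).1 hx₂
  refine ⟨g'.hom (1 : R), fun r => ?_⟩
  have h3 := congrArg (fun t => t.hom r) h2
  have h4 : g'.hom ((r : R) • (1 : R)) = (r : R) • g'.hom (1 : R) := map_smul g'.hom (r : R) 1
  rw [smul_eq_mul, mul_one] at h4
  rw [← h4]
  simpa [S] using h3.symm

end Groth.Agent.Lib.Helper16.S18639L2
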