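import Mathlib

/-!
# Injective dimension along a chain of short exact sequences (sub-lemma L5 for helper24, S18639)
-/

open CategoryTheory Abelian IsLocalRing

universe u

namespace Groth.Agent.Lib.Helper16.S18639L5

theorem hasInjectiveDimensionLT_of_chain {R : Type u} [CommRing R] (X Z : ℕ → ModuleCat.{u} R)
    (f : ∀ k, Z k ⟶ X k) (g : ∀ k, X k ⟶ Z (k + 1)) (w : ∀ k, f k ≫ g k = 0)
    (hS : ∀ k, (ShortComplex.mk (f k) (g k) (w k)).ShortExact)
    (hX : ∀ k, HasInjectiveDimensionLT (X k) 2) (n : ℕ)
    (hZ : HasInjectiveDimensionLT (Z n) 2) : HasInjectiveDimensionLT (Z 0) (n + 2) := by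
  have key : ∀ m j : ℕ, j + m = n → HasInjectiveDimensionLT (Z j) (m + 2) := by
    intro m
    induction m with
    | zero =>
      intro j hj
      have : j = n := by omega
      subst this
      exact hZ
    | succ m ih =>
      intro j hj
      have h3 : HasInjectiveDimensionLT (Z (j + 1)) (m + 2) := ih (j + 1) (by omega)
      have h2 : HasInjectiveDimensionLT (X j) (m + 2 + 1) := by
        haveI := hX j
        exact hasInjectiveDimensionLT_of_ge (X j) 2 (m + 2 + 1) (by omega)
      exact (hS j).hasInjectiveDimensionLT_X₁ (m + 2) h3 h2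
  exact key n 0 (by omega)

end Groth.Agent.Lib.Helper16.S18639L5
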