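import Mathlib

/-!
# The cokernel of `ad x` for the subregular nilpotent `x` of `sl_{n+1}` (explicit computation)

`X n O` is the matrix with `X i (i+1) = 1` for `i + 1 < n`.  We compute
`X * z - z * X` entrywise, define the functionals `phi m` (sums along the lower diagonals of the
upper-left `n × n` block), show they kill commutators with `X`, and construct explicit preimages.
-/

namespace Groth.Agent.Lib.Helper16.SLad

open Matrix Finset

variable {O : Type*} [CommRing O]

/-- cast a natural number to `Fin (n+1)` (truncating). -/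
def fi (n a : ℕ) : Fin (n+1) := ⟨min a n, by omega⟩

lemma fi_val {n a : ℕ} (h : a ≤ n) : (fi n a).val = a := by simp [fi, h]

lemma fi_self {n : ℕ} (i : Fin (n+1)) : fi n i.val = i := by
  apply Fin.ext; exact fi_val (by omega)

lemma fi_mk {n a : ℕ} (h : a < n + 1) : fi n a = ⟨a, h⟩ := by
  apply Fin.ext; exact fi_val (by omega)

/-- the subregular nilpotent matrix. -/
def X (n : ℕ) (O : Type*) [CommRing O] : Matrix (Fin (n+1)) (Fin (n+1)) O :=
  fun i j => if j.val = i.val + 1 ∧ j.val < n then 1 else 0

lemma X_mul {n : ℕ} (z : Matrix (Fin (n+1)) (Fin (n+1)) O) (i j : Fin (n+1)) :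
    (X n O * z) i j = if i.val + 1 < n then z (fi n (i.val+1)) j else 0 := by
  rw [Matrix.mul_apply]
  split_ifs with h
  · rw [Finset.sum_eq_single (fi n (i.val+1))]
    · have : (fi n (i.val+1)).val = i.val+1 := fi_val (by omega)
      simp [X, this, h]
    · intro k _ hk
      have : ¬ (k.val = i.val + 1 ∧ k.val < n) := by
        rintro ⟨h1, _⟩
        apply hk; apply Fin.ext; rw [fi_val (by omega)]; exact h1
      simp [X, this]
    · simp
  · apply Finset.sum_eq_zero
    intro k _
    have : ¬ (k.val = i.val + 1 ∧ k.val < n) := by omega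
    simp [X, this]

lemma mul_X {n : ℕ} (z : Matrix (Fin (n+1)) (Fin (n+1)) O) (i j : Fin (n+1)) :
    (z * X n O) i j = if 1 ≤ j.val ∧ j.val < n then z i (fi n (j.val - 1)) else 0 := by
  rw [Matrix.mul_apply]
  split_ifs with h
  · rw [Finset.sum_eq_single (fi n (j.val - 1))]
    · have : (fi n (j.val - 1)).val = j.val - 1 := fi_val (by omega)
      have h2 : j.val = j.val - 1 + 1 := by omega
      simp [X, this, h, ← h2]
    · intro k _ hk
      have : ¬ (j.val = k.val + 1 ∧ j.val < n) := by
        rintro ⟨h1, _⟩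
        apply hk; apply Fin.ext; rw [fi_val (by omega)]; omega
      simp [X, this]
    · simp
  · apply Finset.sum_eq_zero
    intro k _
    have : ¬ (j.val = k.val + 1 ∧ j.val < n) := by omega
    simp [X, this]

/-- the `m`-th lower-diagonal sum of the upper-left `n × n` block. -/
def phi (n m : ℕ) (y : Matrix (Fin (n+1)) (Fin (n+1)) O) : O :=
  ∑ k ∈ range (n - m), y (fi n (m+k)) (fi n k)

lemma phi_ad {n : ℕ} (m : ℕ) (z : Matrix (Fin (n+1)) (Fin (n+1)) O) :
    phi n m (X n O * z - z * X n O) = 0 := by
  unfold phi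
  set g : ℕ → O := fun k =>
    if k = 0 then 0 else if m + k < n then z (fi n (m+k)) (fi n (k-1)) else 0 with hg
  have key : ∀ k ∈ range (n-m),
      (X n O * z - z * X n O) (fi n (m+k)) (fi n k) = g (k+1) - g k := by
    intro k hk
    rw [mem_range] at hk
    have h1 : (fi n (m+k)).val = m+k := fi_val (by omega)
    have h2 : (fi n k).val = k := fi_val (by omega)
    rw [Matrix.sub_apply, X_mul, mul_X, h1, h2]
    simp only [hg]
    rcases Nat.eq_zero_or_pos k with rfl | hk0
    · simp [add_assoc]
    · have h3 : m + k < n := by omega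
      have h4 : k ≠ 0 := by omega
      have h5 : 1 ≤ k ∧ k < n := by omega
      simp [h3, h4, h5, add_assoc]
  rw [sum_congr rfl key, sum_range_sub]
  simp only [hg]
  by_cases h : n - m = 0
  · simp [h]
  · have : ¬ (m + (n - m) < n) := by omega
    simp [h, this]

lemma ad_col {n : ℕ} (z : Matrix (Fin (n+1)) (Fin (n+1)) O) :
    (X n O * z - z * X n O) (fi n (n-1)) (fi n n) = 0 := by
  have h1 : (fi n (n-1)).val = n-1 := fi_val (by omega)
  have h2 : (fi n n).val = n := fi_val (by omega)
  rw [Matrix.sub_apply, X_mul, mul_X, h1, h2]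
  have : ¬ (n - 1 + 1 < n) := by omega
  simp [this]

lemma ad_row {n : ℕ} (z : Matrix (Fin (n+1)) (Fin (n+1)) O) :
    (X n O * z - z * X n O) (fi n n) (fi n 0) = 0 := by
  have h1 : (fi n 0).val = 0 := fi_val (by omega)
  have h2 : (fi n n).val = n := fi_val (by omega)
  rw [Matrix.sub_apply, X_mul, mul_X, h1, h2]
  simp

end Groth.Agent.Lib.Helper16.SLad
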