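import Groth.Agent.Lib.Helper16.SLad1

/-!
# Explicit preimages under `z ↦ X * z - z * X`
-/

namespace Groth.Agent.Lib.Helper16.SLad

open Matrix Finset

variable {O : Type*} [CommRing O]

/-- recursive solution on the `n × n` block. -/
def Zb {n : ℕ} (y : Matrix (Fin (n+1)) (Fin (n+1)) O) : ℕ → ℕ → O
  | 0, _ => 0
  | (k+1), 0 => y (fi n k) (fi n 0)
  | (k+1), (l+1) => y (fi n k) (fi n (l+1)) + Zb y k l

lemma Zb_formula {n : ℕ} (y : Matrix (Fin (n+1)) (Fin (n+1)) O) :
    ∀ (b a : ℕ), b ≤ a → Zb y (a+1) b = ∑ k ∈ range (b+1), y (fi n (a - b + k)) (fi n k)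
  | 0, a, _ => by simp [Zb]
  | (b+1), 0, h => by omega
  | (b+1), (a+1), h => by
      rw [Zb, Zb_formula y b a (by omega), sum_range_succ _ (b+1)]
      have e1 : a + 1 - (b+1) = a - b := by omega
      have e2 : a - b + (b + 1) = a + 1 := by omega
      rw [e1, e2, add_comm]

lemma Zb_top {n : ℕ} (hn : 1 ≤ n) (y : Matrix (Fin (n+1)) (Fin (n+1)) O) (j : ℕ) (hj : j < n) :
    Zb y n j = phi n (n - 1 - j) y := by
  obtain ⟨a, rfl⟩ : ∃ a, n = a + 1 := ⟨n - 1, by omega⟩
  rw [Zb_formula y j a (by omega)]
  unfold phi
  have e1 : a + 1 - (a + 1 - 1 - j) = j + 1 := by omega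
  have e2 : a + 1 - 1 - j = a - j := by omega
  rw [e1, e2]

/-- explicit preimage. -/
def zsol {n : ℕ} (y : Matrix (Fin (n+1)) (Fin (n+1)) O) : Matrix (Fin (n+1)) (Fin (n+1)) O :=
  fun i j =>
    if i.val < n then
      if j.val < n then Zb y i.val j.val
      else if i.val = 0 then 0 else y (fi n (i.val - 1)) (fi n n)
    else
      if j.val + 1 < n then - y (fi n n) (fi n (j.val + 1)) else 0

lemma trace_eq {n : ℕ} (y : Matrix (Fin (n+1)) (Fin (n+1)) O) :
    Matrix.trace y = phi n 0 y + y (fi n n) (fi n n) := by
  unfold Matrix.trace phi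
  rw [Fin.sum_univ_castSucc, Nat.sub_zero, Finset.sum_range]
  congr 1
  · apply Finset.sum_congr rfl
    intro i _
    have : fi n (0 + i.val) = Fin.castSucc i := by
      apply Fin.ext; rw [fi_val (by omega)]; simp
    have h2 : fi n i.val = Fin.castSucc i := by
      apply Fin.ext; rw [fi_val (by omega)]; simp
    rw [this, h2]; rfl
  · have : fi n n = Fin.last n := by
      apply Fin.ext; rw [fi_val (by omega)]; simp
    rw [this]; rfl

lemma zsol_fi {n : ℕ} (y : Matrix (Fin (n+1)) (Fin (n+1)) O) {a b : ℕ} (ha : a ≤ n) (hb : b ≤ n) :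
    zsol y (fi n a) (fi n b) =
      if a < n then
        if b < n then Zb y a b
        else if a = 0 then 0 else y (fi n (a - 1)) (fi n n)
      else
        if b + 1 < n then - y (fi n n) (fi n (b + 1)) else 0 := by
  simp only [zsol, fi_val ha, fi_val hb]

lemma ad_fi {n : ℕ} (z : Matrix (Fin (n+1)) (Fin (n+1)) O) {a b : ℕ} (ha : a ≤ n) (hb : b ≤ n) :
    (X n O * z - z * X n O) (fi n a) (fi n b) =
      (if a + 1 < n then z (fi n (a+1)) (fi n b) else 0) -
        (if 1 ≤ b ∧ b < n then z (fi n a) (fi n (b - 1)) else 0) := by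
  rw [Matrix.sub_apply, X_mul, mul_X, fi_val ha, fi_val hb]

theorem zsol_spec {n : ℕ} (hn : 1 ≤ n) (y : Matrix (Fin (n+1)) (Fin (n+1)) O)
    (hphi : ∀ m, m < n → phi n m y = 0)
    (hcol : y (fi n (n-1)) (fi n n) = 0) (hrow : y (fi n n) (fi n 0) = 0)
    (htr : Matrix.trace y = 0) :
    X n O * zsol y - zsol y * X n O = y := by
  have hnn : y (fi n n) (fi n n) = 0 := by
    have := trace_eq y
    rw [htr, hphi 0 (by omega)] at this
    simpa using this.symm
  have htop : ∀ j, j < n → ∀ m, m = n → Zb y m j = 0 := by
    intro j hj m hm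
    subst m
    rw [Zb_top hn y j hj]
    exact hphi _ (by omega)
  have key : ∀ a b : ℕ, a ≤ n → b ≤ n →
      (X n O * zsol y - zsol y * X n O) (fi n a) (fi n b) = y (fi n a) (fi n b) := by
    intro a b ha hb
    rw [ad_fi _ ha hb]
    by_cases ha' : a < n
    · by_cases hb' : b < n
      · -- block
        by_cases ha1 : a + 1 < n
        · rw [if_pos ha1, zsol_fi y (by omega) hb, if_pos ha1, if_pos hb']
          rcases Nat.eq_zero_or_pos b with rfl | hb0
          · simp [Zb]
          · obtain ⟨b', rfl⟩ : ∃ b', b = b' + 1 := ⟨b - 1, by omega⟩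
            have hb2 : b' < n := by omega
            rw [if_pos ⟨by omega, hb'⟩, zsol_fi y ha (by omega), if_pos ha',
              Nat.add_sub_cancel, if_pos hb2, Zb]
            ring
        · have han : a + 1 = n := by omega
          rw [if_neg ha1]
          rcases Nat.eq_zero_or_pos b with rfl | hb0
          · have h0 := hphi (n-1) (by omega)
            unfold phi at h0
            have e : n - (n - 1) = 1 := by omega
            have e2 : n - 1 = a := by omega
            rw [e, e2] at h0
            simp at h0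
            simp [h0]
          · obtain ⟨b', rfl⟩ : ∃ b', b = b' + 1 := ⟨b - 1, by omega⟩
            have hb2 : b' < n := by omega
            have h0 := htop (b'+1) hb' (a+1) han
            rw [Zb] at h0
            rw [if_pos ⟨by omega, hb'⟩, zsol_fi y ha (by omega), if_pos ha',
              Nat.add_sub_cancel, if_pos hb2]
            linear_combination (-1 : O) * h0
      · -- column n
        have hbn : b = n := by omega
        subst b
        have hb3 : ¬ (1 ≤ n ∧ n < n) := by omega
        rw [if_neg hb3]
        by_cases ha1 : a + 1 < n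
        · rw [if_pos ha1, zsol_fi y (by omega) hb, if_pos ha1, if_neg hb']
          simp
        · have han : n - 1 = a := by omega
          rw [han] at hcol
          rw [if_neg ha1, hcol]; simp
    · -- row n
      have han : a = n := by omega
      subst a
      have h1 : ¬ (n + 1 < n) := by omega
      rw [if_neg h1]
      rcases Nat.eq_zero_or_pos b with rfl | hb0
      · simp [hrow]
      · by_cases hb' : b < n
        · rw [if_pos ⟨hb0, hb'⟩, zsol_fi y ha (by omega), if_neg ha']
          have h5 : b - 1 + 1 < n := by omega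
          have h6 : b - 1 + 1 = b := by omega
          rw [if_pos h5, h6]; simp
        · have hbn : b = n := by omega
          subst b
          have hb3 : ¬ (1 ≤ n ∧ n < n) := by omega
          rw [if_neg hb3, hnn]; simp
  ext i j
  have := key i.val j.val (by omega) (by omega)
  rwa [fi_self, fi_self] at this

end Groth.Agent.Lib.Helper16.SLad
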