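import Groth.Agent.Lib.Helper16.SLad2

/-!
# The quotient `sl_{n+1} / [x, sl_{n+1}]` for the subregular nilpotent `x`
-/

namespace Groth.Agent.Lib.Helper16.SLad

open Matrix Finset

variable {O : Type*} [CommRing O]

/-- explicit section. -/
def ysol (n : ℕ) (c : ℕ → O) (α β : O) : Matrix (Fin (n+1)) (Fin (n+1)) O :=
  fun i j =>
    if j.val = 0 then (if i.val < n then c i.val else β)
    else if j.val = n then (if i.val = n then - c 0 else if i.val + 1 = n then α else 0)
    else 0

lemma ysol_fi (n : ℕ) (c : ℕ → O) (α β : O) {a b : ℕ} (ha : a ≤ n) (hb : b ≤ n) :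
    ysol n c α β (fi n a) (fi n b) =
      if b = 0 then (if a < n then c a else β)
      else if b = n then (if a = n then - c 0 else if a + 1 = n then α else 0)
      else 0 := by
  simp only [ysol, fi_val ha, fi_val hb]

lemma phi_ysol {n : ℕ} (hn : 1 ≤ n) (c : ℕ → O) (α β : O) (m : ℕ) (hm : m < n) :
    phi n m (ysol n c α β) = c m := by
  unfold phi
  rw [Finset.sum_eq_single 0]
  · rw [ysol_fi n c α β (by omega) (by omega)]
    simp [hm]
  · intro k hk hk0
    rw [mem_range] at hk
    rw [ysol_fi n c α β (by omega) (by omega), if_neg hk0, if_neg (by omega)]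
  · intro h
    exfalso; apply h; rw [mem_range]; omega

lemma col_ysol {n : ℕ} (hn : 1 ≤ n) (c : ℕ → O) (α β : O) :
    ysol n c α β (fi n (n-1)) (fi n n) = α := by
  rw [ysol_fi n c α β (by omega) (by omega), if_neg (by omega), if_pos rfl, if_neg (by omega),
    if_pos (by omega)]

lemma row_ysol {n : ℕ} (hn : 1 ≤ n) (c : ℕ → O) (α β : O) :
    ysol n c α β (fi n n) (fi n 0) = β := by
  rw [ysol_fi n c α β (by omega) (by omega), if_pos rfl, if_neg (by omega)]

lemma trace_ysol {n : ℕ} (hn : 1 ≤ n) (c : ℕ → O) (α β : O) :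
    Matrix.trace (ysol n c α β) = 0 := by
  rw [trace_eq, phi_ysol hn c α β 0 (by omega), ysol_fi n c α β (by omega) (by omega),
    if_neg (by omega), if_pos rfl, if_pos rfl]
  ring

/-- the functionals, bundled. -/
def Phi (n : ℕ) (O : Type*) [CommRing O] :
    Matrix (Fin (n+1)) (Fin (n+1)) O →ₗ[O] (Fin n → O) × O × O where
  toFun y := (fun m => phi n m.val y, y (fi n (n-1)) (fi n n), y (fi n n) (fi n 0))
  map_add' y y' := by
    ext m <;> simp [phi, sum_add_distrib]
  map_smul' r y := by
    ext m <;> simp [phi, mul_sum]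

lemma Phi_ad (n : ℕ) (z : Matrix (Fin (n+1)) (Fin (n+1)) O) :
    Phi n O (X n O * z - z * X n O) = 0 := by
  ext m
  · simp [Phi, phi_ad]
  · simp only [Phi, LinearMap.coe_mk, AddHom.coe_mk]
    exact ad_col z
  · simp only [Phi, LinearMap.coe_mk, AddHom.coe_mk]
    exact ad_row z

lemma X_mul_last (n : ℕ) :
    X n O * Matrix.single (Fin.last n) (Fin.last n) (1 : O) = 0 := by
  ext i j
  rw [X_mul]
  split_ifs with h
  · have : fi n (i.val + 1) ≠ Fin.last n := by
      intro e
      have := congrArg Fin.val e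
      rw [fi_val (by omega)] at this
      simp at this; omega
    simp [Matrix.single, Ne.symm this]
  · rfl

lemma last_mul_X (n : ℕ) :
    Matrix.single (Fin.last n) (Fin.last n) (1 : O) * X n O = 0 := by
  ext i j
  rw [mul_X]
  split_ifs with h
  · have : fi n (j.val - 1) ≠ Fin.last n := by
      intro e
      have := congrArg Fin.val e
      rw [fi_val (by omega)] at this
      simp at this; omega
    simp [Matrix.single, Ne.symm this]
  · rfl

attribute [local instance 100] LieRing.ofAssociativeRing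

open LieAlgebra.SpecialLinear in
theorem main (O : Type*) [CommRing O] [Nontrivial O] (n : ℕ) (hn : 1 ≤ n)
    (x : sl (Fin (n + 1)) O) (hx : x.val = X n O) :
    Module.Free O (sl (Fin (n + 1)) O ⧸
        LinearMap.range (LieAlgebra.ad O (sl (Fin (n + 1)) O) x)) ∧
      Module.finrank O (sl (Fin (n + 1)) O ⧸
        LinearMap.range (LieAlgebra.ad O (sl (Fin (n + 1)) O) x)) = n + 2 := by
  classical
  set π : sl (Fin (n + 1)) O →ₗ[O] (Fin n → O) × O × O :=
    (Phi n O).comp ((sl (Fin (n + 1)) O).incl : sl (Fin (n + 1)) O →ₗ[O] _) with hπ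
  have hmem : ∀ y : Matrix (Fin (n+1)) (Fin (n+1)) O,
      y ∈ sl (Fin (n + 1)) O ↔ Matrix.trace y = 0 := fun y => Iff.rfl
  have hπa : ∀ y : sl (Fin (n + 1)) O, π y = Phi n O y.val := fun y => rfl
  have hker : LinearMap.range (LieAlgebra.ad O (sl (Fin (n + 1)) O) x) = LinearMap.ker π := by
    apply le_antisymm
    · rintro _ ⟨y, rfl⟩
      rw [LinearMap.mem_ker, hπa, LieAlgebra.ad_apply, sl_bracket, hx]
      exact Phi_ad n y.val
    · intro y hy
      rw [LinearMap.mem_ker, hπa] at hy
      have h1 : ∀ m, m < n → phi n m y.val = 0 := by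
        intro m hm
        have := congrArg (fun t => t.1 ⟨m, hm⟩) hy
        simpa [Phi] using this
      have h2 : y.val (fi n (n-1)) (fi n n) = 0 := by
        have := congrArg (fun t => t.2.1) hy
        simpa [Phi] using this
      have h3 : y.val (fi n n) (fi n 0) = 0 := by
        have := congrArg (fun t => t.2.2) hy
        simpa [Phi] using this
      have h4 : Matrix.trace y.val = 0 := (hmem _).1 y.2
      have hz := zsol_spec hn y.val h1 h2 h3 h4
      set z0 := zsol y.val with hz0
      set E := Matrix.single (Fin.last n) (Fin.last n) (1 : O) with hE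
      have hzt : Matrix.trace (z0 - Matrix.trace z0 • E) = 0 := by
        rw [Matrix.trace_sub, Matrix.trace_smul, hE, Matrix.trace_single_eq_same]
        simp
      refine ⟨⟨z0 - Matrix.trace z0 • E, (hmem _).2 hzt⟩, ?_⟩
      apply Subtype.ext
      rw [LieAlgebra.ad_apply, sl_bracket, hx]
      simp only
      rw [mul_sub, sub_mul, Matrix.mul_smul, Matrix.smul_mul, hE, X_mul_last, last_mul_X, ← hz]
      simp
  have hsurj : Function.Surjective π := by
    rintro ⟨c, α, β⟩
    set c' : ℕ → O := fun k => if h : k < n then c ⟨k, h⟩ else 0 with hc'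
    refine ⟨⟨ysol n c' α β, (hmem _).2 (trace_ysol hn c' α β)⟩, ?_⟩
    rw [hπa]
    ext m
    · simp only [Phi, LinearMap.coe_mk, AddHom.coe_mk]
      rw [phi_ysol hn c' α β m.val m.isLt]
      simp [hc']
    · simp only [Phi, LinearMap.coe_mk, AddHom.coe_mk]
      exact col_ysol hn c' α β
    · simp only [Phi, LinearMap.coe_mk, AddHom.coe_mk]
      exact row_ysol hn c' α β
  let e : (sl (Fin (n + 1)) O ⧸
        LinearMap.range (LieAlgebra.ad O (sl (Fin (n + 1)) O) x)) ≃ₗ[O] (Fin n → O) × O × O :=
    (Submodule.quotEquivOfEq _ _ hker).trans (π.quotKerEquivOfSurjective hsurj)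
  refine ⟨Module.Free.of_equiv e.symm, ?_⟩
  rw [e.finrank_eq, Module.finrank_prod, Module.finrank_prod, Module.finrank_fin_fun,
    Module.finrank_self]

end Groth.Agent.Lib.Helper16.SLad
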