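import Mathlib

/-!
# The gcd of `∏_{a ≤ g} (ℓ^(2a) - 1)` over large primes `ℓ`
-/

namespace Groth.Agent.Lib.Helper16.SSRed

open Finset

/-- the product `∏_{a=1}^g (ℓ^(2a) - 1)` -/
def P (g ℓ : ℕ) : ℕ := ∏ a ∈ Icc 1 g, (ℓ ^ (2 * a) - 1)

/-- the expected exponent of `q` -/
def E (g q : ℕ) : ℕ :=
  if q = 2 then 3 * g + padicValNat 2 g.factorial
  else (2 * g) / (q - 1) + ∑ i ∈ Icc 1 ((2 * g) / (q - 1)), padicValNat q i

/-- the number `N(g)` -/
def N (g : ℕ) : ℕ :=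
  2 ^ (3 * g + padicValNat 2 g.factorial) *
    ∏ p ∈ (Icc 3 (2 * g + 1)).filter Nat.Prime,
      p ^ ((2 * g) / (p - 1) + ∑ i ∈ Icc 1 ((2 * g) / (p - 1)), padicValNat p i)

theorem factor_ne_zero {ℓ a : ℕ} (hℓ : 2 ≤ ℓ) (ha : 1 ≤ a) : ℓ ^ (2 * a) - 1 ≠ 0 := by
  have h1 : 2 ^ (2 * a) ≤ ℓ ^ (2 * a) := Nat.pow_le_pow_left hℓ _
  have h2 : 2 ≤ 2 ^ (2 * a) := by
    calc 2 = 2 ^ 1 := rfl
      _ ≤ 2 ^ (2 * a) := Nat.pow_le_pow_right (by norm_num) (by omega)
  omega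

theorem P_ne_zero {g ℓ : ℕ} (hℓ : 2 ≤ ℓ) : P g ℓ ≠ 0 := by
  unfold P
  rw [Finset.prod_ne_zero_iff]
  intro a ha
  exact factor_ne_zero hℓ (Finset.mem_Icc.mp ha).1

theorem val_P {g ℓ q : ℕ} (hq : q.Prime) (hℓ : 2 ≤ ℓ) :
    padicValNat q (P g ℓ) = ∑ a ∈ Icc 1 g, padicValNat q (ℓ ^ (2 * a) - 1) := by
  rw [← Nat.factorization_def _ hq]
  unfold P
  rw [Nat.factorization_prod (fun a ha => factor_ne_zero hℓ (Finset.mem_Icc.mp ha).1),
    Finsupp.finset_sum_apply]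
  exact Finset.sum_congr rfl fun a _ => Nat.factorization_def _ hq

theorem sum_val_eq_factorial (p : ℕ) [Fact p.Prime] (g : ℕ) :
    ∑ a ∈ Icc 1 g, padicValNat p a = padicValNat p g.factorial := by
  induction g with
  | zero => simp
  | succ g ih =>
    rw [Finset.sum_Icc_succ_top (by omega), ih, Nat.factorial_succ,
      padicValNat.mul (by omega) (Nat.factorial_ne_zero g), add_comm]

theorem val_two_mul (a : ℕ) (ha : 1 ≤ a) : padicValNat 2 (2 * a) = 1 + padicValNat 2 a := by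
  rw [padicValNat.mul (by norm_num) (by omega), padicValNat_self]

theorem two_lb {ℓ a : ℕ} (hℓ : 1 < ℓ) (hodd : ¬ 2 ∣ ℓ) (ha : 1 ≤ a) :
    3 + padicValNat 2 a ≤ padicValNat 2 (ℓ ^ (2 * a) - 1) := by
  have := padicValNat.pow_two_sub_one_ge hℓ hodd (n := 2 * a) (by omega) (even_two_mul a)
  have h2 := val_two_mul a ha
  omega

theorem two_exact {ℓ a : ℕ} (hℓ : ℓ % 8 = 3) (ha : 1 ≤ a) :
    padicValNat 2 (ℓ ^ (2 * a) - 1) = 3 + padicValNat 2 a := by
  have h1 : 1 < ℓ := by omega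
  have hodd : ¬ 2 ∣ ℓ := by omega
  have := padicValNat.pow_two_sub_one h1 hodd (n := 2 * a) (by omega) (even_two_mul a)
  have h2 := val_two_mul a ha
  have h3 : padicValNat 2 (ℓ + 1) = 2 := by
    obtain ⟨m, hm⟩ : ∃ m, ℓ + 1 = 2 ^ 2 * (2 * m + 1) := ⟨ℓ / 8, by omega⟩
    rw [hm, padicValNat.mul (by norm_num) (by omega), padicValNat.prime_pow,
      padicValNat.eq_zero_of_not_dvd (by omega)]
  have h4 : padicValNat 2 (ℓ - 1) = 1 := by
    obtain ⟨m, hm⟩ : ∃ m, ℓ - 1 = 2 * (2 * m + 1) := ⟨ℓ / 4, by omega⟩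
    rw [hm, padicValNat.mul (by norm_num) (by omega), padicValNat_self,
      padicValNat.eq_zero_of_not_dvd (by omega)]
  omega

theorem two_lb_sum {g ℓ : ℕ} (hℓ : 1 < ℓ) (hodd : ¬ 2 ∣ ℓ) :
    E g 2 ≤ padicValNat 2 (P g ℓ) := by
  rw [val_P Nat.prime_two (by omega)]
  unfold E
  rw [if_pos rfl, ← sum_val_eq_factorial 2 g]
  have : 3 * g + ∑ a ∈ Icc 1 g, padicValNat 2 a = ∑ a ∈ Icc 1 g, (3 + padicValNat 2 a) := by
    rw [Finset.sum_add_distrib, Finset.sum_const, Nat.card_Icc, smul_eq_mul]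
    simp [mul_comm]
  rw [this]
  exact Finset.sum_le_sum fun a ha => two_lb hℓ hodd (Finset.mem_Icc.mp ha).1

theorem two_exact_sum {g ℓ : ℕ} (hℓ : ℓ % 8 = 3) :
    padicValNat 2 (P g ℓ) = E g 2 := by
  rw [val_P Nat.prime_two (by omega)]
  unfold E
  rw [if_pos rfl, ← sum_val_eq_factorial 2 g]
  have : 3 * g + ∑ a ∈ Icc 1 g, padicValNat 2 a = ∑ a ∈ Icc 1 g, (3 + padicValNat 2 a) := by
    rw [Finset.sum_add_distrib, Finset.sum_const, Nat.card_Icc, smul_eq_mul]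
    simp [mul_comm]
  rw [this]
  exact Finset.sum_congr rfl fun a ha => two_exact hℓ (Finset.mem_Icc.mp ha).1

section odd

variable {q : ℕ} [hq : Fact q.Prime]

theorem fermat_dvd {ℓ : ℕ} (hℓ : ¬ q ∣ ℓ) : q ∣ ℓ ^ (q - 1) - 1 := by
  have h1 : ((ℓ : ℕ) : ZMod q) ≠ 0 := by
    rwa [Ne, ZMod.natCast_eq_zero_iff]
  have h2 := ZMod.pow_card_sub_one_eq_one h1
  have hpos : 0 < ℓ := Nat.pos_of_ne_zero (fun h => hℓ (h ▸ dvd_zero q))
  rw [← ZMod.natCast_eq_zero_iff, Nat.cast_sub (Nat.one_le_pow _ _ hpos), Nat.cast_pow, h2,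
    Nat.cast_one, sub_self]

theorem val_mult (hq2 : q ≠ 2) {ℓ i : ℕ} (hℓ2 : 2 ≤ ℓ) (hℓ : ¬ q ∣ ℓ) (hi : 1 ≤ i) :
    padicValNat q (ℓ ^ ((q - 1) * i) - 1) =
      padicValNat q (ℓ ^ (q - 1) - 1) + padicValNat q i := by
  have hodd : Odd q := hq.out.odd_of_ne_two hq2
  have hq1 : 1 ≤ q - 1 := by
    have := hq.out.two_le
    omega
  have hx1 : 1 < ℓ ^ (q - 1) := Nat.one_lt_pow (by omega) (by omega)
  have hxy : q ∣ ℓ ^ (q - 1) - 1 := fermat_dvd hℓ
  have hx : ¬ q ∣ ℓ ^ (q - 1) := fun h => hℓ (hq.out.dvd_of_dvd_pow h)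
  have := padicValNat.pow_sub_pow hodd hx1 hxy hx (n := i) (by omega)
  rw [one_pow, ← pow_mul] at this
  exact this

/-- half of `q - 1` -/
theorem half_spec (hq2 : q ≠ 2) : q - 1 = 2 * ((q - 1) / 2) ∧ 1 ≤ (q - 1) / 2 := by
  have hodd : Odd q := hq.out.odd_of_ne_two hq2
  obtain ⟨m, hm⟩ := hodd
  have := hq.out.two_le
  constructor <;> omega

theorem sum_image_eq (hq2 : q ≠ 2) (g ℓ : ℕ) :
    ∑ a ∈ (Icc 1 ((2 * g) / (q - 1))).image (fun i => (q - 1) / 2 * i),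
        padicValNat q (ℓ ^ (2 * a) - 1) =
      ∑ i ∈ Icc 1 ((2 * g) / (q - 1)), padicValNat q (ℓ ^ ((q - 1) * i) - 1) := by
  obtain ⟨h2, h1⟩ := half_spec (q := q) hq2
  rw [Finset.sum_image]
  · refine Finset.sum_congr rfl fun i _ => ?_
    congr 3
    conv_rhs => rw [h2]
    ring
  · intro i _ j _ hij
    exact Nat.eq_of_mul_eq_mul_left (by omega) hij

theorem image_subset (hq2 : q ≠ 2) (g : ℕ) :
    (Icc 1 ((2 * g) / (q - 1))).image (fun i => (q - 1) / 2 * i) ⊆ Icc 1 g := by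
  obtain ⟨h2, h1⟩ := half_spec (q := q) hq2
  intro a ha
  obtain ⟨i, hi, rfl⟩ := Finset.mem_image.mp ha
  rw [Finset.mem_Icc] at hi ⊢
  constructor
  · exact Nat.mul_pos (by omega) (by omega)
  · have h3 : (q - 1) * i ≤ 2 * g := by
      calc (q - 1) * i ≤ (q - 1) * ((2 * g) / (q - 1)) := Nat.mul_le_mul_left _ hi.2
        _ ≤ 2 * g := Nat.mul_div_le _ _
    rw [h2] at h3
    have : 2 * ((q - 1) / 2 * i) ≤ 2 * g := by rw [← mul_assoc]; exact h3
    omega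

theorem sum_one_add (g : ℕ) :
    (2 * g) / (q - 1) + ∑ i ∈ Icc 1 ((2 * g) / (q - 1)), padicValNat q i =
      ∑ i ∈ Icc 1 ((2 * g) / (q - 1)), (1 + padicValNat q i) := by
  rw [Finset.sum_add_distrib, Finset.sum_const, Nat.card_Icc, smul_eq_mul]
  simp

theorem odd_lb (hq2 : q ≠ 2) {g ℓ : ℕ} (hℓ2 : 2 ≤ ℓ) (hℓ : ¬ q ∣ ℓ) :
    E g q ≤ padicValNat q (P g ℓ) := by
  rw [val_P hq.out hℓ2]
  unfold E
  rw [if_neg hq2, sum_one_add]
  have hne : ℓ ^ (q - 1) - 1 ≠ 0 := by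
    have hq1 : 1 ≤ q - 1 := by
      have := hq.out.two_le
      omega
    have : 1 < ℓ ^ (q - 1) := Nat.one_lt_pow (by omega) (by omega)
    omega
  calc ∑ i ∈ Icc 1 ((2 * g) / (q - 1)), (1 + padicValNat q i)
      ≤ ∑ i ∈ Icc 1 ((2 * g) / (q - 1)), padicValNat q (ℓ ^ ((q - 1) * i) - 1) := by
        refine Finset.sum_le_sum fun i hi => ?_
        rw [val_mult hq2 hℓ2 hℓ (Finset.mem_Icc.mp hi).1]
        have := one_le_padicValNat_of_dvd hne (fermat_dvd (q := q) hℓ)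
        omega
    _ = ∑ a ∈ (Icc 1 ((2 * g) / (q - 1))).image (fun i => (q - 1) / 2 * i),
          padicValNat q (ℓ ^ (2 * a) - 1) := (sum_image_eq hq2 g ℓ).symm
    _ ≤ _ := Finset.sum_le_sum_of_subset (image_subset hq2 g)

theorem odd_exact (hq2 : q ≠ 2) {g ℓ : ℕ} (hℓ2 : 2 ≤ ℓ) (hℓ : ¬ q ∣ ℓ)
    (hord : ∀ n, ((ℓ : ℕ) : ZMod q) ^ n = 1 → (q - 1) ∣ n)
    (hv1 : padicValNat q (ℓ ^ (q - 1) - 1) = 1) :
    padicValNat q (P g ℓ) = E g q := by
  obtain ⟨h2, h1⟩ := half_spec (q := q) hq2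
  rw [val_P hq.out hℓ2]
  unfold E
  rw [if_neg hq2, sum_one_add, ← Finset.sum_subset (image_subset hq2 g), sum_image_eq hq2]
  · refine Finset.sum_congr rfl fun i hi => ?_
    rw [val_mult hq2 hℓ2 hℓ (Finset.mem_Icc.mp hi).1, hv1]
  · intro a ha hni
    apply padicValNat.eq_zero_of_not_dvd
    intro hdvd
    apply hni
    have ha1 := (Finset.mem_Icc.mp ha)
    have hpos : 0 < ℓ := by omega
    have hcast : ((ℓ : ℕ) : ZMod q) ^ (2 * a) = 1 := by
      rw [← ZMod.natCast_eq_zero_iff, Nat.cast_sub (Nat.one_le_pow _ _ hpos), Nat.cast_pow,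
        Nat.cast_one, sub_eq_zero] at hdvd
      exact hdvd
    have hd := hord _ hcast
    rw [h2] at hd
    have hd' : (q - 1) / 2 ∣ a := Nat.dvd_of_mul_dvd_mul_left (by norm_num) hd
    obtain ⟨i, hi⟩ := hd'
    rw [Finset.mem_image]
    refine ⟨i, ?_, hi.symm⟩
    rw [Finset.mem_Icc]
    constructor
    · rcases Nat.eq_zero_or_pos i with h0 | h0
      · rw [h0, mul_zero] at hi
        omega
      · exact h0
    · rw [Nat.le_div_iff_mul_le (by omega)]
      have : i * (q - 1) = 2 * a := by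
        rw [hi]
        conv_lhs => rw [h2]
        ring
      omega

theorem exists_good_prime_odd (hq2 : q ≠ 2) (B : ℕ) :
    ∃ ℓ, B < ℓ ∧ ℓ.Prime ∧ ¬ q ∣ ℓ ∧ (∀ n, ((ℓ : ℕ) : ZMod q) ^ n = 1 → (q - 1) ∣ n) ∧
      padicValNat q (ℓ ^ (q - 1) - 1) = 1 := by
  have hodd : Odd q := hq.out.odd_of_ne_two hq2
  have hq2' := hq.out.two_le
  have hq1 : 1 ≤ q - 1 := by omega
  obtain ⟨u, hu⟩ := IsCyclic.exists_generator (α := (ZMod q)ˣ)
  have hordu : orderOf u = q - 1 := by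
    rw [orderOf_eq_card_of_forall_mem_zpowers hu, Nat.card_eq_fintype_card, ZMod.card_units]
  set r := (u : ZMod q).val with hrdef
  have hr : ((r : ℕ) : ZMod q) = u := ZMod.natCast_zmod_val _
  have hrq : ¬ q ∣ r := by
    rw [← ZMod.natCast_eq_zero_iff, hr]
    exact u.ne_zero
  have hchoice : ∃ r', r' ≡ r [MOD q] ∧ ¬ q ∣ r' ∧ ¬ q ^ 2 ∣ r' ^ (q - 1) - 1 := by
    by_cases h : q ^ 2 ∣ r ^ (q - 1) - 1
    · have hnd : ¬ q ∣ r + q := by
        rw [Nat.dvd_add_left (dvd_refl q)]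
        exact hrq
      refine ⟨r + q, ?_, hnd, ?_⟩
      · unfold Nat.ModEq
        simp
      · intro h'
        have hlte := padicValNat.pow_sub_pow hodd (x := r + q) (y := r) (by omega)
          (by rw [Nat.add_sub_cancel_left]) hnd (n := q - 1) (by omega)
        have e2 : padicValNat q (q - 1) = 0 :=
          padicValNat.eq_zero_of_not_dvd (Nat.not_dvd_of_pos_of_lt (by omega) (by omega))
        rw [Nat.add_sub_cancel_left, padicValNat_self, e2] at hlte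
        have hrpos : 0 < r := Nat.pos_of_ne_zero (fun h0 => hrq (h0 ▸ dvd_zero q))
        have hp1 : 1 ≤ r ^ (q - 1) := Nat.one_le_pow _ _ hrpos
        have hp2 : r ^ (q - 1) < (r + q) ^ (q - 1) := Nat.pow_lt_pow_left (by omega) (by omega)
        have hd : q ^ 2 ∣ (r + q) ^ (q - 1) - r ^ (q - 1) := by
          have : (r + q) ^ (q - 1) - r ^ (q - 1) =
              ((r + q) ^ (q - 1) - 1) - (r ^ (q - 1) - 1) := by omega
          rw [this]
          exact Nat.dvd_sub h' h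
        have hne : (r + q) ^ (q - 1) - r ^ (q - 1) ≠ 0 := by omega
        have := (padicValNat_dvd_iff_le hne).mp hd
        omega
    · exact ⟨r, Nat.ModEq.refl r, hrq, h⟩
  obtain ⟨r', hr'r, hr'q, hr'2⟩ := hchoice
  have hcop : r'.Coprime (q ^ 2) :=
    Nat.Coprime.pow_right 2 ((Nat.Prime.coprime_iff_not_dvd hq.out).mpr hr'q).symm
  obtain ⟨ℓ, hℓB, hℓp, hℓr⟩ :=
    Nat.forall_exists_prime_gt_and_modEq B (pow_ne_zero 2 hq.out.ne_zero) hcop
  have hℓq : ℓ ≡ r [MOD q] := (hℓr.of_dvd (dvd_pow_self q two_ne_zero)).trans hr'r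
  have hcast : ((ℓ : ℕ) : ZMod q) = u := by
    rw [← hr]
    exact (ZMod.natCast_eq_natCast_iff _ _ _).mpr hℓq
  have hnd : ¬ q ∣ ℓ := by
    rw [← ZMod.natCast_eq_zero_iff, hcast]
    exact u.ne_zero
  have hℓ2 := hℓp.two_le
  have hne : ℓ ^ (q - 1) - 1 ≠ 0 := by
    have : 1 < ℓ ^ (q - 1) := Nat.one_lt_pow (by omega) (by omega)
    omega
  refine ⟨ℓ, hℓB, hℓp, hnd, ?_, ?_⟩
  · intro n hn
    rw [hcast] at hn
    have : u ^ n = 1 := by
      apply Units.ext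
      rw [Units.val_pow_eq_pow_val, hn, Units.val_one]
    rw [← hordu]
    exact orderOf_dvd_of_pow_eq_one this
  · have hge : 1 ≤ padicValNat q (ℓ ^ (q - 1) - 1) :=
      one_le_padicValNat_of_dvd hne (fermat_dvd hnd)
    have hlt : ¬ (2 ≤ padicValNat q (ℓ ^ (q - 1) - 1)) := by
      intro h2
      have hd : q ^ 2 ∣ ℓ ^ (q - 1) - 1 := (padicValNat_dvd_iff_le hne).mpr h2
      apply hr'2
      have hr'pos : 0 < r' := Nat.pos_of_ne_zero (fun h0 => hr'q (h0 ▸ dvd_zero q))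
      have h3 : 1 ≡ ℓ ^ (q - 1) [MOD q ^ 2] :=
        (Nat.modEq_iff_dvd' (Nat.one_le_pow _ _ (by omega))).mpr hd
      have h4 := h3.trans (hℓr.pow (q - 1))
      exact (Nat.modEq_iff_dvd' (Nat.one_le_pow _ _ hr'pos)).mp h4
    omega

end odd

theorem exists_good_prime_two (B : ℕ) : ∃ ℓ, B < ℓ ∧ ℓ.Prime ∧ ℓ % 8 = 3 := by
  obtain ⟨ℓ, hℓB, hℓp, hℓr⟩ :=
    Nat.forall_exists_prime_gt_and_modEq B (q := 8) (a := 3) (by norm_num) (by norm_num)
  exact ⟨ℓ, hℓB, hℓp, hℓr⟩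

theorem prodpart_ne_zero (g : ℕ) :
    ∏ p ∈ (Icc 3 (2 * g + 1)).filter Nat.Prime,
      p ^ ((2 * g) / (p - 1) + ∑ i ∈ Icc 1 ((2 * g) / (p - 1)), padicValNat p i) ≠ 0 := by
  rw [Finset.prod_ne_zero_iff]
  intro p hp
  have := (Finset.mem_filter.mp hp).2
  exact pow_ne_zero _ this.ne_zero

theorem N_ne_zero (g : ℕ) : N g ≠ 0 := by
  unfold N
  exact mul_ne_zero (pow_ne_zero _ two_ne_zero) (prodpart_ne_zero g)

theorem N_factorization (g : ℕ) {q : ℕ} (hq : q.Prime) : (N g).factorization q = E g q := by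
  classical
  unfold N
  rw [Nat.factorization_mul (pow_ne_zero _ two_ne_zero) (prodpart_ne_zero g),
    Nat.Prime.factorization_pow Nat.prime_two, Nat.factorization_prod (fun p hp => by
      have := (Finset.mem_filter.mp hp).2
      exact pow_ne_zero _ this.ne_zero), Finsupp.add_apply, Finsupp.finset_sum_apply]
  have hsum : ∑ p ∈ (Icc 3 (2 * g + 1)).filter Nat.Prime,
      (p ^ ((2 * g) / (p - 1) + ∑ i ∈ Icc 1 ((2 * g) / (p - 1)), padicValNat p i)).factorization q =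
      ∑ p ∈ (Icc 3 (2 * g + 1)).filter Nat.Prime,
        if p = q then ((2 * g) / (p - 1) + ∑ i ∈ Icc 1 ((2 * g) / (p - 1)), padicValNat p i)
        else 0 := by
    refine Finset.sum_congr rfl fun p hp => ?_
    have := (Finset.mem_filter.mp hp).2
    rw [Nat.Prime.factorization_pow this, Finsupp.single_apply]
  rw [hsum, Finset.sum_ite_eq', Finsupp.single_apply]
  unfold E
  by_cases hq2 : q = 2
  · subst hq2
    have : (2 : ℕ) ∉ (Icc 3 (2 * g + 1)).filter Nat.Prime := by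
      intro h
      have := (Finset.mem_Icc.mp (Finset.mem_filter.mp h).1).1
      omega
    rw [if_pos rfl, if_neg this, if_pos rfl, add_zero]
  · have hq3 : 3 ≤ q := by
      have := hq.two_le
      omega
    rw [if_neg (Ne.symm hq2), if_neg hq2, zero_add]
    by_cases hmem : q ∈ (Icc 3 (2 * g + 1)).filter Nat.Prime
    · rw [if_pos hmem]
    · rw [if_neg hmem]
      have hbig : 2 * g + 1 < q := by
        by_contra hle
        apply hmem
        rw [Finset.mem_filter, Finset.mem_Icc]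
        exact ⟨⟨hq3, by omega⟩, hq⟩
      have : (2 * g) / (q - 1) = 0 := Nat.div_eq_of_lt (by omega)
      rw [this]
      simp

/-- the final statement -/
theorem main (g B d : ℕ) (hB : 2 * g + 1 ≤ B) :
    (∀ ℓ : ℕ, ℓ.Prime → B < ℓ → d ∣ P g ℓ) ↔ d ∣ N g := by
  constructor
  · intro h
    obtain ⟨ℓ₀, hℓ₀B, hℓ₀p⟩ := Nat.exists_infinite_primes (B + 1)
    have hd0 : d ≠ 0 := by
      intro hd
      have := h ℓ₀ hℓ₀p (by omega)
      rw [hd, zero_dvd_iff] at this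
      exact P_ne_zero hℓ₀p.two_le this
    rw [← Nat.factorization_prime_le_iff_dvd hd0 (N_ne_zero g)]
    intro q hq
    rw [N_factorization g hq]
    have : Fact q.Prime := ⟨hq⟩
    by_cases hq2 : q = 2
    · subst hq2
      obtain ⟨ℓ, hℓB, hℓp, hℓ8⟩ := exists_good_prime_two B
      have hdvd := h ℓ hℓp hℓB
      have := (Nat.factorization_le_iff_dvd hd0 (P_ne_zero hℓp.two_le)).mpr hdvd 2
      rw [Nat.factorization_def _ Nat.prime_two, Nat.factorization_def _ Nat.prime_two,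
        two_exact_sum hℓ8] at this
      rw [Nat.factorization_def _ Nat.prime_two]
      exact this
    · obtain ⟨ℓ, hℓB, hℓp, hnd, hord, hv1⟩ := exists_good_prime_odd (q := q) hq2 B
      have hdvd := h ℓ hℓp hℓB
      have := (Nat.factorization_le_iff_dvd hd0 (P_ne_zero hℓp.two_le)).mpr hdvd q
      rw [Nat.factorization_def _ hq, Nat.factorization_def _ hq,
        odd_exact hq2 hℓp.two_le hnd hord hv1] at this
      rw [Nat.factorization_def _ hq]
      exact this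
  · intro h ℓ hℓp hℓB
    refine h.trans ?_
    rw [← Nat.factorization_prime_le_iff_dvd (N_ne_zero g) (P_ne_zero hℓp.two_le)]
    intro q hq
    rw [N_factorization g hq, Nat.factorization_def _ hq]
    have : Fact q.Prime := ⟨hq⟩
    by_cases hqℓ : q = ℓ
    · -- E g ℓ = 0
      have : E g q = 0 := by
        unfold E
        by_cases hq2 : q = 2
        · have hg : g = 0 := by omega
          rw [if_pos hq2, hg]
          simp
        · rw [if_neg hq2]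
          have : (2 * g) / (q - 1) = 0 := Nat.div_eq_of_lt (by omega)
          rw [this]
          simp
      rw [this]
      exact Nat.zero_le _
    · have hnd : ¬ q ∣ ℓ := fun hd => hqℓ ((Nat.prime_dvd_prime_iff_eq hq hℓp).mp hd)
      by_cases hq2 : q = 2
      · subst hq2
        exact two_lb_sum hℓp.one_lt hnd
      · exact odd_lb hq2 hℓp.two_le hnd

end Groth.Agent.Lib.Helper16.SSRed
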