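import Mathlib
import Groth.Prelude.Def_FlatCA
import Groth.Prelude.Def_EGA4b

set_option autoImplicit false

universe u

namespace Groth.Agent.Lib.Helper16.SmFibC

open AlgebraicGeometry CategoryTheory Limits TensorProduct

/-- Base change of `SmoothRelDim` along any ring map `A → K`. -/
theorem smoothRelDim_baseChange (A B K : Type u) [CommRing A] [CommRing B] [CommRing K]
    [Algebra A B] [Algebra A K] (n : ℕ) (hs : FlatCA.SmoothRelDim n A B) :
    FlatCA.SmoothRelDim n K (K ⊗[A] B) := by
  show SmoothOfRelativeDimension n (Spec.map (CommRingCat.ofHom (algebraMap K (K ⊗[A] B))))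
  rw [← pullbackSpecIso_inv_fst' A K B]
  haveI := smoothOfRelativeDimension_isStableUnderBaseChange (n := n)
  have h1 : SmoothOfRelativeDimension n
      (pullback.fst (Spec.map (CommRingCat.ofHom (algebraMap A K)))
        (Spec.map (CommRingCat.ofHom (algebraMap A B)))) :=
    MorphismProperty.pullback_fst (P := @SmoothOfRelativeDimension n) _ _ hs
  exact (MorphismProperty.cancel_left_of_respectsIso (@SmoothOfRelativeDimension n) _ _).mpr h1

/-- (c) of the FD call: the fibre ring `p.Fiber B = κ(p) ⊗[A] B` is smooth of relative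
dimension `n` over `κ(p)`. -/
theorem smoothRelDim_fiber (A B : Type u) [CommRing A] [CommRing B] [Algebra A B] (n : ℕ)
    (hs : FlatCA.SmoothRelDim n A B) (p : Ideal A) [p.IsPrime] :
    FlatCA.SmoothRelDim n p.ResidueField (p.Fiber B) :=
  smoothRelDim_baseChange A B p.ResidueField n hs

end Groth.Agent.Lib.Helper16.SmFibC
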