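import Mathlib
import Groth.Agent.Lib.Helper16.FrobSynt1

/-!
# Splitting a monic polynomial over a finite free, square-presented algebra
-/

set_option autoImplicit false
universe u

namespace Helper16.SplitSynt

open Polynomial

/-- The presentation of `AdjoinRoot P` with one generator and one relation. -/
noncomputable def presAdjoinRoot {A : Type u} [CommRing A] (P : A[X]) :
    Algebra.Presentation A (AdjoinRoot P) PUnit.{1} PUnit.{1} := by
  let e := MvPolynomial.pUnitAlgEquiv.{u, 0} A
  have hcomp : MvPolynomial.aeval (R := A) (fun _ : PUnit.{1} => AdjoinRoot.root P)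
      = (AdjoinRoot.mkₐ P).comp e.toAlgHom := by
    apply MvPolynomial.algHom_ext
    intro i
    simp [e, MvPolynomial.pUnitAlgEquiv, MvPolynomial.uniqueAlgEquiv]
  have hsurj : Function.Surjective
      (MvPolynomial.aeval (R := A) (fun _ : PUnit.{1} => AdjoinRoot.root P)) := by
    rw [hcomp]
    exact (AdjoinRoot.mk_surjective).comp e.surjective
  refine
    { toGenerators := Algebra.Generators.ofSurjective (fun _ : PUnit.{1} => AdjoinRoot.root P) hsurj
      relation := fun _ => e.symm P
      span_range_relation_eq_ker := ?_ }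
  rw [Algebra.Generators.ker_eq_ker_aeval_val]
  show _ = RingHom.ker (MvPolynomial.aeval (R := A) (fun _ : PUnit.{1} => AdjoinRoot.root P))
  rw [hcomp]
  ext F
  rw [RingHom.mem_ker]
  simp only [AlgHom.coe_comp, Function.comp_apply, AlgEquiv.toAlgHom_eq_coe, AlgHom.coe_coe]
  have h1 : (AdjoinRoot.mkₐ P) ((e : _ →ₐ[A] _) F) = AdjoinRoot.mk P (e F) := rfl
  rw [h1, AdjoinRoot.mk_eq_zero, Set.range_const, Ideal.mem_span_singleton]
  constructor
  · rintro ⟨G, hG⟩
    refine ⟨e G, ?_⟩
    rw [hG, map_mul, AlgEquiv.apply_symm_apply]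
  · rintro ⟨g, hg⟩
    refine ⟨e.symm g, ?_⟩
    apply e.injective
    rw [map_mul, AlgEquiv.apply_symm_apply, AlgEquiv.apply_symm_apply, hg]

/-- The induction: finite free, square-presented splitting algebras. -/
theorem exists_split : ∀ (n : ℕ) (A : Type u) [CommRing A] (P : A[X]), P.Monic → P.natDegree = n →
    ∃ (A' : Type u) (_ : CommRing A') (_ : Algebra A A') (m k : ℕ),
      0 < k ∧ Nonempty (Algebra.Presentation A A' (Fin m) (Fin m)) ∧
      Nonempty (Module.Basis (Fin k) A A') ∧
      ∃ s : Multiset A', P.map (algebraMap A A') = (s.map fun b => X - C b).prod := by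
  intro n
  induction n with
  | zero =>
    intro A _ P hP hdeg
    have hP1 : P = 1 := hP.natDegree_eq_zero.mp hdeg
    refine ⟨A, inferInstance, inferInstance, 0, 1, one_pos, ?_, ?_, 0, ?_⟩
    · exact ⟨(Algebra.Presentation.id.{0, 0, u} A).reindex (Equiv.equivOfIsEmpty _ _)
        (Equiv.equivOfIsEmpty _ _)⟩
    · exact ⟨Module.Basis.singleton (Fin 1) A⟩
    · simp [hP1]
  | succ n ih =>
    intro A _ P hP hdeg
    -- adjoin a root
    let B := AdjoinRoot P
    have hroot : (P.map (algebraMap A B)).IsRoot (AdjoinRoot.root P) := AdjoinRoot.isRoot_root P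
    have hPB : (P.map (algebraMap A B)).Monic := hP.map _
    set Q := (P.map (algebraMap A B)) /ₘ (X - C (AdjoinRoot.root P)) with hQ
    have hfac : (X - C (AdjoinRoot.root P)) * Q = P.map (algebraMap A B) :=
      mul_divByMonic_eq_iff_isRoot.mpr hroot
    have basB : Module.Basis (Fin P.natDegree) A B := (AdjoinRoot.powerBasis' hP).basis
    have hA : Nontrivial A := by
      by_contra hA
      rw [not_nontrivial_iff_subsingleton] at hA
      have : P = 0 := Subsingleton.elim _ _
      rw [this] at hdeg
      simp at hdeg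
    have hBnt : Nontrivial B := by
      haveI : Nonempty (Fin P.natDegree) := ⟨⟨0, by omega⟩⟩
      exact basB.repr.toEquiv.nontrivial
    have hQm : Q.Monic :=
      (monic_X_sub_C (AdjoinRoot.root P)).of_mul_monic_left (by rw [hfac]; exact hPB)
    have hQdeg : Q.natDegree = n := by
      rw [hQ, natDegree_divByMonic _ (monic_X_sub_C _), natDegree_X_sub_C, hP.natDegree_map, hdeg]
      rfl
    obtain ⟨B', iB', iAlg, m, k, hk, ⟨presB'⟩, ⟨basB'⟩, s, hs⟩ := ih B Q hQm hQdeg
    letI : Algebra A B' := ((algebraMap B B').comp (algebraMap A B)).toAlgebra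
    haveI : IsScalarTower A B B' := IsScalarTower.of_algebraMap_eq (fun x => rfl)
    refine ⟨B', iB', inferInstance, m + 1, P.natDegree * k,
      Nat.mul_pos (by omega) hk, ?_, ?_, (algebraMap B B' (AdjoinRoot.root P)) ::ₘ s, ?_⟩
    · -- presentation by composition
      have pres := presB'.comp (presAdjoinRoot P)
      refine ⟨pres.reindex (finSumFinEquiv.symm.trans
          (Equiv.sumCongr (Equiv.refl _) (Equiv.ofUnique _ _)))
        (finSumFinEquiv.symm.trans (Equiv.sumCongr (Equiv.refl _) (Equiv.ofUnique _ _)))⟩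
    · exact ⟨(basB.smulTower basB').reindex finProdFinEquiv⟩
    · have hmap : P.map (algebraMap A B') = (P.map (algebraMap A B)).map (algebraMap B B') := by
        rw [Polynomial.map_map]; rfl
      rw [hmap, ← hfac, Polynomial.map_mul, hs, Multiset.map_cons, Multiset.prod_cons]
      simp

end Helper16.SplitSynt
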