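import Mathlib
import Groth.Agent.Lib.Helper16.SplitSynt

/-!
# The tower `A'[t_1, …, t_r]/(P(t_i))` with its universal property
-/

set_option autoImplicit false
universe u

namespace Helper16.SplitTower

open Polynomial

/-- The `r`-fold tower obtained by adjoining `r` roots of the monic polynomial `P`. -/
theorem exists_tower {A' : Type u} [CommRing A'] (P : A'[X]) (hP : P.Monic) :
    ∀ r : ℕ, ∃ (C : Type u) (_ : CommRing C) (_ : Algebra A' C) (t : Fin r → C),
      Module.Free A' C ∧ Module.Finite A' C ∧ Algebra.FinitePresentation A' C ∧
      Algebra.adjoin A' (Set.range t) = ⊤ ∧ (∀ i, Polynomial.aeval (t i) P = 0) ∧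
      ∀ (D : Type u) [CommRing D] [Algebra A' D] (d : Fin r → D),
        (∀ i, Polynomial.aeval (d i) P = 0) → ∃ g : C →ₐ[A'] D, ∀ i, g (t i) = d i := by
  intro r
  induction r with
  | zero =>
    refine ⟨A', inferInstance, inferInstance, Fin.elim0, inferInstance, inferInstance,
      inferInstance, ?_, fun i => i.elim0, ?_⟩
    · rw [eq_top_iff]
      intro x _
      exact Subalgebra.algebraMap_mem _ x
    · intro D _ _ d _
      exact ⟨Algebra.ofId A' D, fun i => i.elim0⟩
  | succ r ih =>
    obtain ⟨C, iC, iAlg, t, hfree, hfin, hfp, hadj, hroot, hUP⟩ := ih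
    set Q : C[X] := P.map (algebraMap A' C) with hQ
    have hQm : Q.Monic := hP.map _
    let C' := AdjoinRoot Q
    let t' : Fin (r + 1) → C' := Fin.snoc (fun i => AdjoinRoot.of Q (t i)) (AdjoinRoot.root Q)
    have ht'last : t' (Fin.last r) = AdjoinRoot.root Q := by simp [t']
    have ht'cast : ∀ i : Fin r, t' i.castSucc = AdjoinRoot.of Q (t i) := by
      intro i; simp [t']
    have hfreeC' : Module.Free C C' := Module.Free.of_basis (AdjoinRoot.powerBasis' hQm).basis
    have hfinC' : Module.Finite C C' := Module.Finite.of_basis (AdjoinRoot.powerBasis' hQm).basis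
    have hfpC' : Algebra.FinitePresentation C C' :=
      (Helper16.SplitSynt.presAdjoinRoot Q).finitePresentation_of_isFinite
    refine ⟨C', inferInstance, inferInstance, t', Module.Free.trans (S := C),
      Module.Finite.trans C C', Algebra.FinitePresentation.trans A' C C', ?_, ?_, ?_⟩
    · -- generation
      rw [eq_top_iff]
      set S := Algebra.adjoin A' (Set.range t') with hS
      have hof : ∀ c : C, AdjoinRoot.of Q c ∈ S := by
        intro c
        have hc : c ∈ Algebra.adjoin A' (Set.range t) := by rw [hadj]; trivial
        induction hc using Algebra.adjoin_induction with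
        | mem x hx =>
          obtain ⟨i, rfl⟩ := hx
          rw [← ht'cast]
          exact Algebra.subset_adjoin ⟨_, rfl⟩
        | algebraMap a =>
          have : AdjoinRoot.of Q (algebraMap A' C a) = algebraMap A' C' a := rfl
          rw [this]
          exact Subalgebra.algebraMap_mem S a
        | add x y _ _ hx hy => rw [map_add]; exact Subalgebra.add_mem S hx hy
        | mul x y _ _ hx hy => rw [map_mul]; exact Subalgebra.mul_mem S hx hy
      have hrootS : AdjoinRoot.root Q ∈ S := by
        rw [← ht'last]
        exact Algebra.subset_adjoin ⟨_, rfl⟩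
      intro x _
      clear * - hof hrootS
      induction x using AdjoinRoot.induction_on with
      | ih f =>
        induction f using Polynomial.induction_on' with
        | add p q hp hq => rw [map_add]; exact Subalgebra.add_mem S hp hq
        | monomial n c =>
          have : AdjoinRoot.mk Q (Polynomial.monomial n c)
              = AdjoinRoot.of Q c * AdjoinRoot.root Q ^ n := by
            rw [← Polynomial.C_mul_X_pow_eq_monomial, map_mul, map_pow, AdjoinRoot.mk_C,
              AdjoinRoot.mk_X]
          rw [this]
          exact Subalgebra.mul_mem S (hof c) (Subalgebra.pow_mem S hrootS n)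
    · -- roots
      intro i
      induction i using Fin.lastCases with
      | last =>
        rw [ht'last]
        have := AdjoinRoot.eval₂_root Q
        rw [hQ, Polynomial.eval₂_map] at this
        rw [Polynomial.aeval_def]
        exact this
      | cast i =>
        rw [ht'cast]
        have : AdjoinRoot.of Q (t i) = algebraMap C C' (t i) := rfl
        rw [this, Polynomial.aeval_algebraMap_apply, hroot i, map_zero]
    · -- universal property
      intro D _ _ d hd
      obtain ⟨g₀, hg₀⟩ := hUP D (fun i => d i.castSucc) (fun i => hd _)
      have hev : Q.eval₂ (g₀ : C →+* D) (d (Fin.last r)) = 0 := by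
        rw [hQ, Polynomial.eval₂_map]
        have : ((g₀ : C →+* D).comp (algebraMap A' C)) = algebraMap A' D := by
          ext a; simp
        rw [this, ← Polynomial.aeval_def]
        exact hd _
      refine ⟨AdjoinRoot.liftAlgHom Q g₀ (d (Fin.last r)) hev, ?_⟩
      intro i
      induction i using Fin.lastCases with
      | last => rw [ht'last, AdjoinRoot.liftAlgHom_root]
      | cast i => rw [ht'cast, AdjoinRoot.liftAlgHom_of, hg₀]

end Helper16.SplitTower
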