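import Mathlib
import Groth.Agent.Lib.Helper16.SplitTower

/-!
# Ring-level core: a finite algebra becomes a quotient of a finite free algebra covered by sections
-/

set_option autoImplicit false
universe u

namespace Helper16.SplitTower

open Polynomial TensorProduct

attribute [local instance] Algebra.TensorProduct.rightAlgebra

theorem ring_core (A B : Type u) [CommRing A] [CommRing B] [Algebra A B] [Module.Finite A B] :
    ∃ (A' : Type u) (_ : CommRing A') (_ : Algebra A A')
      (C' : Type u) (_ : CommRing C') (_ : Algebra A' C')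
      (π : C' →+* B ⊗[A] A') (m : ℕ) (ev : Fin m → (C' →ₐ[A'] A')),
      Module.Finite A A' ∧ Module.Flat A A' ∧ Algebra.FinitePresentation A A' ∧
      Module.FaithfullyFlat A A' ∧
      Module.Finite A' C' ∧ Module.Flat A' C' ∧ Algebra.FinitePresentation A' C' ∧
      Function.Surjective π ∧ (∀ a', π (algebraMap A' C' a') = 1 ⊗ₜ a') ∧
      ∀ 𝔭 : Ideal C', 𝔭.IsPrime → ∃ j, RingHom.ker (ev j) ≤ 𝔭 := by
  classical
  -- generators of `B`
  obtain ⟨s, hs⟩ := (Module.Finite.fg_top : (⊤ : Submodule A B).FG)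
  let r := s.card
  let b : Fin r → B := fun i => (s.equivFin.symm i : B)
  have hbrange : Set.range b = (s : Set B) := by
    ext x
    constructor
    · rintro ⟨i, rfl⟩
      exact (s.equivFin.symm i).2
    · intro hx
      exact ⟨s.equivFin ⟨x, hx⟩, by simp [b]⟩
  have hadjB : Algebra.adjoin A (Set.range b) = ⊤ := by
    rw [hbrange, eq_top_iff]
    intro x _
    have hx : x ∈ Submodule.span A (s : Set B) := by rw [hs]; trivial
    exact (Algebra.span_le_adjoin A (s : Set B)) hx
  -- a monic polynomial killing all generators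
  have hint : ∀ i, ∃ p : A[X], p.Monic ∧ Polynomial.aeval (b i) p = 0 := fun i =>
    (Algebra.IsIntegral.isIntegral (R := A) (b i))
  choose p hpm hp0 using hint
  let P : A[X] := ∏ i, p i
  have hPm : P.Monic := Polynomial.monic_prod_of_monic _ _ (fun i _ => hpm i)
  have hPb : ∀ i, Polynomial.aeval (b i) P = 0 := by
    intro i
    simp only [P, map_prod]
    exact Finset.prod_eq_zero (Finset.mem_univ i) (hp0 i)
  -- splitting algebra
  obtain ⟨A', iA', iAlg, m0, k, hk, ⟨pres⟩, ⟨bas⟩, rts, hrts⟩ :=
    Helper16.SplitSynt.exists_split P.natDegree A P hPm rfl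
  have hne : Nonempty (Fin k) := ⟨⟨0, hk⟩⟩
  have hfinA' : Module.Finite A A' := Module.Finite.of_basis bas
  have hfreeA' : Module.Free A A' := Module.Free.of_basis bas
  have hfpA' : Algebra.FinitePresentation A A' := pres.finitePresentation_of_isFinite
  have hffA' : Module.FaithfullyFlat A A' := Module.FaithfullyFlat.of_linearEquiv _ _ bas.repr
  set P' : A'[X] := P.map (algebraMap A A') with hP'
  have hP'm : P'.Monic := hPm.map _
  -- the finite set of roots
  let R : Finset A' := rts.toFinset
  let n := R.card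
  let α : Fin n → A' := fun k => (R.equivFin.symm k : A')
  have hαroot : ∀ k, Polynomial.aeval (α k) P' = 0 := by
    intro k
    have hmem : α k ∈ rts := Multiset.mem_toFinset.mp (R.equivFin.symm k).2
    rw [Polynomial.coe_aeval_eq_eval, hrts, Polynomial.eval_multiset_prod]
    apply Multiset.prod_eq_zero
    rw [Multiset.mem_map]
    refine ⟨X - C (α k), Multiset.mem_map.mpr ⟨α k, hmem, rfl⟩, by simp⟩
  -- the tower
  obtain ⟨C', iC', iAlgC', t, hfreeC', hfinC', hfpC', hadjC', htroot, hUP⟩ :=
    exists_tower P' hP'm r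
  -- the surjection to `B ⊗ A'`
  have hd : ∀ i, Polynomial.aeval ((b i) ⊗ₜ[A] (1 : A')) P' = 0 := by
    intro i
    rw [hP', Polynomial.aeval_map_algebraMap]
    have : (b i) ⊗ₜ[A] (1 : A') = (Algebra.TensorProduct.includeLeft : B →ₐ[A] B ⊗[A] A') (b i) :=
      rfl
    rw [this, Polynomial.aeval_algHom_apply, hPb i, map_zero]
  obtain ⟨g, hg⟩ := hUP (B ⊗[A] A') (fun i => (b i) ⊗ₜ[A] (1 : A')) hd
  have hgalg : ∀ a', g (algebraMap A' C' a') = 1 ⊗ₜ a' := by
    intro a'
    rw [g.commutes]
    rfl
  have hgsurj : Function.Surjective g := by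
    have hleft : ∀ x : B, ∃ c, g c = x ⊗ₜ[A] (1 : A') := by
      intro x
      have hx : x ∈ Algebra.adjoin A (Set.range b) := by rw [hadjB]; trivial
      induction hx using Algebra.adjoin_induction with
      | mem x hx =>
        obtain ⟨i, rfl⟩ := hx
        exact ⟨t i, hg i⟩
      | algebraMap a =>
        refine ⟨algebraMap A' C' (algebraMap A A' a), ?_⟩
        rw [hgalg, Algebra.algebraMap_eq_smul_one, Algebra.algebraMap_eq_smul_one,
          TensorProduct.smul_tmul]
      | add x y _ _ hx hy =>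
        obtain ⟨c1, h1⟩ := hx
        obtain ⟨c2, h2⟩ := hy
        exact ⟨c1 + c2, by rw [map_add, h1, h2, TensorProduct.add_tmul]⟩
      | mul x y _ _ hx hy =>
        obtain ⟨c1, h1⟩ := hx
        obtain ⟨c2, h2⟩ := hy
        exact ⟨c1 * c2, by rw [map_mul, h1, h2, Algebra.TensorProduct.tmul_mul_tmul, mul_one]⟩
    intro z
    induction z using TensorProduct.induction_on with
    | zero => exact ⟨0, map_zero _⟩
    | tmul x a' =>
      obtain ⟨c, hc⟩ := hleft x
      refine ⟨c * algebraMap A' C' a', ?_⟩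
      rw [map_mul, hc, hgalg, Algebra.TensorProduct.tmul_mul_tmul, mul_one, one_mul]
    | add x y hx hy =>
      obtain ⟨c1, h1⟩ := hx
      obtain ⟨c2, h2⟩ := hy
      exact ⟨c1 + c2, by rw [map_add, h1, h2]⟩
  -- the sections
  have hev : ∀ κ : Fin r → Fin n, ∃ ev : C' →ₐ[A'] A', ∀ i, ev (t i) = α (κ i) := fun κ =>
    hUP A' (fun i => α (κ i)) (fun i => hαroot _)
  choose ev hevt using hev
  let eqv : Fin (n ^ r) ≃ (Fin r → Fin n) := finFunctionFinEquiv.symm
  refine ⟨A', iA', iAlg, C', iC', iAlgC', g, n ^ r, fun j => ev (eqv j),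
    hfinA', inferInstance, hfpA', hffA', hfinC', inferInstance, hfpC', hgsurj, hgalg, ?_⟩
  intro 𝔭 h𝔭
  -- choose a root for each generator
  have hchoose : ∀ i : Fin r, ∃ k : Fin n, t i - algebraMap A' C' (α k) ∈ 𝔭 := by
    intro i
    have h0 : Polynomial.aeval (t i) P' = 0 := htroot i
    rw [hrts, Polynomial.aeval_def, Polynomial.eval₂_multiset_prod] at h0
    have hmem : ((rts.map fun a => X - C a).map (Polynomial.eval₂ (algebraMap A' C') (t i))).prod ∈ 𝔭 := by
      rw [h0]; exact 𝔭.zero_mem
    rw [Ideal.IsPrime.multiset_prod_mem_iff_exists_mem h𝔭] at hmem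
    obtain ⟨y, hy, hy𝔭⟩ := hmem
    rw [Multiset.mem_map] at hy
    obtain ⟨q, hq, rfl⟩ := hy
    rw [Multiset.mem_map] at hq
    obtain ⟨a, ha, rfl⟩ := hq
    have haR : a ∈ R := Multiset.mem_toFinset.mpr ha
    refine ⟨R.equivFin ⟨a, haR⟩, ?_⟩
    have : α (R.equivFin ⟨a, haR⟩) = a := by simp [α]
    rw [this]
    simpa using hy𝔭
  choose κ hκ using hchoose
  refine ⟨eqv.symm κ, ?_⟩
  simp only [Equiv.apply_symm_apply]
  -- every element is congruent to its value modulo the ideal `J`
  set J : Ideal C' := Ideal.span (Set.range fun i => t i - algebraMap A' C' (α (κ i))) with hJ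
  have hJ𝔭 : J ≤ 𝔭 := by
    rw [hJ, Ideal.span_le]
    rintro _ ⟨i, rfl⟩
    exact hκ i
  have hcong : ∀ x : C', x - algebraMap A' C' (ev κ x) ∈ J := by
    intro x
    have hx : x ∈ Algebra.adjoin A' (Set.range t) := by rw [hadjC']; trivial
    induction hx using Algebra.adjoin_induction with
    | mem x hx =>
      obtain ⟨i, rfl⟩ := hx
      rw [hevt]
      exact Ideal.subset_span ⟨i, rfl⟩
    | algebraMap a =>
      rw [AlgHom.commutes, Algebra.algebraMap_self, RingHom.id_apply, sub_self]
      exact J.zero_mem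
    | add x y _ _ hx hy =>
      have : x + y - algebraMap A' C' (ev κ (x + y))
          = (x - algebraMap A' C' (ev κ x)) + (y - algebraMap A' C' (ev κ y)) := by
        rw [map_add, map_add]; ring
      rw [this]
      exact J.add_mem hx hy
    | mul x y _ _ hx hy =>
      have : x * y - algebraMap A' C' (ev κ (x * y))
          = (x - algebraMap A' C' (ev κ x)) * y
            + algebraMap A' C' (ev κ x) * (y - algebraMap A' C' (ev κ y)) := by
        rw [map_mul, map_mul]; ring
      rw [this]
      exact J.add_mem (J.mul_mem_right _ hx) (J.mul_mem_left _ hy)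
  intro x hx
  rw [RingHom.mem_ker] at hx
  have := hcong x
  have hx' : ev κ x = 0 := hx
  rw [hx', map_zero, sub_zero] at this
  exact hJ𝔭 this

end Helper16.SplitTower
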