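import Groth.Agent.Lib.Helper16.SplitTower2
import Groth.Prelude.Def_Mor2

set_option autoImplicit false
universe u
open CategoryTheory CategoryTheory.Limits AlgebraicGeometry TensorProduct

namespace Helper16.SplitTower

theorem spec_case {R S : CommRingCat.{u}} (φ : R ⟶ S) (hφ : φ.hom.Finite) :
    ∃ (X' : Scheme.{u}) (b : X' ⟶ Spec R) (Z' : Scheme.{u}) (c : Z' ⟶ X')
      (i : pullback (Spec.map φ) b ⟶ Z'),
      Mor2.IsFinLocFree b ∧ Surjective b ∧ Mor2.IsFinLocFree c ∧ IsClosedImmersion i ∧
      i ≫ c = pullback.snd (Spec.map φ) b ∧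
      ∃ (m : ℕ) (Zj : Fin m → Scheme.{u}) (ιj : ∀ j, Zj j ⟶ Z'),
        (∀ j, IsClosedImmersion (ιj j)) ∧ (∀ j, IsIso (ιj j ≫ c)) ∧
        (⋃ j, Set.range (ιj j).base) = Set.univ := by
  letI := φ.hom.toAlgebra
  haveI : Module.Finite R S := hφ
  obtain ⟨A', iA', iAlg, C', iC', iAlgC', π, m, ev, hfin, hflat, hfp, hff, hfinC, hflatC, hfpC,
    hπ, hπalg, hcover⟩ := ring_core R S
  have hφeq : φ = CommRingCat.ofHom (algebraMap R S) := rfl
  refine ⟨Spec (.of A'), Spec.map (CommRingCat.ofHom (algebraMap R A')), Spec (.of C'),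
    Spec.map (CommRingCat.ofHom (algebraMap A' C')),
    (pullbackSpecIso R S A').hom ≫ Spec.map (CommRingCat.ofHom π), ?_, ?_, ?_, ?_, ?_, ?_⟩
  · refine ⟨?_, ?_, ?_⟩
    · rw [IsFinite.SpecMap_iff]
      exact RingHom.finite_algebraMap.mpr hfin
    · rw [Flat.SpecMap_iff]
      exact RingHom.flat_algebraMap_iff.mpr hflat
    · rw [LocallyOfFinitePresentation.SpecMap_iff]
      exact RingHom.finitePresentation_algebraMap.mpr hfp
  · have := (flat_and_surjective_SpecMap_iff (CommRingCat.ofHom (algebraMap R A'))).mpr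
      (RingHom.faithfullyFlat_algebraMap_iff.mpr hff)
    exact this.2
  · refine ⟨?_, ?_, ?_⟩
    · rw [IsFinite.SpecMap_iff]
      exact RingHom.finite_algebraMap.mpr hfinC
    · rw [Flat.SpecMap_iff]
      exact RingHom.flat_algebraMap_iff.mpr hflatC
    · rw [LocallyOfFinitePresentation.SpecMap_iff]
      exact RingHom.finitePresentation_algebraMap.mpr hfpC
  · haveI : IsClosedImmersion (Spec.map (CommRingCat.ofHom π)) :=
      IsClosedImmersion.spec_of_surjective _ hπ
    infer_instance
  · rw [Category.assoc, ← Spec.map_comp]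
    have : CommRingCat.ofHom (algebraMap A' C') ≫ CommRingCat.ofHom π =
        CommRingCat.ofHom (Algebra.TensorProduct.includeRight (R := R) (A := S) (B := A')).toRingHom := by
      ext a'
      simpa using hπalg a'
    rw [this]
    exact pullbackSpecIso_hom_snd R S A'
  · refine ⟨m, fun _ => Spec (.of A'), fun j => Spec.map (CommRingCat.ofHom (ev j).toRingHom),
      ?_, ?_, ?_⟩
    · intro j
      apply IsClosedImmersion.spec_of_surjective
      intro a'
      exact ⟨algebraMap A' C' a', by simp⟩
    · intro j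
      rw [← Spec.map_comp]
      have : CommRingCat.ofHom (algebraMap A' C') ≫ CommRingCat.ofHom (ev j).toRingHom = 𝟙 _ := by
        ext a'
        simp
      rw [this]
      infer_instance
    · rw [Set.eq_univ_iff_forall]
      intro z
      obtain ⟨j, hj⟩ := hcover z.asIdeal z.isPrime
      rw [Set.mem_iUnion]
      refine ⟨j, ?_⟩
      have hsurj : Function.Surjective (ev j).toRingHom := by
        intro a'
        exact ⟨algebraMap A' C' a', by simp⟩
      have hr := range_comap_of_surjective A' (ev j).toRingHom hsurj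
      have hz : (show PrimeSpectrum C' from z) ∈
          PrimeSpectrum.zeroLocus (RingHom.ker (ev j).toRingHom : Set C') := by
        rw [PrimeSpectrum.mem_zeroLocus]
        exact hj
      rw [← hr] at hz
      obtain ⟨w, hw⟩ := hz
      exact ⟨w, hw⟩

end Helper16.SplitTower
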