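import Mathlib

set_option autoImplicit false

universe u

namespace Groth.Agent.Lib.Helper16.SpreadFPD

attribute [local instance] MvPolynomial.algebraMvPolynomial

theorem exists_fp_model {R : Type u} [CommRing R] (M : Submonoid R) (Rp : Type u) [CommRing Rp]
    [Algebra R Rp] [IsLocalization M Rp] (R'' : Type u) [CommRing R''] [Algebra Rp R'']
    [Algebra R R''] [IsScalarTower R Rp R''] [Algebra.FinitePresentation Rp R''] :
    ∃ (C : Type u) (_ : CommRing C) (_ : Algebra R C) (_ : Algebra.FinitePresentation R C)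
      (_ : Algebra C R'') (_ : IsScalarTower R C R''),
      IsLocalization (Algebra.algebraMapSubmonoid C M) R'' := by
  classical
  obtain ⟨n, f, hfsurj, hfker⟩ := Algebra.FinitePresentation.out (R := Rp) (A := R'')
  obtain ⟨T, hT⟩ := hfker
  let ι : MvPolynomial (Fin n) R →+* MvPolynomial (Fin n) Rp :=
    algebraMap (MvPolynomial (Fin n) R) (MvPolynomial (Fin n) Rp)
  have hι : ∀ p, ι p = MvPolynomial.map (algebraMap R Rp) p := fun p => rfl
  obtain ⟨b, hb⟩ := IsLocalization.exist_integer_multiples_of_finset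
    (M.map (MvPolynomial.C (σ := Fin n))) T
  have hb' : ∀ a : MvPolynomial (Fin n) Rp, ∃ x : MvPolynomial (Fin n) R,
      a ∈ T → ι x = (b : MvPolynomial (Fin n) R) • a := by
    intro a
    by_cases ha : a ∈ T
    · obtain ⟨x, hx⟩ := RingHom.mem_rangeS.mp (hb a ha)
      exact ⟨x, fun _ => hx⟩
    · exact ⟨0, fun h => absurd h ha⟩
  choose G hG using hb'
  let I : Ideal (MvPolynomial (Fin n) R) := Ideal.span ((T.image G : Finset _) : Set _)
  have hIfg : I.FG := ⟨T.image G, rfl⟩
  have hfT : ∀ t ∈ T, f t = 0 := by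
    intro t ht
    have : t ∈ RingHom.ker f.toRingHom := hT ▸ Ideal.subset_span ht
    exact this
  let g : MvPolynomial (Fin n) R →+* R'' := f.toRingHom.comp ι
  have hg : ∀ p, g p = f (ι p) := fun p => rfl
  have hgI : ∀ a ∈ I, g a = 0 := by
    intro a ha
    refine Submodule.span_induction (p := fun a _ => g a = 0) ?_ ?_ ?_ ?_ ha
    · intro x hx
      obtain ⟨t, ht, rfl⟩ := Finset.mem_image.mp (Finset.mem_coe.mp hx)
      rw [hg, hG t ht, Algebra.smul_def, map_mul, hfT t ht, mul_zero]
    · exact map_zero g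
    · intro x y _ _ hx hy
      rw [map_add, hx, hy, add_zero]
    · intro r x _ hx
      rw [smul_eq_mul, map_mul, hx, mul_zero]
  have hgC : ∀ r : R, g (MvPolynomial.C r) = algebraMap R R'' r := by
    intro r
    rw [hg, hι, MvPolynomial.map_C, ← MvPolynomial.algebraMap_eq, AlgHom.commutes,
      ← IsScalarTower.algebraMap_apply]
  haveI hFP : Algebra.FinitePresentation R (MvPolynomial (Fin n) R ⧸ I) :=
    Algebra.FinitePresentation.quotient hIfg
  letI algC : Algebra (MvPolynomial (Fin n) R ⧸ I) R'' :=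
    (Ideal.Quotient.lift I g hgI).toAlgebra
  have halg : ∀ p : MvPolynomial (Fin n) R,
      algebraMap (MvPolynomial (Fin n) R ⧸ I) R'' (Ideal.Quotient.mk I p) = f (ι p) :=
    fun p => rfl
  have hRC : ∀ r : R, algebraMap R (MvPolynomial (Fin n) R ⧸ I) r =
      Ideal.Quotient.mk I (MvPolynomial.C r) := fun r => rfl
  have htower : ∀ r : R, algebraMap R R'' r =
      algebraMap (MvPolynomial (Fin n) R ⧸ I) R''
        (algebraMap R (MvPolynomial (Fin n) R ⧸ I) r) := by
    intro r
    rw [hRC, halg, ← hg, hgC]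
  haveI tower : IsScalarTower R (MvPolynomial (Fin n) R ⧸ I) R'' :=
    IsScalarTower.of_algebraMap_eq htower
  refine ⟨MvPolynomial (Fin n) R ⧸ I, inferInstance, inferInstance, hFP, algC, tower, ?_⟩
  rw [isLocalization_iff]
  refine ⟨?_, ?_, ?_⟩
  · rintro ⟨_, m, hm, rfl⟩
    show IsUnit (algebraMap (MvPolynomial (Fin n) R ⧸ I) R''
      (algebraMap R (MvPolynomial (Fin n) R ⧸ I) m))
    rw [← IsScalarTower.algebraMap_apply, IsScalarTower.algebraMap_apply R Rp R'']
    exact (IsLocalization.map_units Rp ⟨m, hm⟩).map _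
  · intro z
    obtain ⟨p', rfl⟩ := hfsurj z
    obtain ⟨⟨p, s⟩, hps⟩ := IsLocalization.surj (M.map (MvPolynomial.C (σ := Fin n))) p'
    obtain ⟨m, hm, hms⟩ := Submonoid.mem_map.mp s.2
    refine ⟨(Ideal.Quotient.mk I p,
      ⟨algebraMap R (MvPolynomial (Fin n) R ⧸ I) m, Submonoid.mem_map.mpr ⟨m, hm, rfl⟩⟩), ?_⟩
    show f p' * algebraMap (MvPolynomial (Fin n) R ⧸ I) R''
      (algebraMap R (MvPolynomial (Fin n) R ⧸ I) m) = _
    rw [halg, hRC, halg, hms, ← map_mul]
    exact congrArg f hps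
  · intro x y hxy
    obtain ⟨p, rfl⟩ := Ideal.Quotient.mk_surjective x
    obtain ⟨q, rfl⟩ := Ideal.Quotient.mk_surjective y
    rw [halg, halg] at hxy
    have hd : ι (p - q) ∈ Ideal.span (T : Set (MvPolynomial (Fin n) Rp)) := by
      rw [hT]
      show f.toRingHom (ι (p - q)) = 0
      show f (ι (p - q)) = 0
      rw [map_sub, map_sub, hxy, sub_self]
    -- step 1
    have h1 : ∀ z ∈ Ideal.span (T : Set (MvPolynomial (Fin n) Rp)),
        ι (b : MvPolynomial (Fin n) R) * z ∈ Ideal.map ι I := by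
      intro z hz
      refine Submodule.span_induction
        (p := fun z _ => ι (b : MvPolynomial (Fin n) R) * z ∈ Ideal.map ι I) ?_ ?_ ?_ ?_ hz
      · intro t ht
        have : ι (G t) ∈ Ideal.map ι I :=
          Ideal.mem_map_of_mem ι (Ideal.subset_span
            (Finset.mem_coe.mpr (Finset.mem_image_of_mem G (Finset.mem_coe.mp ht))))
        rw [hG t (Finset.mem_coe.mp ht), Algebra.smul_def] at this
        exact this
      · rw [mul_zero]; exact Ideal.zero_mem _
      · intro x y _ _ hx hy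
        rw [mul_add]; exact Ideal.add_mem _ hx hy
      · intro a x _ hx
        rw [smul_eq_mul, mul_left_comm]
        exact Ideal.mul_mem_left _ _ hx
    obtain ⟨⟨a, s'⟩, hs'⟩ := (IsLocalization.mem_map_algebraMap_iff
      (M.map (MvPolynomial.C (σ := Fin n))) (MvPolynomial (Fin n) Rp)).mp (h1 _ hd)
    have h3 : ι ((b : MvPolynomial (Fin n) R) * (p - q) * (s' : MvPolynomial (Fin n) R)) =
        ι (a : MvPolynomial (Fin n) R) := by
      rw [map_mul, map_mul]
      exact hs'
    obtain ⟨c, hc⟩ := (IsLocalization.eq_iff_exists (M.map (MvPolynomial.C (σ := Fin n)))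
      (MvPolynomial (Fin n) Rp)).mp h3
    obtain ⟨m, hm, hme⟩ := Submonoid.mem_map.mp (c * b * s').2
    refine ⟨⟨algebraMap R (MvPolynomial (Fin n) R ⧸ I) m,
      Submonoid.mem_map.mpr ⟨m, hm, rfl⟩⟩, ?_⟩
    show algebraMap R (MvPolynomial (Fin n) R ⧸ I) m * _ = algebraMap R _ m * _
    rw [hRC, ← map_mul, ← map_mul, Ideal.Quotient.eq, ← mul_sub, hme]
    have : ((c * b * s' : ↥(M.map (MvPolynomial.C (σ := Fin n)))) : MvPolynomial (Fin n) R) *
        (p - q) = (c : MvPolynomial (Fin n) R) * (a : MvPolynomial (Fin n) R) := by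
      rw [← hc]
      push_cast
      ring
    rw [this]
    exact Ideal.mul_mem_left _ _ a.2

end Groth.Agent.Lib.Helper16.SpreadFPD
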