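import Mathlib
import Groth.Agent.Lib.Helper9.HenselSplit
import Groth.Agent.Lib.Helper69.HensFinite

/-!
# Sections of étale covers of finite algebras over strictly henselian local rings
(sub-lemma K1 for helper87, S15870)

Let `H` be a strictly henselian local ring, `B` a finite `H`-algebra and `C` an étale `B`-algebra
with `Spec C → Spec B` surjective.  Then `C` has a `B`-algebra retraction `C → B`.
-/

set_option autoImplicit false
universe u
open TensorProduct IsLocalRing

namespace Groth.Agent.Lib.Helper16.TorsFinK1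

/-- The fibre of `C` over a field-valued point `B → k` (surjective) is nontrivial if
`Spec C → Spec B` is surjective. -/
theorem nontrivial_fibre {B : Type u} [CommRing B] (C : Type u) [CommRing C] [Algebra B C]
    (hsurj : Function.Surjective (PrimeSpectrum.comap (algebraMap B C)))
    (k : Type u) [Field k] [Algebra B k] (hk : Function.Surjective (algebraMap B k)) :
    Nontrivial (k ⊗[B] C) := by
  let 𝔮 : Ideal B := RingHom.ker (algebraMap B k)
  haveI h𝔮 : 𝔮.IsPrime := RingHom.ker_isPrime _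
  let pt : PrimeSpectrum B := ⟨𝔮, h𝔮⟩
  haveI hnt : Nontrivial (𝔮.ResidueField ⊗[B] C) :=
    (PrimeSpectrum.nontrivial_iff_mem_rangeComap (S := C) pt).mpr (hsurj pt)
  -- the map `k → κ(𝔮)`
  have hle : RingHom.ker (algebraMap B k) ≤ RingHom.ker (algebraMap B 𝔮.ResidueField) := by
    intro b hb
    rw [RingHom.mem_ker, Ideal.algebraMap_residueField_eq_zero]
    exact hb
  let φ : k →+* 𝔮.ResidueField :=
    (algebraMap B k).liftOfSurjective hk ⟨algebraMap B 𝔮.ResidueField, hle⟩
  have hφ : ∀ b, φ (algebraMap B k b) = algebraMap B 𝔮.ResidueField b := fun b =>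
    RingHom.liftOfSurjective_comp_apply (algebraMap B k) hk ⟨_, hle⟩ b
  let φa : k →ₐ[B] 𝔮.ResidueField := { φ with commutes' := hφ }
  let Φ : k ⊗[B] C →ₐ[B] 𝔮.ResidueField ⊗[B] C :=
    Algebra.TensorProduct.map φa (AlgHom.id B C)
  exact Φ.toRingHom.domain_nontrivial

/-- A local quotient of `B` receives a `B`-algebra map from `C`. -/
theorem nonempty_algHom_quotient {H : Type u} [CommRing H] [HenselianLocalRing H]
    [IsSepClosed (IsLocalRing.ResidueField H)]
    (B : Type u) [CommRing B] [Algebra H B] [Module.Finite H B]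
    (C : Type u) [CommRing C] [Algebra B C] [Algebra.Etale B C]
    (hsurj : Function.Surjective (PrimeSpectrum.comap (algebraMap B C)))
    (I : Ideal B) [IsLocalRing (B ⧸ I)] : Nonempty (C →ₐ[B] B ⧸ I) := by
  haveI hfin : Module.Finite H (B ⧸ I) :=
    Module.Finite.of_surjective (Ideal.Quotient.mkₐ H I).toLinearMap
      (Ideal.Quotient.mkₐ_surjective H I)
  haveI hint : Algebra.IsIntegral H (B ⧸ I) := inferInstance
  haveI hhens : HenselianLocalRing (B ⧸ I) :=
    Groth.Agent.Lib.Helper69.HensFinite.henselianLocalRing_of_isIntegral H (B ⧸ I)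
  haveI hloc : IsLocalHom (algebraMap H (B ⧸ I)) := Groth.Agent.Lib.Helper9.isLocalHom_of_isIntegral
  haveI halg : Algebra.IsAlgebraic (ResidueField H) (ResidueField (B ⧸ I)) := inferInstance
  haveI hsep : IsSepClosed (ResidueField (B ⧸ I)) :=
    Algebra.IsAlgebraic.isSepClosed (F := ResidueField H)
  let k := ResidueField (B ⧸ I)
  have hk : Function.Surjective (algebraMap B k) := by
    intro x
    obtain ⟨y, rfl⟩ := residue_surjective x
    obtain ⟨b, rfl⟩ := Ideal.Quotient.mk_surjective y
    exact ⟨b, rfl⟩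
  haveI hnt : Nontrivial (k ⊗[B] C) := nontrivial_fibre C hsurj k hk
  let e : (k ⊗[B] C) ≃ₐ[k] (PrimeSpectrum (k ⊗[B] C) → k) :=
    Algebra.FormallyEtale.equivPiOfIsSepClosed k (k ⊗[B] C)
  let p : PrimeSpectrum (k ⊗[B] C) := Classical.arbitrary _
  let ev : (k ⊗[B] C) →ₐ[k] k :=
    (Pi.evalAlgHom k (fun _ : PrimeSpectrum (k ⊗[B] C) => k) p).comp e.toAlgHom
  let ψ : C →ₐ[B] k := (ev.restrictScalars B).comp Algebra.TensorProduct.includeRight
  obtain ⟨φ, -⟩ := Groth.Agent.Lib.Helper9.exists_lift_of_etale_of_algebra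
    (R := B) (T := B ⧸ I) (A := C) ψ
  exact ⟨φ⟩

theorem exists_retraction_of_etale_of_finite {H : Type u} [CommRing H] [HenselianLocalRing H]
    [IsSepClosed (IsLocalRing.ResidueField H)] (B : Type u) [CommRing B] [Algebra H B]
    [Module.Finite H B] (C : Type u) [CommRing C] [Algebra B C] [Algebra.Etale B C]
    (hsurj : Function.Surjective (PrimeSpectrum.comap (algebraMap B C))) :
    Nonempty (C →ₐ[B] B) := by
  obtain ⟨n, e, he, hloc⟩ :=
    Groth.Agent.Lib.Helper9.exists_completeOrthogonalIdempotents_of_finite (R := H) B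
  have hφ : ∀ i, Nonempty (C →ₐ[B] B ⧸ Ideal.span {1 - e i}) := fun i => by
    haveI := hloc i
    exact nonempty_algHom_quotient (H := H) B C hsurj (Ideal.span {1 - e i})
  let φ : ∀ i, C →ₐ[B] B ⧸ Ideal.span {1 - e i} := fun i => (hφ i).some
  have hbij := he.bijective_pi
  let Φ : B ≃+* (∀ i, B ⧸ Ideal.span {1 - e i}) := RingEquiv.ofBijective _ hbij
  let τ₀ : C →+* (∀ i, B ⧸ Ideal.span {1 - e i}) := RingHom.pi fun i => (φ i).toRingHom
  refine ⟨{ toRingHom := Φ.symm.toRingHom.comp τ₀, commutes' := fun b => ?_ }⟩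
  change Φ.symm (τ₀ (algebraMap B C b)) = b
  rw [RingEquiv.symm_apply_eq]
  funext i
  change (φ i) (algebraMap B C b) = Ideal.Quotient.mk _ b
  rw [(φ i).commutes]
  rfl

end Groth.Agent.Lib.Helper16.TorsFinK1
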