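import Mathlib

/-!
# von Staudt-type argument: a collinearity preserving map `P²(F_p) → P²(A)` in normalized position
forces `p = 0` in `A`.
-/

namespace Groth.Agent.Lib.Helper16.VonStaudt

open Matrix

variable {A : Type*} [CommRing A]

/-- a vector with a unit coordinate. -/
def Unim (v : Fin 3 → A) : Prop := ∃ i, IsUnit (v i)

/-- proportional by a unit. -/
def Sim (v w : Fin 3 → A) : Prop := ∃ c : A, IsUnit c ∧ v = c • w

lemma Sim.refl (v : Fin 3 → A) : Sim v v := ⟨1, isUnit_one, by simp⟩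

lemma Sim.symm {v w : Fin 3 → A} (h : Sim v w) : Sim w v := by
  obtain ⟨c, hc, rfl⟩ := h
  obtain ⟨u, rfl⟩ := hc
  exact ⟨↑u⁻¹, Units.isUnit _, by rw [smul_smul, Units.inv_mul, one_smul]⟩

lemma Sim.trans {u v w : Fin 3 → A} (h : Sim u v) (h' : Sim v w) : Sim u w := by
  obtain ⟨c, hc, rfl⟩ := h
  obtain ⟨d, hd, rfl⟩ := h'
  exact ⟨c * d, hc.mul hd, by rw [smul_smul]⟩

lemma Sim.neg_right {v w : Fin 3 → A} (h : Sim v w) : Sim v (-w) := by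
  obtain ⟨c, hc, rfl⟩ := h
  exact ⟨-c, hc.neg, by simp⟩

lemma prop_of_cross_eq_zero {n c : Fin 3 → A} (hc : Unim c) (h : n ⨯₃ c = 0) :
    ∃ l : A, n = l • c := by
  obtain ⟨i, hi⟩ := hc
  obtain ⟨ui, hui⟩ := hi
  rw [cross_apply] at h
  have e0 : n 1 * c 2 - n 2 * c 1 = 0 := by simpa using congrFun h 0
  have e1 : n 2 * c 0 - n 0 * c 2 = 0 := by simpa using congrFun h 1
  have e2 : n 0 * c 1 - n 1 * c 0 = 0 := by simpa using congrFun h 2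
  have key : ∀ j, n j * c i = n i * c j := by
    intro j
    fin_cases i <;> fin_cases j <;> simp only [Fin.zero_eta, Fin.mk_one, Fin.reduceFinMk]
    · linear_combination -e2
    · linear_combination e1
    · linear_combination e2
    · linear_combination -e0
    · linear_combination -e1
    · linear_combination e0
  refine ⟨n i * ↑ui⁻¹, ?_⟩
  ext j
  simp only [Pi.smul_apply, smul_eq_mul]
  calc n j = n j * c i * ↑ui⁻¹ := by rw [← hui, mul_assoc, Units.mul_inv, mul_one]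
    _ = n i * ↑ui⁻¹ * c j := by rw [key j]; ring

lemma isUnit_of_unim_smul {l : A} {c : Fin 3 → A} (h : Unim (l • c)) : IsUnit l := by
  obtain ⟨i, hi⟩ := h
  simp only [Pi.smul_apply, smul_eq_mul] at hi
  exact isUnit_of_mul_isUnit_left hi

/-- the line through two points in general position is unique. -/
lemma line_unique {P Q n : Fin 3 → A} (hPQ : Unim (P ⨯₃ Q)) (hn : Unim n)
    (h1 : P ⬝ᵥ n = 0) (h2 : Q ⬝ᵥ n = 0) : Sim n (P ⨯₃ Q) := by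
  have h : n ⨯₃ (P ⨯₃ Q) = 0 := by
    rw [cross_cross_eq_smul_sub_smul', dotProduct_comm n Q, h1, h2]
    simp
  obtain ⟨l, hl⟩ := prop_of_cross_eq_zero hPQ h
  refine ⟨l, ?_, hl⟩
  rw [hl] at hn
  exact isUnit_of_unim_smul hn

lemma dot_eq_zero_of_sim {P P' n : Fin 3 → A} (h : Sim P P') (h0 : P ⬝ᵥ n = 0) : P' ⬝ᵥ n = 0 := by
  obtain ⟨c, hc, rfl⟩ := h
  rw [smul_dotProduct, smul_eq_mul] at h0
  exact (hc.mul_right_eq_zero).1 h0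

lemma dot_eq_zero_of_sim' {P n n' : Fin 3 → A} (h : Sim n n') (h0 : P ⬝ᵥ n = 0) : P ⬝ᵥ n' = 0 := by
  obtain ⟨c, hc, rfl⟩ := h
  rw [dotProduct_smul, smul_eq_mul] at h0
  exact (hc.mul_right_eq_zero).1 h0

section core

variable {p : ℕ} [Fact p.Prime] (ρ : (Fin 3 → ZMod p) → (Fin 3 → A))
  (hpt : ∀ v : Fin 3 → ZMod p, v ≠ 0 → Unim (ρ v))
  (hcol : ∀ u v w : Fin 3 → ZMod p, u ≠ 0 → v ≠ 0 → w ≠ 0 →
      Matrix.det (Matrix.of ![u, v, w]) = 0 →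
      ∃ n : Fin 3 → A, Unim n ∧ ρ u ⬝ᵥ n = 0 ∧ ρ v ⬝ᵥ n = 0 ∧ ρ w ⬝ᵥ n = 0)

include hpt hcol in
/-- the image of the meet of two lines is the meet of the image lines. -/
lemma meet {u1 u2 u3 u4 w : Fin 3 → ZMod p} {U1 U2 U3 U4 : Fin 3 → A}
    (n1 : u1 ≠ 0) (n2 : u2 ≠ 0) (n3 : u3 ≠ 0) (n4 : u4 ≠ 0) (nw : w ≠ 0)
    (s1 : Sim (ρ u1) U1) (s2 : Sim (ρ u2) U2) (s3 : Sim (ρ u3) U3) (s4 : Sim (ρ u4) U4)
    (d1 : Matrix.det (Matrix.of ![u1, u2, w]) = 0) (d2 : Matrix.det (Matrix.of ![u3, u4, w]) = 0)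
    (g1 : Unim (U1 ⨯₃ U2)) (g2 : Unim (U3 ⨯₃ U4))
    (g3 : Unim ((U1 ⨯₃ U2) ⨯₃ (U3 ⨯₃ U4))) :
    Sim (ρ w) ((U1 ⨯₃ U2) ⨯₃ (U3 ⨯₃ U4)) := by
  obtain ⟨n, hn, a1, a2, a3⟩ := hcol u1 u2 w n1 n2 nw d1
  obtain ⟨m, hm, b1, b2, b3⟩ := hcol u3 u4 w n3 n4 nw d2
  have l1 : Sim n (U1 ⨯₃ U2) :=
    line_unique g1 hn (dot_eq_zero_of_sim s1 a1) (dot_eq_zero_of_sim s2 a2)
  have l2 : Sim m (U3 ⨯₃ U4) :=
    line_unique g2 hm (dot_eq_zero_of_sim s3 b1) (dot_eq_zero_of_sim s4 b2)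
  have c1 : ρ w ⬝ᵥ (U1 ⨯₃ U2) = 0 := dot_eq_zero_of_sim' l1 a3
  have c2 : ρ w ⬝ᵥ (U3 ⨯₃ U4) = 0 := dot_eq_zero_of_sim' l2 b3
  rw [dotProduct_comm] at c1 c2
  exact line_unique g3 (hpt w nw) c1 c2

end core

end Groth.Agent.Lib.Helper16.VonStaudt
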