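import Groth.Agent.Lib.Helper16.VonStaudt1

namespace Groth.Agent.Lib.Helper16.VonStaudt

open Matrix

variable {A : Type*} [CommRing A]

lemma unim_of_one {v : Fin 3 → A} (i : Fin 3) (h : v i = 1) : Unim v := ⟨i, by rw [h]; exact isUnit_one⟩
lemma unim_of_neg_one {v : Fin 3 → A} (i : Fin 3) (h : v i = -1) : Unim v :=
  ⟨i, by rw [h]; exact isUnit_one.neg⟩

lemma ne_zero_of_one {p : ℕ} [Fact p.Prime] {v : Fin 3 → ZMod p} (i : Fin 3) (h : v i = 1) :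
    v ≠ 0 := by
  intro h0
  rw [h0] at h
  simp at h

section core

variable {p : ℕ} [Fact p.Prime] (ρ : (Fin 3 → ZMod p) → (Fin 3 → A))
  (hpt : ∀ v : Fin 3 → ZMod p, v ≠ 0 → Unim (ρ v))
  (hcol : ∀ u v w : Fin 3 → ZMod p, u ≠ 0 → v ≠ 0 → w ≠ 0 →
      Matrix.det (Matrix.of ![u, v, w]) = 0 →
      ∃ n : Fin 3 → A, Unim n ∧ ρ u ⬝ᵥ n = 0 ∧ ρ v ⬝ᵥ n = 0 ∧ ρ w ⬝ᵥ n = 0)
  (h0 : Sim (ρ ![1,0,0]) ![1,0,0]) (h1 : Sim (ρ ![0,1,0]) ![0,1,0])
  (h2 : Sim (ρ ![0,0,1]) ![0,0,1]) (h3 : Sim (ρ ![1,1,1]) ![1,1,1])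

include hpt hcol h0 h1 h2 h3

lemma stepU : Sim (ρ ![1,1,0]) ![1,1,0] := by
  have := meet ρ hpt hcol (u1 := ![1,0,0]) (u2 := ![0,1,0]) (u3 := ![0,0,1]) (u4 := ![1,1,1])
    (w := ![1,1,0])
    (ne_zero_of_one 0 rfl) (ne_zero_of_one 1 rfl) (ne_zero_of_one 2 rfl) (ne_zero_of_one 0 rfl)
    (ne_zero_of_one 0 rfl) h0 h1 h2 h3
    (by simp [det_fin_three]) (by simp [det_fin_three])
    (unim_of_one 2 (by simp [cross_apply])) (unim_of_one 1 (by simp [cross_apply]))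
    (unim_of_neg_one 0 (by simp [cross_apply]))
  have e : ((![1,0,0] : Fin 3 → A) ⨯₃ ![0,1,0]) ⨯₃ ((![0,0,1] : Fin 3 → A) ⨯₃ ![1,1,1])
      = -![1,1,0] := by
    simp [cross_apply]
  rw [e] at this
  simpa using this.neg_right

lemma stepV : Sim (ρ ![1,0,1]) ![1,0,1] := by
  have := meet ρ hpt hcol (u1 := ![1,0,0]) (u2 := ![0,0,1]) (u3 := ![0,1,0]) (u4 := ![1,1,1])
    (w := ![1,0,1])
    (ne_zero_of_one 0 rfl) (ne_zero_of_one 2 rfl) (ne_zero_of_one 1 rfl) (ne_zero_of_one 0 rfl)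
    (ne_zero_of_one 0 rfl) h0 h2 h1 h3
    (by simp [det_fin_three]) (by simp [det_fin_three])
    (unim_of_neg_one 1 (by simp [cross_apply])) (unim_of_one 0 (by simp [cross_apply]))
    (unim_of_one 0 (by simp [cross_apply]))
  have e : ((![1,0,0] : Fin 3 → A) ⨯₃ ![0,0,1]) ⨯₃ ((![0,1,0] : Fin 3 → A) ⨯₃ ![1,1,1])
      = ![1,0,1] := by
    simp [cross_apply]
  rwa [e] at this

lemma stepQ : Sim (ρ ![0,1,-1]) ![0,1,-1] := by
  have hU := stepU ρ hpt hcol h0 h1 h2 h3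
  have hV := stepV ρ hpt hcol h0 h1 h2 h3
  have := meet ρ hpt hcol (u1 := ![0,1,0]) (u2 := ![0,0,1]) (u3 := ![1,1,0]) (u4 := ![1,0,1])
    (w := ![0,1,-1])
    (ne_zero_of_one 1 rfl) (ne_zero_of_one 2 rfl) (ne_zero_of_one 0 rfl) (ne_zero_of_one 0 rfl)
    (ne_zero_of_one 1 rfl) h1 h2 hU hV
    (by simp [det_fin_three]) (by simp [det_fin_three])
    (unim_of_one 0 (by simp [cross_apply])) (unim_of_one 0 (by simp [cross_apply]))
    (unim_of_one 1 (by simp [cross_apply]))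
  have e : ((![0,1,0] : Fin 3 → A) ⨯₃ ![0,0,1]) ⨯₃ ((![1,1,0] : Fin 3 → A) ⨯₃ ![1,0,1])
      = ![0,1,-1] := by
    simp [cross_apply]
  rwa [e] at this

lemma stepP : ∀ k : ℕ, Sim (ρ ![1,(k : ZMod p),0]) ![1,(k : A),0] := by
  intro k
  induction k with
  | zero => simpa using h0
  | succ k ih =>
    have hQ := stepQ ρ hpt hcol h0 h1 h2 h3
    -- R_k = (1,k,1)
    have hR : Sim (ρ ![1,(k : ZMod p),1]) ![1,(k : A),1] := by
      have := meet ρ hpt hcol (u1 := ![1,(k : ZMod p),0]) (u2 := ![0,0,1]) (u3 := ![0,1,0])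
        (u4 := ![1,1,1]) (w := ![1,(k : ZMod p),1])
        (ne_zero_of_one 0 rfl) (ne_zero_of_one 2 rfl) (ne_zero_of_one 1 rfl) (ne_zero_of_one 0 rfl)
        (ne_zero_of_one 0 rfl) ih h2 h1 h3
        (by simp [det_fin_three]) (by simp [det_fin_three])
        (unim_of_neg_one 1 (by simp [cross_apply])) (unim_of_one 0 (by simp [cross_apply]))
        (unim_of_one 0 (by simp [cross_apply]))
      have e : ((![1,(k : A),0] : Fin 3 → A) ⨯₃ ![0,0,1]) ⨯₃ ((![0,1,0] : Fin 3 → A) ⨯₃ ![1,1,1])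
          = ![1,(k : A),1] := by
        simp [cross_apply]
      rwa [e] at this
    have := meet ρ hpt hcol (u1 := ![1,(k : ZMod p),1]) (u2 := ![0,1,-1]) (u3 := ![1,0,0])
      (u4 := ![0,1,0]) (w := ![1,((k+1 : ℕ) : ZMod p),0])
      (ne_zero_of_one 0 rfl) (ne_zero_of_one 1 rfl) (ne_zero_of_one 0 rfl) (ne_zero_of_one 1 rfl)
      (ne_zero_of_one 0 rfl) hR hQ h0 h1
      (by simp [det_fin_three]) (by simp [det_fin_three])
      (unim_of_one 1 (by simp [cross_apply])) (unim_of_one 2 (by simp [cross_apply]))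
      (unim_of_one 0 (by simp [cross_apply]))
    have e : ((![1,(k : A),1] : Fin 3 → A) ⨯₃ ![0,1,-1]) ⨯₃ ((![1,0,0] : Fin 3 → A) ⨯₃ ![0,1,0])
        = ![1,((k+1 : ℕ) : A),0] := by
      simp [cross_apply]
      ring
    rwa [e] at this

theorem core : (p : A) = 0 := by
  have h := stepP ρ hpt hcol h0 h1 h2 h3 p
  rw [ZMod.natCast_self] at h
  obtain ⟨c, hc, e⟩ := h0.symm.trans h
  have e0 := congrFun e 0
  have e1 := congrFun e 1
  simp at e0 e1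
  rw [← e0] at e1
  simpa using e1.symm

end core

end Groth.Agent.Lib.Helper16.VonStaudt
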