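import Groth.Agent.Lib.Helper16.VonStaudt2

namespace Groth.Agent.Lib.Helper16.VonStaudt

open Matrix

variable {A : Type*} [CommRing A]

lemma det_last (E0 E1 E2 a : Fin 3 → A) :
    det (of ![E0, E1, a 0 • E0 + a 1 • E1 + a 2 • E2]) = a 2 * det (of ![E0, E1, E2]) := by
  simp [det_fin_three]; ring

lemma det_mid (E0 E1 E2 a : Fin 3 → A) :
    det (of ![E0, E2, a 0 • E0 + a 1 • E1 + a 2 • E2]) = - a 1 * det (of ![E0, E1, E2]) := by
  simp [det_fin_three]; ring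

lemma det_first (E0 E1 E2 a : Fin 3 → A) :
    det (of ![E1, E2, a 0 • E0 + a 1 • E1 + a 2 • E2]) = a 0 * det (of ![E0, E1, E2]) := by
  simp [det_fin_three]; ring

lemma vecMul_of (E0 E1 E2 a : Fin 3 → A) :
    a ᵥ* (of ![E0, E1, E2]) = a 0 • E0 + a 1 • E1 + a 2 • E2 := by
  ext j
  simp [vecMul, dotProduct, Fin.sum_univ_three]

lemma unim_of_unim_vecMul [IsLocalRing A] (T : Matrix (Fin 3) (Fin 3) A) (y : Fin 3 → A)
    (h : Unim (y ᵥ* T)) : Unim y := by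
  by_contra hy
  have hy' : ∀ i, y i ∈ IsLocalRing.maximalIdeal A := by
    intro i
    rw [IsLocalRing.mem_maximalIdeal]
    intro hu
    exact hy ⟨i, hu⟩
  obtain ⟨j, hj⟩ := h
  have : (y ᵥ* T) j ∈ IsLocalRing.maximalIdeal A := by
    simp only [vecMul, dotProduct]
    exact Ideal.sum_mem _ fun i _ => Ideal.mul_mem_right _ _ (hy' i)
  exact (IsLocalRing.mem_maximalIdeal _).1 this hj

lemma unim_of_unim_mulVec [IsLocalRing A] (T : Matrix (Fin 3) (Fin 3) A) (y : Fin 3 → A)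
    (h : Unim (T *ᵥ y)) : Unim y := by
  by_contra hy
  have hy' : ∀ i, y i ∈ IsLocalRing.maximalIdeal A := by
    intro i
    rw [IsLocalRing.mem_maximalIdeal]
    intro hu
    exact hy ⟨i, hu⟩
  obtain ⟨j, hj⟩ := h
  have : (T *ᵥ y) j ∈ IsLocalRing.maximalIdeal A := by
    simp only [mulVec, dotProduct]
    exact Ideal.sum_mem _ fun i _ => Ideal.mul_mem_left _ _ (hy' i)
  exact (IsLocalRing.mem_maximalIdeal _).1 this hj

theorem main (p : ℕ) [Fact p.Prime] (A : Type*) [CommRing A] [IsLocalRing A]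
    (ρ : (Fin 3 → ZMod p) → (Fin 3 → A))
    (hpt : ∀ v : Fin 3 → ZMod p, v ≠ 0 → ∃ i, IsUnit (ρ v i))
    (hcol : ∀ u v w : Fin 3 → ZMod p, u ≠ 0 → v ≠ 0 → w ≠ 0 →
      Matrix.det (Matrix.of ![u, v, w]) = 0 →
      ∃ n : Fin 3 → A, (∃ i, IsUnit (n i)) ∧
        dotProduct (ρ u) n = 0 ∧ dotProduct (ρ v) n = 0 ∧ dotProduct (ρ w) n = 0)
    (hgen : IsUnit (Matrix.det (Matrix.of ![ρ ![1,0,0], ρ ![0,1,0], ρ ![0,0,1]])) ∧
      IsUnit (Matrix.det (Matrix.of ![ρ ![1,0,0], ρ ![0,1,0], ρ ![1,1,1]])) ∧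
      IsUnit (Matrix.det (Matrix.of ![ρ ![1,0,0], ρ ![0,0,1], ρ ![1,1,1]])) ∧
      IsUnit (Matrix.det (Matrix.of ![ρ ![0,1,0], ρ ![0,0,1], ρ ![1,1,1]]))) :
    (p : A) = 0 := by
  obtain ⟨g0, g1, g2, g3⟩ := hgen
  set E0 := ρ ![1,0,0] with hE0
  set E1 := ρ ![0,1,0] with hE1
  set E2 := ρ ![0,0,1] with hE2
  set E := ρ ![1,1,1] with hE
  set M : Matrix (Fin 3) (Fin 3) A := of ![E0, E1, E2] with hM
  set a : Fin 3 → A := E ᵥ* M⁻¹ with ha
  have haM : a ᵥ* M = E := by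
    rw [ha, vecMul_vecMul, nonsing_inv_mul _ g0, vecMul_one]
  have hEa : E = a 0 • E0 + a 1 • E1 + a 2 • E2 := by
    rw [← haM, hM, vecMul_of]
  have ha2 : IsUnit (a 2) := by
    rw [hEa, det_last] at g1
    exact isUnit_of_mul_isUnit_left g1
  have ha1 : IsUnit (a 1) := by
    rw [hEa, det_mid] at g2
    have := isUnit_of_mul_isUnit_left g2
    simpa using this
  have ha0 : IsUnit (a 0) := by
    rw [hEa, det_first] at g3
    exact isUnit_of_mul_isUnit_left g3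
  set T : Matrix (Fin 3) (Fin 3) A := diagonal a * M with hT
  have hTdet : IsUnit T.det := by
    rw [hT, det_mul, det_diagonal, Fin.prod_univ_three]
    exact ((ha0.mul ha1).mul ha2).mul g0
  have r0 : ![1,0,0] ᵥ* T = a 0 • E0 := by
    rw [hT, ← vecMul_vecMul, hM, vecMul_of]
    simp [vecMul_diagonal]
  have r1 : ![0,1,0] ᵥ* T = a 1 • E1 := by
    rw [hT, ← vecMul_vecMul, hM, vecMul_of]
    simp [vecMul_diagonal]
  have r2 : ![0,0,1] ᵥ* T = a 2 • E2 := by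
    rw [hT, ← vecMul_vecMul, hM, vecMul_of]
    simp [vecMul_diagonal]
  have r3 : ![1,1,1] ᵥ* T = E := by
    rw [hT, ← vecMul_vecMul, hM, vecMul_of, hEa]
    simp [vecMul_diagonal]
  have back : ∀ (e : Fin 3 → A) (F : Fin 3 → A) (c : A), IsUnit c → e ᵥ* T = c • F →
      Sim (F ᵥ* T⁻¹) e := by
    intro e F c hc h
    obtain ⟨u, rfl⟩ := hc
    refine ⟨↑u⁻¹, Units.isUnit _, ?_⟩
    have : F = (↑u⁻¹ : A) • (e ᵥ* T) := by
      rw [h, smul_smul, Units.inv_mul, one_smul]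
    rw [this, smul_vecMul, vecMul_vecMul, mul_nonsing_inv _ hTdet, vecMul_one]
  set ρ' : (Fin 3 → ZMod p) → (Fin 3 → A) := fun v => ρ v ᵥ* T⁻¹ with hρ'
  have hρT : ∀ v, ρ' v ᵥ* T = ρ v := by
    intro v
    rw [hρ']
    simp only
    rw [vecMul_vecMul, nonsing_inv_mul _ hTdet, vecMul_one]
  apply core ρ'
  · intro v hv
    apply unim_of_unim_vecMul T
    rw [hρT]
    exact hpt v hv
  · intro u v w hu hv hw hd
    obtain ⟨n, hn, c1, c2, c3⟩ := hcol u v w hu hv hw hd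
    refine ⟨T *ᵥ n, ?_, ?_, ?_, ?_⟩
    · apply unim_of_unim_mulVec T⁻¹
      rw [mulVec_mulVec, nonsing_inv_mul _ hTdet, one_mulVec]
      exact hn
    · rw [dotProduct_mulVec, hρT]; exact c1
    · rw [dotProduct_mulVec, hρT]; exact c2
    · rw [dotProduct_mulVec, hρT]; exact c3
  · exact back _ _ _ ha0 r0
  · exact back _ _ _ ha1 r1
  · exact back _ _ _ ha2 r2
  · have := back ![1,1,1] E 1 isUnit_one (by rw [r3, one_smul])
    exact this

end Groth.Agent.Lib.Helper16.VonStaudt
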