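import Mathlib

/-!
# Surjectivity of the weighted Gaussian map on projective space (linear algebra form)
-/

namespace Groth.Agent.Lib.Helper16.WGauss

open MvPolynomial

variable {k : Type*} [Field k] {n : ℕ}

/-- the generator attached to `σ, τ` -/
noncomputable def gen (a b : ℕ) (σ τ : MvPolynomial (Fin (n + 1)) k) :
    Fin (n + 1) → MvPolynomial (Fin (n + 1)) k :=
  fun i => (b : k) • (τ * pderiv i σ) - (a : k) • (σ * pderiv i τ)

/-- multiplication of the `i`-th entry by `X i` -/
noncomputable def Ψ : (Fin (n + 1) → MvPolynomial (Fin (n + 1)) k) →ₗ[k]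
    (Fin (n + 1) → MvPolynomial (Fin (n + 1)) k) where
  toFun f i := X i * f i
  map_add' f g := by
    funext i
    simp [mul_add]
  map_smul' c f := by
    funext i
    simp

theorem Ψ_apply (f : Fin (n + 1) → MvPolynomial (Fin (n + 1)) k) (i : Fin (n + 1)) :
    Ψ f i = X i * f i := rfl

theorem Ψ_injective : Function.Injective (Ψ (k := k) (n := n)) := by
  intro f g h
  funext i
  have := congrFun h i
  rw [Ψ_apply, Ψ_apply] at this
  exact mul_left_cancel₀ (X_ne_zero i) this

/-- constant-coefficient tuples in multidegree `μ` -/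
noncomputable def M (μ : Fin (n + 1) →₀ ℕ) : (Fin (n + 1) → k) →ₗ[k]
    (Fin (n + 1) → MvPolynomial (Fin (n + 1)) k) where
  toFun c i := monomial μ (c i)
  map_add' c d := by
    funext i
    simp
  map_smul' r c := by
    funext i
    simp [smul_monomial]

theorem M_apply (μ : Fin (n + 1) →₀ ℕ) (c : Fin (n + 1) → k) (i : Fin (n + 1)) :
    M μ c i = monomial μ (c i) := rfl

theorem X_mul_pderiv_monomial (α : Fin (n + 1) →₀ ℕ) (l : Fin (n + 1)) :
    X l * pderiv l (monomial α (1 : k)) = monomial α ((α l : ℕ) : k) := by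
  rw [pderiv_monomial, one_mul]
  by_cases h : α l = 0
  · rw [h, Nat.cast_zero, monomial_zero, monomial_zero, mul_zero]
  · have hα : Finsupp.single l 1 + (α - Finsupp.single l 1) = α := by
      ext m
      by_cases hm : m = l
      · subst hm
        simp only [Finsupp.add_apply, Finsupp.single_eq_same, Finsupp.tsub_apply]
        omega
      · have : (Finsupp.single l 1 : Fin (n + 1) →₀ ℕ) m = 0 := by
          rw [Finsupp.single_apply, if_neg (Ne.symm hm)]
        simp only [Finsupp.add_apply, Finsupp.tsub_apply, this]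
        omega
    rw [X, monomial_mul, one_mul, hα]

theorem Ψ_gen_monomial (a b : ℕ) (α γ : Fin (n + 1) →₀ ℕ) :
    Ψ (gen a b (monomial α (1 : k)) (monomial γ 1)) =
      M (α + γ) (fun l => (b : k) * (α l : k) - (a : k) * (γ l : k)) := by
  funext l
  rw [Ψ_apply, M_apply]
  unfold gen
  have h1 := X_mul_pderiv_monomial (k := k) α l
  have h2 := X_mul_pderiv_monomial (k := k) γ l
  calc X l * ((b : k) • (monomial γ 1 * pderiv l (monomial α 1)) -
        (a : k) • (monomial α 1 * pderiv l (monomial γ 1)))
      = (b : k) • (monomial γ 1 * (X l * pderiv l (monomial α (1 : k)))) -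
        (a : k) • (monomial α 1 * (X l * pderiv l (monomial γ (1 : k)))) := by
        simp only [smul_eq_C_mul]
        ring
    _ = _ := by
        rw [h1, h2, monomial_mul, monomial_mul, one_mul, one_mul, smul_monomial, smul_monomial,
          add_comm γ α, ← map_sub, smul_eq_mul, smul_eq_mul]

theorem exists_le_degree (ν : Fin (n + 1) →₀ ℕ) (m : ℕ) (hm : m ≤ ν.degree) :
    ∃ α ≤ ν, α.degree = m := by
  induction m with
  | zero => exact ⟨0, by simp, by simp⟩
  | succ m ih =>
    obtain ⟨α, hα, hd⟩ := ih (by omega)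
    have hex : ∃ l, α l < ν l := by
      by_contra hall
      push Not at hall
      have : ν ≤ α := fun l => hall l
      have : α = ν := le_antisymm hα this
      rw [this] at hd
      omega
    obtain ⟨l, hl⟩ := hex
    refine ⟨α + Finsupp.single l 1, ?_, ?_⟩
    · intro m'
      by_cases hm' : m' = l
      · subst hm'
        simp only [Finsupp.add_apply, Finsupp.single_eq_same]
        omega
      · simp only [Finsupp.add_apply, Finsupp.single_apply, Ne.symm hm', if_false, add_zero]
        exact hα m'
    · rw [map_add, hd, Finsupp.degree_single]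

section main

variable [CharZero k] (e a b : ℕ)

/-- the set of generators -/
def gens : Set (Fin (n + 1) → MvPolynomial (Fin (n + 1)) k) :=
  {g | ∃ σ τ : MvPolynomial (Fin (n + 1)) k, σ.IsHomogeneous (a * e) ∧ τ.IsHomogeneous (b * e) ∧
    g = fun i => (b : k) • (τ * pderiv i σ) - (a : k) • (σ * pderiv i τ)}

theorem Ψ_gen_mem (α γ : Fin (n + 1) →₀ ℕ) (hα : α.degree = a * e) (hγ : γ.degree = b * e) :
    M (α + γ) (fun l => (b : k) * (α l : k) - (a : k) * (γ l : k)) ∈
      Submodule.span k (Ψ '' (gens (k := k) (n := n) e a b)) := by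
  rw [← Ψ_gen_monomial]
  apply Submodule.subset_span
  refine ⟨_, ⟨monomial α 1, monomial γ 1, isHomogeneous_monomial _ hα,
    isHomogeneous_monomial _ hγ, rfl⟩, rfl⟩

theorem M_diff_mem (he : 0 < e) (ha : 0 < a) (hb : 0 < b) (μ : Fin (n + 1) →₀ ℕ)
    (hμ : μ.degree = (a + b) * e) (i j : Fin (n + 1)) (hij : i ≠ j) (hi : 1 ≤ μ i) (hj : 1 ≤ μ j) :
    M μ (Pi.single i (1 : k) - Pi.single j 1) ∈
      Submodule.span k (Ψ '' (gens (k := k) (n := n) e a b)) := by
  classical
  have hae : 1 ≤ a * e := Nat.mul_pos ha he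
  have hbe : 1 ≤ b * e := Nat.mul_pos hb he
  set ν := μ - Finsupp.single i 1 - Finsupp.single j 1 with hνdef
  have hν : ν + Finsupp.single i 1 + Finsupp.single j 1 = μ := by
    ext l
    by_cases hli : l = i
    · subst hli
      have : (Finsupp.single j 1 : Fin (n + 1) →₀ ℕ) l = 0 := by
        rw [Finsupp.single_apply, if_neg (Ne.symm hij)]
      simp only [hνdef, Finsupp.add_apply, Finsupp.tsub_apply, Finsupp.single_eq_same, this]
      omega
    · by_cases hlj : l = j
      · subst hlj
        have : (Finsupp.single i 1 : Fin (n + 1) →₀ ℕ) l = 0 := by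
          rw [Finsupp.single_apply, if_neg (Ne.symm hli)]
        simp only [hνdef, Finsupp.add_apply, Finsupp.tsub_apply, Finsupp.single_eq_same, this]
        omega
      · have h1 : (Finsupp.single i 1 : Fin (n + 1) →₀ ℕ) l = 0 := by
          rw [Finsupp.single_apply, if_neg (Ne.symm hli)]
        have h2 : (Finsupp.single j 1 : Fin (n + 1) →₀ ℕ) l = 0 := by
          rw [Finsupp.single_apply, if_neg (Ne.symm hlj)]
        simp only [hνdef, Finsupp.add_apply, Finsupp.tsub_apply, h1, h2]
        omega
  have hνdeg : ν.degree + 2 = (a + b) * e := by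
    have := congrArg Finsupp.degree hν
    rw [map_add, map_add, Finsupp.degree_single, Finsupp.degree_single, hμ] at this
    omega
  have hsplit : (a + b) * e = a * e + b * e := by ring
  obtain ⟨α₀, hα₀, hα₀d⟩ := exists_le_degree ν (a * e - 1) (by omega)
  set β := ν - α₀ with hβdef
  have hαβ : α₀ + β = ν := add_tsub_cancel_of_le hα₀
  have hβd : β.degree = b * e - 1 := by
    have := congrArg Finsupp.degree hαβ
    rw [map_add, hα₀d] at this
    omega
  -- the two pairs
  have h1 := Ψ_gen_mem (k := k) e a b (α₀ + Finsupp.single j 1) (β + Finsupp.single i 1)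
    (by rw [map_add, hα₀d, Finsupp.degree_single]; omega)
    (by rw [map_add, hβd, Finsupp.degree_single]; omega)
  have h2 := Ψ_gen_mem (k := k) e a b (α₀ + Finsupp.single i 1) (β + Finsupp.single j 1)
    (by rw [map_add, hα₀d, Finsupp.degree_single]; omega)
    (by rw [map_add, hβd, Finsupp.degree_single]; omega)
  have e1 : α₀ + Finsupp.single j 1 + (β + Finsupp.single i 1) = μ := by
    rw [← hν, ← hαβ]
    abel
  have e2 : α₀ + Finsupp.single i 1 + (β + Finsupp.single j 1) = μ := by
    rw [← hν, ← hαβ]
    abel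
  rw [e1] at h1
  rw [e2] at h2
  have hab0 : ((a + b : ℕ) : k) ≠ 0 := Nat.cast_ne_zero.mpr (by omega)
  have hdiff := Submodule.sub_mem _ h2 h1
  rw [← map_sub] at hdiff
  have key : M μ (((a + b : ℕ) : k) • (Pi.single i (1 : k) - Pi.single j 1)) ∈
      Submodule.span k (Ψ '' (gens (k := k) (n := n) e a b)) := by
    convert hdiff using 2
    funext l
    simp only [Pi.sub_apply, Pi.smul_apply, Finsupp.add_apply, Finsupp.single_apply,
      Pi.single_apply, smul_eq_mul, Nat.cast_add]
    by_cases hli : l = i
    · have hlj : l ≠ j := fun h => hij (hli ▸ h)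
      simp [hli, hij, Ne.symm hij]
      ring
    · by_cases hlj : l = j
      · simp [hlj, hij, Ne.symm hij]
        ring
      · simp [hli, hlj, Ne.symm hli, Ne.symm hlj]
  rw [map_smul] at key
  have := Submodule.smul_mem _ (((a + b : ℕ) : k))⁻¹ key
  rwa [smul_smul, inv_mul_cancel₀ hab0, one_smul] at this

theorem M_mem (he : 0 < e) (ha : 0 < a) (hb : 0 < b) (μ : Fin (n + 1) →₀ ℕ)
    (hμ : μ.degree = (a + b) * e) (c : Fin (n + 1) → k) (hc0 : ∀ l, μ l = 0 → c l = 0)
    (hsum : ∑ l, c l = 0) :
    M μ c ∈ Submodule.span k (Ψ '' (gens (k := k) (n := n) e a b)) := by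
  classical
  -- a vertex in the support
  have hex : ∃ i₀, 1 ≤ μ i₀ := by
    by_contra hall
    push Not at hall
    have : μ = 0 := by
      ext l
      have := hall l
      simp only [Finsupp.coe_zero, Pi.zero_apply]
      omega
    rw [this, map_zero] at hμ
    have : 1 ≤ (a + b) * e := Nat.mul_pos (by omega) he
    omega
  obtain ⟨i₀, hi₀⟩ := hex
  have hc : c = ∑ l, c l • (Pi.single l (1 : k) - Pi.single i₀ 1) := by
    funext m
    rw [Finset.sum_apply]
    simp only [Pi.smul_apply, Pi.sub_apply, smul_eq_mul, mul_sub, Finset.sum_sub_distrib,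
      Pi.single_apply]
    rw [← Finset.sum_mul, hsum, zero_mul, sub_zero]
    simp
  rw [hc, map_sum]
  refine Submodule.sum_mem _ fun l _ => ?_
  rw [map_smul]
  by_cases hl0 : μ l = 0
  · rw [hc0 l hl0, zero_smul]
    exact Submodule.zero_mem _
  · by_cases hli : l = i₀
    · rw [hli, sub_self, map_zero, smul_zero]
      exact Submodule.zero_mem _
    · exact Submodule.smul_mem _ _ (M_diff_mem e a b he ha hb μ hμ l i₀ hli (by omega) hi₀)

theorem main (he : 0 < e) (ha : 0 < a) (hb : 0 < b)
    (f : Fin (n + 1) → MvPolynomial (Fin (n + 1)) k)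
    (hf : ∀ i, (f i).IsHomogeneous ((a + b) * e - 1))
    (hEuler : ∑ i, X i * f i = 0) :
    f ∈ Submodule.span k (gens (k := k) (n := n) e a b) := by
  classical
  have ht : 1 ≤ (a + b) * e := Nat.mul_pos (by omega) he
  suffices h : Ψ f ∈ Submodule.span k (Ψ '' (gens (k := k) (n := n) e a b)) by
    rw [← Submodule.map_span] at h
    obtain ⟨y, hy, hyf⟩ := Submodule.mem_map.mp h
    rw [← Ψ_injective hyf]
    exact hy
  set U : Finset (Fin (n + 1) →₀ ℕ) :=
    Finset.univ.biUnion (fun l : Fin (n + 1) => (X l * f l).support) with hU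
  have hdecomp : Ψ f = ∑ μ ∈ U, M μ (fun l => coeff μ (X l * f l)) := by
    funext l
    rw [Finset.sum_apply]
    simp only [M_apply, Ψ_apply]
    ext d
    rw [coeff_sum]
    simp only [coeff_monomial]
    rw [Finset.sum_ite_eq']
    split_ifs with hd
    · rfl
    · have : d ∉ (X l * f l).support := by
        intro h
        apply hd
        rw [hU, Finset.mem_biUnion]
        exact ⟨l, Finset.mem_univ l, h⟩
      exact notMem_support_iff.mp this
  rw [hdecomp]
  refine Submodule.sum_mem _ fun μ hμ => ?_
  have hhom : ∀ l, (X l * f l).IsHomogeneous ((a + b) * e) := by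
    intro l
    have := (isHomogeneous_X k l).mul (hf l)
    have e1 : 1 + ((a + b) * e - 1) = (a + b) * e := by omega
    rw [e1] at this
    exact this
  apply M_mem e a b he ha hb
  · rw [hU, Finset.mem_biUnion] at hμ
    obtain ⟨l, _, hl⟩ := hμ
    by_contra hne
    exact (mem_support_iff.mp hl) ((hhom l).coeff_eq_zero hne)
  · intro l hl
    rw [coeff_X_mul', if_neg]
    rw [Finsupp.mem_support_iff]
    simpa using hl
  · rw [← coeff_sum, hEuler, coeff_zero]

end main

end Groth.Agent.Lib.Helper16.WGauss
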