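import Mathlib
import Groth.Prelude.Def_WeakSerre

/-!
# Essential image of a weak Serre subcategory under a fully faithful right adjoint

Requested by helper53 (for S9071).  `isWeakSerre_map`: if `L ⊣ G` with `L` exact, counit iso
(so `G` fully faithful), `A` weak Serre in the target of `L`, and `G` sends short exact sequences
with first term in `A` to sequences with epi last map, then the essential image `A.map G` is weak
Serre.
-/

namespace Groth.Agent.Lib.Helper16.WSerreImage

open CategoryTheory Limits ZeroObject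

universe v₁ v₂ u₁ u₂

section

variable {𝒜 : Type u₁} {ℬ : Type u₂} [Category.{v₁} 𝒜] [Category.{v₂} ℬ] [Abelian 𝒜] [Abelian ℬ]
  (L : 𝒜 ⥤ ℬ) (G : ℬ ⥤ 𝒜) (adj : L ⊣ G)

/-- The short complex `kernel f → X → Y` is exact. -/
lemma exact_kernel {X Y : ℬ} (f : X ⟶ Y) :
    (ShortComplex.mk (kernel.ι f) f (kernel.condition f)).Exact :=
  ShortComplex.exact_of_f_is_kernel _ (kernelIsKernel f)

/-- The short complex `kernel f → X → Y` is short exact when `f` is epi. -/
lemma shortExact_kernel {X Y : ℬ} (f : X ⟶ Y) [Epi f] :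
    (ShortComplex.mk (kernel.ι f) f (kernel.condition f)).ShortExact where
  exact := exact_kernel f
  mono_f := (inferInstance : Mono (kernel.ι f))
  epi_g := (inferInstance : Epi f)

variable [L.Additive] [G.Additive]

include adj in
/-- A right adjoint preserves exactness of `0 → X₁ → X₂ → X₃`. -/
lemma exact_map_of_mono (S : ShortComplex ℬ) (hS : S.Exact) (hf : Mono S.f) :
    (S.map G).Exact ∧ Mono (S.map G).f := by
  haveI : PreservesLimitsOfSize.{0, 0} G := adj.rightAdjoint_preservesLimits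
  refine ⟨hS.map_of_mono_of_preservesKernel G hf inferInstance, ?_⟩
  haveI := hf
  exact (inferInstance : Mono (G.map S.f))

variable [PreservesFiniteLimits L] [PreservesFiniteColimits L]
  [∀ F : ℬ, IsIso (adj.counit.app F)]

include adj in
lemma full_and_faithful : G.Full ∧ G.Faithful := by
  haveI : IsIso adj.counit := NatIso.isIso_of_isIso_app _
  exact ⟨adj.fullyFaithfulROfIsIsoCounit.full, adj.fullyFaithfulROfIsIsoCounit.faithful⟩

variable (A : ObjectProperty ℬ) [WSerre.IsWeakSerre A]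
  (hX : ∀ S : ShortComplex ℬ, S.ShortExact → A S.X₁ → Epi (G.map S.g))

include adj hX in
/-- Key step: for `ψ : F₁ ⟶ F₂` between objects of `A`, `G` carries the cokernel sequence of `ψ`
to an exact sequence with epi last map. -/
lemma exact_map_cokernel {F₁ F₂ : ℬ} (hF₁ : A F₁) (hF₂ : A F₂) (ψ : F₁ ⟶ F₂) :
    ((ShortComplex.mk ψ (cokernel.π ψ) (cokernel.condition ψ)).map G).Exact ∧
      Epi (G.map (cokernel.π ψ)) := by
  have hQ : A (cokernel ψ) := A.prop_cokernel ψ hF₁ hF₂
  have hI : A (kernel (cokernel.π ψ)) := A.prop_kernel (cokernel.π ψ) hF₂ hQ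
  -- the image factorisation
  let p : F₁ ⟶ kernel (cokernel.π ψ) := Abelian.factorThruImage ψ
  have hp : p ≫ kernel.ι (cokernel.π ψ) = ψ := Abelian.image.fac ψ
  haveI : Epi p := by dsimp only [p]; infer_instance
  have hK : A (kernel p) := A.prop_kernel p hF₁ hI
  have hGp : Epi (G.map p) := hX _ (shortExact_kernel p) hK
  have hGπ : Epi (G.map (cokernel.π ψ)) := hX _ (shortExact_kernel (cokernel.π ψ)) hI
  refine ⟨?_, hGπ⟩
  have hI' := (exact_map_of_mono L G adj _ (exact_kernel (cokernel.π ψ))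
    (inferInstance : Mono (kernel.ι (cokernel.π ψ)))).1
  let τ : (ShortComplex.mk ψ (cokernel.π ψ) (cokernel.condition ψ)).map G ⟶
      (ShortComplex.mk (kernel.ι (cokernel.π ψ)) (cokernel.π ψ) (kernel.condition _)).map G :=
    { τ₁ := G.map p
      τ₂ := 𝟙 (G.obj F₂)
      τ₃ := 𝟙 (G.obj (cokernel ψ))
      comm₁₂ := by
        change G.map p ≫ G.map (kernel.ι (cokernel.π ψ)) = G.map ψ ≫ 𝟙 (G.obj F₂)
        rw [Category.comp_id, ← G.map_comp, hp]
      comm₂₃ := by
        change 𝟙 (G.obj F₂) ≫ G.map (cokernel.π ψ) =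
          G.map (cokernel.π ψ) ≫ 𝟙 (G.obj (cokernel ψ))
        rw [Category.id_comp, Category.comp_id] }
  haveI : Epi τ.τ₁ := hGp
  haveI : IsIso τ.τ₂ := (inferInstance : IsIso (𝟙 (G.obj F₂)))
  haveI : Mono τ.τ₃ := (inferInstance : Mono (𝟙 (G.obj (cokernel ψ))))
  exact (ShortComplex.exact_iff_of_epi_of_isIso_of_mono τ).2 hI'

include adj hX in
theorem isWeakSerre_map' : WSerre.IsWeakSerre (A.map G) := by
  obtain ⟨hfull, hfaith⟩ := full_and_faithful L G adj
  exact
  { exists_zero :=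
      ⟨G.obj 0, G.map_isZero (isZero_zero ℬ), A.prop_map_obj G A.prop_zero⟩
    kernels_le := by
      rintro _ ⟨φ, k, hk, ⟨F₁, hF₁, ⟨e₁⟩⟩, ⟨F₂, hF₂, ⟨e₂⟩⟩⟩
      obtain ⟨ψ, hψ⟩ := G.map_surjective (e₁.hom ≫ φ ≫ e₂.inv)
      have hKer : A (kernel ψ) := A.prop_kernel ψ hF₁ hF₂
      obtain ⟨hex, hmono⟩ := exact_map_of_mono L G adj _ (exact_kernel ψ)
        (inferInstance : Mono (kernel.ι ψ))
      have hzero : (G.map (kernel.ι ψ) ≫ e₁.hom) ≫ φ = 0 := by
        have h1 : e₁.hom ≫ φ = G.map ψ ≫ e₂.hom := by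
          rw [hψ]; simp
        rw [Category.assoc, h1, ← Category.assoc, ← G.map_comp, kernel.condition,
          G.map_zero, zero_comp]
      let T : ShortComplex 𝒜 := ShortComplex.mk (G.map (kernel.ι ψ) ≫ e₁.hom) φ hzero
      let e : T ≅ (ShortComplex.mk (kernel.ι ψ) ψ (kernel.condition ψ)).map G :=
        ShortComplex.isoMk (Iso.refl (G.obj (kernel ψ))) e₁.symm e₂.symm
          (by
            change 𝟙 (G.obj (kernel ψ)) ≫ G.map (kernel.ι ψ) =
              (G.map (kernel.ι ψ) ≫ e₁.hom) ≫ e₁.inv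
            rw [Category.id_comp, Category.assoc, e₁.hom_inv_id, Category.comp_id])
          (by
            change e₁.inv ≫ G.map ψ = φ ≫ e₂.inv
            rw [hψ, Iso.inv_hom_id_assoc])
      have hT : T.Exact := (ShortComplex.exact_iff_of_iso e).2 hex
      haveI : Mono T.f := by
        dsimp [T]
        haveI : Mono (G.map (kernel.ι ψ)) := hmono
        infer_instance
      have hlim : IsLimit (KernelFork.ofι T.f T.zero) := hT.fIsKernel
      exact ⟨kernel ψ, hKer, ⟨(hk.conePointUniqueUpToIso hlim).symm⟩⟩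
    cokernels_le := by
      rintro _ ⟨φ, c, hc, ⟨F₁, hF₁, ⟨e₁⟩⟩, ⟨F₂, hF₂, ⟨e₂⟩⟩⟩
      obtain ⟨ψ, hψ⟩ := G.map_surjective (e₁.hom ≫ φ ≫ e₂.inv)
      have hQ : A (cokernel ψ) := A.prop_cokernel ψ hF₁ hF₂
      obtain ⟨hex, hepi⟩ := exact_map_cokernel L G adj A hX hF₁ hF₂ ψ
      have hzero : φ ≫ (e₂.inv ≫ G.map (cokernel.π ψ)) = 0 := by
        have h1 : φ ≫ e₂.inv = e₁.inv ≫ G.map ψ := by
          rw [hψ]; simp
        rw [← Category.assoc, h1, Category.assoc, ← G.map_comp, cokernel.condition,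
          G.map_zero, comp_zero]
      let T : ShortComplex 𝒜 := ShortComplex.mk φ (e₂.inv ≫ G.map (cokernel.π ψ)) hzero
      let e : T ≅ (ShortComplex.mk ψ (cokernel.π ψ) (cokernel.condition ψ)).map G :=
        ShortComplex.isoMk e₁.symm e₂.symm (Iso.refl (G.obj (cokernel ψ)))
          (by
            change e₁.inv ≫ G.map ψ = φ ≫ e₂.inv
            rw [hψ, Iso.inv_hom_id_assoc])
          (by
            change e₂.inv ≫ G.map (cokernel.π ψ) =
              (e₂.inv ≫ G.map (cokernel.π ψ)) ≫ 𝟙 (G.obj (cokernel ψ))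
            rw [Category.comp_id])
      have hT : T.Exact := (ShortComplex.exact_iff_of_iso e).2 hex
      haveI : Epi T.g := by
        dsimp [T]
        haveI : Epi (G.map (cokernel.π ψ)) := hepi
        infer_instance
      have hcolim : IsColimit (CokernelCofork.ofπ T.g T.zero) := hT.gIsCokernel
      exact ⟨cokernel ψ, hQ, ⟨(hc.coconePointUniqueUpToIso hcolim).symm⟩⟩
    prop_X₂_of_shortExact := by
      intro S hS h₁ h₃
      obtain ⟨F₁, hF₁, ⟨e₁⟩⟩ := h₁
      obtain ⟨F₃, hF₃, ⟨e₃⟩⟩ := h₃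
      have hL₁ : A (L.obj S.X₁) :=
        A.prop_of_iso ((asIso (adj.counit.app F₁)).symm ≪≫ L.mapIso e₁) hF₁
      have hL₃ : A (L.obj S.X₃) :=
        A.prop_of_iso ((asIso (adj.counit.app F₃)).symm ≪≫ L.mapIso e₃) hF₃
      have hSL : (S.map L).ShortExact := hS.map_of_exact L
      have hL₂ : A (L.obj S.X₂) := A.prop_X₂_of_shortExact hSL hL₁ hL₃
      have hepi : Epi (G.map (L.map S.g)) := hX (S.map L) hSL hL₁
      obtain ⟨hex, hmono⟩ := exact_map_of_mono L G adj (S.map L) hSL.exact hSL.mono_f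
      have hSLG : ((S.map L).map G).ShortExact :=
        { exact := hex
          mono_f := hmono
          epi_g := hepi }
      let τ : S ⟶ (S.map L).map G :=
        { τ₁ := adj.unit.app S.X₁
          τ₂ := adj.unit.app S.X₂
          τ₃ := adj.unit.app S.X₃
          comm₁₂ := (adj.unit.naturality S.f).symm
          comm₂₃ := (adj.unit.naturality S.g).symm }
      haveI : IsIso τ.τ₁ := adj.isIso_unit_app_of_iso e₁.symm
      haveI : IsIso τ.τ₃ := adj.isIso_unit_app_of_iso e₃.symm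
      haveI : IsIso (adj.unit.app S.X₂) :=
        ShortComplex.isIso₂_of_shortExact_of_isIso₁₃ τ hS hSLG
      exact ⟨L.obj S.X₂, hL₂, ⟨(asIso (adj.unit.app S.X₂)).symm⟩⟩ }

end

/-- **Requested lemma (helper53, msg 2994).** -/
theorem isWeakSerre_map {𝒜 ℬ : Type*} [Category 𝒜] [Category ℬ] [Abelian 𝒜] [Abelian ℬ]
    (L : 𝒜 ⥤ ℬ) (G : ℬ ⥤ 𝒜) (adj : L ⊣ G) [L.Additive] [G.Additive]
    [PreservesFiniteLimits L] [PreservesFiniteColimits L]
    [∀ F : ℬ, IsIso (adj.counit.app F)]
    (A : ObjectProperty ℬ) [WSerre.IsWeakSerre A]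
    (hX : ∀ S : ShortComplex ℬ, S.ShortExact → A S.X₁ → Epi (G.map S.g)) :
    WSerre.IsWeakSerre (A.map G) :=
  isWeakSerre_map' L G adj A hX

end Groth.Agent.Lib.Helper16.WSerreImage
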