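import Mathlib
import Groth.Prelude.Def_CohB1
import Groth.Prelude.Def_Flat
import Groth.Agent.Lib.Helper16.ProjSpaceSmooth
import Groth.Agent.Lib.Helper54.AffineSpaceSmoothDim
import Groth.Agent.Lib.Helper22.SmoothDim

set_option autoImplicit false

universe u

open CategoryTheory CategoryTheory.Limits AlgebraicGeometry

namespace Groth.Agent.Lib.Helper16.WidePBWP3

open Groth.Agent.Lib.Helper16.ProjSpaceSmooth Groth.Agent.Lib.Helper60.PicPn
  Groth.Agent.Lib.Helper60.ProjUPLib HomogeneousLocalization

theorem card_ne (n : ℕ) (i : Fin (n + 1)) : Nat.card {j : Fin (n + 1) // j ≠ i} = n := by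
  rw [Nat.card_eq_fintype_card, Fintype.card_subtype_compl, Fintype.card_fin]
  simp

theorem isStandardSmoothOfRelativeDimension_ρ (n : ℕ) (R : Type u) [CommRing R]
    (i : Fin (n + 1)) : (ρ n R i).IsStandardSmoothOfRelativeDimension n := by
  rw [ρ_eq]
  have hC : (MvPolynomial.C : R →+* MvPolynomial {j : Fin (n + 1) // j ≠ i} R).IsStandardSmoothOfRelativeDimension n := by
    have h := Groth.Agent.Lib.Helper54.AffineSpaceSmoothDim.isStandardSmoothOfRelativeDimension_mvPolynomial
      R {j : Fin (n + 1) // j ≠ i}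
    rw [card_ne] at h
    exact (RingHom.isStandardSmoothOfRelativeDimension_algebraMap n).mpr h
  have he := RingHom.IsStandardSmoothOfRelativeDimension.equiv (chartEquiv n R i).symm
  have := he.comp hC
  rw [zero_add] at this
  exact this

/-- `P^n_R ⟶ Spec R` is smooth of relative dimension `n`. -/
theorem smoothOfRelativeDimension_toSpec (n : ℕ) (R : Type u) [CommRing R] :
    SmoothOfRelativeDimension n (CohB1.ProjSpace.toSpec n R) := by
  let 𝒰 : (Proj (CohB1.polyGrading n R)).AffineOpenCover :=
    Proj.affineOpenCoverOfIrrelevantLESpan (CohB1.polyGrading n R)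
      (fun i : Fin (n + 1) => (MvPolynomial.X i : MvPolynomial (Fin (n + 1)) R))
      (m := fun _ => 1) (fun i => hX n R i) (fun _ => one_pos) (by
        refine (Groth.Agent.Lib.Helper93.ProjOverIso.irrelevant_le_span_X n R).trans ?_
        rw [Set.image_univ])
  refine IsZariskiLocalAtSource.of_openCover (P := @SmoothOfRelativeDimension n) 𝒰.openCover ?_
  intro i
  change SmoothOfRelativeDimension n (chart n R i ≫ CohB1.ProjSpace.toSpec n R)
  rw [awayι_toSpec, HasRingHomProperty.Spec_iff (P := @SmoothOfRelativeDimension n)]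
  exact RingHom.locally_of RingHom.isStandardSmoothOfRelativeDimension_respectsIso _
    (isStandardSmoothOfRelativeDimension_ρ n R i)

/-- `P^n_S ⟶ S` is smooth of relative dimension `n`. -/
theorem smoothOfRelativeDimension_toBase (n : ℕ) (S : Scheme.{u}) :
    SmoothOfRelativeDimension n (CohB1.ProjSpaceOver.toBase n S) := by
  unfold CohB1.ProjSpaceOver.toBase
  haveI := smoothOfRelativeDimension_isStableUnderBaseChange (n := n)
  exact MorphismProperty.IsStableUnderBaseChange.of_isPullback (P := @SmoothOfRelativeDimension n)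
    (IsPullback.of_hasPullback _ _) (smoothOfRelativeDimension_toSpec n (ULift.{u} ℤ))

/-- general `n`: all fibre dimensions of `P^n_S ⟶ S` are `n`. -/
theorem fibreDimAt_projSpaceOver (n : ℕ) (S : Scheme.{u}) (p : ↥(CohB1.ProjSpaceOver n S)) :
    FlatMor.fibreDimAt (CohB1.ProjSpaceOver.toBase n S) p = ((n : ℕ) : WithBot ℕ∞) := by
  haveI := smoothOfRelativeDimension_toBase n S
  exact Groth.Agent.Lib.Helper22.SmoothDim.fibreDimAt_eq_of_smoothOfRelativeDimension n _ p

theorem fibreDimAt_projLine_le (S : Scheme.{u}) (p : ↥(CohB1.ProjSpaceOver 1 S)) :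
    FlatMor.fibreDimAt (CohB1.ProjSpaceOver.toBase 1 S) p ≤ ((1 : ℕ) : WithBot ℕ∞) :=
  le_of_eq (fibreDimAt_projSpaceOver 1 S p)

end Groth.Agent.Lib.Helper16.WidePBWP3
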