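import Groth.Agent.Lib.Helper35.RelAmpComp
import Groth.Agent.Lib.Helper35.PbSection
import Groth.Agent.Lib.Lead.Inv5
import Groth.Agent.Lib.Lead.AmpleDescent1
import Mathlib.Algebra.Category.ModuleCat.Sheaf.PullbackFree

/-!
# Pulling back sections of invertible modules; trivialising sections (helper16)

* `pullbackUnitIso h : h^* O_X ≅ O_Y`
* `pbSection h s : O_Y ⟶ h^* L` for `s : O_X ⟶ L`, with `genLocus (pbSection h s) = h⁻¹ (genLocus s)`
* `isIso_pullback_map_iff`: for `L` invertible, `h^* s` is an isomorphism iff `h` factors through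
  the open `X_s`.
-/

set_option autoImplicit false
universe u

open CategoryTheory AlgebraicGeometry TopologicalSpace Opposite Limits

namespace Groth.Agent.Lib.Helper16.YBlowUp

theorem final_opens_map {X Y : TopCat.{u}} (f : X ⟶ Y) : (Opens.map f).Final := by
  refine ⟨fun d => ?_⟩
  have : Nonempty (StructuredArrow d (Opens.map f)) :=
    ⟨StructuredArrow.mk (Y := (⊤ : Opens Y)) (homOfLE (by intro x _; trivial))⟩
  refine zigzag_isConnected (fun a b => ?_)
  let t : StructuredArrow d (Opens.map f) :=
    StructuredArrow.mk (Y := (⊤ : Opens Y)) (homOfLE (by intro x _; trivial))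
  have ha : a ⟶ t := StructuredArrow.homMk (homOfLE le_top) (Subsingleton.elim _ _)
  have hb : b ⟶ t := StructuredArrow.homMk (homOfLE le_top) (Subsingleton.elim _ _)
  exact (Zigzag.of_hom ha).trans (Zigzag.of_inv hb)

/-- `h^* O_X ≅ O_Y`. -/
noncomputable def pullbackUnitIso {X Y : Scheme.{u}} (h : Y ⟶ X) :
    (Scheme.Modules.pullback h).obj (Coh.structureModule X) ≅ Coh.structureModule Y := by
  have : (Opens.map h.base).Final := final_opens_map h.base
  have : (SheafOfModules.pushforward h.toRingCatSheafHom).IsRightAdjoint :=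
    inferInstanceAs ((Scheme.Modules.pushforward h).IsRightAdjoint)
  have : IsIso (SheafOfModules.pullbackObjUnitToUnit h.toRingCatSheafHom) := by
    exact SheafOfModules.instIsIsoPullbackObjUnitToUnitOfFinal _
  exact @asIso _ _ _ _ (SheafOfModules.pullbackObjUnitToUnit h.toRingCatSheafHom) this

variable {X Y : Scheme.{u}}

/-- The pullback of a section `s : O_X ⟶ L` along `h : Y ⟶ X`, as a section of `h^* L`. -/
noncomputable def pbSection (h : Y ⟶ X) {L : X.Modules} (s : Coh.structureModule X ⟶ L) :
    Coh.structureModule Y ⟶ (Scheme.Modules.pullback h).obj L :=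
  (pullbackUnitIso h).inv ≫ (Scheme.Modules.pullback h).map s

theorem genLocus_pbSection (h : Y ⟶ X) {L : X.Modules} (hL : PicF.IsInvertible L)
    (s : Coh.structureModule X ⟶ L) :
    CohB1.genLocus _ (pbSection h s) = h ⁻¹ᵁ CohB1.genLocus L s :=
  Groth.Agent.Lib.Helper35.PbInv.genLocus_pullback_section h L hL s (pullbackUnitIso h).symm

/-- For `L` invertible and a section `s`, the pullback `h^* s` is an isomorphism iff `h` factors
through the open `X_s`. -/
theorem isIso_pullback_map_iff (h : Y ⟶ X) {L : X.Modules} (hL : PicF.IsInvertible L)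
    (s : Coh.structureModule X ⟶ L) :
    IsIso ((Scheme.Modules.pullback h).map s) ↔ h ⁻¹ᵁ CohB1.genLocus L s = ⊤ := by
  rw [← genLocus_pbSection h hL s]
  constructor
  · intro hiso
    haveI := hiso
    haveI : IsIso (pbSection h s) := by
      unfold pbSection
      infer_instance
    exact Groth.Agent.Lib.Helper35.PbInv.genLocus_eq_top_of_isIso _
  · intro htop
    have h1 : IsIso (pbSection h s) :=
      Groth.Agent.Lib.Lead.AmpleDescent.isIso_of_genLocus_eq_top _ htop
    have h2 : (Scheme.Modules.pullback h).map s = (pullbackUnitIso h).hom ≫ pbSection h s := by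
      unfold pbSection
      rw [Iso.hom_inv_id_assoc]
    rw [h2]
    infer_instance

/-- Trivialising sections: if `h^* s` is an isomorphism then `h` lands in `X_s`. -/
theorem preimage_genLocus_eq_top (h : Y ⟶ X) {L : X.Modules} (hL : PicF.IsInvertible L)
    (s : Coh.structureModule X ⟶ L) (hs : IsIso ((Scheme.Modules.pullback h).map s)) :
    h ⁻¹ᵁ CohB1.genLocus L s = ⊤ :=
  (isIso_pullback_map_iff h hL s).mp hs

theorem mem_genLocus_of_isIso (h : Y ⟶ X) {L : X.Modules} (hL : PicF.IsInvertible L)
    (s : Coh.structureModule X ⟶ L) (hs : IsIso ((Scheme.Modules.pullback h).map s)) (y : Y) :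
    h y ∈ CohB1.genLocus L s := by
  have h1 : y ∈ h ⁻¹ᵁ CohB1.genLocus L s := by
    rw [preimage_genLocus_eq_top h hL s hs]
    trivial
  exact h1

end Groth.Agent.Lib.Helper16.YBlowUp
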