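import Groth.Agent.Lib.Helper16.YBlowUp
import Groth.Agent.Lib.Helper35.PbBase
import Groth.Agent.Lib.Helper35.PbRel

/-!
# Y-blow-ups: scheme theoretic images and pointwise bookkeeping (helper16)
-/

set_option autoImplicit false
universe u

open CategoryTheory AlgebraicGeometry TopologicalSpace Opposite Limits

namespace Groth.Agent.Lib.Helper16.YBlowUp

/-- The morphism to the scheme theoretic image of a quasi-compact morphism is scheme theoretically
dominant. -/
theorem isSchemeTheoreticallyDominant_toImage {X Y : Scheme.{u}} (f : X ⟶ Y) [QuasiCompact f] :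
    IsSchemeTheoreticallyDominant f.toImage := by
  rw [isSchemeTheoreticallyDominant_iff]
  refine Scheme.IdealSheafData.ext_of_iSup_eq_top
    (fun U : Y.affineOpens => (⟨f.imageι ⁻¹ᵁ U.1, U.2.preimage f.imageι⟩ : f.image.affineOpens)) ?_ ?_
  · have h1 : ⨆ U : Y.affineOpens, (U.1 : Y.Opens) = ⊤ := iSup_affineOpens_eq_top Y
    have h2 : f.imageι ⁻¹ᵁ (⨆ U : Y.affineOpens, (U.1 : Y.Opens)) = ⊤ := by rw [h1]; rfl
    rw [← h2, Scheme.Hom.preimage_iSup]
  · intro U
    rw [Scheme.Hom.ker_apply]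
    simp only [Scheme.IdealSheafData.ideal_bot, Pi.bot_apply]
    exact (RingHom.injective_iff_ker_eq_bot _).1 (f.toImage_app_injective U)

/-- The data of a trivialised relatively ample module on the source of `g`, relative to `f`. -/
def HasTrivAmple {Y X₁ X : Scheme.{u}} (f₁ : Y ⟶ X₁) (g₁ : X₁ ⟶ X) : Prop :=
  ∃ (L : X₁.Modules) (ε : Coh.structureModule X₁ ⟶ L),
    RelAmple.IsRelAmple g₁ L ∧ IsIso ((Scheme.Modules.pullback f₁).map ε)

/-- A relatively ample module with a section whose generating locus contains the image of `f₁`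
gives a trivialised relatively ample module. -/
theorem hasTrivAmple_of_forall_mem {Y X₁ X : Scheme.{u}} (f₁ : Y ⟶ X₁) (g₁ : X₁ ⟶ X)
    (L : X₁.Modules) (ε : Coh.structureModule X₁ ⟶ L) (hL : RelAmple.IsRelAmple g₁ L)
    (h : ∀ y : Y, f₁ y ∈ CohB1.genLocus L ε) :
    ∃ (L : X₁.Modules) (ε : Coh.structureModule X₁ ⟶ L),
      RelAmple.IsRelAmple g₁ L ∧ IsIso ((Scheme.Modules.pullback f₁).map ε) := by
  refine ⟨L, ε, hL, ?_⟩
  rw [isIso_pullback_map_iff f₁
    (Groth.Agent.Lib.Helper35.AmpleFamily.isInvertible_of_isRelAmple g₁ hL), eq_top_iff]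
  intro y _
  exact h y

end Groth.Agent.Lib.Helper16.YBlowUp
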